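import Mathlib

/-! Basic theory of regular local rings (helper15): quotients by parts of regular systems of
parameters, regular local rings are domains. -/

set_option autoImplicit false
universe u

namespace Groth.Agent.Lib.helper15

open IsLocalRing

section

variable {R : Type u} [CommRing R]

/-- The quotient of a local ring by a proper ideal is local. -/
lemma isLocalRing_quotient [IsLocalRing R] (J : Ideal R) (hJ : J ≠ ⊤) : IsLocalRing (R ⧸ J) :=
  haveI := Ideal.Quotient.nontrivial_iff.mpr hJ
  IsLocalRing.of_surjective' (Ideal.Quotient.mk J) Ideal.Quotient.mk_surjective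

lemma spanFinrank_eq_height [IsRegularLocalRing R] :
    ((maximalIdeal R).spanFinrank : ℕ∞) = (maximalIdeal R).height := by
  have h := IsRegularLocalRing.spanFinrank_maximalIdeal (R := R)
  rw [← IsLocalRing.maximalIdeal_height_eq_ringKrullDim] at h
  exact_mod_cast h

lemma isRegularLocalRing_of_le_height [IsLocalRing R] [IsNoetherianRing R]
    (h : ((maximalIdeal R).spanFinrank : ℕ∞) ≤ (maximalIdeal R).height) : IsRegularLocalRing R := by
  apply IsRegularLocalRing.of_spanFinrank_maximalIdeal_le
  rw [← IsLocalRing.maximalIdeal_height_eq_ringKrullDim]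
  exact_mod_cast h

/-- If `m = J ⊔ (T)` with `μ(J) + |T| ≤ μ(m)` in a regular local ring, then `R ⧸ J` is regular
local with embedding dimension `|T|`. -/
lemma isRegularLocalRing_quotient_of_span [IsRegularLocalRing R] (J : Ideal R) (T : Finset R)
    (hm : maximalIdeal R = J ⊔ Ideal.span (T : Set R))
    (hcard : J.spanFinrank + T.card ≤ (maximalIdeal R).spanFinrank) :
    ∃ _ : IsRegularLocalRing (R ⧸ J), (maximalIdeal (R ⧸ J)).spanFinrank = T.card ∧
      J.spanFinrank + T.card = (maximalIdeal R).spanFinrank := by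
  have hJm : J ≤ maximalIdeal R := hm ▸ le_sup_left
  have hJtop : J ≠ ⊤ := fun h => (maximalIdeal.isMaximal R).ne_top (top_le_iff.mp (h ▸ hJm))
  haveI : IsLocalRing (R ⧸ J) := isLocalRing_quotient J hJtop
  have hmap : (maximalIdeal R).map (Ideal.Quotient.mk J) = maximalIdeal (R ⧸ J) :=
    map_maximalIdeal_of_surjective _ Ideal.Quotient.mk_surjective
  -- embedding dimension bound
  have hspan : maximalIdeal (R ⧸ J) = Ideal.span ((Ideal.Quotient.mk J) '' (T : Set R)) := by
    rw [← hmap, hm, Ideal.map_sup, Ideal.map_span, Ideal.map_quotient_self, bot_sup_eq]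
  have h1 : (maximalIdeal (R ⧸ J)).spanFinrank ≤ T.card := by
    rw [hspan]
    refine (Submodule.spanFinrank_span_le_ncard_of_finite (Set.toFinite _)).trans ?_
    refine (Set.ncard_image_le (Set.toFinite _)).trans ?_
    rw [Set.ncard_coe_finset]
  -- dimension bound
  have h2 : (maximalIdeal R).height ≤
      ((maximalIdeal R).map (Ideal.Quotient.mk J)).height + J.spanFinrank :=
    Ideal.height_le_height_add_spanFinrank_of_le hJm
  rw [hmap, ← spanFinrank_eq_height] at h2
  have h3 : (maximalIdeal (R ⧸ J)).height ≤ (maximalIdeal (R ⧸ J)).spanFinrank :=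
    Ideal.height_le_spanFinrank _ Ideal.IsPrime.ne_top'
  have h4 : ((maximalIdeal R).spanFinrank : ℕ∞) ≤ (T.card : ℕ∞) + J.spanFinrank := by
    refine h2.trans (add_le_add_left (h3.trans ?_) _)
    exact_mod_cast h1
  have h5 : (maximalIdeal R).spanFinrank ≤ T.card + J.spanFinrank := by exact_mod_cast h4
  have h6 : J.spanFinrank + T.card = (maximalIdeal R).spanFinrank := by omega
  have h7 : (T.card : ℕ∞) ≤ (maximalIdeal (R ⧸ J)).height := by
    have : ((T.card : ℕ∞) + J.spanFinrank) ≤ (maximalIdeal (R ⧸ J)).height + J.spanFinrank := by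
      refine le_trans ?_ h2
      exact_mod_cast (by omega : T.card + J.spanFinrank ≤ (maximalIdeal R).spanFinrank)
    exact (ENat.add_le_add_iff_right (ENat.natCast_ne_top _)).mp this
  have h8 : (maximalIdeal (R ⧸ J)).spanFinrank = T.card := by
    refine le_antisymm h1 ?_
    exact_mod_cast h7.trans h3
  refine ⟨isRegularLocalRing_of_le_height ?_, h8, h6⟩
  rw [h8]; exact h7

end

section

variable {R : Type u} [CommRing R]

open Classical in
/-- exchange lemma: an element of `m \ m²` can replace one element of a generating set. -/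
lemma exists_erase_span [IsLocalRing R] (s : Finset R)
    (hs : Ideal.span (s : Set R) = maximalIdeal R) (x : R) (hx : x ∈ maximalIdeal R)
    (hx2 : x ∉ maximalIdeal R ^ 2) :
    ∃ y ∈ s, maximalIdeal R = Ideal.span {x} ⊔ Ideal.span ((s.erase y : Finset R) : Set R) := by
  classical
  have hxs : x ∈ Ideal.span (s : Set R) := hs ▸ hx
  obtain ⟨a, ha⟩ := (Submodule.mem_span_finset' (R := R) (M := R)).mp hxs
  -- some coefficient is a unit
  have hex : ∃ y : s, a y ∉ maximalIdeal R := by
    by_contra hcon
    push Not at hcon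
    apply hx2
    rw [← ha, pow_two]
    refine Ideal.sum_mem _ (fun y _ => ?_)
    rw [smul_eq_mul]
    refine Ideal.mul_mem_mul (hcon y) ?_
    rw [← hs]
    exact Ideal.subset_span y.2
  obtain ⟨⟨y, hy⟩, hay⟩ := hex
  have hunit : IsUnit (a ⟨y, hy⟩) := by
    by_contra h
    exact hay ((IsLocalRing.mem_maximalIdeal _).mpr h)
  refine ⟨y, hy, le_antisymm ?_ ?_⟩
  · rw [← hs, Ideal.span_le]
    intro z hz
    by_cases hzy : z = y
    · subst hzy
      -- a_z z = x - Σ_{w ≠ z} a_w w
      have key : a ⟨z, hy⟩ * z ∈ Ideal.span {x} ⊔ Ideal.span ((s.erase z : Finset R) : Set R) := by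
        have hsum : a ⟨z, hy⟩ * z = x - ∑ w ∈ (Finset.univ : Finset s).erase ⟨z, hy⟩, a w • (w : R) := by
          rw [← ha, ← Finset.add_sum_erase _ _ (Finset.mem_univ (⟨z, hy⟩ : s))]
          simp
        rw [hsum]
        refine Ideal.sub_mem _ (Ideal.mem_sup_left (Ideal.subset_span rfl)) ?_
        refine Ideal.sum_mem _ (fun w hw => ?_)
        rw [smul_eq_mul]
        refine Ideal.mul_mem_left _ _ (Ideal.mem_sup_right (Ideal.subset_span ?_))
        have hwz : (w : R) ≠ z := fun h => (Finset.mem_erase.mp hw).1 (Subtype.ext h)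
        exact Finset.mem_coe.mpr (Finset.mem_erase.mpr ⟨hwz, w.2⟩)
      exact (Ideal.unit_mul_mem_iff_mem _ hunit).mp key
    · exact Ideal.mem_sup_right (Ideal.subset_span (Finset.mem_coe.mpr
        (Finset.mem_erase.mpr ⟨hzy, hz⟩)))
  · refine sup_le ?_ ?_
    · rw [Ideal.span_le]; rintro _ rfl; exact hx
    · rw [← hs]
      exact Ideal.span_mono (by simp)

/-- The quotient of a regular local ring by an element of `m \ m²` is regular local of embedding
dimension one less. -/
lemma isRegularLocalRing_quotient_singleton [IsRegularLocalRing R] (x : R)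
    (hx : x ∈ maximalIdeal R) (hx2 : x ∉ maximalIdeal R ^ 2) :
    ∃ _ : IsRegularLocalRing (R ⧸ Ideal.span {x}),
      (maximalIdeal (R ⧸ Ideal.span {x})).spanFinrank + 1 = (maximalIdeal R).spanFinrank := by
  classical
  have hfg : (maximalIdeal R).FG := IsNoetherian.noetherian _
  obtain ⟨s, hcard, hspan⟩ := Submodule.FG.exists_span_finset_card_eq_spanFinrank hfg
  obtain ⟨y, hy, hm⟩ := exists_erase_span s hspan x hx hx2
  have h1 : (Ideal.span {x} : Ideal R).spanFinrank ≤ 1 := by
    refine (Submodule.spanFinrank_span_le_ncard_of_finite (Set.finite_singleton x)).trans ?_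
    simp
  have hc : (s.erase y).card + 1 = s.card := Finset.card_erase_add_one hy
  obtain ⟨hreg, h2, h3⟩ := isRegularLocalRing_quotient_of_span (Ideal.span {x}) (s.erase y) hm
    (by omega)
  refine ⟨hreg, ?_⟩
  rw [h2]; omega

end

/-- A regular local ring is an integral domain. -/
theorem isDomain_of_isRegularLocalRing (R : Type u) [CommRing R] [IsRegularLocalRing R] :
    IsDomain R := by
  obtain ⟨d, hd⟩ : ∃ d, (maximalIdeal R).spanFinrank = d := ⟨_, rfl⟩
  induction d generalizing R with
  | zero =>
    have hfg : (maximalIdeal R).FG := IsNoetherian.noetherian _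
    have hbot : maximalIdeal R = ⊥ := (Submodule.spanFinrank_eq_zero_iff_eq_bot hfg).mp hd
    have : IsField R := IsLocalRing.isField_iff_maximalIdeal_eq.mpr hbot
    exact this.isDomain
  | succ d ih =>
    classical
    have hfg : (maximalIdeal R).FG := IsNoetherian.noetherian _
    -- `m ≠ m²`
    have hm2 : ¬ (maximalIdeal R ≤ maximalIdeal R ^ 2) := by
      intro h
      have hbot : maximalIdeal R = ⊥ :=
        Submodule.eq_bot_of_le_smul_of_le_jacobson_bot (maximalIdeal R) (maximalIdeal R) hfg
          (by rwa [smul_eq_mul, ← pow_two]) (maximalIdeal_le_jacobson _)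
      have := (Submodule.spanFinrank_eq_zero_iff_eq_bot hfg).mpr hbot
      omega
    -- `m` is not a minimal prime
    have hmin : ∀ q ∈ minimalPrimes R, ¬ (maximalIdeal R ≤ q) := by
      intro q hq hle
      have hqp : q.IsPrime := hq.1.1
      have hq' : q = maximalIdeal R := le_antisymm (le_maximalIdeal hqp.ne_top) hle
      have h0 : (maximalIdeal R).height = 0 := by
        rw [Ideal.height_eq_zero_iff, ← hq']; exact hq
      have h1 := spanFinrank_eq_height (R := R)
      rw [hd, h0] at h1
      simp at h1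
    have hfin : (minimalPrimes R).Finite := minimalPrimes.finite_of_isNoetherianRing R
    -- prime avoidance
    obtain ⟨x, hxm, hx2, hxq⟩ : ∃ x ∈ maximalIdeal R, x ∉ maximalIdeal R ^ 2 ∧
        ∀ q ∈ minimalPrimes R, x ∉ q := by
      by_contra hcon
      push Not at hcon
      have hsub : ((maximalIdeal R : Ideal R) : Set R) ⊆
          ((id (maximalIdeal R ^ 2) : Ideal R) : Set R) ∪ ((id (maximalIdeal R ^ 2) : Ideal R) : Set R) ∪
            ⋃ q ∈ (hfin.toFinset : Set (Ideal R)), ((id q : Ideal R) : Set R) := by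
        intro x hx
        by_cases hx2 : x ∈ maximalIdeal R ^ 2
        · exact Or.inl (Or.inl hx2)
        · obtain ⟨q, hq, hxq⟩ := hcon x hx hx2
          refine Or.inr ?_
          simp only [Set.mem_iUnion]
          exact ⟨q, by simpa using hq, hxq⟩
      have := (Ideal.subset_union_prime' (f := id) (a := maximalIdeal R ^ 2)
        (b := maximalIdeal R ^ 2) (s := hfin.toFinset)
        (fun q hq => ((hfin.mem_toFinset.mp hq).1.1 : q.IsPrime))).mp hsub
      rcases this with h | h | ⟨q, hq, h⟩
      · exact hm2 h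
      · exact hm2 h
      · exact hmin q (hfin.mem_toFinset.mp hq) h
    -- the quotient is a regular local ring of smaller embedding dimension, hence a domain
    obtain ⟨hreg, hdim⟩ := isRegularLocalRing_quotient_singleton x hxm hx2
    have hdom : IsDomain (R ⧸ Ideal.span {x}) := ih (R ⧸ Ideal.span {x}) (by omega)
    have hprime : (Ideal.span {x} : Ideal R).IsPrime := (Ideal.Quotient.isDomain_iff_prime _).mp hdom
    -- a minimal prime below `(x)`
    obtain ⟨q, hq, hqx⟩ := Ideal.exists_minimalPrimes_le (I := ⊥) (J := Ideal.span {x}) bot_le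
    have hqp : q.IsPrime := hq.1.1
    have hxnq : x ∉ q := hxq q hq
    have hle : q ≤ maximalIdeal R • q := by
      intro y hy
      obtain ⟨a, rfl⟩ := Ideal.mem_span_singleton'.mp (hqx hy)
      have ha : a ∈ q := (hqp.mem_or_mem hy).resolve_right hxnq
      rw [smul_eq_mul, mul_comm a x]
      exact Ideal.mul_mem_mul hxm ha
    have hqbot : q = ⊥ :=
      Submodule.eq_bot_of_le_smul_of_le_jacobson_bot (maximalIdeal R) q
        (IsNoetherian.noetherian _) hle (maximalIdeal_le_jacobson _)
    haveI : (⊥ : Ideal R).IsPrime := hqbot ▸ hqp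
    exact IsDomain.of_bot_isPrime R

section quotient

variable {R : Type u} [CommRing R]

/-- generators of the maximal ideal of a quotient lift to generators modulo the ideal. -/
lemma exists_finset_maximalIdeal_eq_sup [IsLocalRing R] [IsNoetherianRing R] (I : Ideal R)
    [IsLocalRing (R ⧸ I)] :
    ∃ t : Finset R, t.card ≤ (maximalIdeal (R ⧸ I)).spanFinrank ∧
      maximalIdeal R = I ⊔ Ideal.span (t : Set R) := by
  classical
  have hπ : Function.Surjective (Ideal.Quotient.mk I) := Ideal.Quotient.mk_surjective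
  haveI : IsLocalHom (Ideal.Quotient.mk I) := IsLocalHom.of_surjective _ hπ
  have hfg : (maximalIdeal (R ⧸ I)).FG := IsNoetherian.noetherian _
  obtain ⟨s', hcard, hspan⟩ := Submodule.FG.exists_span_finset_card_eq_spanFinrank hfg
  let t : Finset R := s'.image (Function.surjInv hπ)
  have ht : (Ideal.Quotient.mk I) '' (t : Set R) = (s' : Set (R ⧸ I)) := by
    ext y
    simp only [t, Finset.coe_image, Set.mem_image, Finset.mem_coe]
    constructor
    · rintro ⟨_, ⟨z, hz, rfl⟩, rfl⟩
      rwa [Function.surjInv_eq hπ]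
    · intro hy
      exact ⟨_, ⟨y, hy, rfl⟩, Function.surjInv_eq hπ y⟩
  refine ⟨t, ?_, ?_⟩
  · rw [← hcard]; exact Finset.card_image_le
  · rw [← IsLocalRing.maximalIdeal_comap (Ideal.Quotient.mk I)]
    have : maximalIdeal (R ⧸ I) = Ideal.span (s' : Set (R ⧸ I)) := hspan.symm
    rw [this, ← ht, ← Ideal.map_span, Ideal.comap_map_of_surjective _ hπ,
      ← RingHom.ker_eq_comap_bot, Ideal.mk_ker, sup_comm]

/-- If `R` and `R ⧸ I` are regular local and `I ≤ m²`, then `I = ⊥`. -/
lemma eq_bot_of_le_sq [IsRegularLocalRing R] (I : Ideal R) [IsRegularLocalRing (R ⧸ I)]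
    (hI : I ≤ maximalIdeal R ^ 2) : I = ⊥ := by
  classical
  have hfg : (maximalIdeal R).FG := IsNoetherian.noetherian _
  obtain ⟨t, htcard, htm⟩ := exists_finset_maximalIdeal_eq_sup I
  -- Nakayama: `m = (t)`
  have hle : maximalIdeal R ≤ Ideal.span (t : Set R) := by
    apply Submodule.le_of_le_smul_of_le_jacobson_bot hfg (maximalIdeal_le_jacobson _)
    rw [smul_eq_mul, ← pow_two]
    conv_lhs => rw [htm]
    rw [sup_comm]
    exact sup_le_sup_left hI _
  have hmt : maximalIdeal R = Ideal.span (t : Set R) := by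
    refine le_antisymm hle ?_
    rw [htm]; exact le_sup_right
  have h1 : (maximalIdeal R).spanFinrank ≤ (maximalIdeal (R ⧸ I)).spanFinrank := by
    refine le_trans ?_ htcard
    conv_lhs => rw [hmt]
    refine (Submodule.spanFinrank_span_le_ncard_of_finite (Set.toFinite _)).trans ?_
    rw [Set.ncard_coe_finset]
  -- dimensions
  have hdimR : ((maximalIdeal R).spanFinrank : WithBot ℕ∞) = ringKrullDim R :=
    IsRegularLocalRing.spanFinrank_maximalIdeal
  have hdimQ : ((maximalIdeal (R ⧸ I)).spanFinrank : WithBot ℕ∞) = ringKrullDim (R ⧸ I) :=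
    IsRegularLocalRing.spanFinrank_maximalIdeal
  by_contra hne
  obtain ⟨a, haI, ha0⟩ := Submodule.exists_mem_ne_zero_of_ne_bot hne
  haveI := isDomain_of_isRegularLocalRing R
  have hreg : a ∈ nonZeroDivisors R := mem_nonZeroDivisors_of_ne_zero ha0
  have h2 := ringKrullDim_quotient_succ_le_of_nonZeroDivisor hreg
  have hle' : Ideal.span {a} ≤ I := by rwa [Ideal.span_le, Set.singleton_subset_iff]
  have h3 : ringKrullDim (R ⧸ I) ≤ ringKrullDim (R ⧸ Ideal.span {a}) :=
    ringKrullDim_le_of_surjective (Ideal.Quotient.factor hle') (Ideal.Quotient.factor_surjective hle')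
  have h4 : ((maximalIdeal R).spanFinrank : WithBot ℕ∞) + 1 ≤ (maximalIdeal R).spanFinrank := by
    calc ((maximalIdeal R).spanFinrank : WithBot ℕ∞) + 1
        ≤ ((maximalIdeal (R ⧸ I)).spanFinrank : WithBot ℕ∞) + 1 := by
          gcongr
        _ = ringKrullDim (R ⧸ I) + 1 := by rw [hdimQ]
        _ ≤ ringKrullDim (R ⧸ Ideal.span {a}) + 1 := by gcongr
        _ ≤ ringKrullDim R := h2
        _ = (maximalIdeal R).spanFinrank := hdimR.symm
  have h5 : (maximalIdeal R).spanFinrank + 1 ≤ (maximalIdeal R).spanFinrank := by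
    exact_mod_cast h4
  omega

end quotient

/-- If `R` and `R ⧸ I` are regular local rings, then `I` is generated by part of a regular system
of parameters. -/
theorem exists_generators_of_regular_quotient (R : Type u) [CommRing R] [IsRegularLocalRing R]
    (d : ℕ) (hd : (maximalIdeal R).spanFinrank = d) (I : Ideal R) [IsRegularLocalRing (R ⧸ I)] :
    ∃ (x : Fin d → R) (c : ℕ) (hc : c ≤ d), Ideal.span (Set.range x) = maximalIdeal R ∧
      I = Ideal.span (Set.range (fun i : Fin c => x (Fin.castLE hc i))) := by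
  classical
  induction d generalizing R with
  | zero =>
    have hfg : (maximalIdeal R).FG := IsNoetherian.noetherian _
    have hbot : maximalIdeal R = ⊥ := (Submodule.spanFinrank_eq_zero_iff_eq_bot hfg).mp hd
    have hItop : I ≠ ⊤ := by
      intro h
      have : Nontrivial (R ⧸ I) := inferInstance
      exact (Ideal.Quotient.nontrivial_iff.mp this) h
    have hI : I = ⊥ := le_bot_iff.mp (hbot ▸ le_maximalIdeal hItop)
    refine ⟨Fin.elim0, 0, le_rfl, ?_, ?_⟩
    · rw [hbot]; simp
    · rw [hI]; simp
  | succ d ih =>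
    have hfg : (maximalIdeal R).FG := IsNoetherian.noetherian _
    have hItop : I ≠ ⊤ := by
      intro h
      have : Nontrivial (R ⧸ I) := inferInstance
      exact (Ideal.Quotient.nontrivial_iff.mp this) h
    have hIm : I ≤ maximalIdeal R := le_maximalIdeal hItop
    by_cases hI2 : I ≤ maximalIdeal R ^ 2
    · -- `I = ⊥`
      have hI : I = ⊥ := eq_bot_of_le_sq I hI2
      obtain ⟨s, hcard, hspan⟩ := Submodule.FG.exists_span_finset_card_eq_spanFinrank hfg
      have hsd : s.card = d + 1 := hcard.trans hd
      let e : Fin (d + 1) ≃ s := (Finset.equivFinOfCardEq hsd).symm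
      refine ⟨fun i => (e i : R), 0, Nat.zero_le _, ?_, ?_⟩
      · have : Set.range (fun i => (e i : R)) = (s : Set R) := by
          ext z
          constructor
          · rintro ⟨i, rfl⟩; exact (e i).2
          · intro hz; exact ⟨e.symm ⟨z, hz⟩, by simp⟩
        rw [this]; exact hspan
      · rw [hI]; simp
    · -- pick `x₀ ∈ I \ m²`
      obtain ⟨x₀, hx₀I, hx₀2⟩ := SetLike.not_le_iff_exists.mp hI2
      have hx₀m : x₀ ∈ maximalIdeal R := hIm hx₀I
      obtain ⟨hreg, hdim⟩ := isRegularLocalRing_quotient_singleton x₀ hx₀m hx₀2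
      have hle : Ideal.span {x₀} ≤ I := by rwa [Ideal.span_le, Set.singleton_subset_iff]
      let π := Ideal.Quotient.mk (Ideal.span {x₀})
      have hπ : Function.Surjective π := Ideal.Quotient.mk_surjective
      let I' : Ideal (R ⧸ Ideal.span {x₀}) := I.map π
      haveI : IsRegularLocalRing ((R ⧸ Ideal.span {x₀}) ⧸ I') :=
        IsRegularLocalRing.of_ringEquiv (DoubleQuot.quotQuotEquivQuotOfLE hle).symm
      obtain ⟨x', c', hc', hx'm, hx'I⟩ := ih (R ⧸ Ideal.span {x₀}) (by omega) I'
      let y : Fin d → R := fun i => Function.surjInv hπ (x' i)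
      have hy : ∀ i, π (y i) = x' i := fun i => Function.surjInv_eq hπ _
      have hker : RingHom.ker π = Ideal.span {x₀} := Ideal.mk_ker
      refine ⟨Fin.cons x₀ y, c' + 1, Nat.succ_le_succ hc', ?_, ?_⟩
      · rw [Fin.range_cons, Ideal.span_insert]
        have h1 : maximalIdeal R = (maximalIdeal (R ⧸ Ideal.span {x₀})).comap π := by
          haveI : IsLocalHom π := IsLocalHom.of_surjective _ hπ
          exact (IsLocalRing.maximalIdeal_comap π).symm
        have h2 : Set.range x' = π '' Set.range y := by
          rw [← Set.range_comp]; congr 1; funext i; exact (hy i).symm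
        rw [h1, ← hx'm, h2, ← Ideal.map_span, Ideal.comap_map_of_surjective _ hπ,
          ← RingHom.ker_eq_comap_bot, hker, sup_comm]
      · have hfam : (fun i : Fin (c' + 1) => (Fin.cons x₀ y : Fin (d + 1) → R)
            (Fin.castLE (Nat.succ_le_succ hc') i)) =
            Fin.cons x₀ (fun j : Fin c' => y (Fin.castLE hc' j)) := by
          funext i
          refine Fin.cases ?_ (fun j => ?_) i
          · simp
          · simp [Fin.castLE_succ]
        rw [hfam, Fin.range_cons, Ideal.span_insert]
        have h1 : I = I'.comap π := by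
          rw [Ideal.comap_map_of_surjective _ hπ, ← RingHom.ker_eq_comap_bot, hker]
          exact (sup_eq_left.mpr hle).symm
        have h2 : Set.range (fun i : Fin c' => x' (Fin.castLE hc' i)) =
            π '' Set.range (fun j : Fin c' => y (Fin.castLE hc' j)) := by
          rw [← Set.range_comp]; congr 1; funext i; exact (hy _).symm
        conv_lhs => rw [h1, hx'I, h2, ← Ideal.map_span, Ideal.comap_map_of_surjective _ hπ,
          ← RingHom.ker_eq_comap_bot, hker, sup_comm]

/-- If `R` and `R ⧸ n` are regular local rings, then `n ∩ m² = m n`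
(i.e. `n/mn → m/m²` is injective). -/
theorem inf_sq_eq_mul (R : Type u) [CommRing R] [IsRegularLocalRing R] (n : Ideal R)
    [IsRegularLocalRing (R ⧸ n)] :
    n ⊓ maximalIdeal R ^ 2 = maximalIdeal R * n := by
  classical
  have hfg : (maximalIdeal R).FG := IsNoetherian.noetherian _
  have hntop : n ≠ ⊤ := by
    intro h
    have : Nontrivial (R ⧸ n) := inferInstance
    exact (Ideal.Quotient.nontrivial_iff.mp this) h
  have hnm : n ≤ maximalIdeal R := le_maximalIdeal hntop
  obtain ⟨d, hd⟩ : ∃ d, d = (maximalIdeal R).spanFinrank := ⟨_, rfl⟩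
  obtain ⟨x, c, hc, hxm, hxn⟩ := exists_generators_of_regular_quotient R d hd.symm n
  refine le_antisymm ?_ ?_
  · rintro z ⟨hzn, hz2⟩
    have hzn' : z ∈ Ideal.span (Set.range (fun i : Fin c => x (Fin.castLE hc i))) := hxn ▸ hzn
    obtain ⟨a, ha⟩ := (Ideal.mem_span_range_iff_exists_fun).mp hzn'
    -- all coefficients lie in `m`
    have hall : ∀ i, a i ∈ maximalIdeal R := by
      by_contra hcon
      push Not at hcon
      obtain ⟨i₀, hi₀⟩ := hcon
      have hunit : IsUnit (a i₀) := by
        by_contra h
        exact hi₀ ((IsLocalRing.mem_maximalIdeal _).mpr h)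
      let j₀ : Fin d := Fin.castLE hc i₀
      let t : Finset R := (Finset.univ.erase j₀).image x
      have htcard : t.card + 1 ≤ d := by
        have h1 : t.card ≤ (Finset.univ.erase j₀).card := Finset.card_image_le
        have h2 : (Finset.univ.erase j₀).card + 1 = d := by
          rw [Finset.card_erase_add_one (Finset.mem_univ _), Finset.card_univ, Fintype.card_fin]
        omega
      have hmem : ∀ j, j ≠ j₀ → x j ∈ Ideal.span (t : Set R) := by
        intro j hj
        apply Ideal.subset_span
        exact Finset.mem_coe.mpr (Finset.mem_image.mpr ⟨j, Finset.mem_erase.mpr ⟨hj, Finset.mem_univ _⟩, rfl⟩)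
      have hj₀ : x j₀ ∈ Ideal.span (t : Set R) ⊔ maximalIdeal R ^ 2 := by
        have key : a i₀ * x j₀ ∈ Ideal.span (t : Set R) ⊔ maximalIdeal R ^ 2 := by
          have hsum : a i₀ * x j₀ = z - ∑ i ∈ Finset.univ.erase i₀, a i * x (Fin.castLE hc i) := by
            rw [← ha, ← Finset.add_sum_erase _ _ (Finset.mem_univ i₀)]
            simp [j₀]
          rw [hsum]
          refine Ideal.sub_mem _ (Ideal.mem_sup_right hz2) (Ideal.sum_mem _ (fun i hi => ?_))
          refine Ideal.mul_mem_left _ _ (Ideal.mem_sup_left (hmem _ ?_))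
          intro h
          exact (Finset.mem_erase.mp hi).1 (Fin.castLE_injective hc h)
        exact (Ideal.unit_mul_mem_iff_mem _ hunit).mp key
      have hle : maximalIdeal R ≤ Ideal.span (t : Set R) := by
        apply Submodule.le_of_le_smul_of_le_jacobson_bot hfg (maximalIdeal_le_jacobson _)
        rw [smul_eq_mul, ← pow_two, ← hxm, Ideal.span_le]
        rintro _ ⟨j, rfl⟩
        by_cases hj : j = j₀
        · rw [hj, hxm]; exact hj₀
        · exact Ideal.mem_sup_left (hmem j hj)
      have hmt : maximalIdeal R = Ideal.span (t : Set R) := by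
        refine le_antisymm hle ?_
        rw [Ideal.span_le]
        intro y hy
        obtain ⟨j, -, rfl⟩ := Finset.mem_image.mp (Finset.mem_coe.mp hy)
        rw [← hxm]; exact Ideal.subset_span ⟨j, rfl⟩
      have : d ≤ t.card := by
        rw [hd]
        conv_lhs => rw [hmt]
        refine (Submodule.spanFinrank_span_le_ncard_of_finite (Set.toFinite _)).trans ?_
        rw [Set.ncard_coe_finset]
      omega
    rw [← ha]
    refine Ideal.sum_mem _ (fun i _ => ?_)
    refine Ideal.mul_mem_mul (hall i) ?_
    rw [hxn]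
    exact Ideal.subset_span ⟨i, rfl⟩
  · refine le_inf Ideal.mul_le_right ?_
    rw [pow_two]
    exact Ideal.mul_mono_right hnm

/-- In a regular local ring of embedding dimension `d`, for `d` generators `x` of the maximal ideal
the ideal generated by `x j`, `j < i` is prime, and does not contain `x i`. -/
lemma isPrime_span_image_lt (R : Type u) [CommRing R] [IsRegularLocalRing R] (d : ℕ)
    (hd : (maximalIdeal R).spanFinrank = d) (x : Fin d → R)
    (hx : Ideal.span (Set.range x) = maximalIdeal R) (i : Fin d) :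
    (Ideal.span (x '' {j | j < i})).IsPrime ∧ x i ∉ Ideal.span (x '' {j | j < i}) := by
  classical
  set J := Ideal.span (x '' {j | j < i}) with hJ
  let T : Finset R := (Finset.Ici i).image x
  have hm : maximalIdeal R = J ⊔ Ideal.span (T : Set R) := by
    rw [← hx, hJ, ← Ideal.span_union]
    congr 1
    ext z
    simp only [Set.mem_range, Set.mem_union, Set.mem_image, Set.mem_ofPred_eq, T, Finset.coe_image,
      Finset.coe_Ici, Set.mem_Ici]
    constructor
    · rintro ⟨j, rfl⟩
      by_cases hj : j < i
      · exact Or.inl ⟨j, hj, rfl⟩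
      · exact Or.inr ⟨j, not_lt.mp hj, rfl⟩
    · rintro (⟨j, -, rfl⟩ | ⟨j, -, rfl⟩) <;> exact ⟨j, rfl⟩
  have hJcard : J.spanFinrank ≤ (i : ℕ) := by
    have hfin : (x '' {j | j < i}).Finite := Set.toFinite _
    refine (Submodule.spanFinrank_span_le_ncard_of_finite hfin).trans ?_
    refine (Set.ncard_image_le (Set.toFinite _)).trans ?_
    have : {j : Fin d | j < i} = ((Finset.Iio i : Finset (Fin d)) : Set (Fin d)) := by ext; simp
    rw [this, Set.ncard_coe_finset, Fin.card_Iio]
  have hTcard : T.card ≤ d - i := by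
    refine Finset.card_image_le.trans ?_
    rw [Fin.card_Ici]
  have hi : (i : ℕ) < d := i.2
  obtain ⟨hreg, -, -⟩ := isRegularLocalRing_quotient_of_span J T hm (by omega)
  have hdom : IsDomain (R ⧸ J) := isDomain_of_isRegularLocalRing (R ⧸ J)
  refine ⟨(Ideal.Quotient.isDomain_iff_prime J).mp hdom, ?_⟩
  intro hxi
  -- then `m` is generated by the `x j`, `j ≠ i`
  let T' : Finset R := (Finset.univ.erase i).image x
  have hle : maximalIdeal R ≤ Ideal.span (T' : Set R) := by
    rw [← hx, Ideal.span_le]
    rintro _ ⟨j, rfl⟩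
    by_cases hj : j = i
    · rw [hj]
      refine (Ideal.span_mono ?_) hxi
      rintro _ ⟨k, hk, rfl⟩
      exact Finset.mem_coe.mpr (Finset.mem_image.mpr
        ⟨k, Finset.mem_erase.mpr ⟨ne_of_lt hk, Finset.mem_univ _⟩, rfl⟩)
    · exact Ideal.subset_span (Finset.mem_coe.mpr (Finset.mem_image.mpr
        ⟨j, Finset.mem_erase.mpr ⟨hj, Finset.mem_univ _⟩, rfl⟩))
  have hmt : maximalIdeal R = Ideal.span (T' : Set R) := by
    refine le_antisymm hle ?_
    rw [Ideal.span_le]
    intro y hy
    obtain ⟨j, -, rfl⟩ := Finset.mem_image.mp (Finset.mem_coe.mp hy)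
    rw [← hx]; exact Ideal.subset_span ⟨j, rfl⟩
  have h1 : d ≤ T'.card := by
    rw [← hd]
    conv_lhs => rw [hmt]
    refine (Submodule.spanFinrank_span_le_ncard_of_finite (Set.toFinite _)).trans ?_
    rw [Set.ncard_coe_finset]
  have h2 : T'.card + 1 ≤ d := by
    have h3 : T'.card ≤ (Finset.univ.erase i).card := Finset.card_image_le
    have h4 : (Finset.univ.erase i).card + 1 = d := by
      rw [Finset.card_erase_add_one (Finset.mem_univ _), Finset.card_univ, Fintype.card_fin]
    omega
  omega

/-- In a regular local ring, any minimal system of generators of the maximal ideal is a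
(weakly) regular sequence. -/
theorem isWeaklyRegular_ofFn (R : Type u) [CommRing R] [IsRegularLocalRing R] (d : ℕ)
    (hd : (maximalIdeal R).spanFinrank = d) (x : Fin d → R)
    (hx : Ideal.span (Set.range x) = maximalIdeal R) :
    RingTheory.Sequence.IsWeaklyRegular R (List.ofFn x) := by
  rw [RingTheory.Sequence.isWeaklyRegular_iff]
  intro i hi
  have hid : i < d := by simpa using hi
  obtain ⟨hprime, hnot⟩ := isPrime_span_image_lt R d hd x hx ⟨i, hid⟩
  have hJ : (Ideal.ofList ((List.ofFn x).take i) • ⊤ : Submodule R R) =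
      Ideal.span (x '' {j | j < (⟨i, hid⟩ : Fin d)}) := by
    rw [smul_eq_mul, Ideal.mul_top]
    change Ideal.span {r | r ∈ (List.ofFn x).take i} = _
    congr 1
    ext z
    simp only [Set.mem_ofPred_eq, List.mem_take_iff_getElem, List.getElem_ofFn, List.length_ofFn,
      Set.mem_image]
    constructor
    · rintro ⟨j, hj, rfl⟩
      have hj' : j < i := lt_of_lt_of_le hj (min_le_left _ _)
      exact ⟨⟨j, by omega⟩, hj', rfl⟩
    · rintro ⟨j, hj, rfl⟩
      exact ⟨j.1, lt_min hj j.2, rfl⟩
  rw [List.getElem_ofFn]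
  rw [isSMulRegular_iff_right_eq_zero_of_smul]
  intro y hy
  obtain ⟨y, rfl⟩ := Submodule.Quotient.mk_surjective _ y
  rw [← Submodule.Quotient.mk_smul, Submodule.Quotient.mk_eq_zero, hJ, smul_eq_mul] at hy
  rw [Submodule.Quotient.mk_eq_zero, hJ]
  exact (hprime.mem_or_mem hy).resolve_left hnot

/-- additivity of numbers of generators: `μ(I) + embdim (R ⧸ I) = embdim R` when `R` and `R ⧸ I`
are regular local. -/
theorem spanFinrank_add_spanFinrank_quotient (R : Type u) [CommRing R] [IsRegularLocalRing R]
    (I : Ideal R) [IsRegularLocalRing (R ⧸ I)] :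
    I.spanFinrank + (maximalIdeal (R ⧸ I)).spanFinrank = (maximalIdeal R).spanFinrank := by
  classical
  obtain ⟨d, hd⟩ : ∃ d, d = (maximalIdeal R).spanFinrank := ⟨_, rfl⟩
  obtain ⟨x, c, hc, hxm, hxI⟩ := exists_generators_of_regular_quotient R d hd.symm I
  let y : Fin (d - c) → R := fun j => x ⟨c + j, by omega⟩
  let T : Finset R := Finset.univ.image y
  have hTcard : T.card ≤ d - c := by
    refine Finset.card_image_le.trans ?_
    rw [Finset.card_univ, Fintype.card_fin]
  have hIcard : I.spanFinrank ≤ c := by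
    rw [hxI]
    refine (Submodule.spanFinrank_span_le_ncard_of_finite (Set.finite_range _)).trans ?_
    have : Set.range (fun i : Fin c => x (Fin.castLE hc i)) =
        ((Finset.univ.image (fun i : Fin c => x (Fin.castLE hc i)) : Finset R) : Set R) := by
      simp
    rw [this, Set.ncard_coe_finset]
    refine Finset.card_image_le.trans ?_
    rw [Finset.card_univ, Fintype.card_fin]
  have hm : maximalIdeal R = I ⊔ Ideal.span (T : Set R) := by
    rw [← hxm, hxI, ← Ideal.span_union]
    refine le_antisymm (Ideal.span_mono ?_) (Ideal.span_mono ?_)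
    · rintro _ ⟨j, rfl⟩
      by_cases hj : (j : ℕ) < c
      · exact Or.inl ⟨⟨j, hj⟩, rfl⟩
      · refine Or.inr ?_
        simp only [T, Finset.coe_image, Finset.coe_univ, Set.image_univ, Set.mem_range]
        refine ⟨⟨j - c, by omega⟩, ?_⟩
        simp only [y]
        congr 1
        apply Fin.ext
        simp only
        omega
    · rintro z (⟨j, rfl⟩ | hz)
      · exact ⟨_, rfl⟩
      · simp only [T, Finset.coe_image, Finset.coe_univ, Set.image_univ, Set.mem_range] at hz
        obtain ⟨j, rfl⟩ := hz
        exact ⟨_, rfl⟩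
  obtain ⟨_, h1, h2⟩ := isRegularLocalRing_quotient_of_span I T hm (by omega)
  rw [h1, h2]

lemma spanFinrank_sup_le {R : Type*} [CommRing R] {M : Type*} [AddCommGroup M] [Module R M]
    {p q : Submodule R M} (hp : p.FG) (hq : q.FG) :
    (p ⊔ q).spanFinrank ≤ p.spanFinrank + q.spanFinrank := by
  classical
  obtain ⟨s₁, h1, h1'⟩ := Submodule.FG.exists_span_finset_card_eq_spanFinrank hp
  obtain ⟨s₂, h2, h2'⟩ := Submodule.FG.exists_span_finset_card_eq_spanFinrank hq
  have : p ⊔ q = Submodule.span R ((s₁ ∪ s₂ : Finset M) : Set M) := by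
    rw [Finset.coe_union, Submodule.span_union, h1', h2']
  rw [this, ← h1, ← h2]
  refine (Submodule.spanFinrank_span_le_ncard_of_finite (Set.toFinite _)).trans ?_
  rw [Set.ncard_coe_finset]
  exact Finset.card_union_le _ _

/-- transversal intersection of regular quotients of a regular local ring. -/
theorem isRegularLocalRing_quotient_sup (R : Type u) [CommRing R] [IsRegularLocalRing R]
    (I J : Ideal R) [IsRegularLocalRing (R ⧸ I)] [IsRegularLocalRing (R ⧸ J)]
    [IsLocalRing (R ⧸ (I ⊔ J))]
    (h : (maximalIdeal (R ⧸ (I ⊔ J))).spanFinrank + (maximalIdeal R).spanFinrank =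
      (maximalIdeal (R ⧸ I)).spanFinrank + (maximalIdeal (R ⧸ J)).spanFinrank) :
    ∃ _ : IsRegularLocalRing (R ⧸ (I ⊔ J)),
      (((maximalIdeal (R ⧸ (I ⊔ J))).spanFinrank : ℕ∞)) = (maximalIdeal (R ⧸ (I ⊔ J))).height := by
  have hI := spanFinrank_add_spanFinrank_quotient R I
  have hJ := spanFinrank_add_spanFinrank_quotient R J
  have hsup : (I ⊔ J).spanFinrank ≤ I.spanFinrank + J.spanFinrank :=
    spanFinrank_sup_le (IsNoetherian.noetherian _) (IsNoetherian.noetherian _)
  have htop : I ⊔ J ≠ ⊤ := by
    intro h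
    have : Nontrivial (R ⧸ (I ⊔ J)) := inferInstance
    exact (Ideal.Quotient.nontrivial_iff.mp this) h
  have hle : I ⊔ J ≤ maximalIdeal R := le_maximalIdeal htop
  have hmap : (maximalIdeal R).map (Ideal.Quotient.mk (I ⊔ J)) = maximalIdeal (R ⧸ (I ⊔ J)) :=
    map_maximalIdeal_of_surjective _ Ideal.Quotient.mk_surjective
  have h2 : (maximalIdeal R).height ≤
      ((maximalIdeal R).map (Ideal.Quotient.mk (I ⊔ J))).height + (I ⊔ J).spanFinrank :=
    Ideal.height_le_height_add_spanFinrank_of_le hle
  rw [hmap, ← spanFinrank_eq_height] at h2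
  set t := (maximalIdeal (R ⧸ (I ⊔ J))).spanFinrank with ht
  set μ := (I ⊔ J).spanFinrank with hμ
  have h3 : ((t + μ : ℕ) : ℕ∞) ≤ (maximalIdeal (R ⧸ (I ⊔ J))).height + μ := by
    refine le_trans ?_ h2
    exact_mod_cast (by omega : t + μ ≤ (maximalIdeal R).spanFinrank)
  have h4 : (t : ℕ∞) ≤ (maximalIdeal (R ⧸ (I ⊔ J))).height := by
    rw [Nat.cast_add] at h3
    exact (ENat.add_le_add_iff_right (ENat.natCast_ne_top _)).mp h3
  have h5 : (maximalIdeal (R ⧸ (I ⊔ J))).height ≤ t :=
    Ideal.height_le_spanFinrank _ Ideal.IsPrime.ne_top'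
  exact ⟨isRegularLocalRing_of_le_height h4, le_antisymm h4 h5⟩

end Groth.Agent.Lib.helper15
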