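import Mathlib
import Groth.Prelude.Def_AlgSp3

/-!
# Helper15: properties of the diagonal of an algebraic space

General lemmas on `AlgSp.RepWith` and the diagonal of an algebraic space.
-/

set_option autoImplicit false
universe u

open CategoryTheory CategoryTheory.Limits AlgebraicGeometry AlgSp

namespace Groth.Agent.Lib.helper15.AlgSpDiag

section general

variable {C : Type*} [Category C]

/-- `X ⨯ B ⟶ X ⨯ A` is a base change of `B ⟶ A`. -/
lemma isPullback_prod_snd_with_id {A B : C} (f : A ⟶ B) (X : C) [HasBinaryProduct X A]
    [HasBinaryProduct X B] :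
    IsPullback prod.snd (prod.map (𝟙 X) f) f prod.snd := by
  refine IsPullback.mk' (by simp) ?_ ?_
  · intro T φ φ' h1 h2
    apply Limits.prod.hom_ext
    · have := congrArg (fun k => k ≫ prod.fst) h2
      simpa using this
    · exact h1
  · intro T a b h
    refine ⟨prod.lift (b ≫ prod.fst) a, by simp [prod.lift_snd], ?_⟩
    apply Limits.prod.hom_ext
    · simp [prod.lift_fst]
    · simp [prod.lift_snd, h]

/-- A property stable under base change and composition is stable under binary products of
morphisms. -/
lemma prod_map_mem (P : MorphismProperty C) [P.IsStableUnderBaseChange]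
    [P.IsStableUnderComposition] [HasBinaryProducts C] {A B A' B' : C} (f : A ⟶ B) (g : A' ⟶ B')
    (hf : P f) (hg : P g) : P (prod.map f g) := by
  have h1 : P (prod.map f (𝟙 A')) := P.of_isPullback (IsPullback.of_prod_fst_with_id f A') hf
  have h2 : P (prod.map (𝟙 B) g) := P.of_isPullback (isPullback_prod_snd_with_id g B) hg
  have : prod.map f g = prod.map f (𝟙 A') ≫ prod.map (𝟙 B) g := by simp
  rw [this]
  exact P.comp_mem _ _ h1 h2

/-- The pullback of the diagonal along `p ⨯ p'` is the fibre product. -/
lemma isPullback_of_isPullback_diag [HasBinaryProducts C] {V W W' X : C} {a : V ⟶ X}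
    {b : V ⟶ W ⨯ W'} {p : W ⟶ X} {p' : W' ⟶ X}
    (sq : IsPullback a b (Limits.diag X) (prod.map p p')) :
    IsPullback (b ≫ prod.fst) (b ≫ prod.snd) p p' := by
  have h1 : (b ≫ prod.fst) ≫ p = a := by
    have := congrArg (fun k => k ≫ prod.fst) sq.w
    simpa [Limits.diag, prod.lift_fst] using this.symm
  have h2 : (b ≫ prod.snd) ≫ p' = a := by
    have := congrArg (fun k => k ≫ prod.snd) sq.w
    simpa [Limits.diag, prod.lift_snd] using this.symm
  refine IsPullback.mk' (h1.trans h2.symm) ?_ ?_
  · intro T φ φ' e1 e2
    apply sq.hom_ext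
    · rw [← h1]
      simp only [← Category.assoc] at e1 ⊢
      rw [e1]
    · apply Limits.prod.hom_ext
      · simpa using e1
      · simpa using e2
  · intro T u v h
    refine ⟨sq.lift (u ≫ p) (prod.lift u v) ?_, ?_, ?_⟩
    · apply Limits.prod.hom_ext
      · simp [Limits.diag, prod.lift_fst]
      · simp [Limits.diag, prod.lift_snd, h]
    · rw [← Category.assoc, sq.lift_snd, prod.lift_fst]
    · rw [← Category.assoc, sq.lift_snd, prod.lift_snd]

/-- If `j` is a monomorphism, then `δ` is a base change of `δ ≫ j` along `j`. -/
lemma isPullback_of_mono_comp {A B D : C} (δ : A ⟶ B) (j : B ⟶ D) [Mono j] :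
    IsPullback δ (𝟙 A) j (δ ≫ j) := by
  refine IsPullback.mk' (by simp) ?_ ?_
  · intro T φ φ' _ e2
    simpa using e2
  · intro T a b h
    refine ⟨b, ?_, by simp⟩
    rw [← cancel_mono j, h, Category.assoc]

/-- The diagonal of a base change is the base change of the diagonal. -/
lemma isPullback_diagonal_of_isPullback {C : Type*} [Category C] [HasPullbacks C] {V X T Y : C}
    {p : V ⟶ X} {g : V ⟶ T} {f : X ⟶ Y} {c : T ⟶ Y} (sq : IsPullback p g f c) :
    IsPullback p (pullback.diagonal g) (pullback.diagonal f)
      (pullback.map g g f f p p c sq.w.symm sq.w.symm) := by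
  refine IsPullback.mk' ?_ ?_ ?_
  · apply pullback.hom_ext <;> simp [pullback.lift_fst, pullback.lift_snd]
  · intro A φ φ' _ e2
    have := congrArg (fun k => k ≫ pullback.fst g g) e2
    simpa using this
  · intro A u v e
    have e1 := congrArg (fun k => k ≫ pullback.fst f f) e
    have e2 := congrArg (fun k => k ≫ pullback.snd f f) e
    simp only [Category.assoc, pullback.diagonal_fst, pullback.diagonal_snd, Category.comp_id,
      pullback.lift_fst, pullback.lift_snd] at e1 e2
    have h12 : v ≫ pullback.fst g g = v ≫ pullback.snd g g := by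
      apply sq.hom_ext
      · rw [Category.assoc, Category.assoc, ← e1, ← e2]
      · rw [Category.assoc, Category.assoc, pullback.condition]
    refine ⟨v ≫ pullback.fst g g, ?_, ?_⟩
    · rw [Category.assoc, ← e1]
    · apply pullback.hom_ext
      · simp
      · simp [h12]

end general


section algsp

variable {S : Scheme.{u}}

/-- A representable monomorphism of sheaves is a monomorphism in the representable sense. -/
theorem repWith_mono {F G : Sp S} (f : F ⟶ G) (hf : Representable f) [hm : Mono f] :
    RepWith (MorphismProperty.monomorphisms Scheme.{u}) f := by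
  refine ⟨hf, ?_⟩
  intro U V g fst snd sq
  have h1 : Mono ((yon S).map snd) :=
    (MorphismProperty.monomorphisms (Sp S)).of_isPullback sq hm
  have h2 : Mono snd := (yon S).mono_of_mono_map h1
  exact (inferInstance : Mono snd.left)

theorem repWith_mono_iff_le {P Q : MorphismProperty Scheme.{u}} (h : P ≤ Q) {F G : Sp S}
    {f : F ⟶ G} (hf : RepWith P f) : RepWith Q f :=
  ⟨hf.1, fun _ _ g fst snd sq => h _ (hf.2 g fst snd sq)⟩

theorem repWith_inf {P Q : MorphismProperty Scheme.{u}} {F G : Sp S}
    {f : F ⟶ G} (hP : RepWith P f) (hQ : RepWith Q f) : RepWith (P ⊓ Q) f :=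
  ⟨hP.1, fun _ _ g fst snd sq => ⟨hP.2 g fst snd sq, hQ.2 g fst snd sq⟩⟩

theorem repWith_isSeparated_of_mono {F G : Sp S} {f : F ⟶ G}
    (hf : RepWith (MorphismProperty.monomorphisms Scheme.{u}) f) : RepWith @IsSeparated f :=
  ⟨hf.1, fun _ _ g fst snd sq => by
    have : Mono snd.left := hf.2 g fst snd sq
    exact (inferInstance : IsSeparated snd.left)⟩

theorem repWith_locallyQuasiFinite_of_mono {F G : Sp S} {f : F ⟶ G}
    (hf : RepWith (MorphismProperty.monomorphisms Scheme.{u}) f)
    (hf' : RepWith @LocallyOfFiniteType f) : RepWith @LocallyQuasiFinite f :=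
  ⟨hf.1, fun _ _ g fst snd sq => by
    have : Mono snd.left := hf.2 g fst snd sq
    have : LocallyOfFiniteType snd.left := hf'.2 g fst snd sq
    exact (inferInstance : LocallyQuasiFinite snd.left)⟩

/-- Chart criterion: a representable morphism whose base change to an étale surjective chart has
`P` has `P` in the representable sense, for `P` stable under base change and satisfying fppf
descent. (Adapted from helper5's S9883.) -/
theorem repWith_of_chart {F G : Sp S} (f : F ⟶ G)
    (hf : AlgSp.Representable f) {U V : Over S} (q : (AlgSp.yon S).obj U ⟶ G)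
    (hqe : AlgSp.RepWith @Etale q) (hqs : AlgSp.RepWith @Surjective q)
    (fst : (AlgSp.yon S).obj V ⟶ F) (g : V ⟶ U) (sq : IsPullback fst ((AlgSp.yon S).map g) f q)
    (P : MorphismProperty Scheme.{u}) [P.IsStableUnderBaseChange]
    [P.DescendsAlong (@Surjective ⊓ @Flat ⊓ @LocallyOfFinitePresentation)]
    (hg : P g.left) : AlgSp.RepWith P f := by
  refine ⟨hf, ?_⟩
  intro T W h fst_h s sqh
  -- pull back the chart `q` along `h`
  obtain ⟨T', t, fst_q, sqq⟩ := hqe.rep h
  obtain ⟨β, rfl⟩ := (AlgSp.yon S).map_surjective fst_q
  have hte : Etale t.left := hqe.2 _ _ t sqq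
  have hts : Surjective t.left := hqs.2 _ _ t sqq
  -- the fibre product of `s` and `t` in `Over S`
  have sq1 : IsPullback (pullback.fst s t) (pullback.snd s t) s t := IsPullback.of_hasPullback s t
  have sq2 := (sq1.map (AlgSp.yon S)).paste_horiz sqh
  have e : (AlgSp.yon S).map t ≫ h = (AlgSp.yon S).map β ≫ q := sqq.w.symm
  rw [e] at sq2
  obtain ⟨c, hc⟩ := (AlgSp.yon S).map_surjective
    (sq.lift ((AlgSp.yon S).map (pullback.fst s t) ≫ fst_h)
      ((AlgSp.yon S).map (pullback.snd s t) ≫ (AlgSp.yon S).map β) (by rw [sq2.w, Category.assoc]))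
  have hc1 : (AlgSp.yon S).map c ≫ fst = (AlgSp.yon S).map (pullback.fst s t) ≫ fst_h := by
    rw [hc, sq.lift_fst]
  have hc2 : (AlgSp.yon S).map c ≫ (AlgSp.yon S).map g =
      (AlgSp.yon S).map (pullback.snd s t) ≫ (AlgSp.yon S).map β := by
    rw [hc, sq.lift_snd]
  rw [← hc1] at sq2
  have sq3 : IsPullback ((AlgSp.yon S).map c) ((AlgSp.yon S).map (pullback.snd s t))
      ((AlgSp.yon S).map g) ((AlgSp.yon S).map β) := IsPullback.of_right sq2 hc2 sq
  have sq4 : IsPullback c (pullback.snd s t) g β :=
    IsPullback.of_map (AlgSp.yon S) ((AlgSp.yon S).map_injective (by simpa using hc2)) sq3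
  have sq5 := sq4.map (Over.forget S)
  have hb : P (pullback.snd s t).left := P.of_isPullback sq5 hg
  have sq6 : IsPullback (pullback.fst s t).left (pullback.snd s t).left s.left t.left :=
    sq1.map (Over.forget S)
  have i1 : Flat t.left := inferInstance
  have i2 : LocallyOfFinitePresentation t.left := inferInstance
  exact MorphismProperty.of_isPullback_of_descendsAlong
    (Q := @Surjective ⊓ @Flat ⊓ @LocallyOfFinitePresentation) sq6.flip ⟨⟨hts, i1⟩, i2⟩ hb

set_option backward.isDefEq.respectTransparency.types false in
/-- The diagonal of an algebraic space is locally of finite type (in the representable sense). -/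
theorem repWith_locallyOfFiniteType_diag (X : Sp S) (hX : IsAlgSpace X) :
    RepWith @LocallyOfFiniteType (Limits.diag X) := by
  obtain ⟨W, p, hpe, hps⟩ := hX.atlas
  have i1 : (RepWith (S := S) @Etale).IsStableUnderBaseChange := repWith_isStableUnderBaseChange _
  have i2 : (RepWith (S := S) @Surjective).IsStableUnderBaseChange :=
    repWith_isStableUnderBaseChange _
  have i3 : (RepWith (S := S) @Etale).IsMultiplicative := repWith_isMultiplicative _
  have i4 : (RepWith (S := S) @Surjective).IsMultiplicative := repWith_isMultiplicative _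
  have hqe' : RepWith @Etale (prod.map p p) := prod_map_mem (RepWith @Etale) p p hpe hpe
  have hqs' : RepWith @Surjective (prod.map p p) := prod_map_mem (RepWith @Surjective) p p hps hps
  have hqe : RepWith @Etale (prodComparison (yon S) W W ≫ prod.map p p) :=
    ((RepWith @Etale).cancel_left_of_respectsIso _ _).2 hqe'
  have hqs : RepWith @Surjective (prodComparison (yon S) W W ≫ prod.map p p) :=
    ((RepWith @Surjective).cancel_left_of_respectsIso _ _).2 hqs'
  obtain ⟨V, g, fst, sq⟩ := hX.diag (prodComparison (yon S) W W ≫ prod.map p p)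
  have sq' : IsPullback fst ((yon S).map g ≫ prodComparison (yon S) W W) (Limits.diag X)
      (prod.map p p) :=
    sq.of_iso (Iso.refl _) (Iso.refl _) (asIso (prodComparison (yon S) W W)) (Iso.refl _)
      (by simp) (by simp) (by simp) (by simp)
  have sq'' := isPullback_of_isPullback_diag sq'
  have e1 : ((yon S).map g ≫ prodComparison (yon S) W W) ≫ prod.fst =
      (yon S).map (g ≫ prod.fst) := by
    rw [Category.assoc, prodComparison_fst, Functor.map_comp]
  have e2 : ((yon S).map g ≫ prodComparison (yon S) W W) ≫ prod.snd =
      (yon S).map (g ≫ prod.snd) := by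
    rw [Category.assoc, prodComparison_snd, Functor.map_comp]
  rw [e1, e2] at sq''
  have het : Etale (g ≫ prod.snd).left := hpe.2 p _ _ sq''
  have hlft : LocallyOfFiniteType (g.left ≫ (prod.snd : W ⨯ W ⟶ W).left) := by
    rw [← Over.comp_left]; infer_instance
  have hg : LocallyOfFiniteType g.left :=
    locallyOfFiniteType_of_comp g.left (prod.snd : W ⨯ W ⟶ W).left
  exact repWith_of_chart (Limits.diag X) hX.diag _ hqe hqs fst g sq @LocallyOfFiniteType hg

/-- The diagonal of an algebraic space is, in the representable sense, locally of finite type, a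
monomorphism, separated and locally quasi-finite. -/
theorem repWith_diag_properties (X : Sp S) (hX : IsAlgSpace X) :
    RepWith @LocallyOfFiniteType (Limits.diag X) ∧
      RepWith (MorphismProperty.monomorphisms Scheme.{u}) (Limits.diag X) ∧
      RepWith @IsSeparated (Limits.diag X) ∧
      RepWith @LocallyQuasiFinite (Limits.diag X) := by
  have h1 := repWith_locallyOfFiniteType_diag X hX
  have h2 : RepWith (MorphismProperty.monomorphisms Scheme.{u}) (Limits.diag X) :=
    repWith_mono _ hX.diag
  exact ⟨h1, h2, repWith_isSeparated_of_mono h2, repWith_locallyQuasiFinite_of_mono h2 h1⟩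

/-- The relative diagonal of `f : X ⟶ Y` is a base change of the absolute diagonal of `X`. -/
lemma isPullback_diagonal_diag {C : Type*} [Category C] [HasPullbacks C] [HasBinaryProducts C]
    {X Y : C} (f : X ⟶ Y) :
    IsPullback (𝟙 X) (pullback.diagonal f) (Limits.diag X)
      (prod.lift (pullback.fst f f) (pullback.snd f f)) := by
  have hm : Mono (prod.lift (pullback.fst f f) (pullback.snd f f)) := by
    constructor
    intro Z a b h
    apply pullback.hom_ext
    · have := congrArg (fun k => k ≫ prod.fst) h
      simpa [prod.lift_fst] using this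
    · have := congrArg (fun k => k ≫ prod.snd) h
      simpa [prod.lift_snd] using this
  have e : pullback.diagonal f ≫ prod.lift (pullback.fst f f) (pullback.snd f f) =
      Limits.diag X := by
    apply Limits.prod.hom_ext <;> simp [Limits.diag, prod.lift_fst, prod.lift_snd]
  have := (isPullback_of_mono_comp (pullback.diagonal f)
    (prod.lift (pullback.fst f f) (pullback.snd f f))).flip
  rwa [e] at this

set_option backward.isDefEq.respectTransparency.types false in
/-- The relative diagonal of a morphism of sheaves whose source is an algebraic space is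
representable, locally of finite type, a monomorphism, separated and locally quasi-finite. -/
theorem repWith_diagonal_properties {X Y : Sp S} (hX : IsAlgSpace X) (f : X ⟶ Y) :
    AlgSp.Representable (pullback.diagonal f) ∧
    AlgSp.RepWith @LocallyOfFiniteType (pullback.diagonal f) ∧
    AlgSp.RepWith (MorphismProperty.monomorphisms Scheme.{u}) (pullback.diagonal f) ∧
    AlgSp.RepWith @IsSeparated (pullback.diagonal f) ∧
    AlgSp.RepWith (@LocallyQuasiFinite ⊓ @LocallyOfFiniteType) (pullback.diagonal f) := by
  obtain ⟨h1, h2, h3, h4⟩ := repWith_diag_properties X hX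
  have sq := isPullback_diagonal_diag f
  have k1 : RepWith @LocallyOfFiniteType (pullback.diagonal f) :=
    (repWith_isStableUnderBaseChange _).of_isPullback sq h1
  have k2 : RepWith (MorphismProperty.monomorphisms Scheme.{u}) (pullback.diagonal f) :=
    (repWith_isStableUnderBaseChange _).of_isPullback sq h2
  have k3 : RepWith @IsSeparated (pullback.diagonal f) :=
    (repWith_isStableUnderBaseChange _).of_isPullback sq h3
  have k4 : RepWith @LocallyQuasiFinite (pullback.diagonal f) :=
    (repWith_isStableUnderBaseChange _).of_isPullback sq h4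
  exact ⟨k1.1, k1, k2, k3, repWith_inf k4 k1⟩

/-- For a representable morphism `f` of sheaves, a property `P` (stable under base
change) of the diagonal of `f` can be tested on the diagonals of the represented base changes. -/
theorem repWith_diagonal_iff (P : MorphismProperty Scheme.{u}) [P.IsStableUnderBaseChange]
    {X Y : Sp S} (f : X ⟶ Y) (hf : AlgSp.Representable f) :
    AlgSp.RepWith P (pullback.diagonal f) ↔
      ∀ ⦃U V : Over S⦄ (c : (yon S).obj U ⟶ Y) (p : (yon S).obj V ⟶ X) (g : V ⟶ U),
        IsPullback p ((yon S).map g) f c → P (pullback.diagonal g.left) := by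
  constructor
  · intro h U V c p g sq
    rw [← repWith_diagonal_yon_map_iff P g]
    exact (repWith_isStableUnderBaseChange P).of_isPullback (isPullback_diagonal_of_isPullback sq) h
  · intro h
    have : (P.inverseImage (Over.forget S)).RespectsIso := inferInstance
    apply MorphismProperty.relative.of_exists
    intro T ζ
    obtain ⟨V, g, p, sq⟩ := hf (ζ ≫ pullback.fst f f ≫ f)
    have hΔ' : RepWith P (pullback.diagonal ((yon S).map g)) :=
      (repWith_diagonal_yon_map_iff P g).2 (h _ p g sq)
    have sqd := isPullback_diagonal_of_isPullback sq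
    let a' : (yon S).obj T ⟶ (yon S).obj V :=
      sq.lift (ζ ≫ pullback.fst f f) (𝟙 _) (by simp)
    let b' : (yon S).obj T ⟶ (yon S).obj V :=
      sq.lift (ζ ≫ pullback.snd f f) (𝟙 _) (by simp [pullback.condition])
    let ζ' : (yon S).obj T ⟶ pullback ((yon S).map g) ((yon S).map g) :=
      pullback.lift a' b' (by simp [a', b'])
    have hζ : ζ' ≫ pullback.map ((yon S).map g) ((yon S).map g) f f p p _ sq.w.symm sq.w.symm = ζ := by
      apply pullback.hom_ext
      · rw [Category.assoc, pullback.lift_fst, pullback.lift_fst_assoc, IsPullback.lift_fst]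
      · rw [Category.assoc, pullback.lift_snd, pullback.lift_snd_assoc, IsPullback.lift_fst]
    obtain ⟨E, snd', fst', sqE⟩ := hΔ'.rep ζ'
    have hP := hΔ'.2 ζ' fst' snd' sqE
    have sq' := sqE.paste_horiz sqd
    rw [hζ] at sq'
    exact ⟨E, fst' ≫ p, snd', sq', hP⟩

set_option backward.isDefEq.respectTransparency.types false in
/-- A Zariski-local property of the diagonal can be tested after base change to affine schemes. -/
theorem repWith_diagonal_of_affine (P : MorphismProperty Scheme.{u}) [P.IsStableUnderBaseChange]
    [IsZariskiLocalAtTarget P] {X Y : Sp S} (f : X ⟶ Y)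
    (hrep : AlgSp.Representable (pullback.diagonal f))
    (h : ∀ (Z : Over S), IsAffine Z.left → ∀ (g : (yon S).obj Z ⟶ Y) (Pb : Sp S)
      (fst : Pb ⟶ X) (snd : Pb ⟶ (yon S).obj Z), IsPullback fst snd f g →
        RepWith P (pullback.diagonal snd)) :
    RepWith P (pullback.diagonal f) := by
  refine ⟨hrep, ?_⟩
  intro T E ζ fst' snd' sqE
  change P snd'.left
  apply IsZariskiLocalAtTarget.of_openCover (P := P) T.left.affineCover
  intro i
  -- the affine piece `T_i` of `T`
  let Ti : Over S := Over.mk (T.left.affineCover.f i ≫ T.hom)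
  let ι : Ti ⟶ T := Over.homMk (T.left.affineCover.f i)
  have hTi : IsAffine Ti.left := by
    change IsAffine (T.left.affineCover.X i); infer_instance
  let c : (yon S).obj Ti ⟶ Y := (yon S).map ι ≫ ζ ≫ pullback.fst f f ≫ f
  have sqi : IsPullback (pullback.fst f c) (pullback.snd f c) f c := IsPullback.of_hasPullback f c
  have hsep := h Ti hTi c _ _ _ sqi
  have sqd := isPullback_diagonal_of_isPullback sqi
  let a' : (yon S).obj Ti ⟶ pullback f c :=
    pullback.lift ((yon S).map ι ≫ ζ ≫ pullback.fst f f) (𝟙 _) (by simp [c])
  let b' : (yon S).obj Ti ⟶ pullback f c :=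
    pullback.lift ((yon S).map ι ≫ ζ ≫ pullback.snd f f) (𝟙 _) (by simp [c, pullback.condition])
  let ζ' : (yon S).obj Ti ⟶ pullback (pullback.snd f c) (pullback.snd f c) :=
    pullback.lift a' b' (by simp [a', b', pullback.lift_snd])
  have hζ : ζ' ≫ pullback.map (pullback.snd f c) (pullback.snd f c) f f (pullback.fst f c)
      (pullback.fst f c) c sqi.w.symm sqi.w.symm = (yon S).map ι ≫ ζ := by
    apply pullback.hom_ext
    · rw [Category.assoc, pullback.lift_fst, pullback.lift_fst_assoc, pullback.lift_fst,
        Category.assoc]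
    · rw [Category.assoc, pullback.lift_snd, pullback.lift_snd_assoc, pullback.lift_fst,
        Category.assoc]
  -- the restriction of `E` over `T_i`
  have sq1 : IsPullback (pullback.fst snd' ι) (pullback.snd snd' ι) snd' ι :=
    IsPullback.of_hasPullback snd' ι
  have sq2 := (sq1.map (yon S)).paste_horiz sqE
  rw [← hζ] at sq2
  have e0 : ((yon S).map (pullback.fst snd' ι) ≫ fst') ≫ f =
      (yon S).map (pullback.snd snd' ι) ≫ c := by
    have h1 : fst' ≫ f = (yon S).map snd' ≫ ζ ≫ pullback.fst f f ≫ f := by
      have := congrArg (fun k => k ≫ pullback.fst f f ≫ f) sqE.w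
      simpa using this
    rw [Category.assoc, h1, ← Category.assoc, ← Functor.map_comp, sq1.w, Functor.map_comp,
      Category.assoc]
  let l : (yon S).obj (pullback snd' ι) ⟶ pullback f c :=
    pullback.lift ((yon S).map (pullback.fst snd' ι) ≫ fst') ((yon S).map (pullback.snd snd' ι)) e0
  have hl : l ≫ pullback.fst f c = (yon S).map (pullback.fst snd' ι) ≫ fst' := pullback.lift_fst _ _ _
  rw [← hl] at sq2
  have comm : l ≫ pullback.diagonal (pullback.snd f c) = (yon S).map (pullback.snd snd' ι) ≫ ζ' := by
    have hf1 : fst' = (yon S).map snd' ≫ ζ ≫ pullback.fst f f := by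
      have := congrArg (fun k => k ≫ pullback.fst f f) sqE.w
      simpa using this
    have hf2 : fst' = (yon S).map snd' ≫ ζ ≫ pullback.snd f f := by
      have := congrArg (fun k => k ≫ pullback.snd f f) sqE.w
      simpa using this
    have hw : (yon S).map (pullback.fst snd' ι) ≫ (yon S).map snd' =
        (yon S).map (pullback.snd snd' ι) ≫ (yon S).map ι := by
      rw [← Functor.map_comp, ← Functor.map_comp, sq1.w]
    apply pullback.hom_ext
    · rw [Category.assoc, pullback.diagonal_fst, Category.comp_id, Category.assoc,
        pullback.lift_fst]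
      apply pullback.hom_ext
      · rw [hl, Category.assoc, pullback.lift_fst, hf1, reassoc_of% hw]
      · rw [pullback.lift_snd, Category.assoc, pullback.lift_snd, Category.comp_id]
    · rw [Category.assoc, pullback.diagonal_snd, Category.comp_id, Category.assoc,
        pullback.lift_snd]
      apply pullback.hom_ext
      · rw [hl, Category.assoc, pullback.lift_fst, hf2, reassoc_of% hw]
      · rw [pullback.lift_snd, Category.assoc, pullback.lift_snd, Category.comp_id]
  have sq3 := IsPullback.of_right sq2 comm sqd
  have hP := hsep.2 ζ' l (pullback.snd snd' ι) sq3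
  have sq4 : IsPullback (pullback.fst snd' ι).left (pullback.snd snd' ι).left snd'.left
      (T.left.affineCover.f i) := sq1.map (Over.forget S)
  change P (pullback.snd snd'.left (T.left.affineCover.f i))
  rw [← P.cancel_left_of_respectsIso sq4.isoPullback.hom, sq4.isoPullback_hom_snd]
  exact hP

end algsp

end Groth.Agent.Lib.helper15.AlgSpDiag
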