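import Mathlib
import Groth.Prelude.Def_Red2

/-!
# Functoriality of `Red.DS` (helper15)

* `isMonHom_specMap`: `Spec` of a bialgebra hom is a hom of monoid schemes.
* `isPullback_pullback_map`, `pullback_map_left_of_stable`: `(Over.pullback g).map h` is a base change
  of `h`.
* `isMonHom_DSmap`, `isClosedImmersion_DSmap_of_surjective`.
* `exists_surjective_zmod`: a non-trivial f.g. commutative group surjects onto some `ℤ/r`, `r` prime.
-/

set_option autoImplicit false
universe u
open CategoryTheory MonoidalCategory CartesianMonoidalCategory MonObj GrpObj AlgebraicGeometry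
  CategoryTheory.Limits

namespace Groth.Agent.Lib.helper15.DSMap

theorem isMonHom_specMap {R S T : Type u} [CommRing R] [CommRing S] [CommRing T] [Bialgebra R S]
    [Bialgebra R T] (f : S →ₐc[R] T) :
    IsMonHom ((Spec.map (CommRingCat.ofHom (f : S →ₐ[R] T).toRingHom)).asOver
      (Spec (CommRingCat.of R))) := by
  have h := ((bialgSpec (CommRingCat.of R)).map (Quiver.Hom.op (CommBialgCat.ofHom f))).isMonHom_hom
  exact h

theorem isPullback_pullback_map {S S' : Scheme.{u}} (g : S' ⟶ S) {X Y : Over S} (h : X ⟶ Y) :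
    IsPullback ((Over.pullback g).map h).left (pullback.fst X.hom g) (pullback.fst Y.hom g)
      h.left := by
  have h1 : ((Over.pullback g).map h).left ≫ pullback.fst Y.hom g =
      pullback.fst X.hom g ≫ h.left := pullback.lift_fst _ _ _
  have h2 : ((Over.pullback g).map h).left ≫ pullback.snd Y.hom g = pullback.snd X.hom g :=
    pullback.lift_snd _ _ _
  refine IsPullback.of_right ?_ h1 (IsPullback.of_hasPullback Y.hom g).flip
  rw [h2, Over.w h]
  exact (IsPullback.of_hasPullback X.hom g).flip

theorem pullback_map_left_of_stable (P : MorphismProperty Scheme.{u}) [P.IsStableUnderBaseChange]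
    {S S' : Scheme.{u}} (g : S' ⟶ S) {X Y : Over S} (h : X ⟶ Y) (hh : P h.left) :
    P ((Over.pullback g).map h).left :=
  MorphismProperty.of_isPullback (isPullback_pullback_map g h).flip hh

section DS

variable {M N : Type} [AddCommGroup M] [AddCommGroup N]

instance isMonHom_diagMap (R : Type u) [CommRing R] (φ : M →+ N) :
    IsMonHom (Red.diagMap R φ) :=
  isMonHom_specMap (MonoidAlgebra.mapDomainBialgHom R (AddMonoidHom.toMultiplicative φ))

instance isMonHom_DSmap (S : Scheme.{u}) (φ : M →+ N) : IsMonHom (Red.DSmap S φ) := by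
  unfold Red.DSmap
  infer_instance

theorem mapDomainAlgHom_surjective (R : Type u) [CommRing R] {G H : Type*} [Monoid G] [Monoid H]
    (f : G →* H) (hf : Function.Surjective f) :
    Function.Surjective (MonoidAlgebra.mapDomainAlgHom R R f) := by
  intro y
  induction y using MonoidAlgebra.induction_linear with
  | zero => exact ⟨0, map_zero _⟩
  | add x y hx hy =>
    obtain ⟨a, rfl⟩ := hx
    obtain ⟨b, rfl⟩ := hy
    exact ⟨a + b, map_add _ _ _⟩
  | single q r =>
    obtain ⟨m, rfl⟩ := hf q
    refine ⟨MonoidAlgebra.single m r, ?_⟩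
    rw [MonoidAlgebra.mapDomainAlgHom_apply, MonoidAlgebra.mapDomain_single]

theorem isClosedImmersion_diagMap (R : Type u) [CommRing R] (φ : M →+ N)
    (hφ : Function.Surjective φ) : IsClosedImmersion (Red.diagMap R φ).left := by
  have h1 : Function.Surjective (MonoidAlgebra.mapDomainAlgHom R R
      (AddMonoidHom.toMultiplicative φ)) :=
    mapDomainAlgHom_surjective R _ hφ
  exact IsClosedImmersion.spec_of_surjective
    (CommRingCat.ofHom (MonoidAlgebra.mapDomainAlgHom R R
      (AddMonoidHom.toMultiplicative φ)).toRingHom) h1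

theorem isClosedImmersion_DSmap_of_surjective (S : Scheme.{u}) (φ : M →+ N)
    (hφ : Function.Surjective φ) : IsClosedImmersion (Red.DSmap S φ).left :=
  pullback_map_left_of_stable @IsClosedImmersion _ _ (isClosedImmersion_diagMap _ φ hφ)

end DS

theorem exists_surjective_zmod (M : Type*) [AddCommGroup M] [AddGroup.FG M] [Nontrivial M] :
    ∃ (r : ℕ) (_ : r.Prime) (φ : M →+ ZMod r), Function.Surjective φ := by
  have hfin : Module.Finite ℤ M := Module.Finite.iff_addGroup_fg.mpr inferInstance
  have hco : IsCoatomic (Submodule ℤ M) := inferInstance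
  obtain ⟨N, hN, -⟩ := (eq_top_or_exists_le_coatom (⊥ : Submodule ℤ M)).resolve_left bot_ne_top
  have hsim : IsSimpleModule ℤ (M ⧸ N) := isSimpleModule_iff_isCoatom.mpr hN
  obtain ⟨I, hI, ⟨e⟩⟩ := isSimpleModule_iff_quot_maximal.mp hsim
  obtain ⟨a, rfl⟩ : ∃ a : ℤ, I = Ideal.span {a} := (IsPrincipalIdealRing.principal I).principal
  have ha0 : a ≠ 0 := by
    rintro rfl
    have h1 : (Ideal.span {(0 : ℤ)}) = ⊥ := by simp
    rw [h1] at hI
    exact Int.not_isField (Ring.isField_iff_maximal_bot.mpr hI)
  have hprime : Prime a := (Ideal.span_singleton_prime ha0).mp hI.isPrime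
  have hp : a.natAbs.Prime := Int.prime_iff_natAbs_prime.mp hprime
  refine ⟨a.natAbs, hp, ?_⟩
  let ψ : M →+ ZMod a.natAbs :=
    ((Int.quotientSpanEquivZMod a).toAddEquiv.toAddMonoidHom.comp
      e.toAddEquiv.toAddMonoidHom).comp N.mkQ.toAddMonoidHom
  refine ⟨ψ, ?_⟩
  exact ((Int.quotientSpanEquivZMod a).surjective.comp e.surjective).comp N.mkQ_surjective

end Groth.Agent.Lib.helper15.DSMap
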