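import Mathlib
import Groth.Prelude.Def_Red2

/-!
# Points of `Red.Ga S` and `Red.Gm S` (helper15)

For a Hopf algebra `A` over `R`, `f : S ⟶ Spec R` and `G = Spec A` over `Spec R`, a point
`x : X ⟶ (Over.pullback f).obj G` has a ring homomorphism `pt f x : A →+* Γ(X.left, ⊤)`.
* `pt_injective`, `pt_mul_apply` (multiplication of points ↔ convolution), `pt_comp`.
* `gaFn`/`gmFn` API: `gaFn_injective`, `gaFn_mul`, `gaFn_one`, `gaFn_inv`, `gaFn_comp`,
  `exists_gaFn_eq`, and similarly for `gmFn` (`gmFn_mul`, `isUnit_gmFn`, `exists_gmFn_eq`).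
-/

set_option autoImplicit false

namespace Groth.Agent.Lib.helper15.GaGm

open CategoryTheory MonoidalCategory CartesianMonoidalCategory MonObj GrpObj AlgebraicGeometry Limits
open scoped TensorProduct

universe u

section General

variable {R : Type u} [CommRing R] {A : Type u} [CommRing A] [HopfAlgebra R A]
variable {S : Scheme.{u}} (f : S ⟶ Spec (CommRingCat.of R))

/-- `Spec A` as a group scheme over `Spec R` -/
noncomputable abbrev GA (R : Type u) [CommRing R] (A : Type u) [CommRing A] [HopfAlgebra R A] :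
    Over (Spec (CommRingCat.of R)) :=
  (Spec (CommRingCat.of A)).asOver (Spec (CommRingCat.of R))

instance : IsAffine (GA R A).left := inferInstanceAs (IsAffine (Spec (CommRingCat.of A)))

/-- the ring homomorphism `A → Γ(X)` of a point of the base change of `Spec A` -/
noncomputable def pt {X : Over S} (x : X ⟶ (Over.pullback f).obj (GA R A)) :
    A →+* Γ(X.left, ⊤) :=
  ((Scheme.ΓSpecIso (CommRingCat.of A)).inv ≫ (x.left ≫ pullback.fst _ _).appTop).hom

lemma pt_apply {X : Over S} (x : X ⟶ (Over.pullback f).obj (GA R A)) (a : A) :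
    pt f x a = (x.left ≫ pullback.fst _ _).appTop ((Scheme.ΓSpecIso (CommRingCat.of A)).inv a) :=
  rfl

lemma pt_comp {X Y : Over S} (g : Y ⟶ X) (x : X ⟶ (Over.pullback f).obj (GA R A)) (a : A) :
    pt f (g ≫ x) a = g.left.appTop (pt f x a) := by
  simp only [pt_apply, Over.comp_left, Category.assoc, Scheme.Hom.comp_appTop]
  rfl

lemma pt_injective {X : Over S} : Function.Injective
    (pt f : (X ⟶ (Over.pullback f).obj (GA R A)) → (A →+* Γ(X.left, ⊤))) := by
  intro x y h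
  have h1 : x.left ≫ pullback.fst _ _ = y.left ≫ pullback.fst _ _ := by
    apply ext_of_isAffine
    have h2 : (Scheme.ΓSpecIso (CommRingCat.of A)).inv ≫ (x.left ≫ pullback.fst _ _).appTop =
        (Scheme.ΓSpecIso (CommRingCat.of A)).inv ≫ (y.left ≫ pullback.fst _ _).appTop :=
      CommRingCat.hom_ext h
    exact (Iso.cancel_iso_inv_left _ _ _).1 h2
  have h3 : x.left ≫ pullback.snd _ _ = y.left ≫ pullback.snd _ _ := by
    have hx := Over.w x
    have hy := Over.w y
    exact hx.trans hy.symm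
  exact Over.OverMorphism.ext (pullback.hom_ext h1 h3)

/-- the morphism over `Spec R` corresponding to a point of the base change -/
noncomputable def phi {X : Over S} (x : X ⟶ (Over.pullback f).obj (GA R A)) :
    (Over.map f).obj X ⟶ GA R A :=
  Over.homMk (x.left ≫ pullback.fst _ _) (by
    have hx := Over.w x
    simp only [Over.pullback_obj_hom] at hx
    simp only [Over.map_obj_hom, Category.assoc]
    rw [pullback.condition, ← Category.assoc, hx])

@[simp] lemma phi_left {X : Over S} (x : X ⟶ (Over.pullback f).obj (GA R A)) :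
    (phi f x).left = x.left ≫ pullback.fst _ _ := rfl

lemma mul_left_fst {X : Over S} (x y : X ⟶ (Over.pullback f).obj (GA R A)) :
    (x * y).left ≫ pullback.fst _ _ = (lift (phi f x) (phi f y) ≫ μ[GA R A]).left := by
  have h1 : x * y = lift x y ≫ Functor.LaxMonoidal.μ (Over.pullback f) (GA R A) (GA R A) ≫
      (Over.pullback f).map μ[GA R A] := rfl
  rw [h1]
  simp only [Over.comp_left, Category.assoc, Over.pullback_map_left, pullback.lift_fst]
  have h2 : (lift x y).left ≫ (Functor.LaxMonoidal.μ (Over.pullback f) (GA R A) (GA R A)).left ≫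
      pullback.fst (GA R A ⊗ GA R A).hom f = (lift (phi f x) (phi f y)).left := by
    apply pullback.hom_ext
    · simp only [Category.assoc]
      rw [Over.μ_pullback_left_fst_fst]
      simp only [Over.lift_left, phi_left]
      rw [pullback.lift_fst_assoc, pullback.lift_fst]
    · simp only [Category.assoc]
      rw [Over.μ_pullback_left_fst_snd]
      simp only [Over.lift_left, phi_left]
      rw [pullback.lift_snd_assoc, pullback.lift_snd]
  rw [← h2]
  simp only [Category.assoc]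

/-- naturality of `ΓSpecIso.inv` on elements -/
lemma specMap_appTop_inv {B C : Type u} [CommRing B] [CommRing C] (g : B →+* C) (b : B) :
    (Spec.map (CommRingCat.ofHom g)).appTop ((Scheme.ΓSpecIso (CommRingCat.of B)).inv b) =
      (Scheme.ΓSpecIso (CommRingCat.of C)).inv (g b) := by
  have h := Scheme.ΓSpecIso_inv_naturality (CommRingCat.ofHom g)
  have h2 := congrArg (fun t => t.hom b) h
  exact h2.symm

variable (R A) in
/-- `pullbackSpecIso` with the source written as `(GA R A ⊗ GA R A).left` -/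
noncomputable def prodIso : (GA R A ⊗ GA R A).left ≅ Spec (CommRingCat.of (A ⊗[R] A)) :=
  pullbackSpecIso R A A

lemma mul_left_eq : μ[GA R A].left =
    (prodIso R A).hom ≫ Spec.map (CommRingCat.ofHom (Bialgebra.comulAlgHom R A).toRingHom) :=
  rfl

lemma prodIso_hom_fst : (prodIso R A).hom ≫
    Spec.map (CommRingCat.ofHom (Algebra.TensorProduct.includeLeftRingHom : A →+* A ⊗[R] A)) =
      (fst (GA R A) (GA R A)).left :=
  pullbackSpecIso_hom_fst R A A

lemma prodIso_hom_snd : (prodIso R A).hom ≫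
    Spec.map (CommRingCat.ofHom
      (RingHomClass.toRingHom (Algebra.TensorProduct.includeRight : A →ₐ[R] A ⊗[R] A))) =
      (snd (GA R A) (GA R A)).left :=
  pullbackSpecIso_hom_snd R A A

/-- the ring hom `A ⊗ A → Γ(X)` of a pair of points -/
noncomputable def pt₂ {X : Over S} (x y : X ⟶ (Over.pullback f).obj (GA R A)) :
    A ⊗[R] A →+* Γ(X.left, ⊤) :=
  ((Scheme.ΓSpecIso (CommRingCat.of (A ⊗[R] A))).inv ≫
    ((lift (phi f x) (phi f y)).left ≫ (prodIso R A).hom).appTop).hom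

lemma pt₂_apply {X : Over S} (x y : X ⟶ (Over.pullback f).obj (GA R A)) (t : A ⊗[R] A) :
    pt₂ f x y t = ((lift (phi f x) (phi f y)).left ≫ (prodIso R A).hom).appTop
      ((Scheme.ΓSpecIso (CommRingCat.of (A ⊗[R] A))).inv t) := rfl

lemma appTop_comp3 {X Y Z W : Scheme.{u}} (a : X ⟶ Y) (b : Y ⟶ Z) (c : Z ⟶ W) (s : Γ(W, ⊤)) :
    (a ≫ b ≫ c).appTop s = (a ≫ b).appTop (c.appTop s) := by
  rw [← Category.assoc, Scheme.Hom.comp_appTop]; rfl

lemma pt_mul_eq {X : Over S} (x y : X ⟶ (Over.pullback f).obj (GA R A)) (a : A) :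
    pt f (x * y) a = pt₂ f x y (CoalgebraStruct.comul (R := R) a) := by
  rw [pt_apply, mul_left_fst]
  refine (appTop_comp3 (lift (phi f x) (phi f y)).left (prodIso R A).hom
    (Spec.map (CommRingCat.ofHom (Bialgebra.comulAlgHom R A).toRingHom)) _).trans ?_
  rw [specMap_appTop_inv]
  rfl

lemma pt₂_includeLeft {X : Over S} (x y : X ⟶ (Over.pullback f).obj (GA R A)) (a : A) :
    pt₂ f x y (a ⊗ₜ[R] 1) = pt f x a := by
  have h1 : (a ⊗ₜ[R] (1 : A)) = (Algebra.TensorProduct.includeLeftRingHom : A →+* A ⊗[R] A) a := rfl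
  rw [pt₂_apply, h1, ← specMap_appTop_inv]
  refine (appTop_comp3 (lift (phi f x) (phi f y)).left (prodIso R A).hom
    (Spec.map (CommRingCat.ofHom
      (Algebra.TensorProduct.includeLeftRingHom : A →+* A ⊗[R] A))) _).symm.trans ?_
  rw [pt_apply]
  have h2 : (lift (phi f x) (phi f y)).left ≫ (prodIso R A).hom ≫
      Spec.map (CommRingCat.ofHom (Algebra.TensorProduct.includeLeftRingHom : A →+* A ⊗[R] A)) =
      x.left ≫ pullback.fst _ _ := by
    have e1 := prodIso_hom_fst (R := R) (A := A)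
    have e2 := congrArg Over.Hom.left (lift_fst (phi f x) (phi f y))
    exact (congrArg (fun t => (lift (phi f x) (phi f y)).left ≫ t) e1).trans e2
  rw [h2]
  rfl

lemma pt₂_includeRight {X : Over S} (x y : X ⟶ (Over.pullback f).obj (GA R A)) (a : A) :
    pt₂ f x y (1 ⊗ₜ[R] a) = pt f y a := by
  have h1 : ((1 : A) ⊗ₜ[R] a) =
    (RingHomClass.toRingHom (Algebra.TensorProduct.includeRight : A →ₐ[R] A ⊗[R] A)) a := rfl
  rw [pt₂_apply, h1, ← specMap_appTop_inv]
  refine (appTop_comp3 (lift (phi f x) (phi f y)).left (prodIso R A).hom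
    (Spec.map (CommRingCat.ofHom
      (RingHomClass.toRingHom (Algebra.TensorProduct.includeRight : A →ₐ[R] A ⊗[R] A)))) _).symm.trans ?_
  rw [pt_apply]
  have h2 : (lift (phi f x) (phi f y)).left ≫ (prodIso R A).hom ≫
      Spec.map (CommRingCat.ofHom
        (RingHomClass.toRingHom (Algebra.TensorProduct.includeRight : A →ₐ[R] A ⊗[R] A))) =
      y.left ≫ pullback.fst _ _ := by
    have e1 := prodIso_hom_snd (R := R) (A := A)
    have e2 := congrArg Over.Hom.left (lift_snd (phi f x) (phi f y))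
    exact (congrArg (fun t => (lift (phi f x) (phi f y)).left ≫ t) e1).trans e2
  rw [h2]
  rfl

lemma pt₂_tmul {X : Over S} (x y : X ⟶ (Over.pullback f).obj (GA R A)) (a b : A) :
    pt₂ f x y (a ⊗ₜ[R] b) = pt f x a * pt f y b := by
  have h : a ⊗ₜ[R] b = (a ⊗ₜ[R] 1) * (1 ⊗ₜ[R] b) := by simp
  rw [h, map_mul, pt₂_includeLeft, pt₂_includeRight]

/-- **multiplication of points is convolution** (primitive elements) -/
lemma pt_mul_of_prim {X : Over S} (x y : X ⟶ (Over.pullback f).obj (GA R A)) (a : A)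
    (ha : CoalgebraStruct.comul (R := R) a = a ⊗ₜ[R] 1 + 1 ⊗ₜ[R] a) :
    pt f (x * y) a = pt f x a + pt f y a := by
  rw [pt_mul_eq, ha, map_add, pt₂_includeLeft, pt₂_includeRight]

/-- **multiplication of points is convolution** (group-like elements) -/
lemma pt_mul_of_grouplike {X : Over S} (x y : X ⟶ (Over.pullback f).obj (GA R A)) (a : A)
    (ha : CoalgebraStruct.comul (R := R) a = a ⊗ₜ[R] a) :
    pt f (x * y) a = pt f x a * pt f y a := by
  rw [pt_mul_eq, ha, pt₂_tmul]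

/-- every compatible ring hom comes from a point -/
lemma exists_pt_eq {X : Over S} (g : A →+* Γ(X.left, ⊤))
    (hg : (X.left.toSpecΓ ≫ Spec.map (CommRingCat.ofHom g)) ≫ (GA R A).hom = X.hom ≫ f) :
    ∃ x : X ⟶ (Over.pullback f).obj (GA R A), pt f x = g := by
  let x : X ⟶ (Over.pullback f).obj (GA R A) :=
    Over.homMk (pullback.lift (X.left.toSpecΓ ≫ Spec.map (CommRingCat.ofHom g)) X.hom hg)
      (pullback.lift_snd _ _ _)
  refine ⟨x, ?_⟩
  ext a
  rw [pt_apply]
  have h1 : x.left ≫ pullback.fst _ _ = X.left.toSpecΓ ≫ Spec.map (CommRingCat.ofHom g) :=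
    pullback.lift_fst _ _ _
  rw [h1]
  show X.left.toSpecΓ.appTop ((Spec.map (CommRingCat.ofHom g)).appTop
    ((Scheme.ΓSpecIso (CommRingCat.of A)).inv a)) = g a
  rw [specMap_appTop_inv, Scheme.toSpecΓ_appTop]
  exact Iso.inv_hom_id_apply (C := CommRingCat) _ _

end General

section Ga

variable {S : Scheme.{u}}

/-- the structure morphism `S ⟶ Spec ℤ` -/
noncomputable abbrev fS (S : Scheme.{u}) : S ⟶ Spec (CommRingCat.of (ULift.{u} ℤ)) :=
  Limits.IsTerminal.from specULiftZIsTerminal S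

/-- the coordinate of `𝔾_a` -/
noncomputable abbrev gaGen : SymmetricAlgebra (ULift.{u} ℤ) (ULift.{u} ℤ) :=
  SymmetricAlgebra.ι (ULift.{u} ℤ) (ULift.{u} ℤ) (ULift.up 1)

lemma gaFn_eq_pt {X : Over S} (x : X ⟶ Red.Ga S) :
    Red.gaFn x = pt (fS S) x gaGen := rfl

lemma gaFn_comp {X Y : Over S} (g : Y ⟶ X) (x : X ⟶ Red.Ga S) :
    Red.gaFn (g ≫ x) = g.left.appTop (Red.gaFn x) := by
  rw [gaFn_eq_pt, gaFn_eq_pt, pt_comp]

lemma gaFn_mul {X : Over S} (x y : X ⟶ Red.Ga S) :
    Red.gaFn (x * y) = Red.gaFn x + Red.gaFn y := by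
  rw [gaFn_eq_pt, gaFn_eq_pt, gaFn_eq_pt]
  exact pt_mul_of_prim (fS S) x y gaGen (SymmetricAlgebra.comul_ι _ _ _)

lemma gaFn_one {X : Over S} : Red.gaFn (1 : X ⟶ Red.Ga S) = 0 := by
  have h := gaFn_mul (1 : X ⟶ Red.Ga S) 1
  have e := _root_.mul_one (1 : X ⟶ Red.Ga S)
  rw [e] at h
  exact left_eq_add.1 h

lemma gaFn_inv {X : Over S} (x : X ⟶ Red.Ga S) : Red.gaFn x⁻¹ = - Red.gaFn x := by
  have h := gaFn_mul x⁻¹ x
  rw [inv_mul_cancel, gaFn_one] at h
  exact eq_neg_of_add_eq_zero_left h.symm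

/-- ring homs out of `ℤ[x]` agreeing at `x` are equal -/
lemma ringHom_ext_sym {B : Type u} [CommRing B]
    (g h : SymmetricAlgebra (ULift.{u} ℤ) (ULift.{u} ℤ) →+* B) (e : g gaGen = h gaGen) : g = h := by
  ext a
  refine SymmetricAlgebra.induction _ _ (motive := fun a => g a = h a) ?_ ?_ ?_ ?_ a
  · intro r
    have hr : algebraMap (ULift.{u} ℤ) (SymmetricAlgebra (ULift.{u} ℤ) (ULift.{u} ℤ)) r =
        ((r.down : ℤ) : SymmetricAlgebra (ULift.{u} ℤ) (ULift.{u} ℤ)) := by
      have : r = ((r.down : ℤ) : ULift.{u} ℤ) := by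
        apply ULift.ext; simp
      conv_lhs => rw [this]
      rw [map_intCast]
    rw [hr, map_intCast, map_intCast]
  · intro m
    have hm : SymmetricAlgebra.ι (ULift.{u} ℤ) (ULift.{u} ℤ) m = (m.down : ℤ) • gaGen := by
      rw [gaGen, ← map_zsmul]
      congr 1
      apply ULift.ext
      simp
    rw [hm, map_zsmul, map_zsmul, e]
  · intro a b ha hb
    rw [map_mul, map_mul, ha, hb]
  · intro a b ha hb
    rw [map_add, map_add, ha, hb]

lemma gaFn_injective {X : Over S} :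
    Function.Injective (Red.gaFn : (X ⟶ Red.Ga S) → Γ(X.left, ⊤)) := by
  intro x y h
  apply pt_injective (fS S)
  exact ringHom_ext_sym _ _ h

lemma exists_gaFn_eq {X : Over S} (t : Γ(X.left, ⊤)) : ∃ x : X ⟶ Red.Ga S, Red.gaFn x = t := by
  let _ : Algebra (ULift.{u} ℤ) Γ(X.left, ⊤) := ULift.algebra' ℤ Γ(X.left, ⊤)
  let g : SymmetricAlgebra (ULift.{u} ℤ) (ULift.{u} ℤ) →ₐ[ULift.{u} ℤ] Γ(X.left, ⊤) :=
    SymmetricAlgebra.lift (LinearMap.toSpanSingleton (ULift.{u} ℤ) Γ(X.left, ⊤) t)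
  obtain ⟨x, hx⟩ := exists_pt_eq (fS S) (X := X) (g.toRingHom)
    (specULiftZIsTerminal.hom_ext _ _)
  refine ⟨x, ?_⟩
  rw [gaFn_eq_pt, hx]
  show g gaGen = t
  simp only [g, gaGen, SymmetricAlgebra.lift_ι_apply, LinearMap.toSpanSingleton_apply]
  have : (ULift.up 1 : ULift.{u} ℤ) = 1 := rfl
  rw [this, one_smul]

end Ga

section Gm

variable {S : Scheme.{u}}

/-- the coordinate of `𝔾_m` -/
noncomputable abbrev gmGen : MonoidAlgebra (ULift.{u} ℤ) (Multiplicative ℤ) :=
  MonoidAlgebra.single (Multiplicative.ofAdd (1 : ℤ)) 1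

lemma gmFn_eq_pt {X : Over S} (t : X ⟶ Red.Gm S) :
    Red.gmFn t = pt (fS S) t gmGen := rfl

lemma gmFn_comp {X Y : Over S} (g : Y ⟶ X) (t : X ⟶ Red.Gm S) :
    Red.gmFn (g ≫ t) = g.left.appTop (Red.gmFn t) := by
  rw [gmFn_eq_pt, gmFn_eq_pt, pt_comp]

lemma comul_gmGen : CoalgebraStruct.comul (R := ULift.{u} ℤ) (gmGen.{u}) = gmGen ⊗ₜ[ULift.{u} ℤ] gmGen := by
  simp [gmGen, MonoidAlgebra.comul_single]

lemma gmFn_mul {X : Over S} (x y : X ⟶ Red.Gm S) :
    Red.gmFn (x * y) = Red.gmFn x * Red.gmFn y := by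
  rw [gmFn_eq_pt, gmFn_eq_pt, gmFn_eq_pt]
  exact pt_mul_of_grouplike (fS S) x y gmGen comul_gmGen

lemma isUnit_gmGen : IsUnit (gmGen.{u}) := by
  refine IsUnit.of_mul_eq_one (MonoidAlgebra.single (Multiplicative.ofAdd (-1 : ℤ)) 1) ?_
  rw [gmGen, MonoidAlgebra.single_mul_single, ← ofAdd_add]
  simp [MonoidAlgebra.one_def]

lemma isUnit_gmFn {X : Over S} (t : X ⟶ Red.Gm S) : IsUnit (Red.gmFn t) := by
  rw [gmFn_eq_pt]
  exact isUnit_gmGen.map _

lemma gmFn_one {X : Over S} : Red.gmFn (1 : X ⟶ Red.Gm S) = 1 := by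
  have h := gmFn_mul (1 : X ⟶ Red.Gm S) 1
  have e := _root_.mul_one (1 : X ⟶ Red.Gm S)
  rw [e] at h
  have hu := isUnit_gmFn (1 : X ⟶ Red.Gm S)
  exact (hu.mul_left_cancel (by rw [← h, _root_.mul_one])).symm

lemma gmFn_inv_mul {X : Over S} (t : X ⟶ Red.Gm S) : Red.gmFn t⁻¹ * Red.gmFn t = 1 := by
  rw [← gmFn_mul, inv_mul_cancel, gmFn_one]

lemma gmFn_mul_inv {X : Over S} (t : X ⟶ Red.Gm S) : Red.gmFn t * Red.gmFn t⁻¹ = 1 := by
  rw [← gmFn_mul, mul_inv_cancel, gmFn_one]

lemma gmFn_pow {X : Over S} (t : X ⟶ Red.Gm S) (n : ℕ) : Red.gmFn (t ^ n) = Red.gmFn t ^ n := by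
  induction n with
  | zero => rw [pow_zero, pow_zero, gmFn_one]
  | succ n ih => rw [pow_succ, pow_succ, gmFn_mul, ih]

/-- ring homs out of `ℤ[x, x⁻¹]` agreeing at `x` are equal -/
lemma ringHom_ext_laurent {B : Type u} [CommRing B]
    (g h : MonoidAlgebra (ULift.{u} ℤ) (Multiplicative ℤ) →+* B) (e : g gmGen = h gmGen) : g = h := by
  apply MonoidAlgebra.ringHom_ext
  · intro b
    have hb : (MonoidAlgebra.single (1 : Multiplicative ℤ) b :
        MonoidAlgebra (ULift.{u} ℤ) (Multiplicative ℤ)) =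
        ((b.down : ℤ) : MonoidAlgebra (ULift.{u} ℤ) (Multiplicative ℤ)) := by
      have : b = ((b.down : ℤ) : ULift.{u} ℤ) := by
        apply ULift.ext; simp
      conv_lhs => rw [this]
      rw [← MonoidAlgebra.intCast_def]
    rw [hb, map_intCast, map_intCast]
  · intro a
    let φg : Multiplicative ℤ →* B := (g : _ →* B).comp (MonoidAlgebra.of (ULift.{u} ℤ) (Multiplicative ℤ))
    let φh : Multiplicative ℤ →* B := (h : _ →* B).comp (MonoidAlgebra.of (ULift.{u} ℤ) (Multiplicative ℤ))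
    have : φg = φh := MonoidHom.ext_mint e
    exact congrArg (fun φ => φ a) this

lemma gmFn_injective {X : Over S} :
    Function.Injective (Red.gmFn : (X ⟶ Red.Gm S) → Γ(X.left, ⊤)) := by
  intro x y h
  apply pt_injective (fS S)
  exact ringHom_ext_laurent _ _ h

lemma exists_gmFn_eq {X : Over S} (u : Γ(X.left, ⊤)) (hu : IsUnit u) :
    ∃ t : X ⟶ Red.Gm S, Red.gmFn t = u := by
  let _ : Algebra (ULift.{u} ℤ) Γ(X.left, ⊤) := ULift.algebra' ℤ Γ(X.left, ⊤)
  let g : MonoidAlgebra (ULift.{u} ℤ) (Multiplicative ℤ) →ₐ[ULift.{u} ℤ] Γ(X.left, ⊤) :=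
    MonoidAlgebra.lift (ULift.{u} ℤ) Γ(X.left, ⊤) (Multiplicative ℤ)
      ((Units.coeHom Γ(X.left, ⊤)).comp (zpowersHom Γ(X.left, ⊤)ˣ hu.unit))
  obtain ⟨t, ht⟩ := exists_pt_eq (fS S) (X := X) (g.toRingHom)
    (specULiftZIsTerminal.hom_ext _ _)
  refine ⟨t, ?_⟩
  rw [gmFn_eq_pt, ht]
  show g gmGen = u
  simp [g, gmGen]

end Gm

end Groth.Agent.Lib.helper15.GaGm
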