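import Mathlib

/-!
# `R[G]` is free over `R[H]` for an injective group hom `H → G` (helper15)
-/

set_option autoImplicit false

namespace Groth.Agent.Lib.helper15.GroupAlgFree

open MonoidAlgebra

section Free
variable (R : Type*) [CommRing R] {G H : Type*} [CommGroup G] [CommGroup H] (ι : H →* G)

theorem mul_eq_mul_iff_of_out (hι : Function.Injective ι) (h h₀ : H) (q q₀ : G ⧸ ι.range) :
    ι h * q.out = ι h₀ * q₀.out ↔ q = q₀ ∧ h = h₀ := by
  constructor
  · intro e
    have h1 : (QuotientGroup.mk (ι h * q.out) : G ⧸ ι.range) = QuotientGroup.mk (ι h₀ * q₀.out) := by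
      rw [e]
    have h2 : ∀ (k : H) (p : G ⧸ ι.range), (QuotientGroup.mk (ι k * p.out) : G ⧸ ι.range) = p := by
      intro k p
      rw [QuotientGroup.mk_mul]
      have : (QuotientGroup.mk (ι k) : G ⧸ ι.range) = 1 := by
        rw [QuotientGroup.eq_one_iff]
        exact ⟨k, rfl⟩
      rw [this, one_mul]
      exact Quotient.out_eq' p
    rw [h2, h2] at h1
    subst h1
    exact ⟨rfl, hι (mul_right_cancel e)⟩
  · rintro ⟨rfl, rfl⟩
    rfl

theorem free_mapDomain (hι : Function.Injective ι) :
    letI := (MonoidAlgebra.mapDomainAlgHom R R ι).toRingHom.toAlgebra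
    Module.Free (MonoidAlgebra R H) (MonoidAlgebra R G) := by
  let _ := (MonoidAlgebra.mapDomainAlgHom R R ι).toRingHom.toAlgebra
  classical
  let b : G ⧸ ι.range → MonoidAlgebra R G := fun q => MonoidAlgebra.single q.out 1
  let Φ := Finsupp.linearCombination (MonoidAlgebra R H) b
  have hsmul : ∀ (a : MonoidAlgebra R H) (x : MonoidAlgebra R G),
      a • x = MonoidAlgebra.mapDomain ι a * x := fun _ _ => rfl
  have hΦ : ∀ (q : G ⧸ ι.range) (h : H) (r : R),
      Φ (Finsupp.single q (MonoidAlgebra.single h r)) = MonoidAlgebra.single (ι h * q.out) r := by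
    intro q h r
    rw [Finsupp.linearCombination_single, hsmul, MonoidAlgebra.mapDomain_single,
      MonoidAlgebra.single_mul_single, mul_one]
  have hsurj : Function.Surjective Φ := by
    intro x
    induction x using MonoidAlgebra.induction_linear with
    | zero => exact ⟨0, map_zero _⟩
    | add x y hx hy =>
      obtain ⟨a, rfl⟩ := hx
      obtain ⟨b, rfl⟩ := hy
      exact ⟨a + b, map_add _ _ _⟩
    | single g r =>
      have h1 : (QuotientGroup.mk g : G ⧸ ι.range).out⁻¹ * g ∈ ι.range := by
        rw [← QuotientGroup.eq]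
        exact Quotient.out_eq' _
      obtain ⟨h, hh⟩ := h1
      refine ⟨Finsupp.single (QuotientGroup.mk g) (MonoidAlgebra.single h r), ?_⟩
      rw [hΦ, hh, mul_comm, mul_inv_cancel_left]
  have key : ∀ (c : (G ⧸ ι.range) →₀ MonoidAlgebra R H) (q₀ : G ⧸ ι.range) (h₀ : H),
      (Φ c).coeff (ι h₀ * q₀.out) = (c q₀).coeff h₀ := by
    intro c q₀ h₀
    induction c using Finsupp.induction_linear with
    | zero => simp
    | add c d hc hd =>
      rw [map_add, MonoidAlgebra.coeff_add, Finsupp.add_apply, hc, hd, Finsupp.add_apply,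
        MonoidAlgebra.coeff_add, Finsupp.add_apply]
    | single q a =>
      induction a using MonoidAlgebra.induction_linear with
      | zero => simp
      | add x y hx hy =>
        rw [Finsupp.single_add, map_add, MonoidAlgebra.coeff_add, Finsupp.add_apply, hx, hy,
          Finsupp.add_apply, MonoidAlgebra.coeff_add, Finsupp.add_apply]
      | single h r =>
        rw [hΦ, MonoidAlgebra.coeff_single, Finsupp.single_apply, Finsupp.single_apply]
        by_cases hq : q = q₀
        · subst hq
          rw [if_pos rfl, MonoidAlgebra.coeff_single, Finsupp.single_apply]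
          by_cases hh : h = h₀
          · subst hh
            rw [if_pos rfl, if_pos rfl]
          · rw [if_neg hh, if_neg]
            intro e
            exact hh ((mul_eq_mul_iff_of_out ι hι _ _ _ _).mp e).2
        · rw [if_neg hq, if_neg]
          · rfl
          · intro e
            exact hq ((mul_eq_mul_iff_of_out ι hι _ _ _ _).mp e).1
  have hinj : Function.Injective Φ := by
    rw [injective_iff_map_eq_zero]
    intro c hc
    ext q₀ h₀
    rw [← key, hc]
    rfl
  exact Module.Free.of_equiv (LinearEquiv.ofBijective Φ ⟨hinj, hsurj⟩)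

theorem faithfullyFlat_mapDomain [Nontrivial R] (hι : Function.Injective ι) :
    (MonoidAlgebra.mapDomainAlgHom R R ι).toRingHom.FaithfullyFlat := by
  let _ := (MonoidAlgebra.mapDomainAlgHom R R ι).toRingHom.toAlgebra
  have := free_mapDomain R ι hι
  change Module.FaithfullyFlat (MonoidAlgebra R H) (MonoidAlgebra R G)
  infer_instance

theorem finitePresentation_mapDomain [Nontrivial R] [IsNoetherianRing R] [Group.FG G] [Group.FG H] :
    (MonoidAlgebra.mapDomainAlgHom R R ι).toRingHom.FinitePresentation := by
  refine RingHom.FinitePresentation.of_comp_finiteType (algebraMap R (MonoidAlgebra R H)) ?_ ?_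
  · have h1 : (MonoidAlgebra.mapDomainAlgHom R R ι).toRingHom.comp
        (algebraMap R (MonoidAlgebra R H)) = algebraMap R (MonoidAlgebra R G) :=
      (MonoidAlgebra.mapDomainAlgHom R R ι).comp_algebraMap
    rw [h1]
    have h2 : Algebra.FiniteType R (MonoidAlgebra R G) :=
      MonoidAlgebra.finiteType_iff_group_fg.mpr inferInstance
    have h3 : Algebra.FinitePresentation R (MonoidAlgebra R G) :=
      Algebra.FinitePresentation.of_finiteType.mp h2
    exact RingHom.finitePresentation_algebraMap.mpr h3
  · have h2 : Algebra.FiniteType R (MonoidAlgebra R H) :=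
      MonoidAlgebra.finiteType_iff_group_fg.mpr inferInstance
    exact RingHom.finiteType_algebraMap.mpr h2

end Free

end Groth.Agent.Lib.helper15.GroupAlgFree
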