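import Mathlib
import Groth.Prelude.Def_Red2
import Groth.Agent.Lib.Helper15.GaGm
import Groth.Agent.Lib.Helper15.DSMap
import Groth.Prelude.Def_NonAbH2
import Groth.Agent.Lib.Helper15.GroupAlgFree

/-!
# Points of `Red.DS S M` and the Kummer sequence (helper15)
-/

set_option autoImplicit false

namespace Groth.Agent.Lib.helper15.DSPts

open CategoryTheory MonoidalCategory CartesianMonoidalCategory MonObj GrpObj AlgebraicGeometry Limits
open scoped TensorProduct
open Groth.Agent.Lib.helper15.GaGm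

universe u

section General

variable {R : Type u} [CommRing R] {A B : Type u} [CommRing A] [CommRing B] [HopfAlgebra R A]
  [HopfAlgebra R B]
variable {S : Scheme.{u}} (f : S ⟶ Spec (CommRingCat.of R))

/-- `Spec` of an algebra hom as a morphism `GA R B ⟶ GA R A` -/
noncomputable abbrev specMap (φ : A →ₐ[R] B) : GA R B ⟶ GA R A :=
  (Spec.map (CommRingCat.ofHom φ.toRingHom)).asOver (Spec (CommRingCat.of R))

lemma pt_map (φ : A →ₐ[R] B) {X : Over S} (x : X ⟶ (Over.pullback f).obj (GA R B)) (a : A) :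
    pt f (x ≫ (Over.pullback f).map (specMap φ)) a = pt f x (φ a) := by
  rw [pt_apply, pt_apply]
  have h1 : (x ≫ (Over.pullback f).map (specMap φ)).left ≫ pullback.fst _ _ =
      (x.left ≫ pullback.fst _ _) ≫ Spec.map (CommRingCat.ofHom φ.toRingHom) := by
    simp only [Over.comp_left, Category.assoc, Over.pullback_map_left, pullback.lift_fst]
    rfl
  rw [h1]
  change (x.left ≫ pullback.fst _ _).appTop ((Spec.map (CommRingCat.ofHom φ.toRingHom)).appTop
    ((Scheme.ΓSpecIso (CommRingCat.of A)).inv a)) = _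
  rw [specMap_appTop_inv]
  rfl

end General

section DS

variable {S : Scheme.{u}} {M N : Type} [AddCommGroup M] [AddCommGroup N]

/-- the function `χ_m(x)` of a point `x` of `D_S(M)` and `m : M`. -/
noncomputable def dsFn {X : Over S} (x : X ⟶ Red.DS S M) (m : M) : Γ(X.left, ⊤) :=
  pt (fS S) x (MonoidAlgebra.single (Multiplicative.ofAdd m) 1)

lemma dsFn_def {X : Over S} (x : X ⟶ Red.DS S M) (m : M) :
    dsFn x m = pt (fS S) x (MonoidAlgebra.single (Multiplicative.ofAdd m) 1) := rfl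

lemma gmFn_eq_dsFn {X : Over S} (t : X ⟶ Red.Gm S) : Red.gmFn t = dsFn t (1 : ℤ) := rfl

lemma dsFn_zero {X : Over S} (x : X ⟶ Red.DS S M) : dsFn x 0 = 1 := by
  rw [dsFn_def, ofAdd_zero]
  exact map_one _

lemma dsFn_add {X : Over S} (x : X ⟶ Red.DS S M) (m m' : M) :
    dsFn x (m + m') = dsFn x m * dsFn x m' := by
  rw [dsFn_def, dsFn_def, dsFn_def, ← map_mul, MonoidAlgebra.single_mul_single, _root_.mul_one,
    ofAdd_add]

lemma dsFn_nsmul {X : Over S} (x : X ⟶ Red.DS S M) (m : M) (n : ℕ) :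
    dsFn x (n • m) = dsFn x m ^ n := by
  induction n with
  | zero => rw [zero_smul, pow_zero, dsFn_zero]
  | succ n ih => rw [succ_nsmul, dsFn_add, ih, pow_succ]

lemma dsFn_comp {X Y : Over S} (g : Y ⟶ X) (x : X ⟶ Red.DS S M) (m : M) :
    dsFn (g ≫ x) m = g.left.appTop (dsFn x m) := by
  rw [dsFn_def, dsFn_def, pt_comp]

lemma dsFn_DSmap {X : Over S} (φ : M →+ N) (x : X ⟶ Red.DS S N) (m : M) :
    dsFn (x ≫ Red.DSmap S φ) m = dsFn x (φ m) := by
  rw [dsFn_def, dsFn_def]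
  have h := pt_map (fS S) (MonoidAlgebra.mapDomainAlgHom (ULift.{u} ℤ) (ULift.{u} ℤ)
    (AddMonoidHom.toMultiplicative φ)) x (MonoidAlgebra.single (Multiplicative.ofAdd m) 1)
  rw [MonoidAlgebra.mapDomainAlgHom_apply, MonoidAlgebra.mapDomain_single] at h
  exact h

/-- ring homs out of `ℤ[M]` agreeing on `M` are equal -/
lemma ringHom_ext_groupAlg {B : Type u} [CommRing B]
    (g h : MonoidAlgebra (ULift.{u} ℤ) (Multiplicative M) →+* B)
    (e : ∀ m : M, g (MonoidAlgebra.single (Multiplicative.ofAdd m) 1) =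
      h (MonoidAlgebra.single (Multiplicative.ofAdd m) 1)) : g = h := by
  apply MonoidAlgebra.ringHom_ext
  · intro b
    have hb : (MonoidAlgebra.single (1 : Multiplicative M) b :
        MonoidAlgebra (ULift.{u} ℤ) (Multiplicative M)) =
        ((b.down : ℤ) : MonoidAlgebra (ULift.{u} ℤ) (Multiplicative M)) := by
      have : b = ((b.down : ℤ) : ULift.{u} ℤ) := by
        apply ULift.ext; simp
      conv_lhs => rw [this]
      rw [← MonoidAlgebra.intCast_def]
    rw [hb, map_intCast, map_intCast]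
  · intro a
    exact e a.toAdd

lemma dsFn_injective {X : Over S} (x y : X ⟶ Red.DS S M) (h : ∀ m, dsFn x m = dsFn y m) :
    x = y := by
  apply pt_injective (fS S)
  exact ringHom_ext_groupAlg _ _ h

lemma exists_dsFn_eq {X : Over S} (ψ : Multiplicative M →* Γ(X.left, ⊤)) :
    ∃ x : X ⟶ Red.DS S M, ∀ m : M, dsFn x m = ψ (Multiplicative.ofAdd m) := by
  let _ : Algebra (ULift.{u} ℤ) Γ(X.left, ⊤) := ULift.algebra' ℤ Γ(X.left, ⊤)
  let g : MonoidAlgebra (ULift.{u} ℤ) (Multiplicative M) →ₐ[ULift.{u} ℤ] Γ(X.left, ⊤) :=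
    MonoidAlgebra.lift (ULift.{u} ℤ) Γ(X.left, ⊤) (Multiplicative M) ψ
  obtain ⟨t, ht⟩ := exists_pt_eq (fS S) (X := X) (g.toRingHom)
    (specULiftZIsTerminal.hom_ext _ _)
  refine ⟨t, fun m => ?_⟩
  rw [dsFn_def, ht]
  show g _ = _
  simp [g]

lemma dsFn_mul {X : Over S} (x y : X ⟶ Red.DS S M) (m : M) :
    dsFn (x * y) m = dsFn x m * dsFn y m :=
  pt_mul_of_grouplike (fS S) x y _ (by simp)

end DS

section Cat

theorem isPullback_of_kernel {C : Type*} [Category C] [CartesianMonoidalCategory C]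
    {G G' G'' : C} [GrpObj G] [GrpObj G'] [GrpObj G''] (u : G' ⟶ G) (v : G ⟶ G'')
    [IsMonHom u] [IsMonHom v]
    (hex : ∀ (T : C) (c : T ⟶ G), c ≫ v = 1 → ∃ z : T ⟶ G', z ≫ u = c)
    (huniq : ∀ (T : C) (z z' : T ⟶ G'), z ≫ u = z' ≫ u → z = z')
    (huv : u ≫ v = 1) :
    IsPullback (fst G G') ((G ◁ u) ≫ μ[G]) v v := by
  have hact : (G ◁ u) ≫ μ[G] = fst G G' * (snd G G' ≫ u) := by
    rw [Hom.mul_def]
    congr 1
    ext <;> simp
  have hw : fst G G' ≫ v = ((G ◁ u) ≫ μ[G]) ≫ v := by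
    rw [hact, MonObj.mul_comp, Category.assoc, huv, MonObj.comp_one, _root_.mul_one]
  have hc : ∀ s : PullbackCone v v, (s.fst⁻¹ * s.snd) ≫ v = 1 := by
    intro s
    rw [MonObj.mul_comp, GrpObj.inv_comp, s.condition, inv_mul_cancel]
  refine ⟨⟨hw⟩, ⟨PullbackCone.IsLimit.mk hw
    (fun s => lift s.fst (hex _ _ (hc s)).choose) ?_ ?_ ?_⟩⟩
  · intro s
    exact lift_fst _ _
  · intro s
    rw [hact, MonObj.comp_mul, lift_fst, lift_snd_assoc, (hex _ _ (hc s)).choose_spec,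
      mul_inv_cancel_left]
  · intro s m h1 h2
    have h3 : (m ≫ snd G G') ≫ u = s.fst⁻¹ * s.snd := by
      rw [hact, MonObj.comp_mul, h1] at h2
      rw [← h2, inv_mul_cancel_left, Category.assoc]
    have h4 : m ≫ snd G G' = (hex _ _ (hc s)).choose :=
      huniq _ _ _ (h3.trans (hex _ _ (hc s)).choose_spec.symm)
    ext
    · rw [lift_fst, h1]
    · rw [lift_snd, h4]

end Cat

section Kummer

variable {S : Scheme.{u}}

lemma gmFn_comp_chi {X : Over S} (c : X ⟶ Red.Gm S) (k : ℕ) :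
    Red.gmFn (c ≫ Red.chi S ((k : ℤ) : ℤ)) = Red.gmFn c ^ k := by
  rw [gmFn_eq_dsFn, Red.chi, dsFn_DSmap, gmFn_eq_dsFn, ← dsFn_nsmul]
  congr 1
  simp

lemma gmFn_comp_cast (n : ℕ) {X : Over S} (z : X ⟶ Red.DS S (ZMod n)) :
    Red.gmFn (z ≫ Red.DSmap S (Int.castAddHom (ZMod n))) = dsFn z 1 := by
  rw [gmFn_eq_dsFn, dsFn_DSmap]
  congr 1
  simp

lemma dsFn_zmod (n : ℕ) [NeZero n] {X : Over S} (z : X ⟶ Red.DS S (ZMod n)) (k : ZMod n) :
    dsFn z k = dsFn z 1 ^ k.val := by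
  rw [← dsFn_nsmul]
  congr 1
  simp

theorem kummer_comp (n : ℕ) :
    Red.DSmap S (Int.castAddHom (ZMod n)) ≫ Red.chi S ((n : ℤ) : ℤ) = 1 := by
  apply gmFn_injective
  rw [gmFn_comp_chi, ← Category.id_comp (Red.DSmap S (Int.castAddHom (ZMod n))), gmFn_comp_cast,
    gmFn_one, ← dsFn_nsmul]
  have : n • (1 : ZMod n) = 0 := by simp
  rw [this, dsFn_zero]

theorem kummer_exists (n : ℕ) [NeZero n] {X : Over S} (c : X ⟶ Red.Gm S)
    (hc : c ≫ Red.chi S ((n : ℤ) : ℤ) = 1) :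
    ∃ z : X ⟶ Red.DS S (ZMod n), z ≫ Red.DSmap S (Int.castAddHom (ZMod n)) = c := by
  have ht : Red.gmFn c ^ n = 1 := by
    rw [← gmFn_comp_chi, hc, gmFn_one]
  let ψ : Multiplicative (ZMod n) →* Γ(X.left, ⊤) :=
    { toFun := fun k => Red.gmFn c ^ (Multiplicative.toAdd k).val
      map_one' := by
        change Red.gmFn c ^ (0 : ZMod n).val = 1
        rw [ZMod.val_zero, pow_zero]
      map_mul' := fun a b => by
        change Red.gmFn c ^ (Multiplicative.toAdd a + Multiplicative.toAdd b).val = _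
        rw [ZMod.val_add, ← pow_eq_pow_mod _ ht, pow_add] }
  obtain ⟨z, hz⟩ := exists_dsFn_eq (S := S) ψ
  refine ⟨z, ?_⟩
  apply gmFn_injective
  rw [gmFn_comp_cast, hz]
  change Red.gmFn c ^ (1 : ZMod n).val = _
  rw [ZMod.val_one_eq_one_mod, ← pow_eq_pow_mod _ ht, pow_one]

theorem kummer_unique (n : ℕ) [NeZero n] {X : Over S} (z z' : X ⟶ Red.DS S (ZMod n))
    (h : z ≫ Red.DSmap S (Int.castAddHom (ZMod n)) = z' ≫ Red.DSmap S (Int.castAddHom (ZMod n))) :
    z = z' := by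
  have h1 : dsFn z 1 = dsFn z' 1 := by
    rw [← gmFn_comp_cast, ← gmFn_comp_cast, h]
  apply dsFn_injective
  intro k
  rw [dsFn_zmod, dsFn_zmod n z', h1]

theorem kummer_isPullback (n : ℕ) [NeZero n] :
    IsPullback (fst (Red.Gm S) (Red.DS S (ZMod n)))
      ((Red.Gm S ◁ Red.DSmap S (Int.castAddHom (ZMod n))) ≫ μ[Red.Gm S])
      (Red.chi S ((n : ℤ) : ℤ)) (Red.chi S ((n : ℤ) : ℤ)) := by
  have : IsMonHom (Red.chi S ((n : ℤ) : ℤ)) := by
    unfold Red.chi
    infer_instance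
  exact isPullback_of_kernel _ _ (fun T c hc => kummer_exists n c hc)
    (fun T z z' h => kummer_unique n z z' h) (kummer_comp n)

lemma injective_zmultiples (n : ℕ) [NeZero n] :
    Function.Injective (AddMonoidHom.toMultiplicative (zmultiplesHom ℤ ((n : ℤ) : ℤ))) := by
  intro a b h
  have h1 : (zmultiplesHom ℤ ((n : ℤ) : ℤ)) (Multiplicative.toAdd a) =
      (zmultiplesHom ℤ ((n : ℤ) : ℤ)) (Multiplicative.toAdd b) := congrArg Multiplicative.toAdd h
  simp only [zmultiplesHom_apply, smul_eq_mul] at h1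
  have hn : ((n : ℤ) : ℤ) ≠ 0 := by exact_mod_cast NeZero.ne n
  exact Multiplicative.toAdd.injective (mul_right_cancel₀ hn h1)

theorem kummer_cover (n : ℕ) [NeZero n] :
    Flat (Red.chi S ((n : ℤ) : ℤ)).left ∧ Surjective (Red.chi S ((n : ℤ) : ℤ)).left ∧
      LocallyOfFinitePresentation (Red.chi S ((n : ℤ) : ℤ)).left := by
  have hinj := injective_zmultiples n
  have hff := Groth.Agent.Lib.helper15.GroupAlgFree.faithfullyFlat_mapDomain (ULift.{u} ℤ)
    (AddMonoidHom.toMultiplicative (zmultiplesHom ℤ ((n : ℤ) : ℤ))) hinj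
  have hnoeth : IsNoetherianRing (ULift.{u} ℤ) :=
    isNoetherianRing_of_ringEquiv ℤ ULift.ringEquiv.symm
  have hfp := Groth.Agent.Lib.helper15.GroupAlgFree.finitePresentation_mapDomain (ULift.{u} ℤ)
    (AddMonoidHom.toMultiplicative (zmultiplesHom ℤ ((n : ℤ) : ℤ)))
  have h1 := (flat_and_surjective_SpecMap_iff (CommRingCat.ofHom
    (MonoidAlgebra.mapDomainAlgHom (ULift.{u} ℤ) (ULift.{u} ℤ)
      (AddMonoidHom.toMultiplicative (zmultiplesHom ℤ ((n : ℤ) : ℤ)))).toRingHom)).mpr hff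
  have h2 : LocallyOfFinitePresentation (Spec.map (CommRingCat.ofHom
    (MonoidAlgebra.mapDomainAlgHom (ULift.{u} ℤ) (ULift.{u} ℤ)
      (AddMonoidHom.toMultiplicative (zmultiplesHom ℤ ((n : ℤ) : ℤ)))).toRingHom)) :=
    (HasRingHomProperty.Spec_iff (P := @LocallyOfFinitePresentation)).mpr hfp
  refine ⟨?_, ?_, ?_⟩
  · exact Groth.Agent.Lib.helper15.DSMap.pullback_map_left_of_stable @Flat _ _ h1.1
  · exact Groth.Agent.Lib.helper15.DSMap.pullback_map_left_of_stable @Surjective _ _ h1.2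
  · exact Groth.Agent.Lib.helper15.DSMap.pullback_map_left_of_stable
      @LocallyOfFinitePresentation _ _ h2

theorem kummer_isExactSeq (n : ℕ) [NeZero n] (K : Precoverage Scheme.{u})
    (hK : Presieve.singleton (Red.chi S ((n : ℤ) : ℤ)).left ∈ K (Red.Gm S).left) :
    NonAbH1.IsExactSeq K (Red.DSmap S (Int.castAddHom (ZMod n))) (Red.chi S ((n : ℤ) : ℤ)) := by
  have hv : IsMonHom (Red.chi S ((n : ℤ) : ℤ)) := by
    unfold Red.chi
    infer_instance
  refine ⟨inferInstance, hv, kummer_comp n, kummer_isPullback n, ?_⟩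
  refine ⟨_, hK, ?_⟩
  intro S' f hf
  cases hf
  exact ⟨𝟙 _, Category.id_comp _⟩

end Kummer

end Groth.Agent.Lib.helper15.DSPts
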