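import Mathlib
import Groth.Prelude.Def_Red2
import Groth.Agent.Lib.Helper15.GaGm
import Groth.Agent.Lib.Helper15.DSPts

/-!
# Additive functions on diagonalisable groups vanish (helper15)

* `eq_zero_of_mapDomain_diag`: a primitive element of a monoid algebra is zero.
* `phiG`, `mul_left_fstG`: points of a base change `(Over.pullback g).obj G` versus points of `G`,
  compatibly with multiplication.
* `Zo`, `Zmap`, `exists_univ_point`: affine charts `Spec R[M] → D_S(M)`.
* `eq_zero_of_isAdditiveFn`: a global function on `D_S(M)` which is additive on points is zero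
  (so every homomorphism `D_S(M) → 𝔾_a` is trivial).
-/

set_option autoImplicit false

namespace Groth.Agent.Lib.helper15.MultGa

open CategoryTheory MonoidalCategory CartesianMonoidalCategory MonObj GrpObj AlgebraicGeometry Limits
open Groth.Agent.Lib.helper15.GaGm Groth.Agent.Lib.helper15.DSPts

universe u

section Alg

/-- a "primitive" element of a monoid algebra is zero. -/
lemma eq_zero_of_mapDomain_diag {R : Type*} [Ring R] {G : Type*} (e : G) (Y : MonoidAlgebra R G)
    (h : MonoidAlgebra.mapDomain (fun g : G => (g, g)) Y =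
      MonoidAlgebra.mapDomain (fun g : G => (g, e)) Y +
        MonoidAlgebra.mapDomain (fun g : G => (e, g)) Y) : Y = 0 := by
  classical
  have hd : Function.Injective (fun g : G => (g, g)) := fun a b hab => (Prod.ext_iff.1 hab).1
  have hl : Function.Injective (fun g : G => (g, e)) := fun a b hab => (Prod.ext_iff.1 hab).1
  have hr : Function.Injective (fun g : G => (e, g)) := fun a b hab => (Prod.ext_iff.1 hab).2
  have key : ∀ g : G, Y.coeff g =
      (MonoidAlgebra.mapDomain (fun g : G => (g, e)) Y).coeff (g, g) +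
        (MonoidAlgebra.mapDomain (fun g : G => (e, g)) Y).coeff (g, g) := by
    intro g
    have h1 := congrArg (fun Z => Z.coeff (g, g)) h
    simp only [MonoidAlgebra.coeff_add, Finsupp.add_apply] at h1
    rw [← h1]
    change Y.coeff g = (Finsupp.mapDomain (fun g : G => (g, g)) Y.coeff) ((fun g : G => (g, g)) g)
    rw [Finsupp.mapDomain_apply hd]
  have he : Y.coeff e = 0 := by
    have h1 := key e
    have h2 : (MonoidAlgebra.mapDomain (fun g : G => (g, e)) Y).coeff (e, e) = Y.coeff e := by
      change (Finsupp.mapDomain (fun g : G => (g, e)) Y.coeff) ((fun g : G => (g, e)) e) = _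
      rw [Finsupp.mapDomain_apply hl]
    have h3 : (MonoidAlgebra.mapDomain (fun g : G => (e, g)) Y).coeff (e, e) = Y.coeff e := by
      change (Finsupp.mapDomain (fun g : G => (e, g)) Y.coeff) ((fun g : G => (e, g)) e) = _
      rw [Finsupp.mapDomain_apply hr]
    rw [h2, h3] at h1
    have : Y.coeff e + 0 = Y.coeff e + Y.coeff e := by rw [add_zero]; exact h1
    exact (add_left_cancel this).symm
  apply MonoidAlgebra.coeff_injective
  ext g
  by_cases hg : g = e
  · subst hg
    rw [he]; rfl
  · have h1 := key g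
    have h2 : (MonoidAlgebra.mapDomain (fun g : G => (g, e)) Y).coeff (g, g) = 0 := by
      change (Finsupp.mapDomain (fun g : G => (g, e)) Y.coeff) (g, g) = 0
      apply Finsupp.mapDomain_of_notMem_range
      rintro ⟨a, ha⟩
      exact hg (Prod.ext_iff.1 ha).2.symm
    have h3 : (MonoidAlgebra.mapDomain (fun g : G => (e, g)) Y).coeff (g, g) = 0 := by
      change (Finsupp.mapDomain (fun g : G => (e, g)) Y.coeff) (g, g) = 0
      apply Finsupp.mapDomain_of_notMem_range
      rintro ⟨a, ha⟩
      exact hg (Prod.ext_iff.1 ha).1.symm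
    rw [h2, h3, add_zero] at h1
    rw [h1]; rfl

end Alg


section BC

variable {S S' : Scheme.{u}} (g : S' ⟶ S) (G : Over S) [GrpObj G]

/-- the point of `G` (over `S`) corresponding to a point of the base change of `G`. -/
noncomputable def phiG {X : Over S'} (x : X ⟶ (Over.pullback g).obj G) :
    (Over.map g).obj X ⟶ G :=
  Over.homMk (x.left ≫ pullback.fst _ _) (by
    have hx := Over.w x
    simp only [Over.pullback_obj_hom] at hx
    simp only [Over.map_obj_hom]
    rw [Category.assoc, pullback.condition, ← Category.assoc, hx])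

@[simp] lemma phiG_left {X : Over S'} (x : X ⟶ (Over.pullback g).obj G) :
    (phiG g G x).left = x.left ≫ pullback.fst _ _ := rfl

lemma mul_left_fstG {X : Over S'} (x y : X ⟶ (Over.pullback g).obj G) :
    (x * y).left ≫ pullback.fst _ _ = (phiG g G x * phiG g G y).left := by
  have h0 : phiG g G x * phiG g G y = lift (phiG g G x) (phiG g G y) ≫ μ[G] := rfl
  rw [h0]
  have h1 : x * y = lift x y ≫ Functor.LaxMonoidal.μ (Over.pullback g) G G ≫
      (Over.pullback g).map μ[G] := rfl
  rw [h1]
  simp only [Over.comp_left, Category.assoc, Over.pullback_map_left, pullback.lift_fst]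
  have h2 : (lift x y).left ≫ (Functor.LaxMonoidal.μ (Over.pullback g) G G).left ≫
      pullback.fst (G ⊗ G).hom g = (lift (phiG g G x) (phiG g G y)).left := by
    apply pullback.hom_ext
    · simp only [Category.assoc]
      rw [Over.μ_pullback_left_fst_fst]
      simp only [Over.lift_left, phiG_left]
      rw [pullback.lift_fst_assoc, pullback.lift_fst]
    · simp only [Category.assoc]
      rw [Over.μ_pullback_left_fst_snd]
      simp only [Over.lift_left, phiG_left]
      rw [pullback.lift_snd_assoc, pullback.lift_snd]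
  rw [← h2]
  simp only [Category.assoc]

end BC


section Charts

variable {S : Scheme.{u}} {M : Type} [AddCommGroup M]

/-- `Spec B` as a scheme over `S` via `Spec B → Spec R → S`. -/
noncomputable abbrev Zo {R : Type u} [CommRing R] (j : Spec (CommRingCat.of R) ⟶ S) (B : Type u)
    [CommRing B] [Algebra R B] : Over S :=
  Over.mk (Spec.map (CommRingCat.ofHom (algebraMap R B)) ≫ j)

/-- `Spec` of an `R`-algebra map, over `S`. -/
noncomputable def Zmap {R : Type u} [CommRing R] (j : Spec (CommRingCat.of R) ⟶ S) {B B' : Type u}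
    [CommRing B] [Algebra R B] [CommRing B'] [Algebra R B'] (φ : B →ₐ[R] B') : Zo j B' ⟶ Zo j B :=
  Over.homMk (Spec.map (CommRingCat.ofHom φ.toRingHom)) (by
    simp only [Over.mk_hom]
    rw [← Category.assoc, ← Spec.map_comp]
    congr 2
    ext r
    exact φ.commutes r)

lemma Zmap_left {R : Type u} [CommRing R] (j : Spec (CommRingCat.of R) ⟶ S) {B B' : Type u}
    [CommRing B] [Algebra R B] [CommRing B'] [Algebra R B'] (φ : B →ₐ[R] B') :
    (Zmap j φ).left = Spec.map (CommRingCat.ofHom φ.toRingHom) := rfl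

lemma Zmap_appTop {R : Type u} [CommRing R] (j : Spec (CommRingCat.of R) ⟶ S) {B B' : Type u}
    [CommRing B] [Algebra R B] [CommRing B'] [Algebra R B'] (φ : B →ₐ[R] B') (b : B) :
    (Zmap j φ).left.appTop ((Scheme.ΓSpecIso (CommRingCat.of B)).inv b) =
      (Scheme.ΓSpecIso (CommRingCat.of B')).inv (φ b) := by
  rw [Zmap_left]
  exact specMap_appTop_inv φ.toRingHom b

/-- the universal point of `D_S(M)` over the chart `Spec R[M]`. -/
lemma exists_univ_point {R : Type u} [CommRing R] (j : Spec (CommRingCat.of R) ⟶ S) :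
    ∃ z : Zo j (MonoidAlgebra R (Multiplicative M)) ⟶ Red.DS S M, ∀ m : M, dsFn z m =
      (Scheme.ΓSpecIso (CommRingCat.of (MonoidAlgebra R (Multiplicative M)))).inv
        (MonoidAlgebra.single (Multiplicative.ofAdd m) 1) := by
  obtain ⟨z, hz⟩ := exists_dsFn_eq (S := S) (M := M)
    (X := Zo j (MonoidAlgebra R (Multiplicative M)))
    (((Scheme.ΓSpecIso (CommRingCat.of (MonoidAlgebra R (Multiplicative M)))).inv.hom :
      MonoidAlgebra R (Multiplicative M) →+* _).toMonoidHom.comp
        (MonoidAlgebra.of R (Multiplicative M)))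
  refine ⟨z, fun m => ?_⟩
  rw [hz]
  rfl

end Charts


section Additive

variable {S : Scheme.{u}} {M : Type} [AddCommGroup M]

/-- a global function on a group scheme which is additive on points. -/
def IsAddFn {S : Scheme.{u}} (G : Over S) [GrpObj G] (y : Γ(G.left, ⊤)) : Prop :=
  ∀ (X : Over S) (a b : X ⟶ G), (a * b).left.appTop y = a.left.appTop y + b.left.appTop y

/-- a global function on `D_S(M)` which is additive on points. -/
abbrev IsAdditiveFn (y : Γ((Red.DS S M).left, ⊤)) : Prop := IsAddFn (Red.DS S M) y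

lemma appTop_comp_over {X Y Z : Over S} (g : X ⟶ Y) (h : Y ⟶ Z) (y : Γ(Z.left, ⊤)) :
    (g ≫ h).left.appTop y = g.left.appTop (h.left.appTop y) := by
  rw [Over.comp_left, Scheme.Hom.comp_appTop]
  rfl

lemma mapDomain_diag_single (R : Type u) [CommRing R] (m : Multiplicative M) :
    MonoidAlgebra.mapDomainAlgHom R R
        ((MonoidHom.id (Multiplicative M)).prod (MonoidHom.id (Multiplicative M)))
        (MonoidAlgebra.single m (1 : R)) =
      MonoidAlgebra.mapDomainAlgHom R R (MonoidHom.inl (Multiplicative M) (Multiplicative M))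
          (MonoidAlgebra.single m (1 : R)) *
        MonoidAlgebra.mapDomainAlgHom R R (MonoidHom.inr (Multiplicative M) (Multiplicative M))
          (MonoidAlgebra.single m (1 : R)) := by
  rw [MonoidAlgebra.mapDomainAlgHom_apply, MonoidAlgebra.mapDomainAlgHom_apply,
    MonoidAlgebra.mapDomainAlgHom_apply, MonoidAlgebra.mapDomain_single,
    MonoidAlgebra.mapDomain_single, MonoidAlgebra.mapDomain_single,
    MonoidAlgebra.single_mul_single, _root_.mul_one]
  congr 1
  simp

local notation "RM" R => MonoidAlgebra R (Multiplicative M)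
local notation "RN" R => MonoidAlgebra R (Multiplicative M × Multiplicative M)

lemma chart_eq_zero {y : Γ((Red.DS S M).left, ⊤)} (hy : IsAdditiveFn y)
    {R : Type u} [CommRing R] (j : Spec (CommRingCat.of R) ⟶ S)
    (z : Zo j (MonoidAlgebra R (Multiplicative M)) ⟶ Red.DS S M)
    (hz : ∀ m : M, dsFn z m =
      (Scheme.ΓSpecIso (CommRingCat.of (MonoidAlgebra R (Multiplicative M)))).inv
        (MonoidAlgebra.single (Multiplicative.ofAdd m) 1)) :
    z.left.appTop y = 0 := by
  let φl : (RM R) →ₐ[R] (RN R) := MonoidAlgebra.mapDomainAlgHom R R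
    (MonoidHom.inl (Multiplicative M) (Multiplicative M))
  let φr : (RM R) →ₐ[R] (RN R) := MonoidAlgebra.mapDomainAlgHom R R
    (MonoidHom.inr (Multiplicative M) (Multiplicative M))
  let φd : (RM R) →ₐ[R] (RN R) := MonoidAlgebra.mapDomainAlgHom R R
    ((MonoidHom.id (Multiplicative M)).prod (MonoidHom.id (Multiplicative M)))
  set Y : (RM R) := (Scheme.ΓSpecIso (CommRingCat.of (RM R))).hom (z.left.appTop y) with hY
  have hYinv : z.left.appTop y = (Scheme.ΓSpecIso (CommRingCat.of (RM R))).inv Y := by
    rw [hY]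
    exact (Iso.hom_inv_id_apply (C := CommRingCat) _ _).symm
  have hcomp : ∀ φ : (RM R) →ₐ[R] (RN R), (Zmap j φ ≫ z).left.appTop y =
      (Scheme.ΓSpecIso (CommRingCat.of (RN R))).inv (φ Y) := by
    intro φ
    rw [appTop_comp_over, hYinv]
    exact Zmap_appTop j φ Y
  have hds : ∀ (φ : (RM R) →ₐ[R] (RN R)) (m : M), dsFn (Zmap j φ ≫ z) m =
      (Scheme.ΓSpecIso (CommRingCat.of (RN R))).inv
        (φ (MonoidAlgebra.single (Multiplicative.ofAdd m) 1)) := by
    intro φ m
    rw [dsFn_comp, hz]
    exact Zmap_appTop j φ _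
  have hmul : Zmap j φd ≫ z = (Zmap j φl ≫ z) * (Zmap j φr ≫ z) := by
    apply dsFn_injective
    intro m
    rw [dsFn_mul, hds, hds, hds, ← map_mul]
    congr 1
    exact mapDomain_diag_single R (Multiplicative.ofAdd m)
  have h1 := hy _ (Zmap j φl ≫ z) (Zmap j φr ≫ z)
  rw [← hmul, hcomp, hcomp, hcomp, ← map_add] at h1
  have h2 : φd Y = φl Y + φr Y := by
    have := congrArg (Scheme.ΓSpecIso (CommRingCat.of (RN R))).hom h1
    rwa [Iso.inv_hom_id_apply (C := CommRingCat), Iso.inv_hom_id_apply (C := CommRingCat)] at this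
  have h3 : Y = 0 := by
    apply eq_zero_of_mapDomain_diag (1 : Multiplicative M) Y
    exact h2
  rw [hYinv, h3, map_zero]

end Additive


section Main

variable {S : Scheme.{u}} {M : Type} [AddCommGroup M]

/-- an additive function on `D_S(M)` vanishes on every `Spec B`-valued point. -/
lemma appTop_eq_zero_of_spec {y : Γ((Red.DS S M).left, ⊤)} (hy : IsAdditiveFn y)
    (B : Type u) [CommRing B] (q : Spec (CommRingCat.of B) ⟶ (Red.DS S M).left) :
    q.appTop y = 0 := by
  set j : Spec (CommRingCat.of B) ⟶ S := q ≫ (Red.DS S M).hom with hj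
  let X : Over S := Over.mk j
  let qO : X ⟶ Red.DS S M := Over.homMk q rfl
  obtain ⟨z, hz⟩ := exists_univ_point (M := M) j
  -- the character of the point `qO`
  let χ' : Multiplicative M →* Γ(X.left, ⊤) :=
    { toFun := fun m => dsFn qO m.toAdd
      map_one' := dsFn_zero qO
      map_mul' := fun m m' => dsFn_add qO m.toAdd m'.toAdd }
  let χ : Multiplicative M →* B :=
    ((Scheme.ΓSpecIso (CommRingCat.of B)).hom.hom : Γ(Spec (CommRingCat.of B), ⊤) →+* B).toMonoidHom.comp
      χ'
  let ψ : MonoidAlgebra B (Multiplicative M) →ₐ[B] B := MonoidAlgebra.lift B B (Multiplicative M) χ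
  have hψ : ∀ m : Multiplicative M, ψ (MonoidAlgebra.single m 1) = χ m := by
    intro m
    simp [ψ]
  let q' : X ⟶ Zo j (MonoidAlgebra B (Multiplicative M)) :=
    Over.homMk (Spec.map (CommRingCat.ofHom ψ.toRingHom)) (by
      simp only [Over.mk_hom]
      rw [← Category.assoc, ← Spec.map_comp]
      have h1 : CommRingCat.ofHom (algebraMap B (MonoidAlgebra B (Multiplicative M))) ≫
          CommRingCat.ofHom ψ.toRingHom = 𝟙 (CommRingCat.of B) := by
        ext b
        exact ψ.commutes b
      rw [h1, Spec.map_id]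
      exact Category.id_comp j)
  have hq' : q' ≫ z = qO := by
    apply dsFn_injective
    intro m
    rw [dsFn_comp, hz]
    have h2 : q'.left.appTop ((Scheme.ΓSpecIso (CommRingCat.of
        (MonoidAlgebra B (Multiplicative M)))).inv (MonoidAlgebra.single (Multiplicative.ofAdd m) 1)) =
        (Scheme.ΓSpecIso (CommRingCat.of B)).inv
          (ψ (MonoidAlgebra.single (Multiplicative.ofAdd m) 1)) :=
      specMap_appTop_inv ψ.toRingHom _
    rw [h2, hψ]
    change (Scheme.ΓSpecIso (CommRingCat.of B)).inv
      ((Scheme.ΓSpecIso (CommRingCat.of B)).hom (dsFn qO m)) = dsFn qO m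
    exact Iso.hom_inv_id_apply (C := CommRingCat) _ _
  have h3 : q.appTop y = qO.left.appTop y := rfl
  rw [h3, ← hq', appTop_comp_over, chart_eq_zero hy j z hz, map_zero]

/-- **an additive function on `D_S(M)` is zero.** -/
theorem eq_zero_of_isAdditiveFn {y : Γ((Red.DS S M).left, ⊤)} (hy : IsAdditiveFn y) : y = 0 := by
  obtain ⟨v, hv⟩ := exists_gaFn_eq (X := Red.DS S M) y
  suffices h : v = 1 by rw [← hv, h, gaFn_one]
  apply Over.OverMorphism.ext
  apply Scheme.Cover.hom_ext (Red.DS S M).left.affineCover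
  intro i
  set T := (Red.DS S M).left.affineCover.X i with hT
  set q : T ⟶ (Red.DS S M).left := (Red.DS S M).left.affineCover.f i with hq
  have hTaff : IsAffine T := inferInstance
  -- reduce to `Spec`
  let q0 : Spec (CommRingCat.of Γ(T, ⊤)) ⟶ (Red.DS S M).left := T.isoSpec.inv ≫ q
  have h0 : q0.appTop y = 0 := appTop_eq_zero_of_spec hy _ q0
  have hq0 : q = T.isoSpec.hom ≫ q0 := by
    simp [q0]
  have h1 : q.appTop y = 0 := by
    rw [hq0, Scheme.Hom.comp_appTop]
    change T.isoSpec.hom.appTop (q0.appTop y) = 0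
    rw [h0, map_zero]
  let qO : Over.mk (q ≫ (Red.DS S M).hom) ⟶ Red.DS S M := Over.homMk q rfl
  have h2 : qO ≫ v = qO ≫ 1 := by
    apply gaFn_injective
    rw [gaFn_comp, hv, MonObj.comp_one, gaFn_one]
    exact h1
  exact congrArg (fun w => w.left) h2

end Main


section Reduction

variable {S : Scheme.{u}}

/-- the function of a homomorphism to `𝔾_a` is additive. -/
lemma isAddFn_gaFn {H : Over S} [GrpObj H] (v : H ⟶ Red.Ga S) [IsMonHom v] :
    IsAddFn H (Red.gaFn v) := by
  intro X a b
  rw [← gaFn_comp, ← gaFn_comp, ← gaFn_comp, ← gaFn_mul]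
  congr 1
  exact MonObj.mul_comp a b v

/-- additivity is preserved by pulling back along a homomorphism. -/
lemma isAddFn_comp {G G' : Over S} [GrpObj G] [GrpObj G'] (e : G' ⟶ G) [IsMonHom e]
    {x : Γ(G.left, ⊤)} (hx : IsAddFn G x) : IsAddFn G' (e.left.appTop x) := by
  intro X a b
  rw [← appTop_comp_over, ← appTop_comp_over, ← appTop_comp_over,
    show (a * b) ≫ e = (a ≫ e) * (b ≫ e) from MonObj.mul_comp a b e]
  exact hx X (a ≫ e) (b ≫ e)

/-- additivity is preserved by base change. -/
lemma isAddFn_bc {S' : Scheme.{u}} (g : S' ⟶ S) {G : Over S} [GrpObj G] {x : Γ(G.left, ⊤)}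
    (hx : IsAddFn G x) : IsAddFn (Red.bc g G) ((pullback.fst G.hom g).appTop x) := by
  intro X a b
  have h1 : ∀ c : X ⟶ Red.bc g G, c.left.appTop ((pullback.fst G.hom g).appTop x) =
      (phiG g G c).left.appTop x := by
    intro c
    rw [phiG_left, Scheme.Hom.comp_appTop]
    rfl
  rw [h1, h1, h1]
  have h2 : (phiG g G (a * b)).left = (phiG g G a * phiG g G b).left := by
    rw [phiG_left]
    exact mul_left_fstG g G a b
  rw [h2]
  exact hx _ (phiG g G a) (phiG g G b)

/-- two morphisms agreeing after composition with a jointly surjective flat family are equal. -/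
lemma hom_ext_of_flat_family {X Y : Scheme.{u}} {I : Type u} {W : I → Scheme.{u}}
    (p : ∀ i, W i ⟶ X) [∀ i, Flat (p i)] (hsurj : ⋃ i, Set.range (p i) = Set.univ)
    (a b : X ⟶ Y) (h : ∀ i, p i ≫ a = p i ≫ b) : a = b := by
  have h1 : Surjective (Sigma.desc p) := Surjective.sigmaDesc_of_union_range_eq_univ hsurj
  have h2 : Epi (Sigma.desc p) := Flat.epi_of_flat_of_surjective _
  rw [← cancel_epi (Sigma.desc p)]
  apply Sigma.hom_ext
  intro i
  rw [Sigma.ι_desc_assoc, Sigma.ι_desc_assoc]
  exact h i

/-- if the function of `u : H ⟶ 𝔾_a` vanishes after the base change `g`, then `u` and `1` agree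
after composition with the projection. -/
lemma fst_comp_eq_of_appTop_eq_zero {S' : Scheme.{u}} (g : S' ⟶ S) {H : Over S} [GrpObj H]
    (v : H ⟶ Red.Ga S) (h0 : (pullback.fst H.hom g).appTop (Red.gaFn v) = 0) :
    pullback.fst H.hom g ≫ v.left = pullback.fst H.hom g ≫ (1 : H ⟶ Red.Ga S).left := by
  let π : (Over.map g).obj (Red.bc g H) ⟶ H := phiG g H (𝟙 (Red.bc g H))
  have hπ : π.left = pullback.fst H.hom g := by
    change (𝟙 (Red.bc g H) : Red.bc g H ⟶ Red.bc g H).left ≫ pullback.fst H.hom g = _
    rw [Over.id_left, Category.id_comp]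
  have h2 : π ≫ v = π ≫ 1 := by
    apply gaFn_injective
    rw [gaFn_comp, MonObj.comp_one, gaFn_one, hπ]
    exact h0
  have h3 := congrArg (fun w => w.left) h2
  simp only [Over.comp_left, hπ] at h3
  exact h3

end Reduction

end Groth.Agent.Lib.helper15.MultGa
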