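import Mathlib
import Groth.Prelude.Def_BT
import Groth.Agent.Lib.Helper14.KerPullback

/-!
# The sequence `1 → G_1 → G_{t+1} → G_t` of a Barsotti–Tate group is left exact (helper15)

Points-level arguments: `G_1 → G_{t+1}` is the kernel of `ℓ : G_{t+1} → G_t`.
-/

set_option autoImplicit false
set_option linter.unusedSectionVars false
set_option linter.style.haveILetI false
universe u
open CategoryTheory CategoryTheory.Limits MonoidalCategory CartesianMonoidalCategory MonObj GrpObj
  AlgebraicGeometry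

namespace Groth.Agent.Lib.helper15.BTExact

open Groth.Agent.Lib.Helper14.KerPullback

section Kernel

variable {S : Scheme.{u}}

/-- points-level criterion for `AlgGrp.IsKernel`. -/
theorem isKernel_of_points {N G Q : Over S} [GrpObj Q] (i : N ⟶ G) (q : G ⟶ Q) [Mono i]
    (h1 : i ≫ q = 1)
    (h2 : ∀ (T : Over S) (x : T ⟶ G), x ≫ q = 1 → ∃ y : T ⟶ N, y ≫ i = x) :
    AlgGrp.IsKernel i q := by
  have hs : ∀ s : PullbackCone q η[Q], s.fst ≫ q = 1 := by
    intro s
    rw [s.condition, Hom.one_def]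
    congr 1
    exact toUnit_unique _ _
  refine ⟨⟨by rw [h1, Hom.one_def]⟩, ⟨PullbackCone.IsLimit.mk _
    (fun s => (h2 _ s.fst (hs s)).choose) (fun s => ?_)
    (fun s => ?_) (fun s m hm1 hm2 => ?_)⟩⟩
  · exact (h2 _ s.fst (hs s)).choose_spec
  · exact toUnit_unique _ _
  · rw [← cancel_mono i, hm1]
    exact ((h2 _ s.fst (hs s)).choose_spec).symm

end Kernel

section BT

variable {S : Scheme.{u}} {ℓ h : ℕ} (G : BTGrp.ProBT ℓ S h)

/-- every point of `G_0` is trivial. -/
theorem pt_G0 {T : Over S} (x : T ⟶ G.G 0) : x = 1 := by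
  have hk := G.isKernel 0
  haveI := mono_of_isKernel _ _ hk
  have h1 := comp_eq_one_of_isKernel _ _ hk x
  rw [pow_zero, pow_one, Category.comp_id] at h1
  rw [← cancel_mono (G.incl 0), h1, MonObj.one_comp]

theorem id_pow_G1 : (𝟙 (G.G 1) : G.G 1 ⟶ G.G 1) ^ ℓ = 1 := by
  have := G.proj_incl 0
  rw [pt_G0 G (G.proj 0), MonObj.one_comp] at this
  exact this.symm

variable (i : (t : ℕ) → (G.G 1 ⟶ G.G (t + 1))) (hi0 : i 0 = 𝟙 (G.G 1))
    (hi : ∀ t : ℕ, i (t + 1) = i t ≫ G.incl (t + 1))

include hi0 hi in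
theorem isMonHom_i (t : ℕ) : IsMonHom (i t) := by
  induction t with
  | zero => rw [hi0]; infer_instance
  | succ t ih => rw [hi]; infer_instance

include hi0 hi in
theorem mono_i (t : ℕ) : Mono (i t) := by
  induction t with
  | zero => rw [hi0]; infer_instance
  | succ t ih =>
    rw [hi]
    haveI := mono_of_isKernel _ _ (G.isKernel (t + 1))
    exact mono_comp _ _

include hi0 hi in
theorem i_proj (t : ℕ) : i t ≫ G.proj t = 1 := by
  cases t with
  | zero => exact pt_G0 G _
  | succ t =>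
    haveI := isMonHom_i G i hi0 hi t
    rw [hi, Category.assoc, G.incl_proj, MonObj.comp_pow, Category.comp_id,
      ← Category.id_comp (i t), ← MonObj.pow_comp, id_pow_G1, MonObj.one_comp]

include hi0 hi in
theorem exists_lift (t : ℕ) {T : Over S} (x : T ⟶ G.G (t + 1)) (hx : x ≫ G.proj t = 1) :
    ∃ y : T ⟶ G.G 1, y ≫ i t = x := by
  induction t with
  | zero => exact ⟨x, by rw [hi0, Category.comp_id]⟩
  | succ t ih =>
    have hxl : x ^ ℓ = 1 := by
      have h1 : x ≫ (𝟙 (G.G (t + 1 + 1))) ^ ℓ = 1 := by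
        rw [← G.proj_incl, ← Category.assoc, hx, MonObj.one_comp]
      rwa [MonObj.comp_pow, Category.comp_id] at h1
    have hxl' : x ≫ (𝟙 (G.G (t + 1 + 1))) ^ (ℓ ^ (t + 1)) = 1 := by
      rw [MonObj.comp_pow, Category.comp_id, pow_succ', pow_mul, hxl, one_pow]
    obtain ⟨z, hz⟩ := exists_lift_of_comp_eq_one _ _ (G.isKernel (t + 1)) x hxl'
    haveI := mono_of_isKernel _ _ (G.isKernel (t + 1))
    haveI := mono_of_isKernel _ _ (G.isKernel t)
    have hzl : z ^ ℓ = 1 := by
      rw [← cancel_mono (G.incl (t + 1)), MonObj.pow_comp, hz, hxl, MonObj.one_comp]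
    have hw : z ≫ G.proj t = 1 := by
      rw [← cancel_mono (G.incl t), Category.assoc, G.proj_incl, MonObj.comp_pow,
        Category.comp_id, hzl, MonObj.one_comp]
    obtain ⟨y, hy⟩ := ih z hw
    exact ⟨y, by rw [hi, ← Category.assoc, hy, hz]⟩

include hi0 hi in
/-- `i t : G_1 → G_{t+1}` is the kernel of `proj t : G_{t+1} → G_t`. -/
theorem isKernel_i (t : ℕ) : AlgGrp.IsKernel (i t) (G.proj t) := by
  haveI := mono_i G i hi0 hi t
  exact isKernel_of_points (i t) (G.proj t) (i_proj G i hi0 hi t)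
    (fun T x hx => exists_lift G i hi0 hi t x hx)

end BT

end Groth.Agent.Lib.helper15.BTExact
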