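import Mathlib
import Groth.Prelude.Def_AGF

/-!
# Small lemmas on group objects through their points (helper15)

* `isMonHom_of_mul_points`: a morphism of group objects which is multiplicative on points is a
  homomorphism (the unit is automatic).
* `isMonHom_of_comp_mono`: if `h ≫ m` and `m` are homomorphisms and `m` is mono then `h` is one.
* `isMonHom_conjBy`: the conjugate of a homomorphism by a rational point is a homomorphism.
* `comp_conjBy`, `conjBy_comp`: functoriality of `AGF.conjBy`.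
* `conjBy_eq_iff`: `conjBy g i = j ↔ (toUnit ≫ g) * i = j * (toUnit ≫ g)`.
-/

set_option autoImplicit false
universe u

namespace Groth.Agent.Lib.helper15.GrpPtsLemmas

open CategoryTheory MonoidalCategory CartesianMonoidalCategory MonObj GrpObj

variable {C : Type*} [Category C] [CartesianMonoidalCategory C]

theorem isMonHom_of_mul_points {G H : C} [GrpObj G] [GrpObj H] (h : G ⟶ H)
    (hmul : ∀ (X : C) (x y : X ⟶ G), (x * y) ≫ h = (x ≫ h) * (y ≫ h)) : IsMonHom h where
  one_hom := by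
    have h1 := hmul (𝟙_ C) (1 : 𝟙_ C ⟶ G) 1
    rw [_root_.one_mul] at h1
    have h2 : (1 : 𝟙_ C ⟶ G) ≫ h = 1 := by
      have := congrArg (fun t => ((1 : 𝟙_ C ⟶ G) ≫ h)⁻¹ * t) h1
      simpa using this.symm
    rw [MonObj.one_eq_one, MonObj.one_eq_one]
    exact h2
  mul_hom := by
    have h1 := hmul (G ⊗ G) (fst G G) (snd G G)
    rw [← MonObj.mul_eq_mul] at h1
    rw [h1, Hom.mul_def]
    congr 1
    apply CartesianMonoidalCategory.hom_ext <;> simp

theorem isMonHom_of_mul_hom {G H : C} [GrpObj G] [GrpObj H] (h : G ⟶ H)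
    (hmul : μ[G] ≫ h = (h ⊗ₘ h) ≫ μ[H]) : IsMonHom h := by
  apply isMonHom_of_mul_points
  intro X x y
  rw [Hom.mul_def, Category.assoc, hmul, Hom.mul_def, ← Category.assoc]
  congr 1
  apply CartesianMonoidalCategory.hom_ext <;> simp

theorem isMonHom_of_comp_mono {G H H' : C} [GrpObj G] [GrpObj H] [GrpObj H'] (h : G ⟶ H)
    (m : H ⟶ H') [IsMonHom m] [Mono m] [IsMonHom (h ≫ m)] : IsMonHom h := by
  apply isMonHom_of_mul_points
  intro X x y
  apply (cancel_mono m).1
  rw [Category.assoc, MonObj.mul_comp (x ≫ h) (y ≫ h) m, Category.assoc, Category.assoc,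
    ← MonObj.mul_comp x y (h ≫ m)]

section Conj
variable {S : AlgebraicGeometry.Scheme.{u}}

open AlgebraicGeometry

theorem comp_conjBy {G H H' : Over S} [GrpObj G] (g : 𝟙_ (Over S) ⟶ G) (i : H ⟶ G) (e : H' ⟶ H) :
    e ≫ AGF.conjBy g i = AGF.conjBy g (e ≫ i) := by
  unfold AGF.conjBy
  rw [MonObj.comp_mul, MonObj.comp_mul, GrpObj.comp_inv, ← Category.assoc,
    toUnit_unique (e ≫ toUnit H) (toUnit H')]

theorem conjBy_comp {G G' H : Over S} [GrpObj G] [GrpObj G'] (g : 𝟙_ (Over S) ⟶ G) (i : H ⟶ G)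
    (e : G ⟶ G') [IsMonHom e] :
    AGF.conjBy g i ≫ e = AGF.conjBy (g ≫ e) (i ≫ e) := by
  unfold AGF.conjBy
  rw [MonObj.mul_comp, MonObj.mul_comp, GrpObj.inv_comp, Category.assoc]

theorem conjBy_eq_iff {G H : Over S} [GrpObj G] (g : 𝟙_ (Over S) ⟶ G) (i j : H ⟶ G) :
    AGF.conjBy g i = j ↔ (toUnit H ≫ g) * i = j * (toUnit H ≫ g) := by
  unfold AGF.conjBy
  constructor
  · intro h
    rw [← h]
    simp
  · intro h
    rw [h]
    simp

instance isMonHom_conjBy {G H : Over S} [GrpObj G] [GrpObj H] (g : 𝟙_ (Over S) ⟶ G) (i : H ⟶ G)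
    [IsMonHom i] : IsMonHom (AGF.conjBy g i) := by
  apply isMonHom_of_mul_points
  intro X x y
  rw [comp_conjBy, comp_conjBy, comp_conjBy, MonObj.mul_comp]
  unfold AGF.conjBy
  simp

end Conj

end Groth.Agent.Lib.helper15.GrpPtsLemmas
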