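import Mathlib

/-!
# Natural group structures on the affine line and on the punctured line (helper15)

* `ga_law`: a group structure on the forgetful functor `B ↦ B` on `k`-algebras (`k` a field), natural in `B`,
  is `a + b - e`.
* `gm_law`: a group structure on the units functor `B ↦ Bˣ`, natural in `B`, is `a * b * e⁻¹`.
* `Z k B`, `Zmap`, `gsec`, `exists_iso_Z`: affine test objects in `Over (Spec k)`.
* `op`, `e0`, `op_nat`, ...: transport of the group structure of the points of a group object to a functor of points.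
* `ga_mul_unique`, `gm_mul_unique`: the resulting uniqueness of the multiplication with a given unit section.
-/

set_option autoImplicit false
universe u

namespace Groth.Agent.Lib.helper15.NatGrp

section GaLaw

open Polynomial


variable (k : Type u) [Field k]

/-- evaluation of `k[x][y]` at a pair of elements -/
noncomputable def ev {B : Type u} [CommRing B] [Algebra k B] (a b : B) : (k[X])[X] →ₐ[k] B :=
  Polynomial.eval₂AlgHom (Polynomial.aeval a) b (fun _ => Commute.all _ _)

lemma ev_apply {B : Type u} [CommRing B] [Algebra k B] (a b : B) (p : (k[X])[X]) :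
    ev k a b p = Polynomial.eval₂ ((Polynomial.aeval a : k[X] →ₐ[k] B) : k[X] →+* B) b p := rfl

lemma ev_CX {B : Type u} [CommRing B] [Algebra k B] (a b : B) : ev k a b (C X) = a := by
  rw [ev_apply]; simp

lemma ev_X {B : Type u} [CommRing B] [Algebra k B] (a b : B) : ev k a b X = b := by
  rw [ev_apply]; simp

theorem ga_law
    (op : ∀ (B : Type u) [CommRing B] [Algebra k B], B → B → B)
    (nat : ∀ (B B' : Type u) [CommRing B] [Algebra k B] [CommRing B'] [Algebra k B']
      (g : B →ₐ[k] B') (a b : B), g (op B a b) = op B' (g a) (g b))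
    (e₀ : k)
    (one_op : ∀ (B : Type u) [CommRing B] [Algebra k B] (b : B), op B (algebraMap k B e₀) b = b)
    (op_one : ∀ (B : Type u) [CommRing B] [Algebra k B] (b : B), op B b (algebraMap k B e₀) = b)
    (assoc : ∀ (B : Type u) [CommRing B] [Algebra k B] (a b c : B),
      op B (op B a b) c = op B a (op B b c))
    (inv : ∀ (B : Type u) [CommRing B] [Algebra k B] (a : B), ∃ a', op B a a' = algebraMap k B e₀)
    (B : Type u) [CommRing B] [Algebra k B] (a b : B) :
    op B a b = a + b - algebraMap k B e₀ := by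
  set P : (k[X])[X] := op (k[X])[X] (C X) X with hP
  obtain ⟨ι, hι⟩ := inv k[X] X
  set Q : (k[X])[X] := op (k[X])[X] (C ι) X with hQ
  have law : ∀ (B : Type u) [CommRing B] [Algebra k B] (a b : B), op B a b = ev k a b P := by
    intro B _ _ a b
    rw [hP, nat _ _ (ev k a b), ev_CX, ev_X]
  have hC : ((Polynomial.aeval (C X : (k[X])[X]) : k[X] →ₐ[k] (k[X])[X]) : k[X] →+* (k[X])[X]) = C := by
    apply Polynomial.ringHom_ext
    · intro c
      simp
    · simp
  have hcomp : P.comp Q = X := by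
    have h1 : op (k[X])[X] (C X) Q = P.comp Q := by
      rw [law, ev_apply, hC]; rfl
    rw [← h1, hQ, ← assoc]
    have h2 : op (k[X])[X] (C X) (C ι) = C (op k[X] X ι) := by
      have := nat k[X] (k[X])[X] (Polynomial.CAlgHom) X ι
      simpa using this.symm
    rw [h2, hι]
    exact one_op (k[X])[X] X
  have hdeg : P.natDegree * Q.natDegree = 1 := by
    rw [← Polynomial.natDegree_comp, hcomp, Polynomial.natDegree_X]
  have hP1 : P.natDegree = 1 := Nat.eq_one_of_mul_eq_one_right hdeg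
  have hQ1 : Q.natDegree = 1 := Nat.eq_one_of_mul_eq_one_left hdeg
  have hlc : P.leadingCoeff * Q.leadingCoeff = 1 := by
    have := Polynomial.leadingCoeff_comp (p := P) (q := Q) (by rw [hQ1]; exact one_ne_zero)
    rw [hcomp, hP1, pow_one, Polynomial.leadingCoeff_X] at this
    exact this.symm
  have hu : IsUnit P.leadingCoeff := IsUnit.of_mul_eq_one _ hlc
  obtain ⟨c, hc, hc'⟩ := Polynomial.isUnit_iff.1 hu
  have hPform : P = C (C c) * X + C (P.coeff 0) := by
    have := Polynomial.eq_X_add_C_of_natDegree_le_one (p := P) (by rw [hP1])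
    rw [hc']
    rw [Polynomial.leadingCoeff, hP1]
    exact this
  have law2 : ∀ (B : Type u) [CommRing B] [Algebra k B] (a b : B),
      op B a b = algebraMap k B c * b + Polynomial.aeval a (P.coeff 0) := by
    intro B _ _ a b
    rw [law, hPform, ev_apply]
    simp
  have hc1 : c = 1 := by
    have h := one_op k[X] X
    rw [law2] at h
    have h' := congrArg (fun p => Polynomial.coeff p 1) h
    simp only [Polynomial.algebraMap_eq, Polynomial.coeff_add, Polynomial.coeff_C_mul,
      Polynomial.coeff_X_one, mul_one] at h'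
    rw [← Polynomial.algebraMap_eq, Polynomial.aeval_algebraMap_apply_eq_algebraMap_eval,
      Polynomial.algebraMap_eq, Polynomial.coeff_C] at h'
    simpa using h'
  have hp0 : P.coeff 0 = X - C e₀ := by
    have h := op_one k[X] X
    rw [law2, hc1] at h
    simp only [map_one, one_mul, Polynomial.algebraMap_eq, Polynomial.aeval_X_left_apply] at h
    rw [← h]; ring
  rw [law2, hc1, hp0]
  simp
  ring

end GaLaw


section Units

open LaurentPolynomial


variable {R : Type u} [CommRing R] [IsDomain R]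

lemma laurent_isUnit (u : R[T;T⁻¹]) (hu : IsUnit u) :
    ∃ (r : R) (n : ℤ), IsUnit r ∧ u = C r * T n := by
  obtain ⟨v, huv⟩ := hu.exists_right_inv
  obtain ⟨n, p, hp⟩ := LaurentPolynomial.exists_T_pow u
  obtain ⟨m, q, hq⟩ := LaurentPolynomial.exists_T_pow v
  have h1 : p * q = Polynomial.X ^ (n + m) := by
    apply Polynomial.toLaurent_injective
    rw [map_mul, hp, hq, Polynomial.toLaurent_X_pow]
    calc u * T ↑n * (v * T ↑m) = (u * v) * (T ↑n * T ↑m) := by ring
      _ = T (↑(n + m)) := by rw [huv, one_mul, ← T_add]; push_cast; rfl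
  have h2 : p ∣ Polynomial.X ^ (n + m) := ⟨q, h1.symm⟩
  obtain ⟨i, -, hi⟩ := (dvd_prime_pow Polynomial.prime_X _).1 h2
  obtain ⟨w, hw⟩ := hi.symm
  obtain ⟨r, hr, hr'⟩ := Polynomial.isUnit_iff.1 w.isUnit
  refine ⟨r, (i : ℤ) - n, hr, ?_⟩
  have h3 : u * T n = C r * T i := by
    rw [← hp, ← hw, ← hr', map_mul, Polynomial.toLaurent_X_pow, Polynomial.toLaurent_C, mul_comm]
  calc u = (u * T n) * T (-n) := by rw [mul_assoc, ← T_add]; simp
    _ = C r * T (i - n) := by rw [h3, mul_assoc, ← T_add]; rfl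

end Units


section GmLaw

open LaurentPolynomial

variable (k : Type u) [Field k]

/-- the unit `T` of a Laurent polynomial ring -/
noncomputable def unitT (R : Type u) [CommRing R] : (R[T;T⁻¹])ˣ :=
  ⟨T 1, T (-1), by rw [← T_add]; simp, by rw [← T_add]; simp⟩

@[simp] lemma val_unitT (R : Type u) [CommRing R] : ((unitT R : (R[T;T⁻¹])ˣ) : R[T;T⁻¹]) = T 1 := rfl

lemma unitT_zpow (R : Type u) [CommRing R] (j : ℤ) :
    ((unitT R ^ j : (R[T;T⁻¹])ˣ) : R[T;T⁻¹]) = T j := by
  induction j using Int.induction_on with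
  | zero => simp [T_zero]
  | succ n ih => rw [zpow_add_one, Units.val_mul, ih, val_unitT, ← T_add]
  | pred n ih =>
    rw [zpow_sub_one, Units.val_mul, ih]
    show T (-(n : ℤ)) * T (-1) = _
    rw [← T_add]
    rfl

noncomputable def evm {B : Type u} [CommRing B] [Algebra k B] (a b : Bˣ) :
    (k[T;T⁻¹])[T;T⁻¹] →ₐ[k] B :=
  { (LaurentPolynomial.eval₂ (LaurentPolynomial.eval₂ (algebraMap k B) a) b) with
    commutes' := fun c => by
      have : algebraMap k (k[T;T⁻¹])[T;T⁻¹] c = C (C c) := rfl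
      simp [this] }

lemma evm_apply {B : Type u} [CommRing B] [Algebra k B] (a b : Bˣ) (p : (k[T;T⁻¹])[T;T⁻¹]) :
    evm k a b p = LaurentPolynomial.eval₂ (LaurentPolynomial.eval₂ (algebraMap k B) a) b p := rfl

theorem gm_law
    (op : ∀ (B : Type u) [CommRing B] [Algebra k B], Bˣ → Bˣ → Bˣ)
    (nat : ∀ (B B' : Type u) [CommRing B] [Algebra k B] [CommRing B'] [Algebra k B']
      (g : B →ₐ[k] B') (a b : Bˣ),
      Units.map (g : B →* B') (op B a b) = op B' (Units.map (g : B →* B') a) (Units.map (g : B →* B') b))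
    (e₀ : kˣ)
    (one_op : ∀ (B : Type u) [CommRing B] [Algebra k B] (b : Bˣ),
      op B (Units.map (algebraMap k B : k →* B) e₀) b = b)
    (op_one : ∀ (B : Type u) [CommRing B] [Algebra k B] (b : Bˣ),
      op B b (Units.map (algebraMap k B : k →* B) e₀) = b)
    (B : Type u) [CommRing B] [Algebra k B] (a b : Bˣ) :
    op B a b = a * b * (Units.map (algebraMap k B : k →* B) e₀)⁻¹ := by
  set x₂ : ((k[T;T⁻¹])[T;T⁻¹])ˣ := Units.map (C : k[T;T⁻¹] →+* (k[T;T⁻¹])[T;T⁻¹]) (unitT k) with hx₂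
  set y₂ : ((k[T;T⁻¹])[T;T⁻¹])ˣ := unitT (k[T;T⁻¹]) with hy₂
  set P := op (k[T;T⁻¹])[T;T⁻¹] x₂ y₂ with hP
  obtain ⟨r, j, hr, hPr⟩ := laurent_isUnit (P : (k[T;T⁻¹])[T;T⁻¹]) P.isUnit
  obtain ⟨c, i, hc, hrc⟩ := laurent_isUnit r hr
  have law : ∀ (B : Type u) [CommRing B] [Algebra k B] (a b : Bˣ),
      ((op B a b : Bˣ) : B) = algebraMap k B c * ((a ^ i : Bˣ) : B) * ((b ^ j : Bˣ) : B) := by
    intro B _ _ a b
    have h1 : Units.map (evm k a b : (k[T;T⁻¹])[T;T⁻¹] →* B) x₂ = a := by
      ext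
      simp [hx₂, evm_apply]
    have h2 : Units.map (evm k a b : (k[T;T⁻¹])[T;T⁻¹] →* B) y₂ = b := by
      ext
      simp [hy₂, evm_apply]
    have := nat _ _ (evm k a b) x₂ y₂
    rw [h1, h2] at this
    rw [← this]
    show evm k a b (P : (k[T;T⁻¹])[T;T⁻¹]) = _
    rw [hPr, hrc, evm_apply]
    simp
  have hT : ∀ (s : k) (n : ℤ), (C s * T n : k[T;T⁻¹]) = T 1 → s = 1 ∧ n = 1 := by
    intro s n h
    rw [← single_eq_C_mul_T] at h
    have hT1 : (T 1 : k[T;T⁻¹]) = AddMonoidAlgebra.single 1 1 := rfl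
    rw [hT1, AddMonoidAlgebra.single_inj] at h
    rcases h with ⟨h1, h2⟩ | ⟨h1, h2⟩
    · exact ⟨h2, h1⟩
    · exact absurd h2 one_ne_zero
  have hmapz : ∀ n : ℤ, (((Units.map (algebraMap k k[T;T⁻¹] : k →* k[T;T⁻¹]) e₀) ^ n :
      (k[T;T⁻¹])ˣ) : k[T;T⁻¹]) = C ((e₀ : k) ^ n) := by
    intro n
    rw [← map_zpow, Units.coe_map, Units.val_zpow_eq_zpow_val]
    rfl
  -- unit laws in K1
  have hj : (c * (e₀ : k) ^ i = 1) ∧ j = 1 := by
    have h := congrArg (fun u : (k[T;T⁻¹])ˣ => (u : k[T;T⁻¹])) (one_op k[T;T⁻¹] (unitT k))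
    simp only [law] at h
    apply hT
    rw [hmapz, unitT_zpow, val_unitT] at h
    rw [← h, map_mul]
    rfl
  have hi : (c * (e₀ : k) ^ j = 1) ∧ i = 1 := by
    have h := congrArg (fun u : (k[T;T⁻¹])ˣ => (u : k[T;T⁻¹])) (op_one k[T;T⁻¹] (unitT k))
    simp only [law] at h
    apply hT
    rw [hmapz, unitT_zpow, val_unitT] at h
    rw [← h, map_mul]
    have : algebraMap k k[T;T⁻¹] c = C c := rfl
    rw [this]
    ring
  obtain ⟨hce, hj1⟩ := hj
  obtain ⟨-, hi1⟩ := hi
  rw [hi1, zpow_one] at hce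
  ext
  rw [law, hi1, hj1, zpow_one, zpow_one, Units.val_mul, Units.val_mul, ← map_inv, Units.coe_map,
    Units.val_inv_eq_inv_val]
  have : c = (e₀ : k)⁻¹ := eq_inv_of_mul_eq_one_left hce
  rw [this]
  simp only [MonoidHom.coe_coe]
  ring

end GmLaw


open CategoryTheory MonoidalCategory CartesianMonoidalCategory MonObj GrpObj AlgebraicGeometry

section Bridge

variable (k : Type u) [CommRing k]

/-- affine test object over `Spec k` -/
noncomputable def Z (B : Type u) [CommRing B] [Algebra k B] : Over (Spec (CommRingCat.of k)) :=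
  Over.mk (Spec.map (CommRingCat.ofHom (algebraMap k B)))

noncomputable def Zmap {B B' : Type u} [CommRing B] [Algebra k B] [CommRing B'] [Algebra k B']
    (g : B →ₐ[k] B') : Z k B' ⟶ Z k B :=
  Over.homMk (Spec.map (CommRingCat.ofHom (g : B →+* B'))) (by
    show Spec.map _ ≫ Spec.map _ = Spec.map _
    rw [← Spec.map_comp, ← CommRingCat.ofHom_comp, AlgHom.comp_algebraMap])

/-- global sections of the test object -/
noncomputable def gsec (B : Type u) [CommRing B] [Algebra k B] : Γ((Z k B).left, ⊤) ≃+* B :=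
  (Scheme.ΓSpecIso (CommRingCat.of B)).commRingCatIsoToRingEquiv

lemma gsec_Zmap {B B' : Type u} [CommRing B] [Algebra k B] [CommRing B'] [Algebra k B']
    (g : B →ₐ[k] B') (s : Γ((Z k B).left, ⊤)) :
    gsec k B' ((Zmap k g).left.appTop s) = g (gsec k B s) := by
  have := Scheme.ΓSpecIso_naturality (CommRingCat.ofHom (g : B →+* B'))
  have h2 := congrArg (fun f => f.hom s) this
  exact h2

lemma exists_iso_Z (X : Over (Spec (CommRingCat.of k))) [IsAffine X.left] :
    ∃ (B : Type u) (_ : CommRing B) (_ : Algebra k B), Nonempty (X ≅ Z k B) := by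
  let φ : k →+* Γ(X.left, ⊤) :=
    (X.hom.appTop).hom.comp (Scheme.ΓSpecIso (CommRingCat.of k)).inv.hom
  let _ : Algebra k Γ(X.left, ⊤) := φ.toAlgebra
  refine ⟨Γ(X.left, ⊤), inferInstance, inferInstance, ⟨Over.isoMk X.left.isoSpec ?_⟩⟩
  show X.left.isoSpec.hom ≫ Spec.map (CommRingCat.ofHom φ) = X.hom
  have h1 : CommRingCat.ofHom φ = (Scheme.ΓSpecIso (CommRingCat.of k)).inv ≫ X.hom.appTop := rfl
  rw [h1, Spec.map_comp, ← Category.assoc]
  have h2 := Scheme.isoSpec_hom_naturality X.hom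
  rw [h2, Scheme.isoSpec_Spec_hom, Category.assoc, ← Spec.map_comp, Iso.inv_hom_id, Spec.map_id,
    Category.comp_id]


section Transport

variable {k}
variable {G : Over (Spec (CommRingCat.of k))} [GrpObj G]
variable {F : ∀ (B : Type u) [CommRing B] [Algebra k B], Type u}
  (Fmap : ∀ {B B' : Type u} [CommRing B] [Algebra k B] [CommRing B'] [Algebra k B'],
    (B →ₐ[k] B') → F B → F B')
  (ve : ∀ (B : Type u) [CommRing B] [Algebra k B], (Z k B ⟶ G) ≃ F B)
  (ve_nat : ∀ {B B' : Type u} [CommRing B] [Algebra k B] [CommRing B'] [Algebra k B']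
    (g : B →ₐ[k] B') (x : Z k B ⟶ G), ve B' (Zmap k g ≫ x) = Fmap g (ve B x))

/-- the transported operation -/
noncomputable def op (B : Type u) [CommRing B] [Algebra k B] (a b : F B) : F B :=
  ve B ((ve B).symm a * (ve B).symm b)

/-- the transported unit -/
noncomputable def e0 : F k := ve k 1

include ve_nat

omit [GrpObj G] in
lemma symm_nat {B B' : Type u} [CommRing B] [Algebra k B] [CommRing B'] [Algebra k B']
    (g : B →ₐ[k] B') (a : F B) : (ve B').symm (Fmap g a) = Zmap k g ≫ (ve B).symm a := by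
  rw [Equiv.symm_apply_eq, ve_nat, Equiv.apply_symm_apply]

lemma op_nat {B B' : Type u} [CommRing B] [Algebra k B] [CommRing B'] [Algebra k B']
    (g : B →ₐ[k] B') (a b : F B) : Fmap g (op ve B a b) = op ve B' (Fmap g a) (Fmap g b) := by
  unfold op
  rw [← ve_nat, MonObj.comp_mul, symm_nat Fmap ve ve_nat, symm_nat Fmap ve ve_nat]

lemma ve_one (B : Type u) [CommRing B] [Algebra k B] :
    ve B 1 = Fmap (Algebra.ofId k B) (e0 ve) := by
  unfold e0
  rw [← ve_nat, MonObj.comp_one]

lemma one_op (B : Type u) [CommRing B] [Algebra k B] (b : F B) :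
    op ve B (Fmap (Algebra.ofId k B) (e0 ve)) b = b := by
  unfold op
  rw [← ve_one Fmap ve ve_nat, Equiv.symm_apply_apply, _root_.one_mul, Equiv.apply_symm_apply]

lemma op_one (B : Type u) [CommRing B] [Algebra k B] (b : F B) :
    op ve B b (Fmap (Algebra.ofId k B) (e0 ve)) = b := by
  unfold op
  rw [← ve_one Fmap ve ve_nat, Equiv.symm_apply_apply, _root_.mul_one, Equiv.apply_symm_apply]

omit ve_nat in
lemma op_assoc (B : Type u) [CommRing B] [Algebra k B] (a b c : F B) :
    op ve B (op ve B a b) c = op ve B a (op ve B b c) := by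
  unfold op
  rw [Equiv.symm_apply_apply, Equiv.symm_apply_apply, _root_.mul_assoc]

lemma op_inv (B : Type u) [CommRing B] [Algebra k B] (a : F B) :
    ∃ a', op ve B a a' = Fmap (Algebra.ofId k B) (e0 ve) := by
  refine ⟨ve B ((ve B).symm a)⁻¹, ?_⟩
  unfold op
  rw [Equiv.symm_apply_apply, mul_inv_cancel, ve_one Fmap ve ve_nat]

omit ve_nat in
lemma ve_mul (B : Type u) [CommRing B] [Algebra k B] (x y : Z k B ⟶ G) :
    ve B (x * y) = op ve B (ve B x) (ve B y) := by
  unfold op
  rw [Equiv.symm_apply_apply, Equiv.symm_apply_apply]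

end Transport


end Bridge

section GaUnique

variable {k : Type u} [Field k]
variable (G : Over (Spec (CommRingCat.of k)))
  (fn : ∀ X : Over (Spec (CommRingCat.of k)), (X ⟶ G) → Γ(X.left, ⊤))
  (fn_nat : ∀ {X Y : Over (Spec (CommRingCat.of k))} (g : Y ⟶ X) (x : X ⟶ G),
    fn Y (g ≫ x) = g.left.appTop (fn X x))
  (fn_bij : ∀ X, Function.Bijective (fn X))

/-- points of `G` with values in the test object `Z k B` are elements of `B` -/
noncomputable def veGa (B : Type u) [CommRing B] [Algebra k B] : (Z k B ⟶ G) ≃ B :=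
  (Equiv.ofBijective (fn (Z k B)) (fn_bij _)).trans (gsec k B).toEquiv

lemma veGa_apply (B : Type u) [CommRing B] [Algebra k B] (x : Z k B ⟶ G) :
    veGa G fn fn_bij B x = gsec k B (fn _ x) := rfl

include fn_nat in
lemma veGa_nat {B B' : Type u} [CommRing B] [Algebra k B] [CommRing B'] [Algebra k B']
    (g : B →ₐ[k] B') (x : Z k B ⟶ G) :
    veGa G fn fn_bij B' (Zmap k g ≫ x) = g (veGa G fn fn_bij B x) := by
  rw [veGa_apply, veGa_apply, fn_nat, gsec_Zmap]

include fn_nat in
theorem ga_points_law [GrpObj G] (B : Type u) [CommRing B] [Algebra k B] (x y : Z k B ⟶ G) :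
    veGa G fn fn_bij B (lift x y ≫ μ[G]) = veGa G fn fn_bij B x + veGa G fn fn_bij B y
      - algebraMap k B (veGa G fn fn_bij k (toUnit _ ≫ η[G])) := by
  have hnat := fun {B B' : Type u} [CommRing B] [Algebra k B] [CommRing B'] [Algebra k B']
    (g : B →ₐ[k] B') (x : Z k B ⟶ G) => veGa_nat G fn fn_nat fn_bij g x
  have := ga_law k (fun B _ _ => op (F := fun B _ _ => B) (veGa G fn fn_bij) B)
    (fun B B' _ _ _ _ g a b => op_nat (F := fun B _ _ => B) (fun g => g) (veGa G fn fn_bij) hnat g a b)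
    (e0 (F := fun B _ _ => B) (veGa G fn fn_bij))
    (fun B _ _ b => one_op (F := fun B _ _ => B) (fun g => g) (veGa G fn fn_bij) hnat B b)
    (fun B _ _ b => op_one (F := fun B _ _ => B) (fun g => g) (veGa G fn fn_bij) hnat B b)
    (fun B _ _ a b c => op_assoc (F := fun B _ _ => B) (veGa G fn fn_bij) B a b c)
    (fun B _ _ a => op_inv (F := fun B _ _ => B) (fun g => g) (veGa G fn fn_bij) hnat B a)
    B (veGa G fn fn_bij B x) (veGa G fn fn_bij B y)
  rw [← ve_mul (F := fun B _ _ => B)] at this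
  exact this

include fn_nat fn_bij in
theorem ga_mul_unique (h₁ h₂ : GrpObj G) (e : h₁.one = h₂.one) [IsAffine (G ⊗ G).left] :
    h₁.mul = h₂.mul := by
  obtain ⟨B, _, _, ⟨j⟩⟩ := exists_iso_Z k (G ⊗ G)
  have L1 := @ga_points_law k _ G fn fn_nat fn_bij h₁ B _ _ (j.inv ≫ fst G G) (j.inv ≫ snd G G)
  have L2 := @ga_points_law k _ G fn fn_nat fn_bij h₂ B _ _ (j.inv ≫ fst G G) (j.inv ≫ snd G G)
  rw [← comp_lift, lift_fst_snd, Category.comp_id] at L1 L2
  have e' : (@MonObj.one _ _ _ G h₁.toMonObj) = (@MonObj.one _ _ _ G h₂.toMonObj) := e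
  rw [e'] at L1
  have := (veGa G fn fn_bij B).injective (L1.trans L2.symm)
  exact (cancel_epi j.inv).1 this

end GaUnique

section GmUnique

variable {k : Type u} [Field k]

section Abstract

variable (G : Over (Spec (CommRingCat.of k))) [GrpObj G]
  (ve : ∀ (B : Type u) [CommRing B] [Algebra k B], (Z k B ⟶ G) ≃ Bˣ)
  (hnat : ∀ {B B' : Type u} [CommRing B] [Algebra k B] [CommRing B'] [Algebra k B']
    (g : B →ₐ[k] B') (x : Z k B ⟶ G), ve B' (Zmap k g ≫ x) = Units.map (g : B →* B') (ve B x))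

include hnat in
theorem gm_points_law' (B : Type u) [CommRing B] [Algebra k B] (x y : Z k B ⟶ G) :
    ve B (lift x y ≫ μ[G]) = ve B x * ve B y *
        (Units.map (algebraMap k B : k →* B) (ve k (toUnit _ ≫ η[G])))⁻¹ := by
  have hmap : ∀ (B : Type u) [CommRing B] [Algebra k B],
      Units.map ((Algebra.ofId k B : k →ₐ[k] B) : k →* B) = Units.map (algebraMap k B : k →* B) := by
    intro B _ _
    ext u
    rfl
  have h1 : ∀ (B : Type u) [CommRing B] [Algebra k B] (b : Bˣ),
      op (F := fun B _ _ => Bˣ) ve B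
        (Units.map (algebraMap k B : k →* B) (e0 (F := fun B _ _ => Bˣ) ve)) b = b := by
    intro B _ _ b
    have t := one_op (F := fun B _ _ => Bˣ) (fun g => Units.map (g : _ →* _)) ve hnat B b
    rw [← hmap]
    exact t
  have h2 : ∀ (B : Type u) [CommRing B] [Algebra k B] (b : Bˣ),
      op (F := fun B _ _ => Bˣ) ve B b
        (Units.map (algebraMap k B : k →* B) (e0 (F := fun B _ _ => Bˣ) ve)) = b := by
    intro B _ _ b
    have t := op_one (F := fun B _ _ => Bˣ) (fun g => Units.map (g : _ →* _)) ve hnat B b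
    rw [← hmap]
    exact t
  have := gm_law k (fun B _ _ => op (F := fun B _ _ => Bˣ) ve B)
    (fun B B' _ _ _ _ g a b => op_nat (F := fun B _ _ => Bˣ) (fun g => Units.map (g : _ →* _))
      ve hnat g a b)
    (e0 (F := fun B _ _ => Bˣ) ve) h1 h2 B (ve B x) (ve B y)
  rw [← ve_mul (F := fun B _ _ => Bˣ)] at this
  exact this

end Abstract

variable (G : Over (Spec (CommRingCat.of k)))
  (fn : ∀ X : Over (Spec (CommRingCat.of k)), (X ⟶ G) → Γ(X.left, ⊤))
  (fn_nat : ∀ {X Y : Over (Spec (CommRingCat.of k))} (g : Y ⟶ X) (x : X ⟶ G),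
    fn Y (g ≫ x) = g.left.appTop (fn X x))
  (fn_unit : ∀ (X : Over (Spec (CommRingCat.of k))) (x : X ⟶ G), IsUnit (fn X x))
  (fn_inj : ∀ X, Function.Injective (fn X))
  (fn_surj : ∀ (X : Over (Spec (CommRingCat.of k))) (u : Γ(X.left, ⊤)), IsUnit u → ∃ x, fn X x = u)

/-- points of `G` with values in the test object `Z k B` are units of `B` -/
noncomputable def veGm (B : Type u) [CommRing B] [Algebra k B] : (Z k B ⟶ G) ≃ Bˣ :=
  Equiv.ofBijective (fun x => Units.map ((gsec k B : Γ((Z k B).left, ⊤) →+* B) : _ →* B) (fn_unit _ x).unit)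
    ⟨fun x y h => by
      apply fn_inj
      have h1 := congrArg (fun u : Bˣ => (u : B)) h
      exact (gsec k B).injective h1,
    fun u => by
      obtain ⟨x, hx⟩ := fn_surj (Z k B) ((gsec k B).symm (u : B))
        (u.isUnit.map (gsec k B).symm)
      refine ⟨x, ?_⟩
      ext
      show gsec k B (fn _ x) = u
      rw [hx, RingEquiv.apply_symm_apply]⟩

lemma veGm_apply (B : Type u) [CommRing B] [Algebra k B] (x : Z k B ⟶ G) :
    ((veGm G fn fn_unit fn_inj fn_surj B x : Bˣ) : B) = gsec k B (fn _ x) := rfl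

include fn_nat in
lemma veGm_nat {B B' : Type u} [CommRing B] [Algebra k B] [CommRing B'] [Algebra k B']
    (g : B →ₐ[k] B') (x : Z k B ⟶ G) :
    veGm G fn fn_unit fn_inj fn_surj B' (Zmap k g ≫ x) =
      Units.map (g : B →* B') (veGm G fn fn_unit fn_inj fn_surj B x) := by
  ext
  rw [veGm_apply, Units.coe_map, veGm_apply, fn_nat, gsec_Zmap]
  rfl

include fn_nat fn_unit fn_inj fn_surj in
theorem gm_mul_unique (h₁ h₂ : GrpObj G) (e : h₁.one = h₂.one) [IsAffine (G ⊗ G).left] :
    h₁.mul = h₂.mul := by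
  obtain ⟨B, _, _, ⟨j⟩⟩ := exists_iso_Z k (G ⊗ G)
  have hnat := fun {B B' : Type u} [CommRing B] [Algebra k B] [CommRing B'] [Algebra k B']
    (g : B →ₐ[k] B') (x : Z k B ⟶ G) => veGm_nat G fn fn_nat fn_unit fn_inj fn_surj g x
  have L1 := @gm_points_law' k _ G h₁ (veGm G fn fn_unit fn_inj fn_surj) hnat B _ _
    (j.inv ≫ fst G G) (j.inv ≫ snd G G)
  have L2 := @gm_points_law' k _ G h₂ (veGm G fn fn_unit fn_inj fn_surj) hnat B _ _
    (j.inv ≫ fst G G) (j.inv ≫ snd G G)
  rw [← comp_lift, lift_fst_snd, Category.comp_id] at L1 L2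
  have e' : (@MonObj.one _ _ _ G h₁.toMonObj) = (@MonObj.one _ _ _ G h₂.toMonObj) := e
  rw [e'] at L1
  have := (veGm G fn fn_unit fn_inj fn_surj B).injective (L1.trans L2.symm)
  exact (cancel_epi j.inv).1 this

end GmUnique

end Groth.Agent.Lib.helper15.NatGrp
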