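import Mathlib
import Groth.Agent.Lib.Helper15.DSMap

/-!
# Dictionary: affine group schemes over `Spec R` ↔ Hopf algebras (helper15)

* `exists_hopf_of_affine`: an affine group scheme over `Spec R` is isomorphic (as a group object) to
  `Spec` of a Hopf algebra.
* `exists_bialgHom_of_isMonHom`: a homomorphism `Spec A ⟶ Spec B` is `Spec` of a bialgebra hom.
* `grpIso_of_bialgEquiv`.
-/

set_option autoImplicit false
universe u
open CategoryTheory MonoidalCategory CartesianMonoidalCategory MonObj GrpObj AlgebraicGeometry Limits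

namespace Groth.Agent.Lib.helper15.HopfDict

/-- `Spec A` as a group scheme over `Spec R`. -/
noncomputable abbrev GA (R : Type u) [CommRing R] (A : Type u) [CommRing A] [Algebra R A] :
    Over (Spec (CommRingCat.of R)) :=
  (Spec (CommRingCat.of A)).asOver (Spec (CommRingCat.of R))

theorem exists_hopf_of_affine (R : Type u) [CommRing R] (G : Over (Spec (CommRingCat.of R)))
    [GrpObj G] [IsAffine G.left] :
    ∃ (B : Type u) (_ : CommRing B) (_ : HopfAlgebra R B),
      Nonempty (Grp.mk G ≅ Grp.mk (GA R B)) := by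
  have h : (hopfSpec (CommRingCat.of R)).essImage (Grp.mk G) := essImage_hopfSpec.mpr ‹_›
  obtain ⟨Y, ⟨e⟩⟩ := h
  exact ⟨Y.unop, inferInstance, inferInstance, ⟨e.symm⟩⟩

/-- the underlying isomorphism of an isomorphism of group objects, with both directions
homomorphisms. -/
theorem exists_iso_of_grpIso {C : Type*} [Category C] [CartesianMonoidalCategory C] {G G' : C}
    [GrpObj G] [GrpObj G'] (ε : Grp.mk G ≅ Grp.mk G') :
    ∃ e : G ≅ G', IsMonHom e.hom ∧ IsMonHom e.inv :=
  ⟨(Grp.forget₂Mon C ⋙ Mon.forget C).mapIso ε, ε.hom.hom.isMonHom_hom, ε.inv.hom.isMonHom_hom⟩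

theorem exists_hopf_of_affine' (R : Type u) [CommRing R] (G : Over (Spec (CommRingCat.of R)))
    [GrpObj G] [IsAffine G.left] :
    ∃ (B : Type u) (_ : CommRing B) (_ : HopfAlgebra R B) (e : G ≅ GA R B),
      IsMonHom e.hom ∧ IsMonHom e.inv := by
  obtain ⟨B, _, _, ⟨ε⟩⟩ := exists_hopf_of_affine R G
  obtain ⟨e, h1, h2⟩ := exists_iso_of_grpIso ε
  exact ⟨B, inferInstance, inferInstance, e, h1, h2⟩

/-- `Spec` of an algebra hom. -/
noncomputable abbrev specMap {R : Type u} [CommRing R] {A B : Type u} [CommRing A] [CommRing B]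
    [Algebra R A] [Algebra R B] (φ : A →ₐ[R] B) : GA R B ⟶ GA R A :=
  (Spec.map (CommRingCat.ofHom φ.toRingHom)).asOver (Spec (CommRingCat.of R))

theorem exists_bialgHom_of_isMonHom {R : Type u} [CommRing R] {A B : Type u} [CommRing A]
    [CommRing B] [Bialgebra R A] [Bialgebra R B] (g : GA R A ⟶ GA R B) [IsMonHom g] :
    ∃ ψ : B →ₐc[R] A, g = specMap (ψ : B →ₐ[R] A) := by
  let G : (bialgSpec (CommRingCat.of R)).obj (Opposite.op (CommBialgCat.of R A)) ⟶
      (bialgSpec (CommRingCat.of R)).obj (Opposite.op (CommBialgCat.of R B)) :=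
    @Mon.Hom.mk _ _ _ _ _ g ‹IsMonHom g›
  have hfull : (bialgSpec (CommRingCat.of R)).Full := bialgSpec.instFull
  obtain ⟨p, hp⟩ := (bialgSpec (CommRingCat.of R)).map_surjective G
  refine ⟨p.unop.hom, ?_⟩
  have h1 : ((bialgSpec (CommRingCat.of R)).map p).hom = g := by rw [hp]
  rw [← h1]
  rfl

theorem specMap_comp {R : Type u} [CommRing R] {A B C : Type u} [CommRing A] [CommRing B]
    [CommRing C] [Algebra R A] [Algebra R B] [Algebra R C] (φ : A →ₐ[R] B) (ψ : B →ₐ[R] C) :
    specMap (ψ.comp φ) = specMap ψ ≫ specMap φ := by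
  ext : 1
  change Spec.map (CommRingCat.ofHom (ψ.comp φ).toRingHom) =
    Spec.map (CommRingCat.ofHom ψ.toRingHom) ≫ Spec.map (CommRingCat.ofHom φ.toRingHom)
  rw [← Spec.map_comp]
  rfl

theorem specMap_id {R : Type u} [CommRing R] {A : Type u} [CommRing A] [Algebra R A] :
    specMap (AlgHom.id R A) = 𝟙 (GA R A) := by
  ext : 1
  change Spec.map (CommRingCat.ofHom (AlgHom.id R A).toRingHom) = 𝟙 _
  exact Spec.map_id _

/-- the isomorphism of group schemes induced by an isomorphism of bialgebras. -/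
noncomputable def grpIso_of_bialgEquiv {R : Type u} [CommRing R] {A B : Type u} [CommRing A]
    [CommRing B] [HopfAlgebra R A] [HopfAlgebra R B] (e : B ≃ₐc[R] A) :
    Grp.mk (GA R A) ≅ Grp.mk (GA R B) :=
  haveI : IsMonHom (specMap ((e : B →ₐc[R] A) : B →ₐ[R] A)) :=
    Groth.Agent.Lib.helper15.DSMap.isMonHom_specMap (e : B →ₐc[R] A)
  Grp.mkIso' (G := GA R A) (H := GA R B)
    { hom := specMap ((e : B →ₐc[R] A) : B →ₐ[R] A)
      inv := specMap ((e.symm : A →ₐc[R] B) : A →ₐ[R] B)
      hom_inv_id := by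
        rw [← specMap_comp, ← specMap_id]
        congr 1
        ext x
        exact e.apply_symm_apply x
      inv_hom_id := by
        rw [← specMap_comp, ← specMap_id]
        congr 1
        ext x
        exact e.symm_apply_apply x }

end Groth.Agent.Lib.helper15.HopfDict
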