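import Mathlib
import Groth.Prelude.Def_SekSuwa2
import Groth.Agent.S14694

/-!
# Actions of `G_{μ,p}` on `G_{λ,p}` by group automorphisms are trivial (helper15)

Algebraic core: points of `G_{λ,N}` with values in an `R`-algebra `D` are algebra maps
`AK R lam N h →ₐ[R] D`; the `y`-coordinate of a point `x` is `x (1 + λ t)`, an `N`-th root of unity.
-/

set_option autoImplicit false
universe u
open WithConv

namespace Groth.Agent.Lib.helper15.SekSuwaAct

open SekSuwa

section YCoord

variable {R : Type u} [CommRing R] {lam : R} {N : ℕ} {h : DivCond lam N}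
variable {D : Type u} [CommRing D] [Algebra R D]

/-- the `y`-coordinate `1 + λ x(t)` of a point. -/
noncomputable def yc (x : WithConv (AK R lam N h →ₐ[R] D)) : D :=
  x.ofConv (1 + lam • AK.t)

lemma yc_pow (x : WithConv (AK R lam N h →ₐ[R] D)) : yc x ^ N = 1 := by
  rw [yc, ← map_pow, AK.u_pow, map_one]

lemma yc_mul (x x' : WithConv (AK R lam N h →ₐ[R] D)) : yc (x * x') = yc x * yc x' := by
  have hgl : IsGroupLikeElem R (1 + lam • (AK.t : AK R lam N h)) := (AK.uGL R lam N h).2
  change (x * x') (1 + lam • AK.t) = _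
  rw [AlgHom.convMul_apply, hgl.comul_eq_tmul_self, Algebra.TensorProduct.lift_tmul]
  rfl

lemma yc_one : yc (1 : WithConv (AK R lam N h →ₐ[R] D)) = 1 := by
  have hgl : IsGroupLikeElem R (1 + lam • (AK.t : AK R lam N h)) := (AK.uGL R lam N h).2
  change (1 : WithConv (AK R lam N h →ₐ[R] D)) (1 + lam • AK.t) = _
  rw [AlgHom.convOne_apply, hgl.counit_eq_one, map_one]

lemma yc_comp {D' : Type u} [CommRing D'] [Algebra R D'] (f : D →ₐ[R] D')
    (x : WithConv (AK R lam N h →ₐ[R] D)) :
    yc (toConv (f.comp x.ofConv)) = f (yc x) := rfl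

lemma yc_eq (x : WithConv (AK R lam N h →ₐ[R] D)) :
    yc x = 1 + algebraMap R D lam * x.ofConv AK.t := by
  rw [yc, map_add, map_one, map_smul, Algebra.smul_def]

lemma apply_inv_mul_yc (x : WithConv (AK R lam N h →ₐ[R] D)) :
    x.ofConv AK.inv * yc x = 1 := by
  have e1 : (AK.inv : AK R lam N h) * (1 + lam • AK.t) = 1 := by
    have := congrArg (AK.mkHom R lam N h) (A.inv_mul_u (R := R) (lam := lam))
    rw [map_mul, map_one, A.u, map_add, map_one, map_smul] at this
    exact this
  rw [yc, ← map_mul, e1, map_one]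

/-- if `λ` is a non-zero-divisor on `D`, a point is determined by its `y`-coordinate. -/
lemma yc_injective (hlam : ∀ d : D, algebraMap R D lam * d = 0 → d = 0) :
    Function.Injective (yc : WithConv (AK R lam N h →ₐ[R] D) → D) := by
  intro x x' hxx
  apply WithConv.ofConv_injective
  apply AK.algHom_ext
  · have h1 := yc_eq x
    have h2 := yc_eq x'
    rw [hxx] at h1
    have h3 : algebraMap R D lam * (x.ofConv AK.t - x'.ofConv AK.t) = 0 := by
      rw [mul_sub, sub_eq_zero]
      exact add_left_cancel (h1.symm.trans h2)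
    exact sub_eq_zero.mp (hlam _ h3)
  · have h1 := apply_inv_mul_yc x
    have h2 := apply_inv_mul_yc x'
    rw [hxx] at h1
    calc x.ofConv AK.inv = x.ofConv AK.inv * (x'.ofConv AK.inv * yc x')  := by rw [h2, mul_one]
      _ = (x.ofConv AK.inv * yc x') * x'.ofConv AK.inv := by ring
      _ = x'.ofConv AK.inv := by rw [h1, one_mul]

/-- if `λ` is invertible in `D`, every `N`-th root of unity is the `y`-coordinate of a point. -/
lemma exists_yc_eq (hN : 0 < N) (hlam : IsUnit (algebraMap R D lam)) (z : D) (hz : z ^ N = 1) :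
    ∃ x : WithConv (AK R lam N h →ₐ[R] D), yc x = z := by
  obtain ⟨l, hl⟩ := hlam
  set b : D := (↑l⁻¹ : D) * (z - 1) with hb
  have hlb : algebraMap R D lam * b = z - 1 := by
    rw [hb, ← hl, ← mul_assoc, Units.mul_inv, one_mul]
  have hrel : (1 + lam • b) * z ^ (N - 1) = 1 := by
    rw [Algebra.smul_def, hlb, add_sub_cancel, ← pow_succ', Nat.sub_add_cancel hN, hz]
  let f0 : A R lam →ₐ[R] D := A.lift R lam b (z ^ (N - 1)) hrel
  have hf0 : ∀ a ∈ kerIdeal lam N h, f0 a = 0 := by
    intro a ha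
    rw [kerIdeal, Ideal.mem_span_singleton'] at ha
    obtain ⟨c, rfl⟩ := ha
    have h0 : f0 (kerGen lam N h) = 0 := by
      rw [kerGen, ← Polynomial.aeval_algHom_apply, A.lift_t]
      have h1 := aeval_psiPoly h b
      rw [hlb, add_sub_cancel, hz, sub_self, map_pow, ← hl] at h1
      exact (Units.isUnit (l ^ N)).mul_left_cancel (by rw [Units.val_pow_eq_pow_val, h1, mul_zero])
    rw [map_mul, h0, mul_zero]
  let f : AK R lam N h →ₐ[R] D := Ideal.Quotient.liftₐ (kerIdeal lam N h) f0 hf0
  refine ⟨toConv f, ?_⟩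
  have hft : f AK.t = b := by
    change f0 A.t = _
    exact A.lift_t _ _ hrel
  rw [yc_eq]
  change 1 + algebraMap R D lam * f AK.t = z
  rw [hft, hlb]; ring

lemma yc_pow' (x : WithConv (AK R lam N h →ₐ[R] D)) (n : ℕ) : yc (x ^ n) = yc x ^ n := by
  induction n with
  | zero => rw [pow_zero, pow_zero, yc_one]
  | succ n ih => rw [pow_succ, pow_succ, yc_mul, ih]

end YCoord

section Aux

variable {D : Type*} [CommRing D]

lemma pow_mod_of_pow_eq_one {z : D} {p : ℕ} (hz : z ^ p = 1) (k : ℕ) : z ^ (k % p) = z ^ k := by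
  conv_rhs => rw [← Nat.div_add_mod k p, pow_add, pow_mul, hz, one_pow, one_mul]

lemma idem_mul_sum_pow {ι : Type*} [Fintype ι] [DecidableEq ι] (a : ι → D)
    (horth : ∀ i j, a i * a j = if i = j then a i else 0) (b : ι → D) (i : ι) (k : ℕ) :
    a i * (∑ j, a j * b j) ^ k = a i * b i ^ k := by
  have h1 : a i * (∑ j, a j * b j) = a i * b i := by
    rw [Finset.mul_sum]
    simp_rw [← mul_assoc, horth, ite_mul, zero_mul]
    rw [Finset.sum_ite_eq]
    simp
  induction k with
  | zero => simp
  | succ k ih =>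
    rw [pow_succ, ← mul_assoc, ih, mul_assoc, mul_comm (b i ^ k), ← mul_assoc, h1, pow_succ]
    ring

/-- the character of `ℤ/p` defined by a `p`-th root of unity. -/
noncomputable def chi (p : ℕ) [NeZero p] (z : D) (hz : z ^ p = 1) : Multiplicative (ZMod p) →* D where
  toFun m := z ^ (Multiplicative.toAdd m).val
  map_one' := by simp
  map_mul' a b := by
    rw [toAdd_mul, ZMod.val_add, pow_mod_of_pow_eq_one hz, pow_add]

lemma chi_apply (p : ℕ) [NeZero p] (z : D) (hz : z ^ p = 1) (m : Multiplicative (ZMod p)) :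
    chi p z hz m = z ^ (Multiplicative.toAdd m).val := rfl

end Aux

section Main

variable (R : Type u) [CommRing R] (lam mu : R) (p : ℕ) (h₁ : DivCond lam p) (h₂ : DivCond mu p)

/-- an action of `G_{μ,p}` on `G_{λ,p}` by group endomorphisms, on points with values in
`R`-algebras. -/
structure ActData where
  act : ∀ (D : Type u) [CommRing D] [Algebra R D], WithConv (AK R mu p h₂ →ₐ[R] D) →
    WithConv (AK R lam p h₁ →ₐ[R] D) → WithConv (AK R lam p h₁ →ₐ[R] D)
  nat : ∀ (D D' : Type u) [CommRing D] [Algebra R D] [CommRing D'] [Algebra R D']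
    (f : D →ₐ[R] D') (g : WithConv (AK R mu p h₂ →ₐ[R] D))
    (x : WithConv (AK R lam p h₁ →ₐ[R] D)),
    toConv (f.comp (act D g x).ofConv) = act D' (toConv (f.comp g.ofConv)) (toConv (f.comp x.ofConv))
  one_act : ∀ (D : Type u) [CommRing D] [Algebra R D] (x : WithConv (AK R lam p h₁ →ₐ[R] D)),
    act D 1 x = x
  mul_act : ∀ (D : Type u) [CommRing D] [Algebra R D] (g g' : WithConv (AK R mu p h₂ →ₐ[R] D))
    (x : WithConv (AK R lam p h₁ →ₐ[R] D)), act D (g * g') x = act D g (act D g' x)
  act_mul : ∀ (D : Type u) [CommRing D] [Algebra R D] (g : WithConv (AK R mu p h₂ →ₐ[R] D))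
    (x x' : WithConv (AK R lam p h₁ →ₐ[R] D)), act D g (x * x') = act D g x * act D g x'

variable {R lam mu p h₁ h₂}
variable (a : ActData R lam mu p h₁ h₂)

lemma ActData.pow_act {D : Type u} [CommRing D] [Algebra R D] (g : WithConv (AK R mu p h₂ →ₐ[R] D))
    (x : WithConv (AK R lam p h₁ →ₐ[R] D)) (n : ℕ) : a.act D (g ^ n) x = (a.act D g)^[n] x := by
  induction n with
  | zero => rw [pow_zero, a.one_act]; rfl
  | succ n ih => rw [pow_succ', a.mul_act, ih, Function.iterate_succ_apply']

lemma ActData.yc_act_one {D : Type u} [CommRing D] [Algebra R D]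
    (g : WithConv (AK R mu p h₂ →ₐ[R] D)) : yc (a.act D g 1) = 1 := by
  have h1 : yc (a.act D g 1) = yc (a.act D g 1) * yc (a.act D g 1) := by
    rw [← yc_mul, ← a.act_mul, one_mul]
  have hu : IsUnit (yc (a.act D g 1)) := by
    rcases Nat.eq_zero_or_pos p with hp | hp
    · -- p = 0: impossible to conclude from the power; use the inverse coordinate
      exact IsUnit.of_mul_eq_one _ (by rw [mul_comm]; exact apply_inv_mul_yc _)
    · exact IsUnit.of_pow_eq_one (yc_pow _) hp.ne'
  exact (hu.mul_left_cancel (by rw [mul_one]; exact h1)).symm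

section Formula

variable [Fact p.Prime] {D : Type u} [CommRing D] [Algebra R D]

/-- expansion of an element of the group algebra of `ℤ/p`. -/
lemma expand (x : MonoidAlgebra D (Multiplicative (ZMod p))) :
    x = ∑ i : ZMod p, MonoidAlgebra.single (Multiplicative.ofAdd i) (x.coeff (Multiplicative.ofAdd i)) := by
  have h1 : x = ∑ m : Multiplicative (ZMod p), MonoidAlgebra.single m (x.coeff m) :=
    (MonoidAlgebra.sum_coeff_single x).symm.trans (Finsupp.sum_fintype _ _ (by simp))
  rw [← Equiv.sum_comp Multiplicative.ofAdd] at h1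
  exact h1

/-- the universal root of unity. -/
noncomputable def Zel (D : Type u) [CommRing D] (p : ℕ) : MonoidAlgebra D (Multiplicative (ZMod p)) :=
  MonoidAlgebra.single (Multiplicative.ofAdd (1 : ZMod p)) 1

lemma Zel_pow : Zel D p ^ p = 1 := by
  rw [Zel, MonoidAlgebra.single_pow, one_pow, ← ofAdd_nsmul, nsmul_one, ZMod.natCast_self, ofAdd_zero]
  rfl

lemma isUnit_algebraMap_of_algHom {D' : Type u} [CommRing D'] [Algebra R D'] (f : D →ₐ[R] D')
    (hlam : IsUnit (algebraMap R D lam)) : IsUnit (algebraMap R D' lam) := by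
  rw [← f.commutes]
  exact hlam.map f

lemma nzd_of_isUnit (hlam : IsUnit (algebraMap R D lam)) :
    ∀ d : D, algebraMap R D lam * d = 0 → d = 0 := by
  intro d hd
  exact hlam.mul_left_cancel (by rw [hd, mul_zero])

variable (hlam : IsUnit (algebraMap R D lam)) (g : WithConv (AK R mu p h₂ →ₐ[R] D))

/-- the universal point over the group algebra. -/
noncomputable def xE : WithConv (AK R lam p h₁ →ₐ[R] MonoidAlgebra D (Multiplicative (ZMod p))) :=
  (exists_yc_eq (Fact.out : p.Prime).pos
    (isUnit_algebraMap_of_algHom (MonoidAlgebra.singleOneAlgHom : D →ₐ[R] _) hlam)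
    (Zel D p) Zel_pow).choose

lemma yc_xE : yc (xE (h₁ := h₁) hlam) = Zel D p :=
  (exists_yc_eq (Fact.out : p.Prime).pos
    (isUnit_algebraMap_of_algHom (MonoidAlgebra.singleOneAlgHom : D →ₐ[R] _) hlam)
    (Zel D p) Zel_pow).choose_spec

/-- the element of the group algebra describing `x ↦ g • x`. -/
noncomputable def wel : MonoidAlgebra D (Multiplicative (ZMod p)) :=
  yc (a.act _ (toConv ((MonoidAlgebra.singleOneAlgHom : D →ₐ[R] _).comp g.ofConv)) (xE hlam))

/-- its coefficients. -/
noncomputable def co (i : ZMod p) : D := (wel a hlam g).coeff (Multiplicative.ofAdd i)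

theorem yc_act_formula {D' : Type u} [CommRing D'] [Algebra R D'] (f : D →ₐ[R] D')
    (x' : WithConv (AK R lam p h₁ →ₐ[R] D')) :
    yc (a.act D' (toConv (f.comp g.ofConv)) x') = ∑ i : ZMod p, f (co a hlam g i) * yc x' ^ i.val := by
  have hz := yc_pow x'
  set z := yc x' with hzdef
  let Fz : MonoidAlgebra D (Multiplicative (ZMod p)) →ₐ[R] D' :=
    MonoidAlgebra.liftNCAlgHom f (chi p z hz) (fun _ _ => Commute.all _ _)
  have hFs : ∀ (m : Multiplicative (ZMod p)) (d : D),
      Fz (MonoidAlgebra.single m d) = f d * z ^ (Multiplicative.toAdd m).val := by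
    intro m d
    change MonoidAlgebra.liftNC _ _ _ = _
    rw [MonoidAlgebra.liftNC_single]
    rfl
  have h1 : Fz.comp (MonoidAlgebra.singleOneAlgHom : D →ₐ[R] _) = f := by
    ext d
    rw [AlgHom.comp_apply, MonoidAlgebra.singleOneAlgHom_apply, hFs]
    simp
  have hlam' : IsUnit (algebraMap R D' lam) := isUnit_algebraMap_of_algHom f hlam
  have h2 : toConv (Fz.comp (xE (h₁ := h₁) hlam).ofConv) = x' := by
    apply yc_injective (nzd_of_isUnit hlam')
    rw [yc_comp, yc_xE, Zel, hFs, map_one, one_mul, toAdd_ofAdd]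
    have : Fact (1 < p) := ⟨(Fact.out : p.Prime).one_lt⟩
    rw [ZMod.val_one, pow_one]
  have h3 := a.nat _ _ Fz (toConv ((MonoidAlgebra.singleOneAlgHom : D →ₐ[R] _).comp g.ofConv))
    (xE hlam)
  rw [h2] at h3
  have h4 : Fz.comp (toConv ((MonoidAlgebra.singleOneAlgHom : D →ₐ[R] _).comp g.ofConv)).ofConv
      = f.comp g.ofConv := by
    rw [ofConv_toConv, ← AlgHom.comp_assoc, h1]
  rw [h4] at h3
  rw [← h3, yc_comp]
  change Fz (wel a hlam g) = _
  conv_lhs => rw [expand (wel a hlam g)]
  rw [map_sum]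
  refine Finset.sum_congr rfl fun i _ => ?_
  rw [hFs, toAdd_ofAdd]
  rfl

lemma sum_co : ∑ i : ZMod p, co a hlam g i = 1 := by
  have h1 := yc_act_formula a hlam g (AlgHom.id R D) 1
  rw [AlgHom.id_comp, toConv_ofConv, a.yc_act_one, yc_one] at h1
  rw [h1]
  refine Finset.sum_congr rfl fun i _ => ?_
  rw [one_pow, mul_one, AlgHom.id_apply]

lemma co_mul_co (i₀ j₀ : ZMod p) :
    co a hlam g i₀ * co a hlam g j₀ = if i₀ = j₀ then co a hlam g i₀ else 0 := by
  classical
  have hpos : 0 < p := (Fact.out : p.Prime).pos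
  let M := Multiplicative (ZMod p)
  let ι₂ : D →ₐ[R] MonoidAlgebra D (M × M) := MonoidAlgebra.singleOneAlgHom
  have hlam₂ : IsUnit (algebraMap R (MonoidAlgebra D (M × M)) lam) :=
    isUnit_algebraMap_of_algHom ι₂ hlam
  have hgen : (Multiplicative.ofAdd (1 : ZMod p)) ^ p = 1 := by
    rw [← ofAdd_nsmul, nsmul_one, ZMod.natCast_self, ofAdd_zero]
  have hgenk : ∀ i : ZMod p, (Multiplicative.ofAdd (1 : ZMod p)) ^ i.val = Multiplicative.ofAdd i := by
    intro i
    rw [← ofAdd_nsmul, nsmul_one, ZMod.natCast_zmod_val]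
  let Z₁ : MonoidAlgebra D (M × M) := MonoidAlgebra.single (Multiplicative.ofAdd (1 : ZMod p), 1) 1
  let Z₂ : MonoidAlgebra D (M × M) := MonoidAlgebra.single (1, Multiplicative.ofAdd (1 : ZMod p)) 1
  have hZ₁ : Z₁ ^ p = 1 := by
    change (MonoidAlgebra.single _ _) ^ p = 1
    rw [MonoidAlgebra.single_pow, one_pow, Prod.pow_mk, hgen, one_pow]
    rfl
  have hZ₂ : Z₂ ^ p = 1 := by
    change (MonoidAlgebra.single _ _) ^ p = 1
    rw [MonoidAlgebra.single_pow, one_pow, Prod.pow_mk, hgen, one_pow]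
    rfl
  obtain ⟨x₁, hx₁⟩ := exists_yc_eq (h := h₁) hpos hlam₂ Z₁ hZ₁
  obtain ⟨x₂, hx₂⟩ := exists_yc_eq (h := h₁) hpos hlam₂ Z₂ hZ₂
  have e1 := yc_act_formula a hlam g ι₂ x₁
  have e2 := yc_act_formula a hlam g ι₂ x₂
  have e3 := yc_act_formula a hlam g ι₂ (x₁ * x₂)
  rw [a.act_mul, yc_mul, e1, e2, yc_mul, hx₁, hx₂] at e3
  have t1 : ∀ i : ZMod p, ι₂ (co a hlam g i) * Z₁ ^ i.val =
      MonoidAlgebra.single (Multiplicative.ofAdd i, (1 : M)) (co a hlam g i) := by
    intro i
    change MonoidAlgebra.single _ _ * (MonoidAlgebra.single _ _) ^ i.val = _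
    rw [MonoidAlgebra.single_pow, MonoidAlgebra.single_mul_single, one_pow, mul_one, one_mul,
      Prod.pow_mk, hgenk, one_pow]
  have t2 : ∀ i : ZMod p, ι₂ (co a hlam g i) * Z₂ ^ i.val =
      MonoidAlgebra.single ((1 : M), Multiplicative.ofAdd i) (co a hlam g i) := by
    intro i
    change MonoidAlgebra.single _ _ * (MonoidAlgebra.single _ _) ^ i.val = _
    rw [MonoidAlgebra.single_pow, MonoidAlgebra.single_mul_single, one_pow, mul_one, one_mul,
      Prod.pow_mk, hgenk, one_pow]
  have t3 : ∀ i : ZMod p, ι₂ (co a hlam g i) * (Z₁ * Z₂) ^ i.val =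
      MonoidAlgebra.single (Multiplicative.ofAdd i, Multiplicative.ofAdd i) (co a hlam g i) := by
    intro i
    change MonoidAlgebra.single _ _ * (MonoidAlgebra.single _ _ * MonoidAlgebra.single _ _) ^ i.val = _
    rw [MonoidAlgebra.single_mul_single, MonoidAlgebra.single_pow, MonoidAlgebra.single_mul_single,
      one_mul, mul_one, one_pow, mul_one, Prod.mk_mul_mk, mul_one, one_mul, Prod.pow_mk, hgenk]
  simp_rw [t1, t2, t3] at e3
  rw [Finset.sum_mul_sum] at e3
  simp_rw [MonoidAlgebra.single_mul_single, Prod.mk_mul_mk, mul_one, one_mul] at e3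
  have e4 := congrArg (fun w => w.coeff (Multiplicative.ofAdd i₀, Multiplicative.ofAdd j₀)) e3
  simp only [MonoidAlgebra.coeff_sum, Finsupp.finsetSum_apply, MonoidAlgebra.coeff_single,
    Finsupp.single_apply, Prod.mk.injEq, Multiplicative.ofAdd.injective.eq_iff] at e4
  rw [Finset.sum_eq_single i₀, Finset.sum_eq_single j₀] at e4
  · simp only [true_and] at e4
    rw [Finset.sum_eq_single i₀] at e4
    · simp only [true_and] at e4
      exact e4
    · intro i _ hi
      simp [hi]
    · simp
  · intro j _ hj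
    simp [hj]
  · simp
  · intro i _ hi
    apply Finset.sum_eq_zero
    intro j _
    simp [hi]
  · simp

include hlam in
lemma yc_iterate (x : WithConv (AK R lam p h₁ →ₐ[R] D)) (n : ℕ) :
    yc ((a.act D g)^[n] x) = ∑ i : ZMod p, co a hlam g i * yc x ^ (i ^ n).val := by
  have hz := yc_pow x
  have : Fact (1 < p) := ⟨(Fact.out : p.Prime).one_lt⟩
  induction n with
  | zero =>
    simp only [Function.iterate_zero, id, pow_zero, ZMod.val_one, pow_one]
    rw [← Finset.sum_mul, sum_co, one_mul]
  | succ n ih =>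
    rw [Function.iterate_succ_apply']
    have h1 := yc_act_formula a hlam g (AlgHom.id R D) ((a.act D g)^[n] x)
    rw [AlgHom.id_comp, toConv_ofConv] at h1
    rw [h1, ih]
    refine Finset.sum_congr rfl fun i _ => ?_
    rw [AlgHom.id_apply, idem_mul_sum_pow (co a hlam g) (co_mul_co a hlam g)
      (fun j => yc x ^ (j ^ n).val) i i.val]
    congr 1
    rw [← pow_mul, pow_succ, ZMod.val_mul, pow_mod_of_pow_eq_one hz]

include hlam in
/-- the action is trivial on points with values in an algebra in which `λ` is invertible and `μ`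
is a non-zero-divisor. -/
theorem act_eq_of_isUnit (hmu : ∀ d : D, algebraMap R D mu * d = 0 → d = 0)
    (x : WithConv (AK R lam p h₁ →ₐ[R] D)) : a.act D g x = x := by
  apply yc_injective (nzd_of_isUnit hlam)
  have hgp : g ^ p = 1 := by
    apply yc_injective hmu
    rw [yc_pow', yc_pow, yc_one]
  have h1 := yc_iterate a hlam g x p
  rw [← a.pow_act, hgp, a.one_act] at h1
  have h2 := yc_act_formula a hlam g (AlgHom.id R D) x
  rw [AlgHom.id_comp, toConv_ofConv] at h2
  rw [h2]
  conv_rhs => rw [h1]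
  refine Finset.sum_congr rfl fun i _ => ?_
  rw [AlgHom.id_apply, ZMod.pow_card]

end Formula

/-- the action is trivial on points with values in an algebra on which `λ` and `μ` are
non-zero-divisors. -/
theorem act_eq [Fact p.Prime] (D : Type u) [CommRing D] [Algebra R D]
    (hlam : ∀ d : D, algebraMap R D lam * d = 0 → d = 0)
    (hmu : ∀ d : D, algebraMap R D mu * d = 0 → d = 0)
    (g : WithConv (AK R mu p h₂ →ₐ[R] D)) (x : WithConv (AK R lam p h₁ →ₐ[R] D)) :
    a.act D g x = x := by
  set s : D := algebraMap R D lam with hs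
  let j : D →ₐ[R] Localization.Away s := IsScalarTower.toAlgHom R D (Localization.Away s)
  have hle : Submonoid.powers s ≤ nonZeroDivisors D := by
    apply Submonoid.powers_le.mpr
    rw [mem_nonZeroDivisors_iff]
    refine ⟨fun d hd => hlam d hd, fun d hd => hlam d (by rw [mul_comm]; exact hd)⟩
  have hj : Function.Injective j := IsLocalization.injective (Localization.Away s) hle
  have hunit : IsUnit (algebraMap R (Localization.Away s) lam) := by
    rw [IsScalarTower.algebraMap_apply R D (Localization.Away s)]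
    exact IsLocalization.Away.algebraMap_isUnit s
  have hmu' : ∀ d : Localization.Away s, algebraMap R (Localization.Away s) mu * d = 0 → d = 0 := by
    intro d hd
    obtain ⟨d₀, t, rfl⟩ := IsLocalization.exists_mk'_eq (Submonoid.powers s) d
    rw [IsScalarTower.algebraMap_apply R D (Localization.Away s), IsLocalization.mul_mk'_eq_mk'_of_mul,
      IsLocalization.mk'_eq_zero_iff] at hd
    obtain ⟨c, hc⟩ := hd
    rw [IsLocalization.mk'_eq_zero_iff]
    refine ⟨c, hmu _ ?_⟩
    rw [← hc]; ring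
  apply yc_injective hlam
  apply hj
  rw [← yc_comp, ← yc_comp, a.nat]
  congr 1
  exact act_eq_of_isUnit a hunit _ hmu' _

end Main

end Groth.Agent.Lib.helper15.SekSuwaAct
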