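import Mathlib

/-!
# Hopf algebra helpers (helper15)

* `antipode_antipode`, `comul_antipode` for commutative Hopf algebras (via the convolution group
  on algebra homs).
* local finiteness of coalgebras over a field: `exists_fg_subcoalgebra`.
-/

set_option autoImplicit false
universe u
open TensorProduct

namespace Groth.Agent.Lib.helper15.HopfSub


section Antipode
variable {k A : Type*} [CommRing k] [CommRing A] [HopfAlgebra k A]

open WithConv in
/-- `S ∘ S = id` for a commutative Hopf algebra. -/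
theorem antipode_antipode (a : A) :
    HopfAlgebra.antipode k (HopfAlgebra.antipode k a) = a := by
  let i : WithConv (A →ₐ[k] A) := toConv (AlgHom.id k A)
  have h : (i⁻¹)⁻¹ = i := inv_inv i
  have h3 : ((i⁻¹)⁻¹) a = i a := by rw [h]
  exact h3

open WithConv in
/-- anti-comultiplicativity of the antipode (commutative case). -/
theorem comul_antipode (a : A) :
    Coalgebra.comul (R := k) (HopfAlgebra.antipode k a) =
      TensorProduct.map (HopfAlgebra.antipode k) (HopfAlgebra.antipode k)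
        (TensorProduct.comm k A A (Coalgebra.comul (R := k) a)) := by
  let i₁ : WithConv (A →ₐ[k] A ⊗[k] A) := toConv Algebra.TensorProduct.includeLeft
  let i₂ : WithConv (A →ₐ[k] A ⊗[k] A) := toConv Algebra.TensorProduct.includeRight
  let d : WithConv (A →ₐ[k] A ⊗[k] A) := toConv (Bialgebra.comulAlgHom k A)
  have hd : d = i₁ * i₂ := by
    apply WithConv.ofConv_injective
    ext a
    change _ = (i₁ * i₂) a
    rw [AlgHom.convMul_apply]
    simp [i₁, i₂, d]
  have h2 : d⁻¹ = i₂⁻¹ * i₁⁻¹ := by rw [hd]; exact mul_inv_rev i₁ i₂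
  have h3 : (d⁻¹) a = (i₂⁻¹ * i₁⁻¹) a := by rw [h2]
  rw [AlgHom.convMul_apply] at h3
  refine h3.trans ?_
  generalize Coalgebra.comul (R := k) a = t
  induction t with
  | zero => simp
  | tmul x y =>
    change (1 : A) ⊗ₜ[k] HopfAlgebra.antipode k x * HopfAlgebra.antipode k y ⊗ₜ[k] (1 : A) = _
    simp
  | add x y hx hy => simp only [map_add, hx, hy]

end Antipode


section Coalg
variable {k A : Type*} [Field k] [AddCommGroup A] [Module k A]

/-- image of `U ⊗ V` in `A ⊗ A`. -/
def T (U V : Submodule k A) : Submodule k (A ⊗[k] A) :=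
  Submodule.map₂ (TensorProduct.mk k A A) U V

lemma tmul_mem_T {U V : Submodule k A} {u v : A} (hu : u ∈ U) (hv : v ∈ V) :
    u ⊗ₜ[k] v ∈ T U V := Submodule.apply_mem_map₂ _ hu hv

lemma T_mono {U U' V V' : Submodule k A} (h1 : U ≤ U') (h2 : V ≤ V') : T U V ≤ T U' V' :=
  Submodule.map₂_le_map₂ h1 h2

lemma T_le {U V : Submodule k A} {N : Submodule k (A ⊗[k] A)}
    (h : ∀ u ∈ U, ∀ v ∈ V, u ⊗ₜ[k] v ∈ N) : T U V ≤ N :=
  Submodule.map₂_le.mpr h

/-- `(U ⊗ A) ∩ (A ⊗ U) = U ⊗ U` over a field. -/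
lemma T_inf_le (U : Submodule k A) : T U ⊤ ⊓ T ⊤ U ≤ T U U := by
  obtain ⟨p, hp⟩ := U.subtype.exists_leftInverse_of_injective U.ker_subtype
  set π : A →ₗ[k] A := U.subtype ∘ₗ p with hπ
  have hπU : ∀ u ∈ U, π u = u := by
    intro u hu
    have := congr($hp ⟨u, hu⟩)
    simp only [LinearMap.comp_apply, Submodule.subtype_apply, LinearMap.id_apply] at this
    simp [hπ, this]
  have hπm : ∀ a, π a ∈ U := fun a => by simp [hπ]
  have h1 : T U ⊤ ≤ LinearMap.eqLocus (TensorProduct.map π LinearMap.id) LinearMap.id := by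
    refine T_le fun u hu v _ => ?_
    simp [LinearMap.mem_eqLocus, hπU u hu]
  have h2 : T ⊤ U ≤ LinearMap.eqLocus (TensorProduct.map LinearMap.id π) LinearMap.id := by
    refine T_le fun u _ v hv => ?_
    simp [LinearMap.mem_eqLocus, hπU v hv]
  have h3 : ∀ t : A ⊗[k] A, TensorProduct.map π π t ∈ T U U := by
    intro t
    induction t with
    | zero => simp
    | tmul a b => exact tmul_mem_T (hπm a) (hπm b)
    | add x y hx hy => rw [map_add]; exact Submodule.add_mem _ hx hy
  rintro t ⟨ht1, ht2⟩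
  have e1 : TensorProduct.map π LinearMap.id t = t := h1 ht1
  have e2 : TensorProduct.map LinearMap.id π t = t := h2 ht2
  have e3 : TensorProduct.map π π t = t := by
    have : TensorProduct.map π π = TensorProduct.map π LinearMap.id ∘ₗ TensorProduct.map LinearMap.id π := by
      rw [← TensorProduct.map_comp]; simp
    rw [this, LinearMap.comp_apply, e2, e1]
  rw [← e3]
  exact h3 t

end Coalg

section Coalg2
variable {k A : Type*} [Field k] [AddCommGroup A] [Module k A] [Coalgebra k A]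

local notation "Δ" => Coalgebra.comul (R := k) (A := A)

/-- `id ⊗ g : A ⊗ A → A`. -/
noncomputable def slR (g : Module.Dual k A) : A ⊗[k] A →ₗ[k] A :=
  (TensorProduct.rid k A).toLinearMap ∘ₗ g.lTensor A

/-- `f ⊗ id : A ⊗ A → A`. -/
noncomputable def slL (f : Module.Dual k A) : A ⊗[k] A →ₗ[k] A :=
  (TensorProduct.lid k A).toLinearMap ∘ₗ f.rTensor A

omit [Coalgebra k A] in
@[simp] lemma slR_tmul (g : Module.Dual k A) (a b : A) : slR g (a ⊗ₜ[k] b) = g b • a := by
  simp [slR]

omit [Coalgebra k A] in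
@[simp] lemma slL_tmul (f : Module.Dual k A) (a b : A) : slL f (a ⊗ₜ[k] b) = f a • b := by
  simp [slL]

/-- `id ⊗ id ⊗ g : (A ⊗ A) ⊗ A → A ⊗ A`. -/
noncomputable def slR₂ (g : Module.Dual k A) : (A ⊗[k] A) ⊗[k] A →ₗ[k] A ⊗[k] A :=
  (TensorProduct.rid k (A ⊗[k] A)).toLinearMap ∘ₗ g.lTensor (A ⊗[k] A)

/-- `f ⊗ id ⊗ id : A ⊗ (A ⊗ A) → A ⊗ A`. -/
noncomputable def slL₂ (f : Module.Dual k A) : A ⊗[k] (A ⊗[k] A) →ₗ[k] A ⊗[k] A :=
  (TensorProduct.lid k (A ⊗[k] A)).toLinearMap ∘ₗ f.rTensor (A ⊗[k] A)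

omit [Coalgebra k A] in
@[simp] lemma slR₂_tmul (g : Module.Dual k A) (t : A ⊗[k] A) (b : A) :
    slR₂ g (t ⊗ₜ[k] b) = g b • t := by
  simp [slR₂]

omit [Coalgebra k A] in
@[simp] lemma slL₂_tmul (f : Module.Dual k A) (a : A) (t : A ⊗[k] A) :
    slL₂ f (a ⊗ₜ[k] t) = f a • t := by
  simp [slL₂]

lemma comul_slR (g : Module.Dual k A) (t : A ⊗[k] A) :
    Δ (slR g t) = slR₂ g ((Δ).rTensor A t) := by
  induction t with
  | zero => simp
  | tmul a b => simp
  | add x y hx hy => simp only [map_add, hx, hy]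

lemma comul_slL (f : Module.Dual k A) (t : A ⊗[k] A) :
    Δ (slL f t) = slL₂ f ((Δ).lTensor A t) := by
  induction t with
  | zero => simp
  | tmul a b => simp
  | add x y hx hy => simp only [map_add, hx, hy]

omit [Coalgebra k A] in
lemma slR₂_assoc_symm (g : Module.Dual k A) (y : A) (t : A ⊗[k] A) :
    slR₂ g ((TensorProduct.assoc k A A A).symm (y ⊗ₜ[k] t)) = y ⊗ₜ[k] slR g t := by
  induction t with
  | zero => simp
  | tmul a b => simp [TensorProduct.tmul_smul]
  | add x y hx hy => simp only [TensorProduct.tmul_add, map_add, hx, hy]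

omit [Coalgebra k A] in
lemma slL₂_assoc (f : Module.Dual k A) (t : A ⊗[k] A) (y : A) :
    slL₂ f ((TensorProduct.assoc k A A A) (t ⊗ₜ[k] y)) = slL f t ⊗ₜ[k] y := by
  induction t with
  | zero => simp
  | tmul a b => simp [TensorProduct.smul_tmul']
  | add x y hx hy => simp only [TensorProduct.add_tmul, map_add, hx, hy]

lemma coassoc_symm' (x : A) :
    (Δ).rTensor A (Δ x) = (TensorProduct.assoc k A A A).symm ((Δ).lTensor A (Δ x)) := by
  rw [← Coalgebra.coassoc_apply, LinearEquiv.symm_apply_apply]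

end Coalg2

section Coalg3
variable {k A : Type*} [Field k] [AddCommGroup A] [Module k A] [Coalgebra k A]

local notation "Δ" => Coalgebra.comul (R := k) (A := A)

omit [Coalgebra k A] in
lemma expand_right {I : Type*} (b : Module.Basis I k A) (t : A ⊗[k] A) :
    ∃ c : I →₀ A, (∀ i, c i = slR (b.coord i) t) ∧ t = c.sum fun i m => m ⊗ₜ[k] b i := by
  classical
  refine ⟨TensorProduct.equivFinsuppOfBasisRight b t, fun i => ?_, ?_⟩
  · rw [TensorProduct.equivFinsuppOfBasisRight_apply]; rfl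
  · rw [← TensorProduct.equivFinsuppOfBasisRight_symm_apply, LinearEquiv.symm_apply_apply]

omit [Coalgebra k A] in
lemma expand_left {I : Type*} (b : Module.Basis I k A) (t : A ⊗[k] A) :
    ∃ c : I →₀ A, (∀ i, c i = slL (b.coord i) t) ∧ t = c.sum fun i m => b i ⊗ₜ[k] m := by
  classical
  refine ⟨TensorProduct.equivFinsuppOfBasisLeft b t, fun i => ?_, ?_⟩
  · rw [TensorProduct.equivFinsuppOfBasisLeft_apply]; rfl
  · rw [← TensorProduct.equivFinsuppOfBasisLeft_symm_apply, LinearEquiv.symm_apply_apply]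

/-- the right coideal generated by `x`. -/
def RC (x : A) : Submodule k A :=
  Submodule.span k (Set.range fun g : Module.Dual k A => slR g (Δ x))

lemma mem_RC (x : A) : x ∈ RC (k := k) x := by
  refine Submodule.subset_span ⟨Coalgebra.counit, ?_⟩
  simp [slR, Coalgebra.lTensor_counit_comul]

lemma RC_fg (x : A) : (RC (k := k) x).FG := by
  classical
  have r := Coalgebra.Repr.arbitrary k x
  have hfg : (Submodule.span k ((r.index.image r.left : Finset A) : Set A)).FG :=
    Submodule.fg_span (Finset.finite_toSet _)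
  refine hfg.of_le (Submodule.span_le.mpr ?_)
  rintro _ ⟨g, rfl⟩
  simp only [← r.eq, map_sum, slR_tmul]
  refine Submodule.sum_mem _ fun j hj => Submodule.smul_mem _ _ (Submodule.subset_span ?_)
  simp only [Finset.coe_image, Set.mem_image, Finset.mem_coe]
  exact ⟨j, hj, rfl⟩

lemma RC_coideal (x : A) : ∀ w ∈ RC (k := k) x, Δ w ∈ T (RC (k := k) x) ⊤ := by
  suffices h : RC (k := k) x ≤ (T (RC (k := k) x) ⊤).comap Δ from fun w hw => h hw
  refine Submodule.span_le.mpr ?_
  rintro _ ⟨g, rfl⟩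
  simp only [SetLike.mem_coe, Submodule.mem_comap]
  rw [comul_slR, coassoc_symm']
  obtain ⟨c, hc, hcs⟩ := expand_right (Module.Basis.ofVectorSpace k A) (Δ x)
  have hcm : ∀ i, c i ∈ RC (k := k) x := fun i => by
    rw [hc i]; exact Submodule.subset_span ⟨_, rfl⟩
  have key : ∀ c : (Module.Basis.ofVectorSpaceIndex k A) →₀ A, (∀ i, c i ∈ RC (k := k) x) →
      slR₂ g ((TensorProduct.assoc k A A A).symm ((Δ).lTensor A
        (c.sum fun i m => m ⊗ₜ[k] (Module.Basis.ofVectorSpace k A) i))) ∈ T (RC (k := k) x) ⊤ := by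
    intro c hcm
    simp only [Finsupp.sum, map_sum, LinearMap.lTensor_tmul, slR₂_assoc_symm]
    exact Submodule.sum_mem _ fun i _ => tmul_mem_T (hcm i) Submodule.mem_top
  have := key c hcm
  rwa [← hcs] at this

/-- the left coideal generated by a subspace `W`. -/
def LC (W : Submodule k A) : Submodule k A :=
  Submodule.span k {y | ∃ f : Module.Dual k A, ∃ w ∈ W, slL f (Δ w) = y}

lemma le_LC (W : Submodule k A) : W ≤ LC W := by
  intro w hw
  refine Submodule.subset_span ⟨Coalgebra.counit, w, hw, ?_⟩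
  simp [slL, Coalgebra.rTensor_counit_comul]

lemma LC_fg (W : Submodule k A) (hW : W.FG) : (LC W).FG := by
  classical
  obtain ⟨F, hF⟩ := hW
  set G : Finset A := F.biUnion fun w =>
    (Coalgebra.Repr.arbitrary k w).index.image (Coalgebra.Repr.arbitrary k w).right with hG
  have hfg : (Submodule.span k (G : Set A)).FG := Submodule.fg_span (Finset.finite_toSet _)
  refine hfg.of_le (Submodule.span_le.mpr ?_)
  rintro _ ⟨f, w, hw, rfl⟩
  suffices h : W ≤ (Submodule.span k (G : Set A)).comap (slL f ∘ₗ Δ) from h hw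
  rw [← hF]
  refine Submodule.span_le.mpr fun w hw => ?_
  simp only [SetLike.mem_coe, Submodule.mem_comap, LinearMap.comp_apply]
  rw [← (Coalgebra.Repr.arbitrary k w).eq]
  simp only [map_sum, slL_tmul]
  refine Submodule.sum_mem _ fun j hj => Submodule.smul_mem _ _ (Submodule.subset_span ?_)
  simp only [hG, Finset.coe_biUnion, Finset.coe_image, Set.mem_iUnion, Set.mem_image, Finset.mem_coe]
  exact ⟨w, hw, j, hj, rfl⟩

lemma LC_left (W : Submodule k A) : ∀ u ∈ LC W, Δ u ∈ T ⊤ (LC W) := by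
  suffices h : LC W ≤ (T ⊤ (LC W)).comap Δ from fun w hw => h hw
  refine Submodule.span_le.mpr ?_
  rintro _ ⟨f, w, hw, rfl⟩
  simp only [SetLike.mem_coe, Submodule.mem_comap]
  rw [comul_slL, ← Coalgebra.coassoc_apply]
  obtain ⟨c, hc, hcs⟩ := expand_left (Module.Basis.ofVectorSpace k A) (Δ w)
  have hcm : ∀ i, c i ∈ LC W := fun i => by
    rw [hc i]; exact Submodule.subset_span ⟨_, w, hw, rfl⟩
  have key : ∀ c : (Module.Basis.ofVectorSpaceIndex k A) →₀ A, (∀ i, c i ∈ LC W) →
      slL₂ f ((TensorProduct.assoc k A A A) ((Δ).rTensor A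
        (c.sum fun i m => (Module.Basis.ofVectorSpace k A) i ⊗ₜ[k] m))) ∈ T ⊤ (LC W) := by
    intro c hcm
    simp only [Finsupp.sum, map_sum, LinearMap.rTensor_tmul, slL₂_assoc]
    exact Submodule.sum_mem _ fun i _ => tmul_mem_T Submodule.mem_top (hcm i)
  have := key c hcm
  rwa [← hcs] at this

lemma LC_right (W : Submodule k A) (hW : ∀ w ∈ W, Δ w ∈ T W ⊤) :
    ∀ u ∈ LC W, Δ u ∈ T (LC W) ⊤ := by
  suffices h : LC W ≤ (T (LC W) ⊤).comap Δ from fun w hw => h hw
  refine Submodule.span_le.mpr ?_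
  rintro _ ⟨f, w, hw, rfl⟩
  simp only [SetLike.mem_coe, Submodule.mem_comap]
  rw [comul_slL, ← Coalgebra.coassoc_apply]
  suffices h : T W ⊤ ≤ (T (LC W) ⊤).comap
      (slL₂ f ∘ₗ (TensorProduct.assoc k A A A).toLinearMap ∘ₗ (Δ).rTensor A) from h (hW w hw)
  refine T_le fun w' hw' a _ => ?_
  simp only [Submodule.mem_comap, LinearMap.comp_apply, LinearMap.rTensor_tmul, LinearEquiv.coe_coe,
    slL₂_assoc]
  exact tmul_mem_T (Submodule.subset_span ⟨f, w', hw', rfl⟩) Submodule.mem_top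

/-- local finiteness of coalgebras over a field. -/
theorem exists_fg_subcoalgebra (x : A) :
    ∃ U : Submodule k A, U.FG ∧ x ∈ U ∧ ∀ u ∈ U, Δ u ∈ T U U := by
  refine ⟨LC (RC (k := k) x), LC_fg _ (RC_fg x), le_LC _ (mem_RC x), fun u hu => ?_⟩
  exact T_inf_le _ ⟨LC_right _ (RC_coideal x) u hu, LC_left _ u hu⟩

end Coalg3


end Groth.Agent.Lib.helper15.HopfSub
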