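import Mathlib
import Groth.Prelude.Def_HopfRep
import Groth.Agent.Lib.Helper15.HopfSub

/-!
# Local finiteness of comodules over a field (helper15)

`RCV v`: the subcomodule generated by `v` (all slices `(id ⊗ f)(ρ v)`), it is the smallest
subcomodule containing `v` and finitely generated.
Also a Nullstellensatz-type lemma `eq_zero_of_forall_point`.
-/

set_option autoImplicit false
universe u
open TensorProduct

namespace Groth.Agent.Lib.helper15.ComodFin

open Groth.Agent.Lib.helper15.HopfSub

section Null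

theorem eq_zero_of_forall_point (k A : Type*) [Field k] [IsAlgClosed k] [CommRing A] [Algebra k A]
    [Algebra.FiniteType k A] [IsReduced A] (a : A) (h : ∀ g : A →ₐ[k] k, g a = 0) : a = 0 := by
  have : IsJacobsonRing A := isJacobsonRing_of_finiteType (A := k)
  by_contra ha
  have hj : (⊥ : Ideal A).jacobson = ⊥ := by
    rw [← Ideal.radical_eq_jacobson]
    exact nilradical_eq_zero A
  have hnot : a ∉ (⊥ : Ideal A).jacobson := by rw [hj]; simpa using ha
  rw [Ideal.jacobson, Ideal.mem_sInf] at hnot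
  push Not at hnot
  obtain ⟨m, ⟨_, hm⟩, ham⟩ := hnot
  have := hm
  letI := Ideal.Quotient.field m
  have : Module.Finite k (A ⧸ m) := finite_of_finite_type_of_isJacobsonRing k (A ⧸ m)
  have hbij : Function.Bijective (algebraMap k (A ⧸ m)) :=
    IsAlgClosed.algebraMap_bijective_of_isIntegral
  let e : k ≃ₐ[k] (A ⧸ m) := AlgEquiv.ofBijective (Algebra.ofId k (A ⧸ m)) hbij
  let g : A →ₐ[k] k := (e.symm : (A ⧸ m) →ₐ[k] k).comp (Ideal.Quotient.mkₐ k m)
  have h1 := h g
  have h2 : Ideal.Quotient.mk m a = 0 := by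
    have : e.symm (Ideal.Quotient.mk m a) = 0 := h1
    simpa using this
  exact ham (Ideal.Quotient.eq_zero_iff_mem.mp h2)

end Null

section Comod
variable {k A V : Type*} [Field k] [AddCommGroup A] [Module k A] [Coalgebra k A]
  [AddCommGroup V] [Module k V] [HopfRep.Comod k A V]

local notation "ρ" => HopfRep.Comod.coact (k := k) (A := A) (V := V)
local notation "Δ" => Coalgebra.comul (R := k) (A := A)

/-- `id ⊗ f : V ⊗ A → V`. -/
noncomputable def slV (f : Module.Dual k A) : V ⊗[k] A →ₗ[k] V :=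
  (TensorProduct.rid k V).toLinearMap ∘ₗ f.lTensor V

omit [Coalgebra k A] [HopfRep.Comod k A V] in
@[simp] lemma slV_tmul (f : Module.Dual k A) (w : V) (a : A) : slV f (w ⊗ₜ[k] a) = f a • w := by
  simp [slV]

/-- `id ⊗ id ⊗ f : (V ⊗ A) ⊗ A → V ⊗ A`. -/
noncomputable def slV₂ (f : Module.Dual k A) : (V ⊗[k] A) ⊗[k] A →ₗ[k] V ⊗[k] A :=
  (TensorProduct.rid k (V ⊗[k] A)).toLinearMap ∘ₗ f.lTensor (V ⊗[k] A)

omit [Coalgebra k A] [HopfRep.Comod k A V] in
@[simp] lemma slV₂_tmul (f : Module.Dual k A) (t : V ⊗[k] A) (a : A) :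
    slV₂ f (t ⊗ₜ[k] a) = f a • t := by
  simp [slV₂]

lemma coact_slV (f : Module.Dual k A) (t : V ⊗[k] A) :
    ρ (slV f t) = slV₂ f ((ρ).rTensor A t) := by
  induction t with
  | zero => simp
  | tmul a b => simp
  | add x y hx hy => simp only [map_add, hx, hy]

omit [Coalgebra k A] [HopfRep.Comod k A V] in
lemma slV₂_assoc_symm (f : Module.Dual k A) (y : V) (t : A ⊗[k] A) :
    slV₂ f ((TensorProduct.assoc k V A A).symm (y ⊗ₜ[k] t)) = y ⊗ₜ[k] slR f t := by
  induction t with
  | zero => simp
  | tmul a b => simp [TensorProduct.tmul_smul]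
  | add x y hx hy => simp only [TensorProduct.tmul_add, map_add, hx, hy]

lemma coassocV (v : V) :
    (ρ).rTensor A (ρ v) = (TensorProduct.assoc k V A A).symm ((Δ).lTensor V (ρ v)) := by
  have := congr($(HopfRep.Comod.coassoc (k := k) (A := A) (V := V)) v)
  simp only [LinearMap.comp_apply, LinearEquiv.coe_coe] at this
  rw [← this, LinearEquiv.symm_apply_apply]

omit [Coalgebra k A] [HopfRep.Comod k A V] in
lemma expandV {I : Type*} (b : Module.Basis I k A) (t : V ⊗[k] A) :
    ∃ c : I →₀ V, (∀ i, c i = slV (b.coord i) t) ∧ t = c.sum fun i m => m ⊗ₜ[k] b i := by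
  classical
  refine ⟨TensorProduct.equivFinsuppOfBasisRight b t, fun i => ?_, ?_⟩
  · rw [TensorProduct.equivFinsuppOfBasisRight_apply]; rfl
  · rw [← TensorProduct.equivFinsuppOfBasisRight_symm_apply, LinearEquiv.symm_apply_apply]

/-- the subcomodule generated by `v`. -/
def RCV (v : V) : Submodule k V :=
  Submodule.span k (Set.range fun f : Module.Dual k A => slV f (ρ v))

lemma mem_RCV (v : V) : v ∈ RCV (k := k) (A := A) v := by
  refine Submodule.subset_span ⟨Coalgebra.counit, ?_⟩
  have := congr($(HopfRep.Comod.counit_comp (k := k) (A := A) (V := V)) v)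
  simp only [LinearMap.comp_apply] at this
  simp [slV, this]

lemma RCV_isSubcomod (v : V) : HopfRep.IsSubcomod (k := k) (A := A) (RCV (k := k) (A := A) v) := by
  suffices h : RCV (k := k) (A := A) v ≤
      (LinearMap.range ((RCV (k := k) (A := A) v).subtype.rTensor A)).comap ρ from fun w hw => h hw
  refine Submodule.span_le.mpr ?_
  rintro _ ⟨g, rfl⟩
  simp only [SetLike.mem_coe, Submodule.mem_comap]
  rw [coact_slV, coassocV]
  obtain ⟨c, hc, hcs⟩ := expandV (Module.Basis.ofVectorSpace k A) (ρ v)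
  have hcm : ∀ i, c i ∈ RCV (k := k) (A := A) v := fun i => by
    rw [hc i]; exact Submodule.subset_span ⟨_, rfl⟩
  have key : ∀ c : (Module.Basis.ofVectorSpaceIndex k A) →₀ V, (∀ i, c i ∈ RCV (k := k) (A := A) v) →
      slV₂ g ((TensorProduct.assoc k V A A).symm ((Δ).lTensor V
        (c.sum fun i m => m ⊗ₜ[k] (Module.Basis.ofVectorSpace k A) i))) ∈
        LinearMap.range ((RCV (k := k) (A := A) v).subtype.rTensor A) := by
    intro c hcm
    simp only [Finsupp.sum, map_sum, LinearMap.lTensor_tmul, slV₂_assoc_symm]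
    refine Submodule.sum_mem _ fun i _ => ?_
    exact ⟨(⟨c i, hcm i⟩ : RCV (k := k) (A := A) v) ⊗ₜ[k]
      (slR g (Δ ((Module.Basis.ofVectorSpace k A) i))), by simp⟩
  have := key c hcm
  rwa [← hcs] at this

lemma RCV_le (v : V) (W : Submodule k V) (hW : HopfRep.IsSubcomod (k := k) (A := A) W)
    (hv : v ∈ W) : RCV (k := k) (A := A) v ≤ W := by
  refine Submodule.span_le.mpr ?_
  rintro _ ⟨f, rfl⟩
  obtain ⟨s, hs⟩ := hW v hv
  simp only [SetLike.mem_coe]
  rw [← hs]
  clear hs
  induction s with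
  | zero => simp
  | tmul w a => simp only [LinearMap.rTensor_tmul, Submodule.subtype_apply, slV_tmul]; exact W.smul_mem _ w.2
  | add x y hx hy => simp only [map_add]; exact W.add_mem hx hy

lemma RCV_fg (v : V) : (RCV (k := k) (A := A) v).FG := by
  classical
  obtain ⟨S, hS⟩ := TensorProduct.exists_finset (R := k) (ρ v)
  have hfg : (Submodule.span k ((S.image Prod.fst : Finset V) : Set V)).FG :=
    Submodule.fg_span (Finset.finite_toSet _)
  refine hfg.of_le (Submodule.span_le.mpr ?_)
  rintro _ ⟨g, rfl⟩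
  simp only [hS, map_sum, slV_tmul]
  refine Submodule.sum_mem _ fun j hj => Submodule.smul_mem _ _ (Submodule.subset_span ?_)
  simp only [Finset.coe_image, Set.mem_image, Finset.mem_coe]
  exact ⟨j, hj, rfl⟩

end Comod

end Groth.Agent.Lib.helper15.ComodFin
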