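import Mathlib
import Groth.Prelude.Def_HopfRep
import Groth.Agent.Lib.Helper15.ComodFin

/-!
# Sub- and quotient comodules over a field; the action of points (helper15)
-/

set_option autoImplicit false
universe u v
open TensorProduct

namespace Groth.Agent.Lib.helper15.ComodOps

open Groth.Agent.Lib.helper15.HopfSub Groth.Agent.Lib.helper15.ComodFin

section Sub
variable {k A V : Type*} [Field k] [AddCommGroup A] [Module k A] [Coalgebra k A]
  [AddCommGroup V] [Module k V] [HopfRep.Comod k A V]

local notation "ρ" => HopfRep.Comod.coact (k := k) (A := A) (V := V)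
local notation "Δ" => Coalgebra.comul (R := k) (A := A)
local notation "ε" => Coalgebra.counit (R := k) (A := A)

omit [Coalgebra k A] [HopfRep.Comod k A V] in
lemma rTensor_subtype_injective (W : Submodule k V) (N : Type*) [AddCommGroup N] [Module k N] :
    Function.Injective (W.subtype.rTensor N) :=
  Module.Flat.rTensor_preserves_injective_linearMap _ W.injective_subtype

/-- the restricted coaction on a subcomodule. -/
noncomputable def subCoact (W : Submodule k V) (hW : HopfRep.IsSubcomod (k := k) (A := A) W) :
    W →ₗ[k] W ⊗[k] A :=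
  (LinearEquiv.ofInjective (W.subtype.rTensor A) (rTensor_subtype_injective W A)).symm.toLinearMap ∘ₗ
    ((ρ) ∘ₗ W.subtype).codRestrict (LinearMap.range (W.subtype.rTensor A)) (fun w => hW w w.2)

lemma subtype_subCoact (W : Submodule k V) (hW : HopfRep.IsSubcomod (k := k) (A := A) W) (w : W) :
    W.subtype.rTensor A (subCoact W hW w) = ρ (w : V) := by
  simp only [subCoact, LinearMap.comp_apply, LinearEquiv.coe_coe]
  have := (LinearEquiv.ofInjective (W.subtype.rTensor A) (rTensor_subtype_injective W A)).apply_symm_apply
    (((ρ) ∘ₗ W.subtype).codRestrict (LinearMap.range (W.subtype.rTensor A)) (fun w => hW w w.2) w)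
  have h2 := congr(($this : V ⊗[k] A))
  simpa using h2

/-- a subcomodule is a comodule. -/
@[reducible] noncomputable def subComod (W : Submodule k V) (hW : HopfRep.IsSubcomod (k := k) (A := A) W) :
    HopfRep.Comod k A W where
  coact := subCoact W hW
  coassoc := by
    ext w
    apply rTensor_subtype_injective W (A ⊗[k] A)
    simp only [LinearMap.comp_apply, LinearEquiv.coe_coe]
    have h1 : ∀ t : (W ⊗[k] A) ⊗[k] A, W.subtype.rTensor (A ⊗[k] A) (TensorProduct.assoc k W A A t) =
        TensorProduct.assoc k V A A ((W.subtype.rTensor A).rTensor A t) := by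
      intro t
      induction t with
      | zero => simp
      | tmul x a =>
        induction x with
        | zero => simp
        | tmul w b => simp
        | add x y hx hy => simp only [TensorProduct.add_tmul, map_add, hx, hy]
      | add x y hx hy => simp only [map_add, hx, hy]
    have h2 : ∀ s : W ⊗[k] A, (W.subtype.rTensor A).rTensor A ((subCoact W hW).rTensor A s) =
        (ρ).rTensor A (W.subtype.rTensor A s) := by
      intro s
      induction s with
      | zero => simp
      | tmul w a => simp [subtype_subCoact]
      | add x y hx hy => simp only [map_add, hx, hy]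
    have h3 : ∀ s : W ⊗[k] A, W.subtype.rTensor (A ⊗[k] A) ((Δ).lTensor W s) =
        (Δ).lTensor V (W.subtype.rTensor A s) := by
      intro s
      induction s with
      | zero => simp
      | tmul w a => simp
      | add x y hx hy => simp only [map_add, hx, hy]
    rw [h1, h2, h3, subtype_subCoact]
    have := congr($(HopfRep.Comod.coassoc (k := k) (A := A) (V := V)) (w : V))
    simpa using this
  counit_comp := by
    ext w
    apply rTensor_subtype_injective W k
    simp only [LinearMap.comp_apply]
    have h3 : ∀ s : W ⊗[k] A, W.subtype.rTensor k ((ε).lTensor W s) =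
        (ε).lTensor V (W.subtype.rTensor A s) := by
      intro s
      induction s with
      | zero => simp
      | tmul w a => simp
      | add x y hx hy => simp only [map_add, hx, hy]
    rw [h3, subtype_subCoact]
    have := congr($(HopfRep.Comod.counit_comp (k := k) (A := A) (V := V)) (w : V))
    simpa using this

/-- the coaction on a quotient by a subcomodule. -/
noncomputable def quotCoact (W : Submodule k V) (hW : HopfRep.IsSubcomod (k := k) (A := A) W) :
    (V ⧸ W) →ₗ[k] (V ⧸ W) ⊗[k] A :=
  W.liftQ (W.mkQ.rTensor A ∘ₗ ρ) (by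
    intro w hw
    obtain ⟨s, hs⟩ := hW w hw
    simp only [LinearMap.mem_ker, LinearMap.comp_apply]
    rw [← hs, ← LinearMap.comp_apply, ← LinearMap.rTensor_comp]
    have : W.mkQ ∘ₗ W.subtype = 0 := by ext x; simp
    rw [this]; simp)

lemma quotCoact_mk (W : Submodule k V) (hW : HopfRep.IsSubcomod (k := k) (A := A) W) (v : V) :
    quotCoact W hW (W.mkQ v) = W.mkQ.rTensor A (ρ v) := by
  simp [quotCoact]

lemma quotCoact_mk' (W : Submodule k V) (hW : HopfRep.IsSubcomod (k := k) (A := A) W) (v : V) :
    quotCoact W hW (Submodule.Quotient.mk v) = W.mkQ.rTensor A (ρ v) :=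
  quotCoact_mk W hW v

/-- the quotient by a subcomodule is a comodule. -/
@[reducible] noncomputable def quotComod (W : Submodule k V) (hW : HopfRep.IsSubcomod (k := k) (A := A) W) :
    HopfRep.Comod k A (V ⧸ W) where
  coact := quotCoact W hW
  coassoc := by
    apply Submodule.linearMap_qext
    ext v
    simp only [LinearMap.comp_apply, LinearEquiv.coe_coe]
    rw [quotCoact_mk]
    have h2 : ∀ s : V ⊗[k] A, (quotCoact W hW).rTensor A (W.mkQ.rTensor A s) =
        (W.mkQ.rTensor A).rTensor A ((ρ).rTensor A s) := by
      intro s
      induction s with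
      | zero => simp
      | tmul w a => simp [quotCoact_mk']
      | add x y hx hy => simp only [map_add, hx, hy]
    have h1 : ∀ t : (V ⊗[k] A) ⊗[k] A, TensorProduct.assoc k (V ⧸ W) A A ((W.mkQ.rTensor A).rTensor A t) =
        W.mkQ.rTensor (A ⊗[k] A) (TensorProduct.assoc k V A A t) := by
      intro t
      induction t with
      | zero => simp
      | tmul x a =>
        induction x with
        | zero => simp
        | tmul w b => simp
        | add x y hx hy => simp only [TensorProduct.add_tmul, map_add, hx, hy]
      | add x y hx hy => simp only [map_add, hx, hy]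
    have h3 : ∀ s : V ⊗[k] A, (Δ).lTensor (V ⧸ W) (W.mkQ.rTensor A s) =
        W.mkQ.rTensor (A ⊗[k] A) ((Δ).lTensor V s) := by
      intro s
      induction s with
      | zero => simp
      | tmul w a => simp
      | add x y hx hy => simp only [map_add, hx, hy]
    rw [h2, h1, h3]
    have := congr($(HopfRep.Comod.coassoc (k := k) (A := A) (V := V)) v)
    simp only [LinearMap.comp_apply, LinearEquiv.coe_coe] at this
    rw [this]
  counit_comp := by
    apply Submodule.linearMap_qext
    ext v
    simp only [LinearMap.comp_apply]
    rw [quotCoact_mk]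
    have h3 : ∀ s : V ⊗[k] A, (ε).lTensor (V ⧸ W) (W.mkQ.rTensor A s) =
        W.mkQ.rTensor k ((ε).lTensor V s) := by
      intro s
      induction s with
      | zero => simp
      | tmul w a => simp
      | add x y hx hy => simp only [map_add, hx, hy]
    rw [h3]
    have := congr($(HopfRep.Comod.counit_comp (k := k) (A := A) (V := V)) v)
    simp only [LinearMap.comp_apply] at this
    rw [this]
    simp

end Sub

section Torsion

/-- a unipotent element of finite order prime to the characteristic is trivial. -/
lemma eq_one_of_nilpotent_sub_one_of_pow_eq_one {k E : Type*} [Field k] [Ring E] [Algebra k E]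
    (T : E) (hT : IsNilpotent (T - 1)) (m : ℕ) (hm : T ^ m = 1) (hmk : (m : k) ≠ 0) : T = 1 := by
  set N := T - 1 with hN
  have hNT : Commute N T := (Commute.refl T).sub_left (Commute.one_left T)
  set q : E := ∑ i ∈ Finset.range m, T ^ i with hq
  have hNq : N * q = 0 := by
    rw [hN, hq, mul_geom_sum, hm, sub_self]
  -- q = m + N * r
  set r : E := ∑ i ∈ Finset.range m, ∑ j ∈ Finset.range i, T ^ j with hr
  have hqr : q = algebraMap k E (m : k) + N * r := by
    rw [hq, hr, Finset.mul_sum]
    have : ∀ i ∈ Finset.range m, N * ∑ j ∈ Finset.range i, T ^ j = T ^ i - 1 := fun i _ => by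
      rw [hN, mul_geom_sum]
    rw [Finset.sum_congr rfl this, Finset.sum_sub_distrib]
    simp [Algebra.algebraMap_eq_smul_one, Nat.cast_smul_eq_nsmul]
  have hNr : Commute N r := by
    rw [hr]
    exact Commute.sum_right _ _ _ fun i _ => Commute.sum_right _ _ _ fun j _ => hNT.pow_right j
  have hnil : IsNilpotent (N * r) := hNr.isNilpotent_mul_right hT
  have hunit : IsUnit (algebraMap k E (m : k)) := (IsUnit.mk0 _ hmk).map (algebraMap k E)
  have hcomm : Commute (N * r) (algebraMap k E (m : k)) := (Algebra.commutes _ _).symm
  have hqu : IsUnit q := by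
    rw [hqr]
    exact hnil.isUnit_add_left_of_commute hunit hcomm
  obtain ⟨u, hu⟩ := hqu
  have : N = 0 := by
    have h1 : N * q * ↑u⁻¹ = 0 := by rw [hNq, zero_mul]
    rwa [mul_assoc, ← hu, Units.mul_inv, mul_one] at h1
  rw [hN, sub_eq_zero] at this
  exact this

end Torsion

section Act
variable {k : Type u} {A : Type v} [Field k] [CommRing A] [Bialgebra k A]
variable {V : Type*} [AddCommGroup V] [Module k V] [HopfRep.Comod k A V]

local notation "ρ" => HopfRep.Comod.coact (k := k) (A := A) (V := V)
local notation "Δ" => Coalgebra.comul (R := k) (A := A)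
local notation "ε" => Coalgebra.counit (R := k) (A := A)

/-- the action of a point `g : A → k` on a comodule. -/
noncomputable def TV (g : A →ₐ[k] k) : Module.End k V := slV g.toLinearMap ∘ₗ ρ

lemma TV_apply (g : A →ₐ[k] k) (v : V) : TV g v = slV g.toLinearMap (ρ v) := rfl

lemma TV_one : TV (V := V) (1 : WithConv (A →ₐ[k] k)).ofConv = 1 := by
  ext v
  have := congr($(HopfRep.Comod.counit_comp (k := k) (A := A) (V := V)) v)
  simp only [LinearMap.comp_apply] at this
  have h1 : ((1 : WithConv (A →ₐ[k] k)).ofConv).toLinearMap = ε := by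
    ext a; rfl
  simp [TV_apply, h1, slV, this]

lemma TV_mul (g h : WithConv (A →ₐ[k] k)) :
    TV (V := V) (g * h).ofConv = TV g.ofConv * TV h.ofConv := by
  ext v
  simp only [Module.End.mul_apply, TV_apply]
  rw [coact_slV, coassocV]
  have h1 : ∀ t : A ⊗[k] A, g.ofConv (slR h.ofConv.toLinearMap t) =
      Algebra.TensorProduct.lift g.ofConv h.ofConv (fun _ _ => .all _ _) t := by
    intro t
    induction t with
    | zero => simp
    | tmul a b => simp [mul_comm]
    | add x y hx hy => simp only [map_add, hx, hy]
  have h2 : ∀ s : V ⊗[k] A, slV (g * h).ofConv.toLinearMap s =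
      slV g.ofConv.toLinearMap (slV₂ h.ofConv.toLinearMap
        ((TensorProduct.assoc k V A A).symm ((Δ).lTensor V s))) := by
    intro s
    induction s with
    | zero => simp
    | tmul w a =>
      simp only [LinearMap.lTensor_tmul, slV₂_assoc_symm, slV_tmul, AlgHom.toLinearMap_apply]
      rw [h1]
      congr 1
      exact AlgHom.convMul_apply g h a
    | add x y hx hy => simp only [map_add, hx, hy]
  rw [h2]

lemma TV_pow (g : WithConv (A →ₐ[k] k)) (n : ℕ) :
    TV (V := V) (g ^ n).ofConv = TV g.ofConv ^ n := by
  induction n with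
  | zero => rw [pow_zero, pow_zero, TV_one]
  | succ n ih => rw [pow_succ, pow_succ, TV_mul, ih]

lemma TV_fixed (g : A →ₐ[k] k) (v : V) (hv : v ∈ HopfRep.fixedPts k A V) : TV g v = v := by
  have hv' : ρ v = v ⊗ₜ[k] (1 : A) := hv
  simp [TV_apply, hv']

lemma fixedPts_isSubcomod : HopfRep.IsSubcomod (k := k) (A := A) (HopfRep.fixedPts k A V) := by
  intro v hv
  have hv' : ρ v = v ⊗ₜ[k] (1 : A) := hv
  exact ⟨(⟨v, hv⟩ : HopfRep.fixedPts k A V) ⊗ₜ[k] (1 : A), by simp [hv']⟩

omit [HopfRep.Comod k A V] in
lemma slV_rTensor {V' : Type*} [AddCommGroup V'] [Module k V'] (f : V →ₗ[k] V')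
    (φ : Module.Dual k A) (s : V ⊗[k] A) : slV φ (f.rTensor A s) = f (slV φ s) := by
  induction s with
  | zero => simp
  | tmul w a => simp
  | add x y hx hy => simp only [map_add, hx, hy]

end Act

section Nilp
variable {k : Type u} {A : Type v} [Field k] [CommRing A] [Bialgebra k A]

/-- points of a unipotent group act unipotently on every finite-dimensional comodule. -/
theorem isNilpotent_TV_sub_one (hU : HopfRep.IsUnipotent k A) (g : A →ₐ[k] k) :
    ∀ (n : ℕ) (V : Type v) [AddCommGroup V] [Module k V] [HopfRep.Comod k A V] [Module.Finite k V],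
      Module.finrank k V = n → IsNilpotent (TV g - 1 : Module.End k V) := by
  intro n
  induction n using Nat.strong_induction_on with
  | _ n ih =>
    intro V _ _ _ _ hn
    by_cases hV : Nontrivial V
    · set F := HopfRep.fixedPts k A V with hF
      have hFne : F ≠ ⊥ := hU V inferInstance hV
      have hFsub : HopfRep.IsSubcomod (k := k) (A := A) F := fixedPts_isSubcomod
      letI : HopfRep.Comod k A (V ⧸ F) := quotComod F hFsub
      have hlt : Module.finrank k (V ⧸ F) < n := by
        have h1 := Submodule.finrank_quotient_add_finrank F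
        have h2 : 1 ≤ Module.finrank k F := Submodule.one_le_finrank_iff.mpr hFne
        omega
      obtain ⟨N, hN⟩ := ih _ hlt (V ⧸ F) rfl
      -- intertwining
      have hint : ∀ v : V, (TV g : Module.End k (V ⧸ F)) (F.mkQ v) = F.mkQ (TV g v) := by
        intro v
        change slV g.toLinearMap (quotCoact F hFsub (F.mkQ v)) = _
        rw [quotCoact_mk, slV_rTensor]
        rfl
      have hint2 : ∀ (j : ℕ) (v : V), ((TV g - 1 : Module.End k (V ⧸ F)) ^ j) (F.mkQ v) =
          F.mkQ (((TV g - 1 : Module.End k V) ^ j) v) := by
        intro j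
        induction j with
        | zero => intro v; simp
        | succ j ihj =>
          intro v
          rw [pow_succ, pow_succ, Module.End.mul_apply, Module.End.mul_apply]
          have : (TV g - 1 : Module.End k (V ⧸ F)) (F.mkQ v) = F.mkQ ((TV g - 1 : Module.End k V) v) := by
            simp only [LinearMap.sub_apply, Module.End.one_apply, hint, map_sub]
          rw [this, ihj]
      refine ⟨N + 1, ?_⟩
      ext v
      rw [pow_succ', Module.End.mul_apply]
      have hmem : ((TV g - 1 : Module.End k V) ^ N) v ∈ F := by
        have h1 := hint2 N v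
        rw [hN] at h1
        simp only [LinearMap.zero_apply] at h1
        have h2 : F.mkQ (((TV g - 1 : Module.End k V) ^ N) v) = 0 := h1.symm
        simpa using h2
      simp only [LinearMap.sub_apply, Module.End.one_apply, LinearMap.zero_apply]
      rw [TV_fixed g _ hmem, sub_self]
    · rw [not_nontrivial_iff_subsingleton] at hV
      exact ⟨1, by ext v; exact Subsingleton.elim _ _⟩

end Nilp

end Groth.Agent.Lib.helper15.ComodOps
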