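import Mathlib

/-!
# Height-one bialgebras are truncated polynomial algebras (helper15)

* `restrictedRep`: every polynomial is congruent mod `(X_i^p)` to a combination of restricted monomials.
* `truncEquiv`: if the restricted monomials in `x` form a basis of `A` and `x_i^p = 0`, then
  `A ≃ₐ R[X]/(X_i^p)`.
* `core`: for a bialgebra over a field of char `p`, of height ≤ 1, with nilpotent augmentation ideal
  and `x` lifting a basis of the cotangent space (given through dual ε-derivations), the restricted
  monomials form a basis.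
-/

set_option autoImplicit false

namespace Groth.Agent.Lib.helper15.HeightOne

open MvPolynomial

section Formal

variable {R : Type*} [CommRing R] (p n : ℕ)

/-- exponent vector of a restricted multi-index -/
noncomputable def expo (α : Fin n → Fin p) : Fin n →₀ ℕ :=
  Finsupp.equivFunOnFinite.symm (fun i => (α i : ℕ))

@[simp] lemma expo_apply (α : Fin n → Fin p) (i : Fin n) : expo p n α i = (α i : ℕ) := rfl

lemma expo_injective : Function.Injective (expo p n) := by
  intro α β h
  funext i
  have := DFunLike.congr_fun h i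
  simp only [expo_apply] at this
  exact Fin.ext this

/-- the truncation ideal `(X_i^p)` -/
noncomputable def Jp : Ideal (MvPolynomial (Fin n) R) :=
  Ideal.span (Set.range fun i : Fin n => (X i : MvPolynomial (Fin n) R) ^ p)

/-- the monomial in a family `x` attached to a restricted multi-index -/
noncomputable def mon {A : Type*} [CommRing A] (x : Fin n → A) (α : Fin n → Fin p) : A :=
  ∏ i, x i ^ (α i : ℕ)

lemma aeval_monomial_expo {A : Type*} [CommRing A] [Algebra R A] (x : Fin n → A)
    (α : Fin n → Fin p) (c : R) :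
    aeval x (monomial (expo p n α) c) = c • mon p n x α := by
  rw [aeval_monomial, Finsupp.prod_fintype _ _ (fun i => pow_zero _), Algebra.smul_def]
  rfl

lemma restrictedRep (f : MvPolynomial (Fin n) R) :
    ∃ c : (Fin n → Fin p) → R, f - ∑ α, monomial (expo p n α) (c α) ∈ Jp (R := R) p n := by
  classical
  induction f using MvPolynomial.induction_on' with
  | monomial u a =>
    by_cases h : ∀ i, u i < p
    · refine ⟨Pi.single (fun i => ⟨u i, h i⟩) a, ?_⟩
      have hu : expo p n (fun i => ⟨u i, h i⟩) = u := by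
        ext i; simp
      rw [Finset.sum_eq_single (fun i => (⟨u i, h i⟩ : Fin p))]
      · rw [Pi.single_eq_same, hu, sub_self]; exact Ideal.zero_mem _
      · intro β _ hβ
        rw [Pi.single_eq_of_ne hβ, map_zero]
      · intro h'; exact absurd (Finset.mem_univ _) h'
    · push Not at h
      obtain ⟨i, hi⟩ := h
      refine ⟨0, ?_⟩
      simp only [Pi.zero_apply, map_zero, Finset.sum_const_zero, sub_zero]
      have : monomial u a = monomial (u - Finsupp.single i p) a * (X i : MvPolynomial (Fin n) R) ^ p := by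
        have hu : u = (u - Finsupp.single i p) + Finsupp.single i p := by
          ext j
          by_cases hj : j = i
          · subst hj; simp [Nat.sub_add_cancel hi]
          · simp [Ne.symm hj]
        rw [X_pow_eq_monomial, monomial_mul, mul_one, ← hu]
      rw [this]
      exact Ideal.mul_mem_left _ _ (Ideal.subset_span ⟨i, rfl⟩)
  | add f g hf hg =>
    obtain ⟨c, hc⟩ := hf
    obtain ⟨d, hd⟩ := hg
    refine ⟨c + d, ?_⟩
    have : f + g - ∑ α, monomial (expo p n α) ((c + d) α) =
        (f - ∑ α, monomial (expo p n α) (c α)) + (g - ∑ α, monomial (expo p n α) (d α)) := by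
      simp only [Pi.add_apply, map_add, Finset.sum_add_distrib]; ring
    rw [this]
    exact Ideal.add_mem _ hc hd

variable {A : Type*} [CommRing A] [Algebra R A]

lemma aeval_mem_Jp (x : Fin n → A) (hx : ∀ i, x i ^ p = 0) (f : MvPolynomial (Fin n) R)
    (hf : f ∈ Jp (R := R) p n) : aeval x f = 0 := by
  have : Jp (R := R) p n ≤ RingHom.ker (aeval x : MvPolynomial (Fin n) R →ₐ[R] A) := by
    rw [Jp, Ideal.span_le]
    rintro _ ⟨i, rfl⟩
    simp [RingHom.mem_ker, hx i]
  exact this hf

/-- If the restricted monomials in `x` form a basis and `x_i^p = 0`, then `A` is the truncated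
polynomial algebra. -/
theorem truncEquiv (x : Fin n → A) (hx : ∀ i, x i ^ p = 0)
    (hli : LinearIndependent R (mon p n x))
    (hsp : Submodule.span R (Set.range (mon p n x)) = ⊤) :
    Nonempty (A ≃ₐ[R] (MvPolynomial (Fin n) R ⧸
      Ideal.span (Set.range fun i : Fin n => (X i : MvPolynomial (Fin n) R) ^ p))) := by
  classical
  let Φ : (MvPolynomial (Fin n) R ⧸ Jp (R := R) p n) →ₐ[R] A :=
    Ideal.Quotient.liftₐ _ (aeval x) (fun f hf => aeval_mem_Jp p n x hx f hf)
  have hΦ : ∀ f, Φ (Ideal.Quotient.mk _ f) = aeval x f := fun f => rfl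
  have hinj : Function.Injective Φ := by
    rw [injective_iff_map_eq_zero]
    intro q hq
    obtain ⟨f, rfl⟩ := Ideal.Quotient.mk_surjective q
    rw [hΦ] at hq
    obtain ⟨c, hc⟩ := restrictedRep (R := R) p n f
    have h0 : aeval x (f - ∑ α, monomial (expo p n α) (c α)) = 0 := aeval_mem_Jp p n x hx _ hc
    rw [map_sub, hq, zero_sub, neg_eq_zero, map_sum] at h0
    simp only [aeval_monomial_expo] at h0
    have hc0 : ∀ α, c α = 0 := fun α => Fintype.linearIndependent_iff.1 hli c h0 α
    have : f ∈ Jp (R := R) p n := by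
      have h2 : f - ∑ α, monomial (expo p n α) (c α) = f := by
        simp [hc0]
      rw [← h2]; exact hc
    exact Ideal.Quotient.eq_zero_iff_mem.2 this
  have hsurj : Function.Surjective Φ := by
    intro a
    have ha : a ∈ Submodule.span R (Set.range (mon p n x)) := by rw [hsp]; trivial
    obtain ⟨c, rfl⟩ := (Submodule.mem_span_range_iff_exists_fun R).1 ha
    refine ⟨Ideal.Quotient.mk _ (∑ α, monomial (expo p n α) (c α)), ?_⟩
    rw [hΦ, map_sum]
    simp only [aeval_monomial_expo]
  exact ⟨(AlgEquiv.ofBijective Φ ⟨hinj, hsurj⟩).symm⟩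

end Formal


section Core

open Coalgebra TensorProduct

variable {k A : Type*} [Field k] [CommRing A] [Bialgebra k A]

/-- contraction `A ⊗ A → A`, `u ⊗ v ↦ φ v • u` -/
noncomputable def contr (φ : A →ₗ[k] k) : A ⊗[k] A →ₗ[k] A :=
  (TensorProduct.rid k A).toLinearMap ∘ₗ (LinearMap.lTensor A φ)

@[simp] lemma contr_tmul (φ : A →ₗ[k] k) (u v : A) : contr φ (u ⊗ₜ[k] v) = φ v • u := by
  simp [contr]

lemma contr_counit_comul (a : A) : contr (counit (R := k) (A := A)) (comul a) = a := by
  unfold contr
  rw [LinearMap.comp_apply, lTensor_counit_comul]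
  simp

/-- `φ` is an `ε`-derivation -/
def IsEpsDer (φ : A →ₗ[k] k) : Prop :=
  ∀ a b : A, φ (a * b) = counit (R := k) a * φ b + φ a * counit (R := k) b

lemma contr_mul (φ : A →ₗ[k] k) (hφ : IsEpsDer φ) (z w : A ⊗[k] A) :
    contr φ (z * w) = contr (counit (R := k) (A := A)) z * contr φ w +
      contr φ z * contr (counit (R := k) (A := A)) w := by
  induction z using TensorProduct.induction_on with
  | zero => simp
  | add z₁ z₂ h₁ h₂ => rw [add_mul, map_add, h₁, h₂, map_add, map_add]; ring
  | tmul u v =>
    induction w using TensorProduct.induction_on with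
    | zero => simp
    | add w₁ w₂ h₁ h₂ => rw [mul_add, map_add, h₁, h₂, map_add, map_add]; ring
    | tmul u' v' =>
      rw [Algebra.TensorProduct.tmul_mul_tmul]
      simp only [contr_tmul, hφ v v']
      simp only [Algebra.smul_def, map_add, map_mul]
      ring

lemma counit_contr_comul (φ : A →ₗ[k] k) (a : A) :
    counit (R := k) (contr φ (comul a)) = φ a := by
  have key : ∀ z : A ⊗[k] A, counit (R := k) (contr φ z) =
      φ (TensorProduct.lid k A (LinearMap.rTensor A (counit (R := k) (A := A)) z)) := by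
    intro z
    induction z using TensorProduct.induction_on with
    | zero => simp
    | add z₁ z₂ h₁ h₂ => simp only [map_add, h₁, h₂]
    | tmul u v =>
      simp only [contr_tmul, LinearMap.rTensor_tmul, TensorProduct.lid_tmul, map_smul, smul_eq_mul]
      ring
  rw [key, rTensor_counit_comul]
  simp

/-- the left-invariant derivation attached to an `ε`-derivation -/
noncomputable def derOf (φ : A →ₗ[k] k) (hφ : IsEpsDer φ) : Derivation k A A :=
  Derivation.mk' (contr φ ∘ₗ (comul : A →ₗ[k] A ⊗[k] A)) (by
    intro a b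
    simp only [LinearMap.comp_apply, Bialgebra.comul_mul, contr_mul φ hφ, contr_counit_comul,
      smul_eq_mul]
    ring)

lemma counit_derOf (φ : A →ₗ[k] k) (hφ : IsEpsDer φ) (a : A) :
    counit (R := k) (derOf φ hφ a) = φ a :=
  counit_contr_comul φ a

/-- chain rule -/
lemma deriv_aeval {n : ℕ} (D : Derivation k A A) (x : Fin n → A) (f : MvPolynomial (Fin n) k) :
    D (aeval x f) = ∑ j, aeval x (pderiv j f) * D (x j) := by
  classical
  induction f using MvPolynomial.induction_on with
  | C a =>
    rw [aeval_C, Derivation.map_algebraMap]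
    simp
  | add f g hf hg => simp only [map_add, hf, hg, add_mul, Finset.sum_add_distrib]
  | mul_X f i hf =>
    simp only [map_mul, aeval_X, Derivation.leibniz, smul_eq_mul, hf, pderiv_X, map_add]
    rw [Finset.mul_sum]
    simp only [add_mul, Finset.sum_add_distrib]
    congr 1
    · rw [Finset.sum_eq_single i]
      · simp
      · intro j _ hj
        rw [Pi.single_eq_of_ne' hj]
        simp
      · intro h; exact absurd (Finset.mem_univ _) h
    · refine Finset.sum_congr rfl fun j _ => ?_
      ring

end Core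


section Indep

open Coalgebra TensorProduct

variable {k A : Type*} [Field k] [CommRing A] [Bialgebra k A]
variable (p : ℕ) [CharP k p]

omit [CharP k p] in
lemma aeval_pderiv_eq_zero (h1 : ∀ a : A, counit (R := k) a = 0 → a ^ p = 0)
    {n : ℕ} (x : Fin n → A)
    (φ : Fin n → A →ₗ[k] k) (hφ : ∀ i, IsEpsDer (φ i))
    (hφx : ∀ i j, φ i (x j) = if i = j then 1 else 0)
    (f : MvPolynomial (Fin n) k) (hf : aeval x f = 0) (j : Fin n) :
    aeval x (pderiv j f) = 0 := by
  classical
  let M : Matrix (Fin n) (Fin n) A := fun i j => derOf (φ i) (hφ i) (x j)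
  let g : Fin n → A := fun j => aeval x (pderiv j f)
  have hMg : M.mulVec g = 0 := by
    funext i
    have := deriv_aeval (derOf (φ i) (hφ i)) x f
    rw [hf, map_zero] at this
    simp only [Matrix.mulVec, dotProduct, Pi.zero_apply]
    rw [this]
    refine Finset.sum_congr rfl fun j _ => ?_
    simp only [M, g]; ring
  have hdet : IsUnit M.det := by
    have hc : counit (R := k) M.det = 1 := by
      have h2 : (Bialgebra.counitAlgHom k A) M.det
          = ((Bialgebra.counitAlgHom k A).mapMatrix M).det := AlgHom.map_det _ _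
      have h3 : (Bialgebra.counitAlgHom k A).mapMatrix M = 1 := by
        ext i j
        rw [AlgHom.mapMatrix_apply, Matrix.map_apply, Matrix.one_apply]
        show counit (R := k) (derOf (φ i) (hφ i) (x j)) = _
        rw [counit_derOf, hφx]
      rw [h3, Matrix.det_one] at h2
      exact h2
    have hn : IsNilpotent (1 - M.det) := ⟨p, h1 _ (by rw [map_sub, hc, Bialgebra.counit_one, sub_self])⟩
    have := hn.isUnit_one_sub
    rwa [sub_sub_cancel] at this
  have hg : g = 0 := by
    have : M⁻¹.mulVec (M.mulVec g) = g := by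
      rw [Matrix.mulVec_mulVec, Matrix.nonsing_inv_mul M hdet, Matrix.one_mulVec]
    rw [← this, hMg, Matrix.mulVec_zero]
  exact congr_fun hg j

lemma coeff_zero_of_aeval {n : ℕ} (x : Fin n → A) (hx : ∀ j, counit (R := k) (x j) = 0)
    (f : MvPolynomial (Fin n) k) (hf : aeval x f = 0) : coeff 0 f = 0 := by
  have h : (Bialgebra.counitAlgHom k A) (aeval x f) = aeval (fun i => Bialgebra.counitAlgHom k A (x i)) f := by
    rw [← MvPolynomial.comp_aeval]; rfl
  have h0 : (fun i => Bialgebra.counitAlgHom k A (x i)) = fun _ => (0 : k) := by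
    funext i; exact hx i
  rw [hf, map_zero, h0, aeval_zero'] at h
  simpa [constantCoeff_eq] using h.symm

lemma coeff_eq_zero_of_aeval (h1 : ∀ a : A, counit (R := k) a = 0 → a ^ p = 0)
    {n : ℕ} (x : Fin n → A) (hx : ∀ j, counit (R := k) (x j) = 0)
    (φ : Fin n → A →ₗ[k] k) (hφ : ∀ i, IsEpsDer (φ i))
    (hφx : ∀ i j, φ i (x j) = if i = j then 1 else 0) (d : ℕ) :
    ∀ f : MvPolynomial (Fin n) k, aeval x f = 0 → (∀ m ∈ f.support, ∀ i, m i < p) →
      ∀ m : Fin n →₀ ℕ, m.degree = d → coeff m f = 0 := by
  classical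
  induction d with
  | zero =>
    intro f hf _ m hm
    rw [Finsupp.degree_eq_zero_iff] at hm
    rw [hm]; exact coeff_zero_of_aeval x hx f hf
  | succ d ih =>
    intro f hf hres m hm
    by_contra hne
    have hm0 : m ≠ 0 := by
      intro h0; rw [h0] at hm; simp at hm
    obtain ⟨i, hi⟩ : ∃ i, m i ≠ 0 := by
      by_contra hcon
      push Not at hcon
      exact hm0 (Finsupp.ext hcon)
    have hmem : m ∈ f.support := mem_support_iff.2 hne
    have hlt : m i < p := hres m hmem i
    set m' : Fin n →₀ ℕ := m - Finsupp.single i 1 with hm'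
    have hmm : m' + Finsupp.single i 1 = m := by
      ext j
      by_cases hj : j = i
      · subst hj; simp [hm', Nat.sub_add_cancel (Nat.one_le_iff_ne_zero.2 hi)]
      · simp [hm', Ne.symm hj]
    have hdeg : m'.degree = d := by
      have := congrArg Finsupp.degree hmm
      rw [map_add, Finsupp.degree_single, hm] at this
      omega
    have hres' : ∀ u ∈ (pderiv i f).support, ∀ j, u j < p := by
      intro u hu j
      rw [mem_support_iff, coeff_pderiv] at hu
      have hu' : coeff (u + Finsupp.single i 1) f ≠ 0 := fun h => hu (by rw [h, zero_mul])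
      have := hres _ (mem_support_iff.2 hu') j
      simp only [Finsupp.coe_add, Pi.add_apply] at this
      omega
    have h0 := ih (pderiv i f) (aeval_pderiv_eq_zero p h1 x φ hφ hφx f hf i) hres' m' hdeg
    rw [coeff_pderiv, hmm] at h0
    have hmi : m' i + 1 = m i := by
      have := DFunLike.congr_fun hmm i
      simpa using this
    have hcast : ((m' i : k) + 1) ≠ 0 := by
      have h2 : ((m' i : k) + 1) = ((m i : ℕ) : k) := by
        rw [← hmi]; push_cast; ring
      rw [h2]
      intro h3
      rw [CharP.cast_eq_zero_iff k p] at h3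
      exact absurd (Nat.le_of_dvd (Nat.pos_of_ne_zero hi) h3) (not_le.2 hlt)
    rcases mul_eq_zero.1 h0 with h | h
    · exact hne h
    · exact hcast h

theorem linearIndependent_mon (h1 : ∀ a : A, counit (R := k) a = 0 → a ^ p = 0)
    {n : ℕ} (x : Fin n → A) (hx : ∀ j, counit (R := k) (x j) = 0)
    (φ : Fin n → A →ₗ[k] k) (hφ : ∀ i, IsEpsDer (φ i))
    (hφx : ∀ i j, φ i (x j) = if i = j then 1 else 0) :
    LinearIndependent k (mon p n x) := by
  classical
  rw [Fintype.linearIndependent_iff]
  intro c hc α
  set f : MvPolynomial (Fin n) k := ∑ β, monomial (expo p n β) (c β) with hf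
  have hcoeff : ∀ m, coeff m f = ∑ β, if expo p n β = m then c β else 0 := by
    intro m
    rw [hf, coeff_sum]
    refine Finset.sum_congr rfl fun β _ => ?_
    rw [coeff_monomial]
  have haev : aeval x f = 0 := by
    rw [hf, map_sum]
    simp only [aeval_monomial_expo]
    exact hc
  have hres : ∀ m ∈ f.support, ∀ i, m i < p := by
    intro m hm i
    rw [mem_support_iff, hcoeff] at hm
    obtain ⟨β, _, hβ⟩ := Finset.exists_ne_zero_of_sum_ne_zero hm
    have : expo p n β = m := by
      by_contra h; exact hβ (if_neg h)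
    rw [← this]
    exact (β i).2
  have := coeff_eq_zero_of_aeval p h1 x hx φ hφ hφx _ f haev hres (expo p n α) rfl
  rw [hcoeff, Finset.sum_eq_single α] at this
  · simpa using this
  · intro β _ hβ
    rw [if_neg]
    exact fun h => hβ (expo_injective p n h)
  · intro h; exact absurd (Finset.mem_univ _) h

end Indep


section Span

open Coalgebra TensorProduct

variable {k A : Type*} [Field k] [CommRing A] [Bialgebra k A]

lemma adjoin_step {n : ℕ} (x : Fin n → A) (hx : ∀ j, counit (R := k) (x j) = 0)
    (hspan : ∀ a : A, counit (R := k) a = 0 → ∃ c : Fin n → k,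
      a - ∑ j, c j • x j ∈ (RingHom.ker (Bialgebra.counitAlgHom k A)) ^ 2) (m : ℕ) :
    ∀ b ∈ (RingHom.ker (Bialgebra.counitAlgHom k A)) ^ m,
      ∃ s ∈ Algebra.adjoin k (Set.range x), s ∈ (RingHom.ker (Bialgebra.counitAlgHom k A)) ^ m ∧
        b - s ∈ (RingHom.ker (Bialgebra.counitAlgHom k A)) ^ (m + 1) := by
  set I := RingHom.ker (Bialgebra.counitAlgHom k A) with hI
  induction m with
  | zero =>
    intro b _
    refine ⟨algebraMap k A (counit (R := k) b), Subalgebra.algebraMap_mem _ _, by simp, ?_⟩
    rw [zero_add, pow_one, hI, RingHom.mem_ker, map_sub]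
    simp
  | succ m ih =>
    intro b hb
    rw [pow_succ] at hb
    refine Submodule.mul_induction_on hb ?_ ?_
    · intro u hu v hv
      obtain ⟨su, hsu, hsum, hsud⟩ := ih u hu
      have hv0 : counit (R := k) v = 0 := by
        have : v ∈ I := hv
        rw [hI, RingHom.mem_ker] at this
        exact this
      obtain ⟨c, hc⟩ := hspan v hv0
      have htS : ∑ j, c j • x j ∈ Algebra.adjoin k (Set.range x) :=
        Subalgebra.sum_mem _ fun j _ =>
          Subalgebra.smul_mem _ (Algebra.subset_adjoin (Set.mem_range_self j)) _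
      have htI : ∑ j, c j • x j ∈ I := by
        refine Ideal.sum_mem _ fun j _ => ?_
        rw [hI, RingHom.mem_ker, map_smul]
        have : (Bialgebra.counitAlgHom k A) (x j) = 0 := hx j
        rw [this, smul_zero]
      refine ⟨su * ∑ j, c j • x j, Subalgebra.mul_mem _ hsu htS, ?_, ?_⟩
      · rw [pow_succ]; exact Ideal.mul_mem_mul hsum htI
      · have e : u * v - su * ∑ j, c j • x j =
            (u - su) * v + su * (v - ∑ j, c j • x j) := by ring
        rw [e]
        refine Ideal.add_mem _ ?_ ?_
        · rw [pow_succ]; exact Ideal.mul_mem_mul hsud hv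
        · have : I ^ (m + 1 + 1) = I ^ m * I ^ 2 := by rw [← pow_add]
          rw [this]; exact Ideal.mul_mem_mul hsum hc
    · intro u v hu hv
      obtain ⟨su, hsu, hsum, hsud⟩ := hu
      obtain ⟨sv, hsv, hsvm, hsvd⟩ := hv
      refine ⟨su + sv, Subalgebra.add_mem _ hsu hsv, Ideal.add_mem _ hsum hsvm, ?_⟩
      have e : u + v - (su + sv) = (u - su) + (v - sv) := by ring
      rw [e]; exact Ideal.add_mem _ hsud hsvd

lemma adjoin_eq_top {n : ℕ} (x : Fin n → A) (hx : ∀ j, counit (R := k) (x j) = 0)
    (hnil : IsNilpotent (RingHom.ker (Bialgebra.counitAlgHom k A)))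
    (hspan : ∀ a : A, counit (R := k) a = 0 → ∃ c : Fin n → k,
      a - ∑ j, c j • x j ∈ (RingHom.ker (Bialgebra.counitAlgHom k A)) ^ 2) :
    Algebra.adjoin k (Set.range x) = ⊤ := by
  set I := RingHom.ker (Bialgebra.counitAlgHom k A) with hI
  have key : ∀ (m : ℕ) (a : A), ∃ s ∈ Algebra.adjoin k (Set.range x), a - s ∈ I ^ m := by
    intro m
    induction m with
    | zero => intro a; exact ⟨0, Subalgebra.zero_mem _, by simp⟩
    | succ m ih =>
      intro a
      obtain ⟨s, hs, has⟩ := ih a
      obtain ⟨s', hs', _, hd⟩ := adjoin_step x hx hspan m (a - s) has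
      refine ⟨s + s', Subalgebra.add_mem _ hs hs', ?_⟩
      have e : a - (s + s') = a - s - s' := by ring
      rw [e]; exact hd
  obtain ⟨N, hN⟩ := hnil
  rw [eq_top_iff]
  intro a _
  obtain ⟨s, hs, has⟩ := key N a
  rw [hN] at has
  have : a = s := sub_eq_zero.1 has
  rw [this]; exact hs

theorem span_mon_eq_top (p : ℕ) (h1 : ∀ a : A, counit (R := k) a = 0 → a ^ p = 0)
    {n : ℕ} (x : Fin n → A) (hx : ∀ j, counit (R := k) (x j) = 0)
    (hnil : IsNilpotent (RingHom.ker (Bialgebra.counitAlgHom k A)))
    (hspan : ∀ a : A, counit (R := k) a = 0 → ∃ c : Fin n → k,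
      a - ∑ j, c j • x j ∈ (RingHom.ker (Bialgebra.counitAlgHom k A)) ^ 2) :
    Submodule.span k (Set.range (mon p n x)) = ⊤ := by
  rw [eq_top_iff]
  intro a _
  have ha : a ∈ Algebra.adjoin k (Set.range x) := by
    rw [adjoin_eq_top x hx hnil hspan]; trivial
  rw [Algebra.adjoin_range_eq_range_aeval] at ha
  obtain ⟨f, rfl⟩ := ha
  obtain ⟨c, hc⟩ := restrictedRep (R := k) p n f
  have h0 : aeval x (f - ∑ α, monomial (expo p n α) (c α)) = 0 :=
    aeval_mem_Jp p n x (fun i => h1 _ (hx i)) _ hc
  rw [map_sub, sub_eq_zero, map_sum] at h0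
  simp only [aeval_monomial_expo] at h0
  show (aeval x) f ∈ _
  rw [h0]
  exact Submodule.sum_mem _ fun α _ => Submodule.smul_mem _ _ (Submodule.subset_span ⟨α, rfl⟩)

end Span


section Cot

open Coalgebra TensorProduct

variable {k A : Type*} [Field k] [CommRing A] [Bialgebra k A]

lemma sub_counit_mem (a : A) :
    a - algebraMap k A (counit (R := k) a) ∈ RingHom.ker (Bialgebra.counitAlgHom k A) := by
  rw [RingHom.mem_ker, map_sub]
  simp

/-- `a ↦ class of (a - ε a)` in the cotangent space of the augmentation ideal -/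
noncomputable def theta : A →ₗ[k] (RingHom.ker (Bialgebra.counitAlgHom k A)).Cotangent where
  toFun a := (RingHom.ker (Bialgebra.counitAlgHom k A)).toCotangent ⟨_, sub_counit_mem (k := k) a⟩
  map_add' a b := by
    rw [← map_add]
    congr 1
    apply Subtype.ext
    simp only [map_add, Submodule.coe_add]
    ring
  map_smul' c a := by
    rw [RingHom.id_apply, ← LinearMap.map_smul_of_tower]
    congr 1
    apply Subtype.ext
    simp only [map_smul, smul_eq_mul, map_mul, Submodule.coe_smul_of_tower, smul_sub]
    rw [Algebra.smul_def c (algebraMap k A _)]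

lemma theta_apply (a : A) : theta (k := k) a =
    (RingHom.ker (Bialgebra.counitAlgHom k A)).toCotangent ⟨_, sub_counit_mem (k := k) a⟩ := rfl

lemma theta_of_mem (a : A) (ha : a ∈ RingHom.ker (Bialgebra.counitAlgHom k A)) :
    theta (k := k) a = (RingHom.ker (Bialgebra.counitAlgHom k A)).toCotangent ⟨a, ha⟩ := by
  rw [theta_apply]
  congr 1
  apply Subtype.ext
  have : counit (R := k) a = 0 := ha
  simp [this]

lemma theta_mul (a b : A) : theta (k := k) (a * b) =
    counit (R := k) a • theta (k := k) b + counit (R := k) b • theta (k := k) a := by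
  simp only [theta_apply]
  rw [← LinearMap.map_smul_of_tower, ← LinearMap.map_smul_of_tower, ← map_add, Ideal.toCotangent_eq]
  have : (a * b - algebraMap k A (counit (R := k) (a * b))) -
      ((counit (R := k) a • (b - algebraMap k A (counit (R := k) b))) +
        (counit (R := k) b • (a - algebraMap k A (counit (R := k) a)))) =
      (a - algebraMap k A (counit (R := k) a)) * (b - algebraMap k A (counit (R := k) b)) := by
    simp only [Bialgebra.counit_mul, map_mul, Algebra.smul_def]
    ring
  simp only [Submodule.coe_add, Submodule.coe_smul_of_tower]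
  rw [this, pow_two]
  exact Ideal.mul_mem_mul (sub_counit_mem a) (sub_counit_mem b)

theorem exists_cotangent_data
    [Module.Finite k (RingHom.ker (Bialgebra.counitAlgHom k A)).Cotangent] :
    ∃ (x : Fin (Module.finrank k (RingHom.ker (Bialgebra.counitAlgHom k A)).Cotangent) → A)
      (φ : Fin (Module.finrank k (RingHom.ker (Bialgebra.counitAlgHom k A)).Cotangent) → A →ₗ[k] k),
      (∀ j, counit (R := k) (x j) = 0) ∧ (∀ i, IsEpsDer (φ i)) ∧
      (∀ i j, φ i (x j) = if i = j then 1 else 0) ∧
      (∀ a : A, counit (R := k) a = 0 → ∃ c : Fin _ → k,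
        a - ∑ j, c j • x j ∈ (RingHom.ker (Bialgebra.counitAlgHom k A)) ^ 2) ∧
      (∀ i (a : A), a ∈ (RingHom.ker (Bialgebra.counitAlgHom k A)) ^ 2 → φ i a = 0) := by
  classical
  let b := Module.finBasis k (RingHom.ker (Bialgebra.counitAlgHom k A)).Cotangent
  choose y hy using fun j => (RingHom.ker (Bialgebra.counitAlgHom k A)).toCotangent_surjective (b j)
  have hyc : ∀ j, counit (R := k) ((y j : RingHom.ker (Bialgebra.counitAlgHom k A)) : A) = 0 :=
    fun j => (y j).2
  have hth : ∀ j, theta (k := k) ((y j : RingHom.ker (Bialgebra.counitAlgHom k A)) : A) = b j := by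
    intro j
    rw [theta_of_mem _ (y j).2]
    exact hy j
  refine ⟨fun j => (y j : A), fun i => (b.coord i) ∘ₗ theta (k := k), hyc, ?_, ?_, ?_, ?_⟩
  · intro i u v
    have := theta_mul (k := k) u v
    simp only [LinearMap.comp_apply]
    rw [this, map_add, map_smul, map_smul, smul_eq_mul, smul_eq_mul]
    ring
  · intro i j
    simp only [LinearMap.comp_apply, hth, Module.Basis.coord_apply, Module.Basis.repr_self,
      Finsupp.single_apply]
    simp only [eq_comm]
  · intro a ha
    refine ⟨fun j => b.repr (theta (k := k) a) j, ?_⟩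
    have haI : a ∈ RingHom.ker (Bialgebra.counitAlgHom k A) := ha
    have hsum : theta (k := k) a = ∑ j, b.repr (theta (k := k) a) j • b j := (b.sum_repr _).symm
    have h2 : ∑ j, b.repr (theta (k := k) a) j • b j =
        (RingHom.ker (Bialgebra.counitAlgHom k A)).toCotangent
          (∑ j, b.repr (theta (k := k) a) j • y j) := by
      rw [map_sum]
      refine Finset.sum_congr rfl fun j _ => ?_
      rw [LinearMap.map_smul_of_tower, hy]
    rw [h2, theta_of_mem a haI, Ideal.toCotangent_eq] at hsum
    convert hsum using 1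
    simp [theta_of_mem a haI]
  · intro i a ha
    have haI : a ∈ RingHom.ker (Bialgebra.counitAlgHom k A) := Ideal.pow_le_self two_ne_zero ha
    simp only [LinearMap.comp_apply]
    rw [theta_of_mem a haI, (Ideal.toCotangent_eq_zero _ ⟨a, haI⟩).2 ha, map_zero]

end Cot


section Final

open Coalgebra TensorProduct

variable {k A : Type*} [Field k] [CommRing A] [Bialgebra k A]

lemma theta_surjective : Function.Surjective (theta (k := k) (A := A)) := by
  intro c
  obtain ⟨y, rfl⟩ := (RingHom.ker (Bialgebra.counitAlgHom k A)).toCotangent_surjective c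
  exact ⟨(y : A), theta_of_mem _ y.2⟩

lemma isNilpotent_augIdeal (p : ℕ) [IsNoetherianRing A]
    (h1 : ∀ a : A, counit (R := k) a = 0 → a ^ p = 0) :
    IsNilpotent (RingHom.ker (Bialgebra.counitAlgHom k A)) := by
  rw [Ideal.FG.isNilpotent_iff_le_nilradical (IsNoetherian.noetherian _)]
  intro a ha
  exact ⟨p, h1 a ha⟩

/-- Field case: a finite-dimensional bialgebra of height `≤ 1` over a field of characteristic `p`
has a basis of restricted monomials in elements of the augmentation ideal. -/
theorem exists_basis_mon (p : ℕ) [CharP k p] [Module.Finite k A]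
    (h1 : ∀ a : A, counit (R := k) a = 0 → a ^ p = 0) :
    ∃ (n : ℕ) (x : Fin n → A), (∀ j, counit (R := k) (x j) = 0) ∧
      LinearIndependent k (mon p n x) ∧ Submodule.span k (Set.range (mon p n x)) = ⊤ := by
  have : IsNoetherianRing A := isNoetherian_of_tower k (inferInstance : IsNoetherian k A)
  have : Module.Finite k (RingHom.ker (Bialgebra.counitAlgHom k A)).Cotangent :=
    Module.Finite.of_surjective _ (theta_surjective (k := k) (A := A))
  obtain ⟨x, φ, hx, hφ, hφx, hspan, -⟩ := exists_cotangent_data (k := k) (A := A)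
  exact ⟨_, x, hx, linearIndependent_mon p h1 x hx φ hφ hφx,
    span_mon_eq_top p h1 x hx (isNilpotent_augIdeal p h1) hspan⟩

end Final


section FrobKer

open Coalgebra TensorProduct

variable (k A : Type*) [Field k] [CommRing A] [Bialgebra k A] (p : ℕ) [Fact p.Prime] [CharP k p]

/-- the ideal generated by the `p`-th powers of the augmentation ideal (ideal of the Frobenius kernel) -/
noncomputable def frobIdeal : Ideal A :=
  Ideal.span ((fun a : A => a ^ p) '' (RingHom.ker (Bialgebra.counitAlgHom k A) : Set A))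

omit [Fact p.Prime] [CharP k p] in
lemma pow_mem_frobIdeal {a : A} (ha : a ∈ RingHom.ker (Bialgebra.counitAlgHom k A)) :
    a ^ p ∈ frobIdeal k A p :=
  Ideal.subset_span ⟨a, ha, rfl⟩

omit [CharP k p] in
lemma frobIdeal_le_sq : frobIdeal k A p ≤ (RingHom.ker (Bialgebra.counitAlgHom k A)) ^ 2 := by
  rw [frobIdeal, Ideal.span_le]
  rintro _ ⟨a, ha, rfl⟩
  exact Ideal.pow_le_pow_right (Fact.out : p.Prime).two_le (Ideal.pow_mem_pow ha p)

omit [CharP k p] in
lemma frobIdeal_le_aug : frobIdeal k A p ≤ RingHom.ker (Bialgebra.counitAlgHom k A) :=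
  (frobIdeal_le_sq k A p).trans (Ideal.pow_le_self two_ne_zero)

lemma comul_mem_ker_of_mem_frobIdeal {x : A} (hx : x ∈ frobIdeal k A p) :
    (Algebra.TensorProduct.map (Ideal.Quotient.mkₐ k (frobIdeal k A p))
      (Ideal.Quotient.mkₐ k (frobIdeal k A p))) (Bialgebra.comulAlgHom k A x) = 0 := by
  let Ψ : A →ₐ[k] (A ⧸ frobIdeal k A p) ⊗[k] (A ⧸ frobIdeal k A p) :=
    (Algebra.TensorProduct.map (Ideal.Quotient.mkₐ k (frobIdeal k A p))
      (Ideal.Quotient.mkₐ k (frobIdeal k A p))).comp (Bialgebra.comulAlgHom k A)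
  suffices h : frobIdeal k A p ≤ RingHom.ker Ψ from h hx
  refine (Ideal.span_le.2 ?_ : frobIdeal k A p ≤ RingHom.ker Ψ)
  rintro _ ⟨a, ha, rfl⟩
  show Ψ (a ^ p) = 0
  rw [map_pow]
  rcases subsingleton_or_nontrivial ((A ⧸ frobIdeal k A p) ⊗[k] (A ⧸ frobIdeal k A p)) with hs | hn
  · exact Subsingleton.elim _ _
  · have : CharP ((A ⧸ frobIdeal k A p) ⊗[k] (A ⧸ frobIdeal k A p)) p :=
      charP_of_injective_algebraMap
        (algebraMap k ((A ⧸ frobIdeal k A p) ⊗[k] (A ⧸ frobIdeal k A p))).injective p
    let G : A ⊗[k] A →+* (A ⧸ frobIdeal k A p) ⊗[k] (A ⧸ frobIdeal k A p) :=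
      (frobenius ((A ⧸ frobIdeal k A p) ⊗[k] (A ⧸ frobIdeal k A p)) p).comp
        (Algebra.TensorProduct.map (Ideal.Quotient.mkₐ k (frobIdeal k A p))
          (Ideal.Quotient.mkₐ k (frobIdeal k A p))).toRingHom
    have hG : ∀ z, G z = ((Algebra.TensorProduct.map (Ideal.Quotient.mkₐ k (frobIdeal k A p))
          (Ideal.Quotient.mkₐ k (frobIdeal k A p))) z) ^ p := fun z => rfl
    have hπp : ∀ u ∈ RingHom.ker (Bialgebra.counitAlgHom k A),
        (Ideal.Quotient.mkₐ k (frobIdeal k A p)) u ^ p = 0 := by
      intro u hu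
      rw [← map_pow]
      exact Ideal.Quotient.eq_zero_iff_mem.2 (pow_mem_frobIdeal k A p hu)
    have hker : RingHom.ker (Algebra.TensorProduct.map (Bialgebra.counitAlgHom k A)
        (Bialgebra.counitAlgHom k A)) ≤ RingHom.ker G := by
      have hsurj : Function.Surjective (Bialgebra.counitAlgHom k A) :=
        fun c => ⟨algebraMap k A c, by simp⟩
      rw [Algebra.TensorProduct.map_ker _ _ hsurj hsurj]
      refine sup_le ?_ ?_
      · rw [Ideal.map_le_iff_le_comap]
        intro u hu
        rw [Ideal.mem_comap, RingHom.mem_ker, hG]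
        simp only [Algebra.TensorProduct.includeLeft_apply,
          Algebra.TensorProduct.map_tmul, map_one, Algebra.TensorProduct.tmul_pow, one_pow]
        rw [hπp u hu, TensorProduct.zero_tmul]
      · rw [Ideal.map_le_iff_le_comap]
        intro u hu
        rw [Ideal.mem_comap, RingHom.mem_ker, hG]
        simp only [Algebra.TensorProduct.includeRight_apply,
          Algebra.TensorProduct.map_tmul, map_one, Algebra.TensorProduct.tmul_pow, one_pow]
        rw [hπp u hu, TensorProduct.tmul_zero]
    have hmem : Bialgebra.comulAlgHom k A a ∈ RingHom.ker (Algebra.TensorProduct.map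
        (Bialgebra.counitAlgHom k A) (Bialgebra.counitAlgHom k A)) := by
      rw [RingHom.mem_ker]
      have h1 : (Algebra.TensorProduct.map (Bialgebra.counitAlgHom k A) (Bialgebra.counitAlgHom k A))
          (Bialgebra.comulAlgHom k A a) =
          LinearMap.lTensor k (counit (R := k) (A := A))
            (LinearMap.rTensor A (counit (R := k) (A := A)) (comul a)) := by
        rw [← LinearMap.comp_apply, LinearMap.lTensor_comp_rTensor]
        rfl
      rw [h1, rTensor_counit_comul, LinearMap.lTensor_tmul]
      have : counit (R := k) a = 0 := ha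
      rw [this, TensorProduct.tmul_zero]
    have := hker hmem
    rw [RingHom.mem_ker, hG] at this
    exact this

instance frobIdeal_isCoideal : ((frobIdeal k A p).restrictScalars k).IsCoideal where
  counit_eq_zero := fun _ hx => frobIdeal_le_aug k A p hx
  map_mkQ_comul_eq_zero := fun _ hx => comul_mem_ker_of_mem_frobIdeal k A p hx

end FrobKer


section FrobQuot

open Coalgebra TensorProduct

variable (k A : Type*) [Field k] [CommRing A] [Bialgebra k A] (p : ℕ) [Fact p.Prime] [CharP k p]

/-- basis data for the Frobenius kernel of a finite-dimensional bialgebra -/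
theorem frobQuot_basis [Module.Finite k A] :
    ∃ x : Fin (Module.finrank k (RingHom.ker (Bialgebra.counitAlgHom k A)).Cotangent) →
        A ⧸ frobIdeal k A p,
      (∀ i, x i ^ p = 0) ∧ LinearIndependent k (mon p _ x) ∧
        Submodule.span k (Set.range (mon p _ x)) = ⊤ := by
  classical
  have : Module.Finite k (RingHom.ker (Bialgebra.counitAlgHom k A)).Cotangent :=
    Module.Finite.of_surjective _ (theta_surjective (k := k) (A := A))
  obtain ⟨x, φ, hx, hφ, hφx, hspan, hφ2⟩ := exists_cotangent_data (k := k) (A := A)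
  have hπc : ∀ a : A, counit (R := k) ((Ideal.Quotient.mkₐ k (frobIdeal k A p)) a) =
      counit (R := k) a := fun a => rfl
  have hπs : Function.Surjective (Ideal.Quotient.mkₐ k (frobIdeal k A p)) :=
    Ideal.Quotient.mkₐ_surjective k _
  have h1 : ∀ a' : A ⧸ frobIdeal k A p, counit (R := k) a' = 0 → a' ^ p = 0 := by
    intro a' ha'
    obtain ⟨a, rfl⟩ := hπs a'
    rw [← map_pow]
    exact Ideal.Quotient.eq_zero_iff_mem.2 (pow_mem_frobIdeal k A p ha')
  have hφJ : ∀ i, (frobIdeal k A p).restrictScalars k ≤ LinearMap.ker (φ i) :=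
    fun i a ha => hφ2 i a (frobIdeal_le_sq k A p ha)
  let φ' : Fin (Module.finrank k (RingHom.ker (Bialgebra.counitAlgHom k A)).Cotangent) →
      (A ⧸ frobIdeal k A p) →ₗ[k] k := fun i =>
    (((frobIdeal k A p).restrictScalars k).liftQ (φ i) (hφJ i)) ∘ₗ
      (Submodule.Quotient.restrictScalarsEquiv k (frobIdeal k A p)).symm.toLinearMap
  have hφ' : ∀ i a, φ' i ((Ideal.Quotient.mkₐ k (frobIdeal k A p)) a) = φ i a := by
    intro i a
    simp only [φ', LinearMap.comp_apply, LinearEquiv.coe_coe]
    have : (Ideal.Quotient.mkₐ k (frobIdeal k A p)) a =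
        Submodule.Quotient.mk (p := frobIdeal k A p) a := rfl
    rw [this, Submodule.Quotient.restrictScalarsEquiv_symm_mk, Submodule.liftQ_apply]
  have hx' : ∀ j, counit (R := k) ((Ideal.Quotient.mkₐ k (frobIdeal k A p)) (x j)) = 0 :=
    fun j => (hπc _).trans (hx j)
  have hφ'der : ∀ i, IsEpsDer (φ' i) := by
    intro i a' b'
    obtain ⟨a, rfl⟩ := hπs a'
    obtain ⟨b, rfl⟩ := hπs b'
    rw [← map_mul, hφ', hφ', hφ', hπc, hπc]
    exact hφ i a b
  have hφx' : ∀ i j, φ' i ((Ideal.Quotient.mkₐ k (frobIdeal k A p)) (x j)) = if i = j then 1 else 0 :=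
    fun i j => (hφ' i _).trans (hφx i j)
  have hspan' : ∀ a' : A ⧸ frobIdeal k A p, counit (R := k) a' = 0 → ∃ c : Fin _ → k,
      a' - ∑ j, c j • (Ideal.Quotient.mkₐ k (frobIdeal k A p)) (x j) ∈
        (RingHom.ker (Bialgebra.counitAlgHom k (A ⧸ frobIdeal k A p))) ^ 2 := by
    intro a' ha'
    obtain ⟨a, rfl⟩ := hπs a'
    obtain ⟨c, hc⟩ := hspan a ha'
    refine ⟨c, ?_⟩
    have e : (Ideal.Quotient.mkₐ k (frobIdeal k A p)) a -
        ∑ j, c j • (Ideal.Quotient.mkₐ k (frobIdeal k A p)) (x j) =
        (Ideal.Quotient.mkₐ k (frobIdeal k A p)) (a - ∑ j, c j • x j) := by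
      rw [map_sub, map_sum]
      simp only [map_smul]
    rw [e]
    have hle : Ideal.map (Ideal.Quotient.mkₐ k (frobIdeal k A p))
        (RingHom.ker (Bialgebra.counitAlgHom k A)) ≤
        RingHom.ker (Bialgebra.counitAlgHom k (A ⧸ frobIdeal k A p)) := by
      rw [Ideal.map_le_iff_le_comap]
      intro u hu
      rw [Ideal.mem_comap, RingHom.mem_ker]
      exact (hπc u).trans hu
    have h2 := Ideal.mem_map_of_mem (Ideal.Quotient.mkₐ k (frobIdeal k A p)) hc
    rw [Ideal.map_pow] at h2
    exact Ideal.pow_right_mono hle 2 h2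
  have : IsNoetherianRing A := isNoetherian_of_tower k (inferInstance : IsNoetherian k A)
  exact ⟨_, fun i => h1 _ (hx' i),
    linearIndependent_mon p h1 _ hx' φ' hφ'der hφx',
    span_mon_eq_top p h1 _ hx' (isNilpotent_augIdeal p h1) hspan'⟩


/-- The Frobenius kernel of a finite-dimensional bialgebra is a truncated polynomial algebra in
`dim I/I²` variables. -/
theorem frobQuot_equiv [Module.Finite k A] :
    Nonempty ((A ⧸ frobIdeal k A p) ≃ₐ[k]
      (MvPolynomial (Fin (Module.finrank k (RingHom.ker (Bialgebra.counitAlgHom k A)).Cotangent)) k ⧸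
        Ideal.span (Set.range fun i : Fin (Module.finrank k
          (RingHom.ker (Bialgebra.counitAlgHom k A)).Cotangent) =>
            (X i : MvPolynomial (Fin (Module.finrank k
              (RingHom.ker (Bialgebra.counitAlgHom k A)).Cotangent)) k) ^ p))) := by
  obtain ⟨x, hx, li, sp⟩ := frobQuot_basis k A p
  exact truncEquiv p _ x hx li sp

theorem frobQuot_finrank [Module.Finite k A] :
    Module.finrank k (A ⧸ frobIdeal k A p) =
      p ^ Module.finrank k (RingHom.ker (Bialgebra.counitAlgHom k A)).Cotangent := by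
  obtain ⟨x, hx, li, sp⟩ := frobQuot_basis k A p
  rw [Module.finrank_eq_card_basis (Module.Basis.mk li sp.ge)]
  simp

end FrobQuot

end Groth.Agent.Lib.helper15.HeightOne
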