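import Mathlib
import Groth.Agent.Lib.Helper15.HeightOne

/-!
# Graded pieces of a Hopf algebra at the identity (helper15)

For a bialgebra `A` over a field `k` with augmentation ideal `I` and `x` lifting a basis of `I/I²`:
homogeneous polynomials `f` of degree `n` with `f(x) ∈ I^(n+1)` vanish when `n! ≠ 0` in `k`.
-/

set_option autoImplicit false

namespace Groth.Agent.Lib.helper15.HopfGr

open MvPolynomial Coalgebra TensorProduct Groth.Agent.Lib.helper15.HeightOne

variable {k A : Type*} [Field k] [CommRing A] [Bialgebra k A]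

/-- a derivation lowers the `I`-adic filtration by one -/
lemma deriv_pow_le (I : Ideal A) (D : Derivation k A A) (m : ℕ) :
    ∀ a ∈ I ^ (m + 1), D a ∈ I ^ m := by
  induction m with
  | zero => intro a _; simp
  | succ m ih =>
    intro a ha
    rw [pow_succ] at ha
    refine Submodule.mul_induction_on ha ?_ ?_
    · intro u hu v hv
      rw [Derivation.leibniz, smul_eq_mul, smul_eq_mul]
      refine Ideal.add_mem _ (Ideal.mul_mem_right _ _ hu) ?_
      rw [pow_succ]
      have := Ideal.mul_mem_mul (ih u hu) hv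
      rwa [mul_comm (D u) v] at this
    · intro u v hu hv
      rw [map_add]; exact Ideal.add_mem _ hu hv

/-- a homogeneous polynomial of degree `d` evaluated at elements of `I` lies in `I^d` -/
lemma aeval_mem_pow {n : ℕ} (I : Ideal A) (x : Fin n → A) (hx : ∀ j, x j ∈ I)
    (f : MvPolynomial (Fin n) k) (d : ℕ) (hf : f.IsHomogeneous d) : aeval x f ∈ I ^ d := by
  rw [aeval_def, eval₂_eq']
  refine Ideal.sum_mem _ fun m hm => ?_
  refine Ideal.mul_mem_left _ _ ?_
  have hdeg : m.degree = d := by
    rw [Finsupp.degree_eq_weight_one]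
    exact hf (mem_support_iff.1 hm)
  have : I ^ d = ∏ j : Fin n, I ^ (m j) := by
    rw [Finset.prod_pow_eq_pow_sum, ← hdeg, Finsupp.degree_eq_sum]
  rw [this]
  exact Ideal.prod_mem_prod fun j _ => Ideal.pow_mem_pow (hx j) _

variable {n : ℕ} (x : Fin n → A) (hx : ∀ j, counit (R := k) (x j) = 0)
  (φ : Fin n → A →ₗ[k] k) (hφ : ∀ i, IsEpsDer (φ i))
  (hφx : ∀ i j, φ i (x j) = if i = j then 1 else 0)

include hx hφ hφx in
/-- key step: if `f` is homogeneous of degree `d+1` and `f(x) ∈ I^(d+2)` then
`(∂_i f)(x) ∈ I^(d+1)` -/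
lemma aeval_pderiv_mem (d : ℕ) (f : MvPolynomial (Fin n) k) (hf : f.IsHomogeneous (d + 1))
    (hmem : aeval x f ∈ (RingHom.ker (Bialgebra.counitAlgHom k A)) ^ (d + 2)) (i : Fin n) :
    aeval x (pderiv i f) ∈ (RingHom.ker (Bialgebra.counitAlgHom k A)) ^ (d + 1) := by
  classical
  set I := RingHom.ker (Bialgebra.counitAlgHom k A) with hI
  have hxI : ∀ j, x j ∈ I := fun j => hx j
  have h1 := deriv_pow_le I (derOf (φ i) (hφ i)) (d + 1) _ hmem
  rw [deriv_aeval] at h1
  have hg : ∀ j, aeval x (pderiv j f) ∈ I ^ d := fun j =>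
    aeval_mem_pow I x hxI _ d (by simpa using hf.pderiv (i := j))
  have hy : ∀ j, derOf (φ i) (hφ i) (x j) - (if i = j then 1 else 0) ∈ I := by
    intro j
    rw [hI, RingHom.mem_ker, map_sub]
    have : (Bialgebra.counitAlgHom k A) (derOf (φ i) (hφ i) (x j)) = φ i (x j) :=
      counit_derOf _ _ _
    rw [this, hφx]
    split_ifs <;> simp
  have hsum : ∑ j, aeval x (pderiv j f) * derOf (φ i) (hφ i) (x j) =
      aeval x (pderiv i f) +
        ∑ j, aeval x (pderiv j f) * (derOf (φ i) (hφ i) (x j) - (if i = j then 1 else 0)) := by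
    simp only [mul_sub, Finset.sum_sub_distrib]
    rw [Finset.sum_eq_single i (f := fun j => aeval x (pderiv j f) * (if i = j then (1 : A) else 0))]
    · simp
    · intro j _ hj; rw [if_neg (Ne.symm hj), mul_zero]
    · intro h; exact absurd (Finset.mem_univ _) h
  rw [hsum] at h1
  have h2 : ∑ j, aeval x (pderiv j f) * (derOf (φ i) (hφ i) (x j) - (if i = j then 1 else 0)) ∈
      I ^ (d + 1) := by
    refine Ideal.sum_mem _ fun j _ => ?_
    rw [pow_succ]
    exact Ideal.mul_mem_mul (hg j) (hy j)
  exact (Ideal.add_mem_iff_left _ h2).1 h1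

include hx hφ hφx in
/-- homogeneous polynomials of degree `d` with `f(x) ∈ I^(d+1)` vanish when `d! ≠ 0` -/
theorem eq_zero_of_aeval_mem (d : ℕ) : ∀ (f : MvPolynomial (Fin n) k), f.IsHomogeneous d →
    ((d.factorial : ℕ) : k) ≠ 0 →
    aeval x f ∈ (RingHom.ker (Bialgebra.counitAlgHom k A)) ^ (d + 1) → f = 0 := by
  induction d with
  | zero =>
    intro f hf _ hmem
    rw [← totalDegree_zero_iff_isHomogeneous, totalDegree_eq_zero_iff_eq_C] at hf
    rw [hf] at hmem ⊢
    rw [zero_add, pow_one, RingHom.mem_ker, aeval_C] at hmem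
    have : (Bialgebra.counitAlgHom k A) (algebraMap k A (coeff 0 f)) = coeff 0 f := by simp
    rw [this] at hmem
    rw [hmem, map_zero]
  | succ d ih =>
    intro f hf hfac hmem
    have hd : ((d.factorial : ℕ) : k) ≠ 0 := by
      intro h
      apply hfac
      rw [Nat.factorial_succ, Nat.cast_mul, h, mul_zero]
    have hd1 : ((d + 1 : ℕ) : k) ≠ 0 := by
      intro h
      apply hfac
      rw [Nat.factorial_succ, Nat.cast_mul, h, zero_mul]
    have hp : ∀ i, pderiv i f = 0 := fun i =>
      ih (pderiv i f) (by simpa using hf.pderiv (i := i)) hd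
        (aeval_pderiv_mem x hx φ hφ hφx d f hf hmem i)
    have he := hf.sum_X_mul_pderiv
    simp only [hp, mul_zero, Finset.sum_const_zero] at he
    have h2 : (((d + 1 : ℕ) : k)) • f = 0 := by
      rw [Nat.cast_smul_eq_nsmul]
      exact he.symm
    exact (smul_eq_zero.1 h2).resolve_left hd1


include hx in
/-- every element of `I^d` is congruent mod `I^(d+1)` to a homogeneous polynomial of degree `d` in `x` -/
theorem exists_homogeneous_rep
    (hspan : ∀ a : A, counit (R := k) a = 0 → ∃ c : Fin n → k,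
      a - ∑ j, c j • x j ∈ (RingHom.ker (Bialgebra.counitAlgHom k A)) ^ 2) (d : ℕ) :
    ∀ b ∈ (RingHom.ker (Bialgebra.counitAlgHom k A)) ^ d,
      ∃ f : MvPolynomial (Fin n) k, f.IsHomogeneous d ∧
        b - aeval x f ∈ (RingHom.ker (Bialgebra.counitAlgHom k A)) ^ (d + 1) := by
  set I := RingHom.ker (Bialgebra.counitAlgHom k A) with hI
  have hxI : ∀ j, x j ∈ I := fun j => hx j
  induction d with
  | zero =>
    intro b _
    refine ⟨C (counit (R := k) b), isHomogeneous_C _ _, ?_⟩
    rw [zero_add, pow_one, aeval_C]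
    exact sub_counit_mem b
  | succ d ih =>
    intro b hb
    rw [pow_succ] at hb
    refine Submodule.mul_induction_on hb ?_ ?_
    · intro u hu v hv
      obtain ⟨fu, hfu, hu'⟩ := ih u hu
      obtain ⟨c, hc⟩ := hspan v hv
      refine ⟨fu * ∑ j, C (c j) * X j, hfu.mul (IsHomogeneous.sum _ _ _ fun j _ =>
        isHomogeneous_C_mul_X (c j) j), ?_⟩
      have hl : aeval x (∑ j, C (c j) * X j : MvPolynomial (Fin n) k) = ∑ j, c j • x j := by
        rw [map_sum]
        refine Finset.sum_congr rfl fun j _ => ?_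
        rw [map_mul, aeval_C, aeval_X, Algebra.smul_def]
      have e : u * v - aeval x (fu * ∑ j, C (c j) * X j) =
          (u - aeval x fu) * v + aeval x fu * (v - ∑ j, c j • x j) := by
        rw [map_mul, hl]; ring
      rw [e]
      refine Ideal.add_mem _ ?_ ?_
      · rw [pow_succ I (d + 1)]
        exact Ideal.mul_mem_mul hu' hv
      · have : I ^ (d + 1 + 1) = I ^ d * I ^ 2 := by rw [← pow_add]
        rw [this]
        exact Ideal.mul_mem_mul (aeval_mem_pow I x hxI fu d hfu) hc
    · rintro u v ⟨fu, hfu, hu'⟩ ⟨fv, hfv, hv'⟩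
      refine ⟨fu + fv, hfu.add hfv, ?_⟩
      have e : u + v - aeval x (fu + fv) = (u - aeval x fu) + (v - aeval x fv) := by
        rw [map_add]; ring
      rw [e]; exact Ideal.add_mem _ hu' hv'

omit x hx φ hφ hφx in
/-- the cotangent space of the augmentation ideal of a Noetherian bialgebra is finite-dimensional -/
theorem finite_cotangent [IsNoetherianRing A] :
    Module.Finite k (RingHom.ker (Bialgebra.counitAlgHom k A)).Cotangent := by
  classical
  obtain ⟨G, hG⟩ := (IsNoetherian.noetherian (RingHom.ker (Bialgebra.counitAlgHom k A)) :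
    (RingHom.ker (Bialgebra.counitAlgHom k A)).FG)
  have key : ∀ y ∈ Submodule.span A (G : Set A), counit (R := k) y = 0 ∧
      theta (k := k) y ∈ Submodule.span k (theta (k := k) '' (G : Set A)) := by
    intro y hy
    induction hy using Submodule.span_induction with
    | mem g hg =>
      refine ⟨?_, Submodule.subset_span ⟨g, hg, rfl⟩⟩
      have : g ∈ RingHom.ker (Bialgebra.counitAlgHom k A) := by
        rw [← hG]; exact Submodule.subset_span hg
      exact this
    | zero => exact ⟨map_zero _, by rw [map_zero]; exact Submodule.zero_mem _⟩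
    | add u v _ _ hu hv =>
      exact ⟨by rw [map_add, hu.1, hv.1, add_zero], by rw [map_add]; exact Submodule.add_mem _ hu.2 hv.2⟩
    | smul a u _ hu =>
      refine ⟨by rw [smul_eq_mul, Bialgebra.counit_mul, hu.1, mul_zero], ?_⟩
      rw [smul_eq_mul, theta_mul, hu.1, zero_smul, add_zero]
      exact Submodule.smul_mem _ _ hu.2
  refine ⟨⟨G.image (theta (k := k)), ?_⟩⟩
  rw [eq_top_iff]
  intro c _
  obtain ⟨y, rfl⟩ := (RingHom.ker (Bialgebra.counitAlgHom k A)).toCotangent_surjective c
  have hy : (y : A) ∈ Submodule.span A (G : Set A) := hG.symm ▸ y.2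
  have := (key _ hy).2
  rw [theta_of_mem _ y.2] at this
  rw [Finset.coe_image]
  exact this


section Dim

omit φ hφ hφx hx

/-- the family of classes of degree-`d` monomials in `A ⧸ I^(d+1)` -/
noncomputable def monoFam (d : ℕ) :
    ↥(Finset.univ.finsuppAntidiag d : Finset (Fin n →₀ ℕ)) →
      A ⧸ (RingHom.ker (Bialgebra.counitAlgHom k A)) ^ (d + 1) :=
  fun m => Ideal.Quotient.mk _ (aeval x (monomial m.1 (1 : k)))

/-- the transition map `A ⧸ I^(d+1) → A ⧸ I^d` -/
noncomputable def trans (d : ℕ) :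
    (A ⧸ (RingHom.ker (Bialgebra.counitAlgHom k A)) ^ (d + 1)) →ₐ[k]
      (A ⧸ (RingHom.ker (Bialgebra.counitAlgHom k A)) ^ d) :=
  Ideal.Quotient.factorₐ k (Ideal.pow_le_pow_right (Nat.le_succ d))

omit x in
lemma trans_surjective (d : ℕ) : Function.Surjective (trans (k := k) (A := A) d) := by
  intro z
  obtain ⟨a, rfl⟩ := Ideal.Quotient.mk_surjective z
  exact ⟨Ideal.Quotient.mk _ a, rfl⟩

omit x in
lemma degree_of_mem_antidiag {d : ℕ} {m : Fin n →₀ ℕ}
    (hm : m ∈ (Finset.univ.finsuppAntidiag d : Finset (Fin n →₀ ℕ))) : m.degree = d := by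
  rw [Finset.mem_finsuppAntidiag] at hm
  rw [Finsupp.degree_eq_sum]
  exact hm.1

omit x in
lemma mem_antidiag_of_degree {d : ℕ} {m : Fin n →₀ ℕ} (hm : m.degree = d) :
    m ∈ (Finset.univ.finsuppAntidiag d : Finset (Fin n →₀ ℕ)) := by
  rw [Finset.mem_finsuppAntidiag]
  refine ⟨?_, Finset.subset_univ _⟩
  rw [← hm, Finsupp.degree_eq_sum]

include hx in
theorem span_monoFam_eq_ker
    (hspan : ∀ a : A, counit (R := k) a = 0 → ∃ c : Fin n → k,
      a - ∑ j, c j • x j ∈ (RingHom.ker (Bialgebra.counitAlgHom k A)) ^ 2) (d : ℕ) :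
    Submodule.span k (Set.range (monoFam (k := k) x d)) =
      LinearMap.ker (trans (k := k) (A := A) d).toLinearMap := by
  classical
  have hxI : ∀ j, x j ∈ RingHom.ker (Bialgebra.counitAlgHom k A) := fun j => hx j
  apply le_antisymm
  · rw [Submodule.span_le]
    rintro _ ⟨m, rfl⟩
    rw [SetLike.mem_coe, LinearMap.mem_ker]
    show Ideal.Quotient.mk _ (aeval x (monomial m.1 (1 : k))) = 0
    rw [Ideal.Quotient.eq_zero_iff_mem]
    exact aeval_mem_pow _ x hxI _ d (isHomogeneous_monomial _ (degree_of_mem_antidiag m.2))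
  · intro z hz
    obtain ⟨b, rfl⟩ := Ideal.Quotient.mk_surjective z
    rw [LinearMap.mem_ker] at hz
    have hb : b ∈ (RingHom.ker (Bialgebra.counitAlgHom k A)) ^ d :=
      Ideal.Quotient.eq_zero_iff_mem.1 hz
    obtain ⟨f, hf, hbf⟩ := exists_homogeneous_rep x hx hspan d b hb
    have e1 : Ideal.Quotient.mk ((RingHom.ker (Bialgebra.counitAlgHom k A)) ^ (d + 1)) b =
        Ideal.Quotient.mk _ (aeval x f) := by
      rw [← sub_eq_zero, ← map_sub, Ideal.Quotient.eq_zero_iff_mem]
      exact hbf
    rw [e1]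
    have e2 : aeval x f = ∑ m ∈ f.support, coeff m f • aeval x (monomial m (1 : k)) := by
      conv_lhs => rw [← support_sum_monomial_coeff f]
      rw [map_sum]
      refine Finset.sum_congr rfl fun m _ => ?_
      rw [← map_smul, smul_monomial, smul_eq_mul, mul_one]
    rw [e2, map_sum]
    refine Submodule.sum_mem _ fun m hm => ?_
    have hmd : m.degree = d := by
      rw [Finsupp.degree_eq_weight_one]; exact hf (mem_support_iff.1 hm)
    have : Ideal.Quotient.mk ((RingHom.ker (Bialgebra.counitAlgHom k A)) ^ (d + 1))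
        (coeff m f • aeval x (monomial m (1 : k))) =
        coeff m f • monoFam (k := k) x d ⟨m, mem_antidiag_of_degree hmd⟩ := by
      rw [monoFam, Algebra.smul_def, map_mul, Algebra.smul_def]
      rfl
    rw [this]
    exact Submodule.smul_mem _ _ (Submodule.subset_span ⟨_, rfl⟩)

include hx in
theorem finite_quot_pow
    (hspan : ∀ a : A, counit (R := k) a = 0 → ∃ c : Fin n → k,
      a - ∑ j, c j • x j ∈ (RingHom.ker (Bialgebra.counitAlgHom k A)) ^ 2) (d : ℕ) :
    Module.Finite k (A ⧸ (RingHom.ker (Bialgebra.counitAlgHom k A)) ^ d) := by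
  induction d with
  | zero =>
    have : Subsingleton (A ⧸ (RingHom.ker (Bialgebra.counitAlgHom k A)) ^ 0) := by
      rw [pow_zero, Ideal.one_eq_top]
      exact Ideal.Quotient.subsingleton_iff.2 rfl
    infer_instance
  | succ d ih =>
    have h1 : Module.Finite k (LinearMap.ker (trans (k := k) (A := A) d).toLinearMap) := by
      rw [← span_monoFam_eq_ker x hx hspan d]
      exact Module.Finite.span_of_finite k (Set.finite_range _)
    have h2 : Module.Finite k ((A ⧸ (RingHom.ker (Bialgebra.counitAlgHom k A)) ^ (d + 1)) ⧸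
        LinearMap.ker (trans (k := k) (A := A) d).toLinearMap) :=
      Module.Finite.equiv
        ((trans (k := k) (A := A) d).toLinearMap.quotKerEquivOfSurjective (trans_surjective d)).symm
    exact Module.Finite.of_submodule_quotient
      (LinearMap.ker (trans (k := k) (A := A) d).toLinearMap)

include hx φ hφ hφx in
theorem linearIndependent_monoFam (d : ℕ) (hd : ((d.factorial : ℕ) : k) ≠ 0) :
    LinearIndependent k (monoFam (k := k) x d) := by
  classical
  rw [Fintype.linearIndependent_iff]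
  intro c hc m0
  set F : MvPolynomial (Fin n) k :=
    ∑ m : ↥(Finset.univ.finsuppAntidiag d : Finset (Fin n →₀ ℕ)), monomial m.1 (c m) with hF
  have hFh : F.IsHomogeneous d :=
    IsHomogeneous.sum _ _ _ fun m _ => isHomogeneous_monomial _ (degree_of_mem_antidiag m.2)
  have hmem : aeval x F ∈ (RingHom.ker (Bialgebra.counitAlgHom k A)) ^ (d + 1) := by
    rw [← Ideal.Quotient.eq_zero_iff_mem, hF, map_sum, map_sum, ← hc]
    refine Finset.sum_congr rfl fun m _ => ?_
    rw [monoFam, Algebra.smul_def, ← mul_one (c m), ← smul_eq_mul (c m) 1, ← smul_monomial,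
      map_smul, Algebra.smul_def, map_mul, smul_eq_mul, mul_one]
    rfl
  have hF0 := eq_zero_of_aeval_mem x hx φ hφ hφx d F hFh hd hmem
  have hcoef : coeff m0.1 F = c m0 := by
    rw [hF, coeff_sum, Finset.sum_eq_single m0]
    · rw [coeff_monomial, if_pos rfl]
    · intro m _ hm
      rw [coeff_monomial, if_neg]
      exact fun h => hm (Subtype.ext h)
    · intro h; exact absurd (Finset.mem_univ _) h
  rw [← hcoef, hF0, coeff_zero]

include hx φ hφ hφx in
theorem finrank_quot_pow_succ_aux
    (hspan : ∀ a : A, counit (R := k) a = 0 → ∃ c : Fin n → k,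
      a - ∑ j, c j • x j ∈ (RingHom.ker (Bialgebra.counitAlgHom k A)) ^ 2)
    (d : ℕ) (hd : ((d.factorial : ℕ) : k) ≠ 0) :
    Module.finrank k (A ⧸ (RingHom.ker (Bialgebra.counitAlgHom k A)) ^ (d + 1)) =
      Module.finrank k (A ⧸ (RingHom.ker (Bialgebra.counitAlgHom k A)) ^ d) +
        Nat.choose (n + d - 1) d := by
  classical
  have hfin := finite_quot_pow x hx hspan (d + 1)
  have h1 := LinearMap.finrank_range_add_finrank_ker (trans (k := k) (A := A) d).toLinearMap
  rw [LinearMap.range_eq_top.2 (trans_surjective d), finrank_top,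
    ← span_monoFam_eq_ker x hx hspan d,
    finrank_span_eq_card (linearIndependent_monoFam x hx φ hφ hφx d hd)] at h1
  rw [← h1, Fintype.card_coe, Finset.card_finsuppAntidiag_nat_eq_choose, Finset.card_univ,
    Fintype.card_fin]

end Dim

/-- `dim A/I^(d+1) = dim A/I^d + C(r+d-1, d)` when `d! ≠ 0` in `k` -/
theorem finrank_quot_pow_succ [IsNoetherianRing A] (d : ℕ) (hd : ((d.factorial : ℕ) : k) ≠ 0) :
    Module.finrank k (A ⧸ (RingHom.ker (Bialgebra.counitAlgHom k A)) ^ (d + 1)) =
      Module.finrank k (A ⧸ (RingHom.ker (Bialgebra.counitAlgHom k A)) ^ d) +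
        Nat.choose (Module.finrank k (RingHom.ker (Bialgebra.counitAlgHom k A)).Cotangent + d - 1) d := by
  have := finite_cotangent (k := k) (A := A)
  obtain ⟨x, φ, hx, hφ, hφx, hspan, -⟩ := exists_cotangent_data (k := k) (A := A)
  exact finrank_quot_pow_succ_aux x hx φ hφ hφx hspan d hd

end Groth.Agent.Lib.helper15.HopfGr
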