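import Mathlib
import Groth.Agent.Lib.Helper15.HopfGr

/-!
# Cartier's theorem (affine case)

A finitely generated commutative Hopf algebra over a field of characteristic zero is reduced.
-/

set_option autoImplicit false

namespace Groth.Agent.Lib.helper15.Cartier

open MvPolynomial Coalgebra TensorProduct Groth.Agent.Lib.helper15.HeightOne
  Groth.Agent.Lib.helper15.HopfGr

section Nilp

variable {k A : Type*} [Field k] [CharZero k] [CommRing A] [Bialgebra k A]

/-- in characteristic zero a nilpotent element lies in every power of the augmentation ideal -/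
theorem nilpotent_mem_pow {n : ℕ} (x : Fin n → A) (hx : ∀ j, counit (R := k) (x j) = 0)
    (φ : Fin n → A →ₗ[k] k) (hφ : ∀ i, IsEpsDer (φ i))
    (hφx : ∀ i j, φ i (x j) = if i = j then 1 else 0)
    (hspan : ∀ a : A, counit (R := k) a = 0 → ∃ c : Fin n → k,
      a - ∑ j, c j • x j ∈ (RingHom.ker (Bialgebra.counitAlgHom k A)) ^ 2)
    (y : A) (hy : IsNilpotent y) (d : ℕ) :
    y ∈ (RingHom.ker (Bialgebra.counitAlgHom k A)) ^ d := by
  induction d with
  | zero => simp
  | succ d ih =>
    obtain ⟨f, hf, hr⟩ := exists_homogeneous_rep x hx hspan d y ih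
    obtain ⟨e, he⟩ := hy
    rcases Nat.eq_zero_or_pos e with h0 | hpos
    · subst h0
      rw [pow_zero] at he
      have : y = 0 := by rw [← mul_one y, he, mul_zero]
      rw [this]; exact zero_mem _
    have hxI : ∀ j, x j ∈ RingHom.ker (Bialgebra.counitAlgHom k A) := fun j => hx j
    have hfx : aeval x f ∈ (RingHom.ker (Bialgebra.counitAlgHom k A)) ^ d :=
      aeval_mem_pow _ x hxI f d hf
    have key : aeval x (f ^ e) ∈ (RingHom.ker (Bialgebra.counitAlgHom k A)) ^ (d * e + 1) := by
      rw [map_pow]
      have h1 := (Commute.all (aeval x f) y).mul_geom_sum₂ e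
      rw [he, sub_zero] at h1
      rw [← h1]
      have hsum : ∑ i ∈ Finset.range e, (aeval x f) ^ i * y ^ (e - 1 - i) ∈
          (RingHom.ker (Bialgebra.counitAlgHom k A)) ^ (d * (e - 1)) := by
        refine Ideal.sum_mem _ fun i hi => ?_
        have hi' : i < e := Finset.mem_range.1 hi
        have e1 : d * (e - 1) = d * i + d * (e - 1 - i) := by
          rw [← Nat.mul_add]; congr 1; omega
        rw [e1, pow_add, pow_mul, pow_mul]
        exact Ideal.mul_mem_mul (Ideal.pow_mem_pow hfx _) (Ideal.pow_mem_pow ih _)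
      have hdiff : aeval x f - y ∈ (RingHom.ker (Bialgebra.counitAlgHom k A)) ^ (d + 1) := by
        rw [← neg_sub]; exact neg_mem hr
      have e2 : d * e + 1 = (d + 1) + d * (e - 1) := by
        obtain ⟨e', rfl⟩ : ∃ e', e = e' + 1 := ⟨e - 1, by omega⟩
        simp only [Nat.add_sub_cancel]; ring
      rw [e2, pow_add]
      exact Ideal.mul_mem_mul hdiff hsum
    have hfe : f ^ e = 0 :=
      eq_zero_of_aeval_mem x hx φ hφ hφx (d * e) (f ^ e) (hf.pow e)
        (by exact_mod_cast Nat.factorial_ne_zero _) key
    have hf0 : f = 0 := pow_eq_zero_iff (by omega) |>.1 hfe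
    rw [hf0, map_zero, sub_zero] at hr
    exact hr

/-- a nilpotent element of a Noetherian bialgebra in characteristic zero is killed by an element
with counit one -/
theorem exists_smul_eq_zero_of_isNilpotent [IsNoetherianRing A] (y : A) (hy : IsNilpotent y) :
    ∃ s : A, counit (R := k) s = 1 ∧ s * y = 0 := by
  have := finite_cotangent (k := k) (A := A)
  obtain ⟨x, φ, hx, hφ, hφx, hspan, -⟩ := exists_cotangent_data (k := k) (A := A)
  have hmem : y ∈ (⨅ i : ℕ, (RingHom.ker (Bialgebra.counitAlgHom k A)) ^ i • ⊤ : Submodule A A) := by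
    rw [Submodule.mem_iInf]
    intro i
    have := nilpotent_mem_pow x hx φ hφ hφx hspan y hy i
    simpa using this
  obtain ⟨r, hr⟩ := (Ideal.mem_iInf_smul_pow_eq_bot_iff _ y).1 hmem
  refine ⟨1 - r, ?_, ?_⟩
  · have : counit (R := k) (r : A) = 0 := r.2
    rw [map_sub, this, sub_zero, Bialgebra.counit_one]
  · rw [sub_mul, one_mul, ← smul_eq_mul (r : A), hr, sub_self]

end Nilp

section Translate

variable {k A : Type*} [Field k] [CommRing A] [HopfAlgebra k A]

open WithConv

/-- left translation by a point `g : A → k`: `a ↦ ∑ g(a₁) a₂` -/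
noncomputable def transl (g : A →ₐ[k] k) : A →ₐ[k] A :=
  (toConv ((Algebra.ofId k A).comp g) * toConv (AlgHom.id k A)).ofConv

lemma one_eq_counit : (1 : WithConv (A →ₐ[k] k)) = toConv (Bialgebra.counitAlgHom k A) := by
  rw [AlgHom.convOne_def]
  congr 1

lemma counit_comp_transl (g : A →ₐ[k] k) :
    (Bialgebra.counitAlgHom k A).comp (transl g) = g := by
  unfold transl
  rw [AlgHom.comp_convMul_distrib]
  have h1 : (Bialgebra.counitAlgHom k A).comp (toConv ((Algebra.ofId k A).comp g)).ofConv = g := by
    ext a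
    simp [Algebra.ofId_apply]
  have h2 : (Bialgebra.counitAlgHom k A).comp (toConv (AlgHom.id k A)).ofConv =
      Bialgebra.counitAlgHom k A := rfl
  rw [h1, h2, ← one_eq_counit, mul_one]

lemma comp_ofId_comp (M : A →ₐ[k] A) (g : A →ₐ[k] k) :
    M.comp ((Algebra.ofId k A).comp g) = (Algebra.ofId k A).comp g := by
  ext a
  simp [Algebra.ofId_apply]

lemma transl_inv_comp (g : A →ₐ[k] k) :
    (transl (g.comp (HopfAlgebra.antipodeAlgHom k A))).comp (transl g) = AlgHom.id k A := by
  have hinv : toConv ((Algebra.ofId k A).comp (g.comp (HopfAlgebra.antipodeAlgHom k A))) =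
      (toConv ((Algebra.ofId k A).comp g) : WithConv (A →ₐ[k] A))⁻¹ := rfl
  conv_lhs => rw [transl.eq_def g]
  rw [AlgHom.comp_convMul_distrib]
  have h1 : (transl (g.comp (HopfAlgebra.antipodeAlgHom k A))).comp
      (toConv ((Algebra.ofId k A).comp g)).ofConv = (Algebra.ofId k A).comp g :=
    comp_ofId_comp _ g
  have h2 : (transl (g.comp (HopfAlgebra.antipodeAlgHom k A))).comp
      (toConv (AlgHom.id k A)).ofConv = transl (g.comp (HopfAlgebra.antipodeAlgHom k A)) := rfl
  rw [h1, h2]
  unfold transl
  rw [hinv, toConv_ofConv, mul_inv_cancel_left]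

lemma comp_transl_inv (g : A →ₐ[k] k) :
    g.comp (transl (g.comp (HopfAlgebra.antipodeAlgHom k A))) = Bialgebra.counitAlgHom k A := by
  unfold transl
  rw [AlgHom.comp_convMul_distrib]
  have h1 : g.comp (toConv ((Algebra.ofId k A).comp
      (g.comp (HopfAlgebra.antipodeAlgHom k A)))).ofConv =
      ((toConv g : WithConv (A →ₐ[k] k))⁻¹).ofConv := by
    ext a
    simp [Algebra.ofId_apply]
    rfl
  have h2 : g.comp (toConv (AlgHom.id k A)).ofConv = g := rfl
  rw [h1, h2, toConv_ofConv, inv_mul_cancel, one_eq_counit]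

end Translate

section Points

/-- every maximal ideal of a finitely generated algebra over a field is the kernel of a point with
values in any algebraically closed extension -/
theorem exists_algHom_ker_eq (k A K : Type*) [Field k] [CommRing A] [Algebra k A]
    [Algebra.FiniteType k A] [Field K] [Algebra k K] [IsAlgClosed K]
    (m : Ideal A) [hm : m.IsMaximal] : ∃ g : A →ₐ[k] K, RingHom.ker g = m := by
  let _ := Ideal.Quotient.field m
  have hfin : Module.Finite k (A ⧸ m) := finite_of_finite_type_of_isJacobsonRing k (A ⧸ m)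
  have : Algebra.IsAlgebraic k (A ⧸ m) := Algebra.IsAlgebraic.of_finite k (A ⧸ m)
  let f : (A ⧸ m) →ₐ[k] K := IsAlgClosed.lift
  refine ⟨f.comp (Ideal.Quotient.mkₐ k m), ?_⟩
  ext a
  rw [RingHom.mem_ker, AlgHom.comp_apply, Ideal.Quotient.mkₐ_eq_mk]
  rw [map_eq_zero_iff f (RingHom.injective f.toRingHom), Ideal.Quotient.eq_zero_iff_mem]

end Points

section AlgClosed

/-- Cartier's theorem over an algebraically closed field of characteristic zero -/
theorem isReduced_of_isAlgClosed (k A : Type*) [Field k] [CharZero k] [IsAlgClosed k] [CommRing A]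
    [HopfAlgebra k A] [Algebra.FiniteType k A] : IsReduced A := by
  have hN : IsNoetherianRing A := Algebra.FiniteType.isNoetherianRing k A
  refine ⟨fun y hy => ?_⟩
  by_contra hy0
  have hann : Ideal.span {y} ≠ ⊥ := by
    simpa [Ideal.span_singleton_eq_bot] using hy0
  have hne : (⊥ : Ideal A).colon (Ideal.span {y}) ≠ ⊤ := by
    intro h
    have : (1 : A) ∈ (⊥ : Ideal A).colon (Ideal.span {y}) := h ▸ Submodule.mem_top
    rw [Submodule.mem_colon] at this
    have h1 := this y (Ideal.subset_span rfl)
    simp at h1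
    exact hy0 h1
  obtain ⟨m, hm, hle⟩ := Ideal.exists_le_maximal _ hne
  obtain ⟨g, hg⟩ := exists_algHom_ker_eq k A k m
  obtain ⟨s', hs', hs'y⟩ :=
    exists_smul_eq_zero_of_isNilpotent (k := k) (transl g y) (hy.map (transl g))
  have hMy : (transl (g.comp (HopfAlgebra.antipodeAlgHom k A))) (transl g y) = y := by
    have := transl_inv_comp g
    exact congrArg (fun f : A →ₐ[k] A => f y) this
  have hs : (transl (g.comp (HopfAlgebra.antipodeAlgHom k A))) s' * y = 0 := by
    rw [← hMy, ← map_mul, hs'y, map_zero]
  have hmem : (transl (g.comp (HopfAlgebra.antipodeAlgHom k A))) s' ∈ m := by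
    apply hle
    rw [Submodule.mem_colon]
    intro z hz
    obtain ⟨c, rfl⟩ := Ideal.mem_span_singleton'.1 hz
    rw [Submodule.mem_bot, smul_eq_mul, mul_comm c, ← mul_assoc, hs, zero_mul]
  rw [← hg, RingHom.mem_ker] at hmem
  have h2 : g ((transl (g.comp (HopfAlgebra.antipodeAlgHom k A))) s') = counit (R := k) s' :=
    congrArg (fun f : A →ₐ[k] k => f s') (comp_transl_inv g)
  rw [h2, hs'] at hmem
  exact one_ne_zero hmem

end AlgClosed

section General

/-- **Cartier's theorem** (affine case): a finitely generated commutative Hopf algebra over a field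
of characteristic zero is reduced -/
theorem isReduced_of_charZero (k A : Type*) [Field k] [CharZero k] [CommRing A]
    [HopfAlgebra k A] [Algebra.FiniteType k A] : IsReduced A := by
  have h0 : CharZero (AlgebraicClosure k) :=
    charZero_of_injective_algebraMap (algebraMap k (AlgebraicClosure k)).injective
  have hft : Algebra.FiniteType (AlgebraicClosure k) (AlgebraicClosure k ⊗[k] A) := inferInstance
  have hred : IsReduced (AlgebraicClosure k ⊗[k] A) :=
    isReduced_of_isAlgClosed (AlgebraicClosure k) (AlgebraicClosure k ⊗[k] A)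
  exact isReduced_of_injective
    (Algebra.TensorProduct.includeRight : A →ₐ[k] AlgebraicClosure k ⊗[k] A)
    (Algebra.TensorProduct.includeRight_injective (algebraMap k (AlgebraicClosure k)).injective)

end General

end Groth.Agent.Lib.helper15.Cartier
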