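import Mathlib

/-!
# Determinantal ideals of relation modules (Fitting ideals), helper15

For a submodule `K ≤ (ι → R)` (thought of as the module of relations among a generating family
indexed by `ι`) we define `detIdeal K j`, the ideal generated by the `j × j` minors of matrices
with rows in `K`, and develop: characterisation by alternating forms, Laplace monotonicity,
functoriality, adding a free coordinate, independence of the generating family, base change,
and the local freeness criterion.
-/

set_option autoImplicit false
universe u v w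
open TensorProduct

namespace Groth.Agent.Lib.helper15.Fitting

section Basic

variable {R : Type u} [CommRing R] {ι : Type v} [Fintype ι]

/-- the ideal generated by the `j × j` minors of matrices whose rows lie in `K`. -/
def detIdeal (K : Submodule R (ι → R)) (j : ℕ) : Ideal R :=
  Ideal.span {d | ∃ (z : Fin j → (ι → R)) (e : Fin j → ι), (∀ b, z b ∈ K) ∧
    d = (Matrix.of fun a b => z b (e a)).det}

/-- the ideal generated by the values of alternating `j`-forms on `K`. -/
def altIdeal (K : Submodule R (ι → R)) (j : ℕ) : Ideal R :=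
  Ideal.span {d | ∃ (f : (ι → R) [⋀^Fin j]→ₗ[R] R) (z : Fin j → (ι → R)), (∀ b, z b ∈ K) ∧
    d = f z}

/-- the minor with column selection `e` as an alternating form. -/
noncomputable def minorForm (j : ℕ) (e : Fin j → ι) : (ι → R) [⋀^Fin j]→ₗ[R] R :=
  (Matrix.detRowAlternating (R := R) (n := Fin j)).compLinearMap (LinearMap.funLeft R R e)

theorem minorForm_apply (j : ℕ) (e : Fin j → ι) (z : Fin j → (ι → R)) :
    minorForm j e z = (Matrix.of fun a b => z b (e a)).det := by
  rw [← Matrix.det_transpose]
  rfl

theorem detIdeal_le_altIdeal (K : Submodule R (ι → R)) (j : ℕ) : detIdeal K j ≤ altIdeal K j := by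
  apply Ideal.span_le.mpr
  rintro d ⟨z, e, hz, rfl⟩
  exact Ideal.subset_span ⟨minorForm j e, z, hz, (minorForm_apply j e z).symm⟩

open Module Set Set.powersetCard in
/-- every alternating form evaluated on elements of `K` lies in the minors ideal. -/
theorem alt_apply_mem {P : Type w} [AddCommGroup P] [Module R P] (K : Submodule R (ι → R)) (j : ℕ)
    (f : (ι → R) [⋀^Fin j]→ₗ[R] P) (z : Fin j → (ι → R)) (hz : ∀ b, z b ∈ K) :
    f z ∈ (detIdeal K j) • (⊤ : Submodule R P) := by
  classical
  let _ : LinearOrder ι := linearOrderOfSTO WellOrderingRel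
  let b : Basis ι R (ι → R) := Pi.basisFun R ι
  let B := b.exteriorPower j
  let L := exteriorPower.alternatingMapLinearEquiv f
  have h1 : f z = L (exteriorPower.ιMulti R j z) :=
    (exteriorPower.alternatingMapLinearEquiv_apply_ιMulti f z).symm
  rw [h1, ← B.linearCombination_repr (exteriorPower.ιMulti R j z), Finsupp.linearCombination_apply,
    map_finsuppSum]
  apply Submodule.sum_mem
  intro s _
  show L (_ • B s) ∈ _
  rw [map_smul]
  apply Submodule.smul_mem_smul _ Submodule.mem_top
  rw [exteriorPower.basis_repr_apply, exteriorPower.ιMultiDual_apply_ιMulti]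
  apply Ideal.subset_span
  refine ⟨z, fun a => powersetCard.ofFinEmbEquiv.symm s a, hz, ?_⟩
  rw [← Matrix.det_transpose]
  congr 1

theorem alt_apply_mem' (K : Submodule R (ι → R)) (j : ℕ)
    (f : (ι → R) [⋀^Fin j]→ₗ[R] R) (z : Fin j → (ι → R)) (hz : ∀ b, z b ∈ K) :
    f z ∈ detIdeal K j := by
  have h := alt_apply_mem K j f z hz
  rwa [smul_eq_mul, Ideal.mul_top] at h

theorem altIdeal_eq_detIdeal (K : Submodule R (ι → R)) (j : ℕ) : altIdeal K j = detIdeal K j := by
  apply le_antisymm _ (detIdeal_le_altIdeal K j)
  apply Ideal.span_le.mpr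
  rintro d ⟨f, z, hz, rfl⟩
  exact alt_apply_mem' K j f z hz

theorem minor_mem (K : Submodule R (ι → R)) (j : ℕ) (z : Fin j → (ι → R)) (e : Fin j → ι)
    (hz : ∀ b, z b ∈ K) : (Matrix.of fun a b => z b (e a)).det ∈ detIdeal K j :=
  Ideal.subset_span ⟨z, e, hz, rfl⟩

theorem detIdeal_mono {K K' : Submodule R (ι → R)} (h : K ≤ K') (j : ℕ) :
    detIdeal K j ≤ detIdeal K' j := by
  apply Ideal.span_le.mpr
  rintro d ⟨z, e, hz, rfl⟩
  exact minor_mem K' j z e (fun b => h (hz b))

/-- Laplace expansion: bigger minors lie in the ideal of smaller minors. -/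
theorem detIdeal_succ_le (K : Submodule R (ι → R)) (j : ℕ) :
    detIdeal K (j + 1) ≤ detIdeal K j := by
  apply Ideal.span_le.mpr
  rintro d ⟨z, e, hz, rfl⟩
  rw [← minorForm_apply]
  have h : minorForm (j + 1) e z = ((minorForm (R := R) (j + 1) e).curryLeft (z 0)) (Fin.tail z) := by
    rw [AlternatingMap.curryLeft_apply_apply]
    congr 1
    ext i : 1
    refine Fin.cases ?_ (fun i => ?_) i <;> rfl
  rw [h]
  exact alt_apply_mem' K j _ _ (fun b => hz _)

theorem detIdeal_anti (K : Submodule R (ι → R)) {j j' : ℕ} (h : j ≤ j') :
    detIdeal K j' ≤ detIdeal K j := by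
  induction h with
  | refl => exact le_rfl
  | step _ ih => exact (detIdeal_succ_le K _).trans ih

theorem detIdeal_zero (K : Submodule R (ι → R)) : detIdeal K 0 = ⊤ := by
  rw [Ideal.eq_top_iff_one]
  have := minor_mem K 0 (fun b => Fin.elim0 b) (fun b => Fin.elim0 b) (fun b => Fin.elim0 b)
  rwa [Matrix.det_isEmpty] at this

theorem detIdeal_eq_bot_of_card_lt (K : Submodule R (ι → R)) {j : ℕ} (h : Fintype.card ι < j) :
    detIdeal K j = ⊥ := by
  rw [eq_bot_iff]
  apply Ideal.span_le.mpr
  rintro d ⟨z, e, hz, rfl⟩
  have hne : ¬ Function.Injective e := by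
    intro hinj
    have := Fintype.card_le_of_injective e hinj
    rw [Fintype.card_fin] at this
    omega
  rw [Function.Injective] at hne
  push Not at hne
  obtain ⟨a, a', haa, hne⟩ := hne
  have : (Matrix.of fun a b => z b (e a)).det = 0 := by
    apply Matrix.det_zero_of_row_eq hne
    ext b
    simp [haa]
  rw [this]
  exact Ideal.zero_mem _

/-- functoriality: minors of the image of `K` under a linear map are combinations of minors of
`K`. -/
theorem detIdeal_map_le {ι' : Type*} [Fintype ι'] (K : Submodule R (ι → R))
    (g : (ι → R) →ₗ[R] (ι' → R)) (j : ℕ) : detIdeal (K.map g) j ≤ detIdeal K j := by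
  apply Ideal.span_le.mpr
  rintro d ⟨z, e, hz, rfl⟩
  choose w hw hwz using hz
  rw [← minorForm_apply]
  have : minorForm j e z = ((minorForm (R := R) j e).compLinearMap g) w := by
    rw [AlternatingMap.compLinearMap_apply]
    congr 1
    ext b : 1
    exact (hwz b).symm
  rw [this]
  exact alt_apply_mem' K j _ w hw

theorem detIdeal_map_equiv {ι' : Type*} [Fintype ι'] (K : Submodule R (ι → R))
    (g : (ι → R) ≃ₗ[R] (ι' → R)) (j : ℕ) :
    detIdeal (K.map (g : (ι → R) →ₗ[R] (ι' → R))) j = detIdeal K j := by
  apply le_antisymm (detIdeal_map_le K _ j)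
  have h := detIdeal_map_le (K.map (g : (ι → R) →ₗ[R] (ι' → R)))
    (g.symm : (ι' → R) →ₗ[R] (ι → R)) j
  refine le_trans (detIdeal_mono ?_ j) h
  intro x hx
  exact ⟨g x, ⟨x, hx, rfl⟩, by simp⟩

end Basic

section Opt
variable {R : Type u} [CommRing R] {ι : Type v} [Fintype ι]

/-- add a free coordinate (indexed by `none`). -/
def addFree (K : Submodule R (ι → R)) : Submodule R (Option ι → R) :=
  K.comap (LinearMap.funLeft R R (some : ι → Option ι))

theorem mem_addFree {K : Submodule R (ι → R)} {v : Option ι → R} :
    v ∈ addFree K ↔ (fun i => v (some i)) ∈ K := Iff.rfl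

theorem detIdeal_le_addFree (K : Submodule R (ι → R)) (j : ℕ) :
    detIdeal K j ≤ detIdeal (addFree K) (j + 1) := by
  classical
  apply Ideal.span_le.mpr
  rintro d ⟨z, e, hz, rfl⟩
  let z' : Fin (j + 1) → (Option ι → R) :=
    Fin.cons (Pi.single none 1) (fun b => fun o => Option.elim o 0 (z b))
  let e' : Fin (j + 1) → Option ι := Fin.cons none (fun a => some (e a))
  have hz' : ∀ b, z' b ∈ addFree K := by
    intro b
    refine Fin.cases ?_ (fun b => ?_) b
    · rw [mem_addFree]
      convert K.zero_mem using 1
      ext i
      simp [z']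
    · rw [mem_addFree]
      exact hz b
  have hdet : (Matrix.of fun a b => z' b (e' a)).det = (Matrix.of fun a b => z b (e a)).det := by
    rw [Matrix.det_succ_row_zero, Fin.sum_univ_succ]
    have h0 : ∀ b : Fin j, (Matrix.of fun a b => z' b (e' a)) 0 b.succ = 0 := by
      intro b
      rfl
    simp only [h0, zero_mul, mul_zero, Finset.sum_const_zero, add_zero]
    have h1 : (Matrix.of fun a b => z' b (e' a)) 0 0 = 1 := by
      simp [z', e']
    rw [h1]
    simp only [Fin.val_zero, pow_zero, one_mul, Fin.succAbove_zero]
    rfl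
  rw [← hdet]
  exact minor_mem _ _ z' e' hz'

theorem det_eq_zero_of_not_injective {j : ℕ} {κ : Type*} (z : Fin j → (κ → R)) (e : Fin j → κ)
    (he : ¬ Function.Injective e) : (Matrix.of fun a b => z b (e a)).det = 0 := by
  rw [Function.Injective] at he
  push Not at he
  obtain ⟨a, a', haa, hne⟩ := he
  apply Matrix.det_zero_of_row_eq hne
  ext b
  simp [haa]

theorem detIdeal_addFree_le (K : Submodule R (ι → R)) (j : ℕ) :
    detIdeal (addFree K) (j + 1) ≤ detIdeal K j := by
  classical
  apply Ideal.span_le.mpr
  rintro d ⟨z, e, hz, rfl⟩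
  by_cases hinj : Function.Injective e
  swap
  · rw [det_eq_zero_of_not_injective z e hinj]
    exact Ideal.zero_mem _
  let t : Fin (j + 1) → (ι → R) := fun b i => z b (some i)
  have ht : ∀ b, t b ∈ K := fun b => hz b
  by_cases hnone : ∃ a₀, e a₀ = none
  · obtain ⟨a₀, ha₀⟩ := hnone
    have hsome : ∀ a : Fin j, ∃ i, e (a₀.succAbove a) = some i := by
      intro a
      have : e (a₀.succAbove a) ≠ none := by
        intro h
        have := hinj (h.trans ha₀.symm)
        exact Fin.succAbove_ne a₀ a this
      exact Option.ne_none_iff_exists'.mp this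
    choose e'' he'' using hsome
    rw [SetLike.mem_coe, Matrix.det_succ_row _ a₀]
    apply Ideal.sum_mem
    intro b _
    apply Ideal.mul_mem_left
    have : ((Matrix.of fun a b => z b (e a)).submatrix a₀.succAbove b.succAbove) =
        Matrix.of fun a b' => (fun b' => t (b.succAbove b')) b' (e'' a) := by
      ext a b'
      simp only [Matrix.submatrix_apply, Matrix.of_apply, t]
      rw [he'']
    rw [this]
    exact minor_mem K j _ e'' (fun b' => ht _)
  · push Not at hnone
    have hsome : ∀ a : Fin (j + 1), ∃ i, e a = some i :=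
      fun a => Option.ne_none_iff_exists'.mp (hnone a)
    choose e'' he'' using hsome
    have : (Matrix.of fun a b => z b (e a)) = Matrix.of fun a b => t b (e'' a) := by
      ext a b
      simp only [Matrix.of_apply, t]
      rw [he'']
    rw [this]
    exact detIdeal_succ_le K j (minor_mem K (j + 1) t e'' ht)

theorem detIdeal_addFree (K : Submodule R (ι → R)) (j : ℕ) :
    detIdeal (addFree K) (j + 1) = detIdeal K j :=
  le_antisymm (detIdeal_addFree_le K j) (detIdeal_le_addFree K j)

end Opt

section Rel
variable {R : Type u} [CommRing R] {M : Type w} [AddCommGroup M] [Module R M]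
  {ι : Type v} [Fintype ι]

variable (R) in
/-- the module of relations among a family. -/
def rel (x : ι → M) : Submodule R (ι → R) := LinearMap.ker (Fintype.linearCombination R x)

theorem mem_rel {x : ι → M} {v : ι → R} : v ∈ rel R x ↔ ∑ i, v i • x i = 0 := by
  rw [rel, LinearMap.mem_ker, Fintype.linearCombination_apply]

/-- adjoin one more member to a family. -/
def consGen (y : M) (x : ι → M) : Option ι → M := fun o => Option.elim o y x

/-- the shear automorphism of `Option ι → R` attached to coefficients `c`. -/
def shear (c : ι → R) : (Option ι → R) ≃ₗ[R] (Option ι → R) where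
  toFun v := fun o => Option.elim o (v none) (fun i => v (some i) + v none * c i)
  invFun v := fun o => Option.elim o (v none) (fun i => v (some i) - v none * c i)
  map_add' v w := by
    ext o
    cases o <;> simp [add_mul] <;> ring
  map_smul' r v := by
    ext o
    cases o <;> simp [mul_add, mul_assoc]
  left_inv v := by
    ext o
    cases o <;> simp
  right_inv v := by
    ext o
    cases o <;> simp

theorem mem_rel_consGen (y : M) (x : ι → M) (c : ι → R) (hc : y = ∑ i, c i • x i)
    (v : Option ι → R) : v ∈ rel R (consGen y x) ↔ shear c v ∈ addFree (rel R x) := by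
  rw [mem_rel, mem_addFree, mem_rel, Fintype.sum_option]
  simp only [consGen, Option.elim, shear, LinearEquiv.coe_mk, LinearMap.coe_mk, AddHom.coe_mk]
  rw [hc, Finset.smul_sum]
  simp only [add_smul, Finset.sum_add_distrib, mul_smul]
  rw [add_comm]

theorem detIdeal_rel_consGen (y : M) (x : ι → M) (hy : y ∈ Submodule.span R (Set.range x))
    (j : ℕ) : detIdeal (rel R (consGen y x)) (j + 1) = detIdeal (rel R x) j := by
  obtain ⟨c, hc⟩ := (Submodule.mem_span_range_iff_exists_fun R).mp hy
  have h : rel R (consGen y x) =
      (addFree (rel R x)).map ((shear c).symm : (Option ι → R) →ₗ[R] (Option ι → R)) := by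
    ext v
    rw [mem_rel_consGen y x c hc.symm v]
    constructor
    · intro hv
      exact ⟨shear c v, hv, by simp⟩
    · rintro ⟨w, hw, rfl⟩
      simpa using hw
  rw [h, detIdeal_map_equiv, detIdeal_addFree]

theorem detIdeal_rel_comp_equiv {ι₂ : Type*} [Fintype ι₂] (e : ι ≃ ι₂) (x : ι₂ → M) (j : ℕ) :
    detIdeal (rel R (x ∘ e)) j = detIdeal (rel R x) j := by
  have h : rel R (x ∘ e) =
      (rel R x).map ((LinearEquiv.funCongrLeft R R e) : (ι₂ → R) →ₗ[R] (ι → R)) := by
    ext v
    rw [Submodule.mem_map, mem_rel]
    constructor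
    · intro hv
      refine ⟨v ∘ e.symm, ?_, ?_⟩
      · rw [mem_rel, ← Equiv.sum_comp e]
        simpa using hv
      · ext i
        simp [LinearEquiv.funCongrLeft]
    · rintro ⟨w, hw, rfl⟩
      rw [mem_rel, ← Equiv.sum_comp e] at hw
      simpa [LinearEquiv.funCongrLeft] using hw
  rw [h, detIdeal_map_equiv]

/-- adjoining `n'` redundant members to a generating family shifts the minors ideals by `n'`. -/
theorem detIdeal_rel_sumElim (x : ι → M) (hx : Submodule.span R (Set.range x) = ⊤) :
    ∀ (n' : ℕ) (x' : Fin n' → M) (j : ℕ),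
      detIdeal (rel R (Sum.elim x' x)) (j + n') = detIdeal (rel R x) j := by
  intro n'
  induction n' with
  | zero =>
    intro x' j
    have h : (Sum.elim x' x) ∘ (Equiv.emptySum (Fin 0) ι).symm = x := by
      ext i
      simp
    rw [← detIdeal_rel_comp_equiv (Equiv.emptySum (Fin 0) ι).symm (Sum.elim x' x), h, add_zero]
  | succ n' ih =>
    intro x' j
    let E : Option (Fin n' ⊕ ι) ≃ Fin (n' + 1) ⊕ ι :=
      { toFun := fun o => Option.elim o (Sum.inl 0) (Sum.elim (fun a => Sum.inl a.succ) Sum.inr)
        invFun := Sum.elim (Fin.cases none (fun a => some (Sum.inl a))) (fun i => some (Sum.inr i))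
        left_inv := by
          rintro (_ | (a | i)) <;> simp
        right_inv := by
          rintro (a | i)
          · refine Fin.cases ?_ (fun a => ?_) a <;> simp
          · simp }
    have h : (Sum.elim x' x) ∘ E = consGen (x' 0) (Sum.elim (Fin.tail x') x) := by
      ext o
      rcases o with _ | (a | i) <;> simp [E, consGen, Fin.tail]
    rw [← detIdeal_rel_comp_equiv E (Sum.elim x' x), h, ← add_assoc, detIdeal_rel_consGen, ih]
    have : Submodule.span R (Set.range x) ≤ Submodule.span R (Set.range (Sum.elim (Fin.tail x') x)) := by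
      apply Submodule.span_mono
      rintro _ ⟨i, rfl⟩
      exact ⟨Sum.inr i, rfl⟩
    exact this (by rw [hx]; trivial)

/-- comparison of the minors ideals of two generating families. -/
theorem detIdeal_rel_le {ι' : Type*} [Fintype ι'] (x : ι → M)
    (hx : Submodule.span R (Set.range x) = ⊤) (x' : ι' → M)
    (hx' : Submodule.span R (Set.range x') = ⊤) {j j' : ℕ}
    (h : j + Fintype.card ι' ≤ j' + Fintype.card ι) :
    detIdeal (rel R x') j' ≤ detIdeal (rel R x) j := by
  let e := Fintype.equivFin ι
  let e' := Fintype.equivFin ι'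
  rw [← detIdeal_rel_sumElim x hx (Fintype.card ι') (x' ∘ e'.symm) j,
    ← detIdeal_rel_sumElim x' hx' (Fintype.card ι) (x ∘ e.symm) j']
  let E : Fin (Fintype.card ι') ⊕ ι ≃ Fin (Fintype.card ι) ⊕ ι' :=
    (Equiv.sumComm _ _).trans (Equiv.sumCongr e e'.symm)
  have hE : (Sum.elim (x ∘ e.symm) x') ∘ E = Sum.elim (x' ∘ e'.symm) x := by
    ext o
    rcases o with a | i <;> simp [E]
  rw [← hE, detIdeal_rel_comp_equiv]
  exact detIdeal_anti _ h

end Rel

section Span
variable {R : Type*} [CommRing R] {N P : Type*} [AddCommGroup N] [Module R N] [AddCommGroup P]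
  [Module R P]

/-- a multilinear map sends tuples from a span into the span of its values on the generators. -/
theorem multilinear_mem_of_span {j : ℕ} (F : MultilinearMap R (fun _ : Fin j => N) P) (S : Set N)
    (T : Submodule R P) (hS : ∀ s : Fin j → N, (∀ b, s b ∈ S) → F s ∈ T)
    (z : Fin j → N) (hz : ∀ b, z b ∈ Submodule.span R S) : F z ∈ T := by
  classical
  have key : ∀ A : Finset (Fin j), ∀ z : Fin j → N, (∀ b ∈ A, z b ∈ Submodule.span R S) →
      (∀ b, b ∉ A → z b ∈ S) → F z ∈ T := by
    intro A
    induction A using Finset.induction_on with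
    | empty =>
      intro z _ h2
      exact hS z (fun b => h2 b (Finset.notMem_empty b))
    | insert b₀ A hb₀ ih =>
      intro z h1 h2
      have hz0 : z b₀ ∈ Submodule.span R S := h1 b₀ (Finset.mem_insert_self _ _)
      have hupd : ∀ u ∈ Submodule.span R S, F (Function.update z b₀ u) ∈ T := by
        intro u hu
        induction hu using Submodule.span_induction with
        | mem u hu =>
          apply ih
          · intro b hb
            have hne : b ≠ b₀ := fun h => hb₀ (h ▸ hb)
            rw [Function.update_of_ne hne]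
            exact h1 b (Finset.mem_insert_of_mem hb)
          · intro b hb
            by_cases hbb : b = b₀
            · subst hbb
              rw [Function.update_self]
              exact hu
            · rw [Function.update_of_ne hbb]
              exact h2 b (fun h => (Finset.mem_insert.mp h).elim hbb hb)
        | zero =>
          rw [MultilinearMap.map_update_zero]
          exact T.zero_mem
        | add u v _ _ hu hv =>
          rw [MultilinearMap.map_update_add]
          exact T.add_mem hu hv
        | smul r u _ hu =>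
          rw [MultilinearMap.map_update_smul]
          exact T.smul_mem r hu
      have := hupd (z b₀) hz0
      rwa [Function.update_eq_self] at this
  exact key Finset.univ z (fun b _ => hz b) (fun b hb => absurd (Finset.mem_univ b) hb)

end Span

section Extend
variable {R : Type u} [CommRing R] {R' : Type w} [CommRing R'] (φ : R →+* R')
  {ι : Type v} [Fintype ι]

/-- the extension of a submodule of `ι → R` along a ring map. -/
def extend (K : Submodule R (ι → R)) : Submodule R' (ι → R') :=
  Submodule.span R' ((fun v : ι → R => fun i => φ (v i)) '' (K : Set (ι → R)))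

theorem map_minor {j : ℕ} (z : Fin j → (ι → R)) (e : Fin j → ι) :
    φ (Matrix.of fun a b => z b (e a)).det =
      (Matrix.of fun a b => (fun i => φ (z b i)) (e a)).det := by
  rw [RingHom.map_det]
  rfl

theorem detIdeal_extend (K : Submodule R (ι → R)) (j : ℕ) :
    detIdeal (extend φ K) j = (detIdeal K j).map φ := by
  apply le_antisymm
  · apply Ideal.span_le.mpr
    rintro d ⟨z, e, hz, rfl⟩
    rw [← minorForm_apply]
    refine multilinear_mem_of_span (minorForm (R := R') j e).toMultilinearMap
      ((fun v : ι → R => fun i => φ (v i)) '' (K : Set (ι → R)))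
      ((detIdeal K j).map φ) ?_ z hz
    intro s hs
    choose w hw hws using hs
    have : s = fun b => fun i => φ (w b i) := by
      ext b i
      rw [← hws b]
    rw [this]
    show minorForm j e _ ∈ _
    rw [minorForm_apply, ← map_minor]
    exact Ideal.mem_map_of_mem φ (minor_mem K j w e hw)
  · rw [Ideal.map_le_iff_le_comap, detIdeal]
    apply Ideal.span_le.mpr
    rintro d ⟨z, e, hz, rfl⟩
    rw [SetLike.mem_coe, Ideal.mem_comap, map_minor]
    exact minor_mem (extend φ K) j (fun b => fun i => φ (z b i)) e
      (fun b => Submodule.subset_span ⟨z b, hz b, rfl⟩)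

end Extend


section BC
variable {R : Type u} [CommRing R] {R' : Type w} [CommRing R'] [Algebra R R'] [Module.Flat R R']
  {N : Type*} [AddCommGroup N] [Module R N] {ι : Type v} [Fintype ι] (x : ι → N)

theorem rel_baseChange :
    rel R' (fun i => (1 : R') ⊗ₜ[R] x i) = extend (algebraMap R R') (rel R x) := by
  classical
  let π : (ι → R) →ₗ[R] N := Fintype.linearCombination R x
  have hex : Function.Exact (rel R x).subtype π := LinearMap.exact_subtype_ker_map π
  have hex' := Module.Flat.lTensor_exact R' hex
  let Ψ := TensorProduct.piScalarRight R R' R' ι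
  have hΨ : ∀ (r' : R') (v : ι → R), Ψ (r' ⊗ₜ v) = fun i => v i • r' := fun r' v => by
    simp [Ψ]
  have key : ∀ t : R' ⊗[R] (ι → R),
      (π.lTensor R') t = ∑ i, (Ψ t) i • ((1 : R') ⊗ₜ[R] x i) := by
    intro t
    induction t with
    | zero => simp
    | add a b ha hb =>
      rw [map_add, ha, hb, map_add, ← Finset.sum_add_distrib]
      simp [add_smul]
    | tmul r' v =>
      rw [LinearMap.lTensor_tmul, hΨ]
      simp only [π, Fintype.linearCombination_apply, tmul_sum, tmul_smul]
      apply Finset.sum_congr rfl
      intro i _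
      rw [smul_tmul', smul_tmul', smul_eq_mul, mul_one]
  apply le_antisymm
  · intro v' hv'
    rw [mem_rel] at hv'
    have h0 : (π.lTensor R') (Ψ.symm v') = 0 := by
      rw [key, LinearEquiv.apply_symm_apply]
      exact hv'
    obtain ⟨s, hs⟩ := (hex' (Ψ.symm v')).mp h0
    have hv : v' = Ψ (((rel R x).subtype.lTensor R') s) := by
      rw [hs, LinearEquiv.apply_symm_apply]
    rw [hv]
    clear hs hv h0 hv'
    induction s with
    | zero => simp
    | add a b ha hb =>
      rw [map_add, map_add]
      exact Submodule.add_mem _ ha hb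
    | tmul r' k =>
      rw [LinearMap.lTensor_tmul, Submodule.subtype_apply, hΨ]
      have : (fun i => (k : ι → R) i • r') = r' • (fun i => algebraMap R R' ((k : ι → R) i)) := by
        ext i
        simp [Algebra.smul_def, mul_comm]
      rw [this]
      exact Submodule.smul_mem _ _ (Submodule.subset_span ⟨k, k.2, rfl⟩)
  · apply Submodule.span_le.mpr
    rintro _ ⟨v, hv, rfl⟩
    rw [SetLike.mem_coe, mem_rel] at hv ⊢
    have : ∑ i, algebraMap R R' (v i) • ((1 : R') ⊗ₜ[R] x i) = (1 : R') ⊗ₜ[R] (∑ i, v i • x i) := by
      rw [tmul_sum]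
      apply Finset.sum_congr rfl
      intro i _
      rw [tmul_smul, algebraMap_smul]
    rw [this, hv, tmul_zero]

end BC

section BC2
variable {R : Type u} [CommRing R] {R' : Type w} [CommRing R'] [Algebra R R'] [Module.Flat R R']
  {N : Type*} [AddCommGroup N] [Module R N] {ι : Type v} [Fintype ι] (x : ι → N)

theorem rel_of_isBaseChange {N' : Type*} [AddCommGroup N'] [Module R N'] [Module R' N']
    [IsScalarTower R R' N'] (f : N →ₗ[R] N') (hf : IsBaseChange R' f) :
    rel R' (fun i => f (x i)) = extend (algebraMap R R') (rel R x) := by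
  rw [← rel_baseChange x]
  ext v
  rw [mem_rel, mem_rel]
  have : ∑ i, v i • f (x i) = hf.equiv (∑ i, v i • ((1 : R') ⊗ₜ[R] x i)) := by
    rw [map_sum]
    apply Finset.sum_congr rfl
    intro i _
    rw [map_smul, IsBaseChange.equiv_tmul, one_smul]
  rw [this, LinearEquiv.map_eq_zero_iff]

end BC2

section Local
variable {R : Type u} [CommRing R] [IsLocalRing R] {N : Type w} [AddCommGroup N] [Module R N]
  [Module.Finite R N] {ι : Type v} [Fintype ι]

open IsLocalRing in
/-- over a local ring, a finite module all of whose Fitting ideals are trivial is free. -/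
theorem free_of_detIdeal_trivial (x : ι → N) (hx : Submodule.span R (Set.range x) = ⊤)
    (h : ∀ j, detIdeal (rel R x) j = ⊥ ∨ detIdeal (rel R x) j = ⊤) : Module.Free R N := by
  classical
  let k := ResidueField R
  let b := Module.finBasis k (k ⊗[R] N)
  let μ := Module.finrank k (k ⊗[R] N)
  have hsurj : Function.Surjective (TensorProduct.mk R k N 1) :=
    TensorProduct.mk_surjective R N k Ideal.Quotient.mk_surjective
  choose y hy using fun i => hsurj (b i)
  have hyspan : Submodule.span R (Set.range y) = ⊤ :=
    span_eq_top_of_tmul_eq_basis y b hy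
  -- relations among `y` have coefficients in the maximal ideal
  have hrel : ∀ v ∈ rel R y, ∀ i, v i ∈ maximalIdeal R := by
    intro v hv i
    rw [mem_rel] at hv
    have h1 : ∑ i, (residue R (v i)) • b i = 0 := by
      have := congrArg (TensorProduct.mk R k N 1) hv
      rw [map_sum, map_zero] at this
      rw [← this]
      apply Finset.sum_congr rfl
      intro i _
      rw [map_smul, ← hy i]
      simp only [mk_apply]
      rw [smul_tmul', smul_tmul']
      congr 1
    have h2 := Fintype.linearIndependent_iff.mp b.linearIndependent _ h1 i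
    exact (residue_eq_zero_iff _).mp h2
  have hD1 : detIdeal (rel R y) 1 ≤ maximalIdeal R := by
    apply Ideal.span_le.mpr
    rintro d ⟨z, e, hz, rfl⟩
    rw [Matrix.det_unique]
    exact hrel _ (hz _) _
  have hD1' : detIdeal (rel R y) 1 ≠ ⊤ := by
    intro htop
    rw [htop] at hD1
    exact (maximalIdeal.isMaximal R).ne_top (top_le_iff.mp hD1)
  have hD1bot : detIdeal (rel R y) 1 = ⊥ := by
    by_cases hle : μ ≤ 1 + Fintype.card ι
    · have e1 : detIdeal (rel R y) 1 = detIdeal (rel R x) (1 + Fintype.card ι - μ) := by
        apply le_antisymm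
        · apply detIdeal_rel_le x hx y hyspan
          rw [Fintype.card_fin]
          omega
        · apply detIdeal_rel_le y hyspan x hx
          rw [Fintype.card_fin]
          omega
      rcases h (1 + Fintype.card ι - μ) with h0 | h1
      · rw [e1, h0]
      · rw [e1] at hD1'
        exact absurd h1 hD1'
    · exfalso
      have : detIdeal (rel R x) 0 ≤ detIdeal (rel R y) 1 := by
        apply detIdeal_rel_le y hyspan x hx
        rw [Fintype.card_fin]
        omega
      rw [detIdeal_zero, top_le_iff] at this
      exact hD1' this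
  have hrel0 : rel R y = ⊥ := by
    rw [eq_bot_iff]
    intro v hv
    rw [Submodule.mem_bot]
    ext i
    have := minor_mem (rel R y) 1 (fun _ => v) (fun _ => i) (fun _ => hv)
    rw [Matrix.det_unique, hD1bot] at this
    exact this
  have hli : LinearIndependent R y := by
    rw [Fintype.linearIndependent_iff]
    intro g hg i
    have : g ∈ rel R y := mem_rel.mpr hg
    rw [hrel0, Submodule.mem_bot] at this
    rw [this]
    rfl
  exact Module.Free.of_basis (Module.Basis.mk hli hyspan.ge)

end Local

section Global
variable {R : Type u} [CommRing R] {N : Type w} [AddCommGroup N] [Module R N]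
  [Module.Finite R N] {ι : Type v} [Fintype ι]

theorem span_of_isBaseChange {R' : Type*} [CommRing R'] [Algebra R R'] {N' : Type*}
    [AddCommGroup N'] [Module R N'] [Module R' N'] [IsScalarTower R R' N'] (f : N →ₗ[R] N')
    (hf : IsBaseChange R' f) (x : ι → N) (hx : Submodule.span R (Set.range x) = ⊤) :
    Submodule.span R' (Set.range fun i => f (x i)) = ⊤ := by
  rw [eq_top_iff]
  intro n _
  refine hf.inductionOn n (fun n => n ∈ Submodule.span R' (Set.range fun i => f (x i)))
    (Submodule.zero_mem _) ?_ (fun s n hn => Submodule.smul_mem _ s hn)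
    (fun a b ha hb => Submodule.add_mem _ ha hb)
  intro m
  have hm : m ∈ Submodule.span R (Set.range x) := by rw [hx]; trivial
  induction hm using Submodule.span_induction with
  | mem m hm =>
    obtain ⟨i, rfl⟩ := hm
    exact Submodule.subset_span ⟨i, rfl⟩
  | zero => rw [map_zero]; exact Submodule.zero_mem _
  | add a b _ _ ha hb => rw [map_add]; exact Submodule.add_mem _ ha hb
  | smul r a _ ha =>
    rw [map_smul, ← algebraMap_smul R' r (f a)]
    exact Submodule.smul_mem _ _ ha

/-- a finite module all of whose Fitting ideals (w.r.t. some generating family) are trivial is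
flat. -/
theorem flat_of_detIdeal_trivial (x : ι → N) (hx : Submodule.span R (Set.range x) = ⊤)
    (h : ∀ j, detIdeal (rel R x) j = ⊥ ∨ detIdeal (rel R x) j = ⊤) : Module.Flat R N := by
  apply Module.flat_of_localized_maximal
  intro P hP
  let Rp := Localization.AtPrime P
  let Np := LocalizedModule P.primeCompl N
  let f : N →ₗ[R] Np := LocalizedModule.mkLinearMap P.primeCompl N
  have hf : IsBaseChange Rp f := IsLocalizedModule.isBaseChange P.primeCompl Rp f
  have hspan := span_of_isBaseChange f hf x hx
  have hrel := rel_of_isBaseChange (R' := Rp) x f hf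
  have htriv : ∀ j, detIdeal (rel Rp fun i => f (x i)) j = ⊥ ∨
      detIdeal (rel Rp fun i => f (x i)) j = ⊤ := by
    intro j
    rw [hrel, detIdeal_extend]
    rcases h j with h0 | h1
    · left; rw [h0, Ideal.map_bot]
    · right; rw [h1, Ideal.map_top]
  have hfree : Module.Free Rp Np := free_of_detIdeal_trivial (fun i => f (x i)) hspan htriv
  have : Module.Flat Rp Np := inferInstance
  exact Module.Flat.trans R Rp Np

end Global


section Inj
variable {R : Type u} [CommRing R] {N N' : Type*} [AddCommGroup N] [Module R N]
  [AddCommGroup N'] [Module R N'] {ι : Type v} [Fintype ι]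

theorem rel_comp_injective (g : N →ₗ[R] N') (hg : Function.Injective g) (x : ι → N) :
    rel R (fun i => g (x i)) = rel R x := by
  ext v
  rw [mem_rel, mem_rel]
  have : ∑ i, v i • g (x i) = g (∑ i, v i • x i) := by
    rw [map_sum]
    exact Finset.sum_congr rfl fun i _ => (map_smul g _ _).symm
  rw [this]
  exact ⟨fun h => hg (h.trans (map_zero g).symm), fun h => by rw [h, map_zero]⟩

theorem span_range_subtype_eq_top (P : Submodule R N) (x : ι → N)
    (hP : P = Submodule.span R (Set.range x)) (x' : ι → P) (hx' : ∀ i, (x' i : N) = x i) :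
    Submodule.span R (Set.range x') = ⊤ := by
  apply Submodule.map_injective_of_injective P.injective_subtype
  rw [Submodule.map_span, Submodule.map_top, Submodule.range_subtype]
  conv_rhs => rw [hP]
  congr 1
  ext n
  simp only [Set.mem_image, Set.mem_range]
  constructor
  · rintro ⟨_, ⟨i, rfl⟩, rfl⟩
    exact ⟨i, (hx' i).symm⟩
  · rintro ⟨i, rfl⟩
    exact ⟨x' i, ⟨i, rfl⟩, hx' i⟩

end Inj

section SpanEq
variable {R : Type u} [CommRing R] {N : Type*} [AddCommGroup N] [Module R N]
  {ι : Type v} [Fintype ι]

/-- comparison of the minors ideals of two families spanning the same submodule. -/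
theorem detIdeal_rel_le_of_span_eq {ι' : Type*} [Fintype ι'] (x : ι → N) (x' : ι' → N)
    (h : Submodule.span R (Set.range x) = Submodule.span R (Set.range x')) {j j' : ℕ}
    (hj : j + Fintype.card ι' ≤ j' + Fintype.card ι) :
    detIdeal (rel R x') j' ≤ detIdeal (rel R x) j := by
  have hx' : ∀ i, x' i ∈ Submodule.span R (Set.range x) := fun i => by
    rw [h]; exact Submodule.subset_span ⟨i, rfl⟩
  have hy := span_range_subtype_eq_top (Submodule.span R (Set.range x)) x rfl
    (fun i => ⟨x i, Submodule.subset_span ⟨i, rfl⟩⟩) (fun _ => rfl)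
  have hy' := span_range_subtype_eq_top (Submodule.span R (Set.range x)) x' h
    (fun i => ⟨x' i, hx' i⟩) (fun _ => rfl)
  have e1 := rel_comp_injective (Submodule.span R (Set.range x)).subtype
    (Submodule.span R (Set.range x)).injective_subtype
    (fun i => (⟨x i, Submodule.subset_span ⟨i, rfl⟩⟩ : Submodule.span R (Set.range x)))
  have e2 := rel_comp_injective (Submodule.span R (Set.range x)).subtype
    (Submodule.span R (Set.range x)).injective_subtype
    (fun i => (⟨x' i, hx' i⟩ : Submodule.span R (Set.range x)))
  have key := detIdeal_rel_le _ hy _ hy' hj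
  rw [← e1, ← e2] at key
  exact key

end SpanEq

end Groth.Agent.Lib.helper15.Fitting
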