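import Mathlib
import Groth.Agent.Lib.Helper15.Fitting
import Groth.Agent.Lib.Helper15.ComodFin

/-!
# Faithful flatness of commutative Hopf algebras over Hopf subalgebras (helper15)

Masuoka–Wigner argument: the Fitting ideals of a finitely generated Hopf module are costable,
a Hopf subalgebra has no nontrivial costable ideals, hence finitely generated Hopf modules are
locally free.
-/

set_option autoImplicit false
universe u v w
open TensorProduct

namespace Groth.Agent.Lib.helper15.HopfFF

open Fitting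

section Setup

variable {k : Type u} [Field k] {A : Type v} {H : Type w} [CommRing A] [CommRing H]
  [HopfAlgebra k A] [HopfAlgebra k H] [Algebra A H] [IsScalarTower k A H]
  (f : A →ₐc[k] H)

/-- the coaction `A → A ⊗ H`, `a ↦ a₁ ⊗ f a₂`. -/
noncomputable def rhoA : A →ₐ[k] A ⊗[k] H :=
  (Algebra.TensorProduct.map (AlgHom.id k A) (f : A →ₐ[k] H)).comp (Bialgebra.comulAlgHom k A)

/-- `f ⊗ id : A ⊗ H → H ⊗ H`. -/
noncomputable def FF : A ⊗[k] H →ₐ[k] H ⊗[k] H :=
  Algebra.TensorProduct.map (f : A →ₐ[k] H) (AlgHom.id k H)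

theorem FF_rhoA (a : A) : FF f (rhoA f a) = Coalgebra.comul (R := k) (f a) := by
  have h1 : FF f (rhoA f a) =
      (Algebra.TensorProduct.map (f : A →ₐ[k] H) (f : A →ₐ[k] H)) (Coalgebra.comul (R := k) a) := by
    simp only [FF, rhoA, AlgHom.comp_apply, Bialgebra.comulAlgHom_apply]
    generalize Coalgebra.comul (R := k) a = t
    induction t with
    | zero => simp
    | add x y hx hy => simp only [map_add, hx, hy]
    | tmul x y => simp
  rw [h1]
  exact CoalgHomClass.map_comp_comul_apply f a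

/-- `h₁ ⊗ h₂ ↦ (1 ⊗ h₂) ⊗_A h₁`. -/
noncomputable def theta : H ⊗[k] H →ₗ[k] (A ⊗[k] H) ⊗[A] H :=
  TensorProduct.lift
    (LinearMap.mk₂ k (fun h₁ h₂ => ((1 : A) ⊗ₜ[k] h₂) ⊗ₜ[A] h₁)
      (fun a b c => by rw [tmul_add])
      (fun r a b => by rw [tmul_smul])
      (fun a b c => by rw [tmul_add, add_tmul])
      (fun r a b => by rw [tmul_smul]; exact (smul_tmul' r _ _).symm))

theorem theta_tmul (h₁ h₂ : H) :
    theta (k := k) (A := A) (h₁ ⊗ₜ[k] h₂) = ((1 : A) ⊗ₜ[k] h₂) ⊗ₜ[A] h₁ := rfl

variable (hf : ∀ a, algebraMap A H a = f a)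
include hf

theorem theta_FF_mul (b : A ⊗[k] H) (w : H ⊗[k] H) :
    theta (k := k) (A := A) (FF f b * w) = b • theta (k := k) (A := A) w := by
  induction b with
  | zero => simp
  | add x y hx hy => rw [map_add, add_mul, map_add, hx, hy, add_smul]
  | tmul a g =>
    induction w with
    | zero => simp
    | add x y hx hy => rw [mul_add, map_add, hx, hy, map_add, smul_add]
    | tmul h₁ h₂ =>
      have h1 : FF f (a ⊗ₜ[k] g) = f a ⊗ₜ[k] g := by simp [FF]
      rw [h1, Algebra.TensorProduct.tmul_mul_tmul, theta_tmul, theta_tmul, ← hf, ← Algebra.smul_def,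
        ← smul_tmul, smul_tmul', smul_tmul']
      congr 1
      rw [smul_eq_mul, smul_eq_mul, Algebra.TensorProduct.tmul_mul_tmul, mul_one]

/-- the twisted coaction `H → (A ⊗ H) ⊗_A H`, semilinear over `rhoA`. -/
noncomputable def tauH : H →ₛₗ[(rhoA f).toRingHom] (A ⊗[k] H) ⊗[A] H where
  toFun h := theta (k := k) (A := A) (Coalgebra.comul (R := k) h)
  map_add' x y := by rw [map_add, map_add]
  map_smul' a h := by
    rw [Algebra.smul_def, hf, Bialgebra.comul_mul, ← FF_rhoA, theta_FF_mul f hf]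
    rfl

theorem tauH_apply (h : H) :
    tauH f hf h = theta (k := k) (A := A) (Coalgebra.comul (R := k) h) := rfl

end Setup

section Untwist
variable {k : Type u} [Field k] {H : Type w} [CommRing H] [HopfAlgebra k H]

/-- `u ⊗ m ↦ Δ u * (1 ⊗ S m)` -/
noncomputable def Wa : H ⊗[k] H →ₐ[k] H ⊗[k] H :=
  Algebra.TensorProduct.lift (Bialgebra.comulAlgHom k H)
    ((Algebra.TensorProduct.includeRight (R := k) (A := H) (B := H)).comp
      (HopfAlgebra.antipodeAlgHom k H)) (fun _ _ => .all _ _)

theorem Wa_tmul (u m : H) :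
    Wa (k := k) (u ⊗ₜ[k] m) = Coalgebra.comul (R := k) u * ((1 : H) ⊗ₜ[k] HopfAlgebra.antipode k m) := by
  simp [Wa]

open WithConv in
theorem Wa_comul (n : H) : Wa (k := k) (Coalgebra.comul (R := k) n) = n ⊗ₜ[k] (1 : H) := by
  let i₁ : WithConv (H →ₐ[k] H ⊗[k] H) := toConv Algebra.TensorProduct.includeLeft
  let i₂ : WithConv (H →ₐ[k] H ⊗[k] H) := toConv Algebra.TensorProduct.includeRight
  let d : WithConv (H →ₐ[k] H ⊗[k] H) := toConv (Bialgebra.comulAlgHom k H)
  have hd : d = i₁ * i₂ := by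
    apply WithConv.ofConv_injective
    ext a
    change _ = (i₁ * i₂) a
    rw [AlgHom.convMul_apply]
    simp [i₁, i₂, d]
  have h2 : d * i₂⁻¹ = i₁ := by rw [hd]; exact mul_inv_cancel_right i₁ i₂
  have h3 : (d * i₂⁻¹) n = i₁ n := by rw [h2]
  rw [AlgHom.convMul_apply] at h3
  exact h3

end Untwist

section Abstract
variable {k : Type u} [Field k] {A : Type v} {H : Type w} [CommRing A] [CommRing H]
  [HopfAlgebra k A] [HopfAlgebra k H] (f : A →ₐc[k] H)
  {E : Type*} [AddCommGroup E] [Module A E]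
  (τ : E →ₛₗ[(rhoA f).toRingHom] (A ⊗[k] H) ⊗[A] E)
  {ι : Type*} [Fintype ι] (x : ι → E)

local notation "B" => A ⊗[k] H

/-- the Fitting ideals of a "twisted" family are costable. -/
theorem costable
    (C1 : ∀ i, τ (x i) ∈ Submodule.span (A ⊗[k] H)
      (Set.range fun l => (1 : A ⊗[k] H) ⊗ₜ[A] x l))
    (C2 : ∀ i, (1 : A ⊗[k] H) ⊗ₜ[A] x i ∈ Submodule.span (A ⊗[k] H)
      (Set.range fun l => τ (x l))) (j : ℕ) :
    (detIdeal (rel A x) j).map (rhoA f).toRingHom ≤
      (detIdeal (rel A x) j).map (algebraMap A (A ⊗[k] H)) := by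
  classical
  have hspan : Submodule.span B (Set.range fun l => (1 : B) ⊗ₜ[A] x l) =
      Submodule.span B (Set.range fun l => τ (x l)) := by
    apply le_antisymm
    · apply Submodule.span_le.mpr
      rintro _ ⟨i, rfl⟩
      exact C2 i
    · apply Submodule.span_le.mpr
      rintro _ ⟨i, rfl⟩
      exact C1 i
  have hbc := rel_baseChange (R := A) (R' := A ⊗[k] H) x
  have hle : extend (rhoA f).toRingHom (rel A x) ≤ rel B (fun l => τ (x l)) := by
    apply Submodule.span_le.mpr
    rintro _ ⟨v, hv, rfl⟩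
    rw [SetLike.mem_coe, mem_rel] at hv ⊢
    have : ∑ i, (rhoA f).toRingHom (v i) • τ (x i) = τ (∑ i, v i • x i) := by
      rw [map_sum]
      exact Finset.sum_congr rfl fun i _ => (τ.map_smulₛₗ _ _).symm
    rw [this, hv, map_zero]
  calc (detIdeal (rel A x) j).map (rhoA f).toRingHom
      = detIdeal (extend (rhoA f).toRingHom (rel A x)) j := (detIdeal_extend _ _ _).symm
    _ ≤ detIdeal (rel B (fun l => τ (x l))) j := detIdeal_mono hle j
    _ ≤ detIdeal (rel B (fun l => (1 : B) ⊗ₜ[A] x l)) j :=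
        detIdeal_rel_le_of_span_eq _ _ hspan le_rfl
    _ = (detIdeal (rel A x) j).map (algebraMap A B) := by rw [hbc, detIdeal_extend]

end Abstract

section Simple
variable {k : Type u} [Field k] {A : Type v} {H : Type w} [CommRing A] [CommRing H]
  [HopfAlgebra k A] [HopfAlgebra k H] (f : A →ₐc[k] H)

local notation "B" => A ⊗[k] H

/-- a Hopf subalgebra has no nontrivial costable ideals. -/
theorem ideal_trivial_of_costable (hinj : Function.Injective f) (I : Ideal A)
    (hI : I.map (rhoA f).toRingHom ≤ I.map (algebraMap A (A ⊗[k] H))) : I = ⊥ ∨ I = ⊤ := by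
  classical
  let q : A →ₐ[k] A ⧸ I := Ideal.Quotient.mkₐ k I
  let Q : A ⊗[k] H →ₐ[k] (A ⧸ I) ⊗[k] H := Algebra.TensorProduct.map q (AlgHom.id k H)
  have hQ : ∀ x ∈ I, Q (rhoA f x) = 0 := by
    intro x hx
    have h1 : (rhoA f).toRingHom x ∈ I.map (algebraMap A (A ⊗[k] H)) :=
      hI (Ideal.mem_map_of_mem _ hx)
    have h2 : I.map (algebraMap A (A ⊗[k] H)) ≤ RingHom.ker (Q : A ⊗[k] H →+* (A ⧸ I) ⊗[k] H) := by
      rw [Ideal.map_le_iff_le_comap]
      intro a ha
      rw [Ideal.mem_comap, RingHom.mem_ker]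
      have : (algebraMap A (A ⊗[k] H)) a = a ⊗ₜ[k] (1 : H) := rfl
      rw [this]
      show Q (a ⊗ₜ[k] (1 : H)) = 0
      simp only [Q, Algebra.TensorProduct.map_tmul]
      have : q a = 0 := Ideal.Quotient.eq_zero_iff_mem.mpr ha
      rw [this, zero_tmul]
    exact h2 h1
  let T1 : A ⊗[k] A →ₗ[k] (A ⧸ I) ⊗[k] H := TensorProduct.map q.toLinearMap (f : A →ₗ[k] H)
  have hT1 : ∀ x, Q (rhoA f x) = T1 (Coalgebra.comul (R := k) x) := by
    intro x
    simp only [rhoA, AlgHom.comp_apply, Bialgebra.comulAlgHom_apply]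
    generalize Coalgebra.comul (R := k) x = t
    induction t with
    | zero => simp
    | add a b ha hb => simp only [map_add, ha, hb]
    | tmul a b => simp [Q, T1]
  by_cases hε : ∀ x ∈ I, Coalgebra.counit (R := k) x = 0
  · left
    rw [eq_bot_iff]
    intro x hx
    rw [Ideal.mem_bot]
    let εb : A ⧸ I →ₐ[k] k := Ideal.Quotient.liftₐ I (Bialgebra.counitAlgHom k A) (fun a ha => hε a ha)
    have key : ∀ t : A ⊗[k] A, TensorProduct.lid k H ((εb.toLinearMap.rTensor H) (T1 t)) =
        f (TensorProduct.lid k A ((Coalgebra.counit (R := k) (A := A)).rTensor A t)) := by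
      intro t
      induction t with
      | zero => simp
      | add a b ha hb => simp only [map_add, ha, hb]
      | tmul a b =>
        simp only [T1, TensorProduct.map_tmul, LinearMap.rTensor_tmul, TensorProduct.lid_tmul,
          AlgHom.toLinearMap_apply, map_smul]
        congr 1
    have h3 := key (Coalgebra.comul (R := k) x)
    rw [← hT1, hQ x hx, map_zero, map_zero, Coalgebra.rTensor_counit_comul, TensorProduct.lid_tmul,
      one_smul] at h3
    exact hinj (by rw [← h3, map_zero])
  · right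
    push Not at hε
    obtain ⟨x, hx, hεx⟩ := hε
    let T2 : A ⊗[k] A →ₗ[k] (A ⧸ I) ⊗[k] A := TensorProduct.map q.toLinearMap LinearMap.id
    have h12 : ∀ t, (LinearMap.lTensor (A ⧸ I) (f : A →ₗ[k] H)) (T2 t) = T1 t := by
      intro t
      induction t with
      | zero => simp
      | add a b ha hb => simp only [map_add, ha, hb]
      | tmul a b => simp [T1, T2]
    have hlinj : Function.Injective (LinearMap.lTensor (A ⧸ I) (f : A →ₗ[k] H)) :=
      Module.Flat.lTensor_preserves_injective_linearMap _ hinj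
    have hT2 : T2 (Coalgebra.comul (R := k) x) = 0 := by
      apply hlinj
      rw [h12, ← hT1, hQ x hx, map_zero]
    let mt : (A ⧸ I) ⊗[k] A →ₗ[k] A ⧸ I := LinearMap.mul' k (A ⧸ I) ∘ₗ
      TensorProduct.map LinearMap.id (q.toLinearMap ∘ₗ HopfAlgebra.antipode k)
    have hmt : ∀ t, mt (T2 t) = q (LinearMap.mul' k A ((HopfAlgebra.antipode k).lTensor A t)) := by
      intro t
      induction t with
      | zero => simp
      | add a b ha hb => simp only [map_add, ha, hb]
      | tmul a b => simp [mt, T2]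
    have h4 := hmt (Coalgebra.comul (R := k) x)
    rw [hT2, map_zero, HopfAlgebra.mul_antipode_lTensor_comul_apply] at h4
    have h5 : algebraMap k A (Coalgebra.counit (R := k) x) ∈ I :=
      Ideal.Quotient.eq_zero_iff_mem.mp h4.symm
    rw [Ideal.eq_top_iff_one]
    have h6 := I.mul_mem_left (algebraMap k A (Coalgebra.counit (R := k) x)⁻¹) h5
    rwa [← map_mul, inv_mul_cancel₀ hεx, map_one] at h6

end Simple

section Flat1
variable {k : Type u} [Field k] {A : Type v} {H : Type w} [CommRing A] [CommRing H]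
  [HopfAlgebra k A] [HopfAlgebra k H] (f : A →ₐc[k] H)
  {E : Type*} [AddCommGroup E] [Module A E]
  (τ : E →ₛₗ[(rhoA f).toRingHom] (A ⊗[k] H) ⊗[A] E)
  {ι : Type*} [Fintype ι] (x : ι → E)

local notation "B" => A ⊗[k] H

/-- the span of a twisted family is a flat module. -/
theorem flat_span_of_twisted (hinj : Function.Injective f)
    (C1 : ∀ i, τ (x i) ∈ Submodule.span (A ⊗[k] H)
      (Set.range fun l => (1 : A ⊗[k] H) ⊗ₜ[A] x l))
    (C2 : ∀ i, (1 : A ⊗[k] H) ⊗ₜ[A] x i ∈ Submodule.span (A ⊗[k] H)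
      (Set.range fun l => τ (x l))) :
    Module.Flat A (Submodule.span A (Set.range x)) := by
  have hfin : Module.Finite A (Submodule.span A (Set.range x)) :=
    Module.Finite.span_of_finite A (Set.finite_range x)
  have hx' := span_range_subtype_eq_top (Submodule.span A (Set.range x)) x rfl
    (fun i => ⟨x i, Submodule.subset_span ⟨i, rfl⟩⟩) (fun _ => rfl)
  have e1 := rel_comp_injective (Submodule.span A (Set.range x)).subtype
    (Submodule.span A (Set.range x)).injective_subtype
    (fun i => (⟨x i, Submodule.subset_span ⟨i, rfl⟩⟩ : Submodule.span A (Set.range x)))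
  refine flat_of_detIdeal_trivial _ hx' (fun j => ?_)
  rw [← e1]
  exact ideal_trivial_of_costable f hinj _ (costable f τ x C1 C2 j)

end Flat1

section Concrete
variable {k : Type u} [Field k] {A : Type v} {H : Type w} [CommRing A] [CommRing H]
  [HopfAlgebra k A] [HopfAlgebra k H] [Algebra A H] [IsScalarTower k A H]
  (f : A →ₐc[k] H) (hf : ∀ a, algebraMap A H a = f a)
  {ι : Type*} [Fintype ι]

local notation "B" => A ⊗[k] H

/-- a finite family of elements of `H` whose coproducts are given by a matrix. -/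
def IsCoFam (x : ι → H) (m : ι → ι → H) : Prop :=
  ∀ i, Coalgebra.comul (R := k) (x i) = ∑ l, x l ⊗ₜ[k] m l i

variable {x : ι → H} {m : ι → ι → H}

include hf in
theorem C1_of_isCoFam (hxm : IsCoFam (k := k) x m) (i : ι) :
    tauH f hf (x i) ∈ Submodule.span (A ⊗[k] H) (Set.range fun l => (1 : A ⊗[k] H) ⊗ₜ[A] x l) := by
  rw [tauH_apply, hxm i, map_sum]
  apply Submodule.sum_mem
  intro l _
  rw [theta_tmul]
  have : ((1 : A) ⊗ₜ[k] m l i) ⊗ₜ[A] x l =
      ((1 : A) ⊗ₜ[k] m l i) • ((1 : A ⊗[k] H) ⊗ₜ[A] x l) := by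
    rw [smul_tmul', smul_eq_mul, mul_one]
  rw [this]
  exact Submodule.smul_mem _ _ (Submodule.subset_span ⟨l, rfl⟩)

include hf in
theorem C2_of_isCoFam (hxm : IsCoFam (k := k) x m) (i : ι) :
    (1 : A ⊗[k] H) ⊗ₜ[A] x i ∈
      Submodule.span (A ⊗[k] H) (Set.range fun l => tauH f hf (x l)) := by
  have h1 : (1 : A ⊗[k] H) ⊗ₜ[A] x i = theta (k := k) (A := A) (x i ⊗ₜ[k] (1 : H)) := by
    rw [theta_tmul, Algebra.TensorProduct.one_def]
  rw [h1, ← Wa_comul, hxm i, map_sum, map_sum]
  apply Submodule.sum_mem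
  intro l _
  rw [Wa_tmul, mul_comm]
  have h2 : (1 : H) ⊗ₜ[k] HopfAlgebra.antipode k (m l i) =
      FF f ((1 : A) ⊗ₜ[k] HopfAlgebra.antipode k (m l i)) := by
    simp [FF]
  rw [h2, theta_FF_mul f hf, ← tauH_apply f hf]
  exact Submodule.smul_mem _ _ (Submodule.subset_span ⟨l, rfl⟩)

include hf in
/-- the `A`-span of a cofamily is flat over `A`. -/
theorem flat_span_of_isCoFam (hinj : Function.Injective f) (hxm : IsCoFam (k := k) x m) :
    Module.Flat A (Submodule.span A (Set.range x)) :=
  flat_span_of_twisted f (tauH f hf) x hinj (C1_of_isCoFam f hf hxm) (C2_of_isCoFam f hf hxm)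

end Concrete

section Exist
variable {k : Type u} [Field k] {H : Type w} [CommRing H] [HopfAlgebra k H]

theorem exists_coFam_of_mem (h : H) :
    ∃ (n : ℕ) (x : Fin n → H) (m : Fin n → Fin n → H),
      IsCoFam (k := k) x m ∧ h ∈ Submodule.span k (Set.range x) := by
  classical
  let V : Submodule k H := ComodFin.RCV (k := k) (A := H) (V := H) h
  have hsub : HopfRep.IsSubcomod (k := k) (A := H) V := ComodFin.RCV_isSubcomod h
  obtain ⟨n, x, hx⟩ := Submodule.fg_iff_exists_fin_generating_family.mp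
    (ComodFin.RCV_fg (k := k) (A := H) (V := H) h)
  have hxV : ∀ i, x i ∈ V := fun i => by
    show x i ∈ ComodFin.RCV (k := k) (A := H) (V := H) h
    rw [← hx]; exact Submodule.subset_span ⟨i, rfl⟩
  have expand : ∀ t : V ⊗[k] H, ∃ m : Fin n → H,
      (V.subtype.rTensor H) t = ∑ l, x l ⊗ₜ[k] m l := by
    intro t
    induction t with
    | zero => exact ⟨fun _ => 0, by simp⟩
    | add a b ha hb =>
      obtain ⟨ma, hma⟩ := ha
      obtain ⟨mb, hmb⟩ := hb
      refine ⟨fun l => ma l + mb l, ?_⟩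
      rw [map_add, hma, hmb, ← Finset.sum_add_distrib]
      simp [tmul_add]
    | tmul v g =>
      have hv : (v : H) ∈ Submodule.span k (Set.range x) := by
        rw [hx]; exact v.2
      obtain ⟨c, hc⟩ := (Submodule.mem_span_range_iff_exists_fun k).mp hv
      refine ⟨fun l => c l • g, ?_⟩
      rw [LinearMap.rTensor_tmul, Submodule.subtype_apply, ← hc, sum_tmul]
      apply Finset.sum_congr rfl
      intro l _
      rw [smul_tmul]
  have hΔ : ∀ i, ∃ m : Fin n → H,
      Coalgebra.comul (R := k) (x i) = ∑ l, x l ⊗ₜ[k] m l := by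
    intro i
    obtain ⟨t, ht⟩ := hsub (x i) (hxV i)
    obtain ⟨m, hm⟩ := expand t
    exact ⟨m, by rw [← hm, ht]; rfl⟩
  choose m hm using hΔ
  refine ⟨n, x, fun l i => m i l, hm, ?_⟩
  rw [hx]
  exact ComodFin.mem_RCV h

end Exist

section CoSub
variable {k : Type u} [Field k] {A : Type v} {H : Type w} [CommRing A] [CommRing H]
  [HopfAlgebra k A] [HopfAlgebra k H] [Algebra A H] [IsScalarTower k A H]
  (f : A →ₐc[k] H) (hf : ∀ a, algebraMap A H a = f a)

variable (k A) in
/-- `A`-submodules of `H` spanned by a cofamily. -/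
def IsCoSub (N : Submodule A H) : Prop :=
  ∃ (ι : Type) (_ : Fintype ι) (x : ι → H) (m : ι → ι → H),
    IsCoFam (k := k) x m ∧ N = Submodule.span A (Set.range x)

omit [HopfAlgebra k A] [IsScalarTower k A H] in
theorem isCoSub_sup {N₁ N₂ : Submodule A H} (h₁ : IsCoSub k A N₁) (h₂ : IsCoSub k A N₂) :
    IsCoSub k A (N₁ ⊔ N₂) := by
  obtain ⟨ι, _, x, m, hxm, rfl⟩ := h₁
  obtain ⟨ι', _, x', m', hxm', rfl⟩ := h₂
  refine ⟨ι ⊕ ι', inferInstance, Sum.elim x x',
    fun l i => Sum.elim (fun l => Sum.elim (fun i => m l i) (fun _ => 0) i)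
      (fun l => Sum.elim (fun _ => 0) (fun i => m' l i) i) l, ?_, ?_⟩
  · rintro (i | i)
    · rw [Fintype.sum_sum_type]
      simp only [Sum.elim_inl, Sum.elim_inr, tmul_zero, Finset.sum_const_zero, add_zero]
      exact hxm i
    · rw [Fintype.sum_sum_type]
      simp only [Sum.elim_inl, Sum.elim_inr, tmul_zero, Finset.sum_const_zero, zero_add]
      exact hxm' i
  · rw [Set.Sum.elim_range, Submodule.span_union]

theorem exists_isCoSub_mem (h : H) : ∃ N : Submodule A H, IsCoSub k A N ∧ h ∈ N := by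
  obtain ⟨n, x, m, hxm, hh⟩ := exists_coFam_of_mem (k := k) h
  refine ⟨Submodule.span A (Set.range x), ⟨Fin n, inferInstance, x, m, hxm, rfl⟩, ?_⟩
  exact Submodule.span_le_restrictScalars k A _ hh

theorem exists_isCoSub_ge (J : Submodule A H) (hJ : J.FG) :
    ∃ N : Submodule A H, IsCoSub k A N ∧ J ≤ N := by
  induction J, hJ using Submodule.fg_induction with
  | singleton h =>
    obtain ⟨N, hN, hh⟩ := exists_isCoSub_mem (k := k) (A := A) h
    exact ⟨N, hN, (Submodule.span_singleton_le_iff_mem h N).mpr hh⟩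
  | sup J₁ J₂ _ _ h₁ h₂ =>
    obtain ⟨N₁, hN₁, hle₁⟩ := h₁
    obtain ⟨N₂, hN₂, hle₂⟩ := h₂
    exact ⟨N₁ ⊔ N₂, isCoSub_sup hN₁ hN₂, sup_le_sup hle₁ hle₂⟩

include hf in
theorem flat_of_isCoSub (hinj : Function.Injective f) {N : Submodule A H} (hN : IsCoSub k A N) :
    Module.Flat A N := by
  obtain ⟨ι, _, x, m, hxm, rfl⟩ := hN
  exact flat_span_of_isCoFam f hf hinj hxm

include hf in
/-- a commutative Hopf algebra is flat over a Hopf subalgebra. -/
theorem flat_of_injective (hinj : Function.Injective f) : Module.Flat A H := by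
  rw [Module.Flat.iff_lTensor_injective']
  intro I
  rw [injective_iff_map_eq_zero]
  intro t ht
  obtain ⟨J, hJ, y, rfl⟩ := Submodule.exists_fg_le_eq_rTensor_subtype t
  obtain ⟨N, hN, hJN⟩ := exists_isCoSub_ge (k := k) J hJ
  have hflat : Module.Flat A N := flat_of_isCoSub f hf hinj hN
  let y' : N ⊗[A] I := (Submodule.inclusion hJN).rTensor I y
  have hy' : (N.subtype.rTensor I) y' = (J.subtype.rTensor I) y := by
    rw [← LinearMap.rTensor_comp_apply]
    rfl
  have h1 : (N.subtype.rTensor A) ((I.subtype.lTensor N) y') = 0 := by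
    rw [← LinearMap.comp_apply, LinearMap.rTensor_comp_lTensor, ← LinearMap.lTensor_comp_rTensor,
      LinearMap.comp_apply, hy', ht]
  have h2 : (I.subtype.lTensor N) y' = 0 := by
    have hinjN : Function.Injective (N.subtype.rTensor A) :=
      Module.Flat.rTensor_preserves_injective_linearMap _ N.injective_subtype
    exact hinjN (by rw [h1, map_zero])
  have h3 : y' = 0 := by
    have := (Module.Flat.iff_lTensor_injective'.mp hflat) I
    exact this (by rw [h2, map_zero])
  rw [← hy', h3, map_zero]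

end CoSub

section Faithful
variable {k : Type u} [Field k] {A : Type v} {H : Type w} [CommRing A] [CommRing H]
  [HopfAlgebra k A] [HopfAlgebra k H] [Algebra A H] [IsScalarTower k A H]
  (f : A →ₐc[k] H) (hf : ∀ a, algebraMap A H a = f a)

local notation "B" => A ⊗[k] H

variable (A H) in
/-- the `A`-submodule `A • 1` of `H`. -/
def PP : Submodule A H := Submodule.span A {(1 : H)}

/-- the twisted coaction composed with the projection to `H / A`. -/
noncomputable def tauE' : H →ₛₗ[(rhoA f).toRingHom] (A ⊗[k] H) ⊗[A] (H ⧸ PP A H) where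
  toFun h := (LinearMap.baseChange (A ⊗[k] H) (PP A H).mkQ) (tauH f hf h)
  map_add' x y := by rw [map_add, map_add]
  map_smul' a h := by
    rw [(tauH f hf).map_smulₛₗ, map_smul]

theorem tauE'_apply (h : H) :
    tauE' f hf h = (LinearMap.baseChange (A ⊗[k] H) (PP A H).mkQ) (tauH f hf h) := rfl

theorem PP_le_ker : PP A H ≤ LinearMap.ker (tauE' f hf) := by
  apply Submodule.span_le.mpr
  rintro _ rfl
  rw [SetLike.mem_coe, LinearMap.mem_ker, tauE'_apply, tauH_apply, Bialgebra.comul_one,
    Algebra.TensorProduct.one_def, theta_tmul, LinearMap.baseChange_tmul]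
  have : (PP A H).mkQ (1 : H) = 0 := by
    rw [Submodule.mkQ_apply, Submodule.Quotient.mk_eq_zero]
    exact Submodule.subset_span rfl
  rw [this, tmul_zero]

/-- the twisted coaction on `H / A`. -/
noncomputable def tauE : (H ⧸ PP A H) →ₛₗ[(rhoA f).toRingHom] (A ⊗[k] H) ⊗[A] (H ⧸ PP A H) :=
  (PP A H).liftQ (tauE' f hf) (PP_le_ker f hf)

theorem tauE_mk (h : H) : tauE f hf ((PP A H).mkQ h) = tauE' f hf h := rfl

variable {ι : Type*} [Fintype ι] {x : ι → H} {m : ι → ι → H}

include hf in
theorem flat_span_mkQ_of_isCoFam (hinj : Function.Injective f) (hxm : IsCoFam (k := k) x m) :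
    Module.Flat A (Submodule.span A (Set.range fun i => (PP A H).mkQ (x i))) := by
  refine flat_span_of_twisted f (tauE f hf) (fun i => (PP A H).mkQ (x i)) hinj ?_ ?_
  · intro i
    rw [tauE_mk, tauE'_apply]
    have h1 := C1_of_isCoFam f hf hxm i
    have h2 := Submodule.mem_map_of_mem (f := LinearMap.baseChange (A ⊗[k] H) (PP A H).mkQ) h1
    rw [Submodule.map_span, ← Set.range_comp] at h2
    exact h2
  · intro i
    have h1 := C2_of_isCoFam f hf hxm i
    have h2 := Submodule.mem_map_of_mem (f := LinearMap.baseChange (A ⊗[k] H) (PP A H).mkQ) h1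
    rw [Submodule.map_span, ← Set.range_comp] at h2
    exact h2

/-- a module in which every finitely generated submodule lies in a flat submodule is flat. -/
theorem flat_of_forall_fg_le_flat {M : Type*} [AddCommGroup M] [Module A M]
    (h : ∀ J : Submodule A M, J.FG → ∃ N : Submodule A M, J ≤ N ∧ Module.Flat A N) :
    Module.Flat A M := by
  rw [Module.Flat.iff_lTensor_injective']
  intro I
  rw [injective_iff_map_eq_zero]
  intro t ht
  obtain ⟨J, hJ, y, rfl⟩ := Submodule.exists_fg_le_eq_rTensor_subtype t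
  obtain ⟨N, hJN, hflat⟩ := h J hJ
  let y' : N ⊗[A] I := (Submodule.inclusion hJN).rTensor I y
  have hy' : (N.subtype.rTensor I) y' = (J.subtype.rTensor I) y := by
    rw [← LinearMap.rTensor_comp_apply]
    rfl
  have h1 : (N.subtype.rTensor A) ((I.subtype.lTensor N) y') = 0 := by
    rw [← LinearMap.comp_apply, LinearMap.rTensor_comp_lTensor, ← LinearMap.lTensor_comp_rTensor,
      LinearMap.comp_apply, hy', ht]
  have h2 : (I.subtype.lTensor N) y' = 0 := by
    have hinjN : Function.Injective (N.subtype.rTensor A) :=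
      Module.Flat.rTensor_preserves_injective_linearMap _ N.injective_subtype
    exact hinjN (by rw [h1, map_zero])
  have h3 : y' = 0 := by
    have := (Module.Flat.iff_lTensor_injective'.mp hflat) I
    exact this (by rw [h2, map_zero])
  rw [← hy', h3, map_zero]

theorem exists_isCoSub_map_ge (J : Submodule A (H ⧸ PP A H)) (hJ : J.FG) :
    ∃ N : Submodule A H, IsCoSub k A N ∧ J ≤ N.map (PP A H).mkQ := by
  induction J, hJ using Submodule.fg_induction with
  | singleton e =>
    obtain ⟨h, rfl⟩ := (PP A H).mkQ_surjective e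
    obtain ⟨N, hN, hh⟩ := exists_isCoSub_mem (k := k) (A := A) h
    exact ⟨N, hN, (Submodule.span_singleton_le_iff_mem _ _).mpr (Submodule.mem_map_of_mem hh)⟩
  | sup J₁ J₂ _ _ h₁ h₂ =>
    obtain ⟨N₁, hN₁, hle₁⟩ := h₁
    obtain ⟨N₂, hN₂, hle₂⟩ := h₂
    refine ⟨N₁ ⊔ N₂, isCoSub_sup hN₁ hN₂, ?_⟩
    rw [Submodule.map_sup]
    exact sup_le_sup hle₁ hle₂

include hf in
theorem flat_quot (hinj : Function.Injective f) : Module.Flat A (H ⧸ PP A H) := by
  apply flat_of_forall_fg_le_flat
  intro J hJ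
  obtain ⟨N, hN, hle⟩ := exists_isCoSub_map_ge (k := k) J hJ
  refine ⟨_, hle, ?_⟩
  obtain ⟨ι, _, x, m, hxm, rfl⟩ := hN
  have := flat_span_mkQ_of_isCoFam f hf hinj hxm
  rw [Submodule.map_span, ← Set.range_comp]
  exact this

include hf in
/-- a commutative Hopf algebra is faithfully flat over a Hopf subalgebra. -/
theorem faithfullyFlat_of_injective (hinj : Function.Injective f) : Module.FaithfullyFlat A H := by
  rw [Module.FaithfullyFlat.iff_flat_and_ideal_smul_eq_top]
  refine ⟨flat_of_injective f hf hinj, fun I hI => ?_⟩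
  have hflatE : Module.Flat A (H ⧸ PP A H) := flat_quot f hf hinj
  have hginj : Function.Injective (Algebra.linearMap A H) := by
    intro a b hab
    apply hinj
    rw [← hf, ← hf]
    exact hab
  have hexact : Function.Exact (Algebra.linearMap A H) (PP A H).mkQ := by
    intro h
    rw [Submodule.mkQ_apply, Submodule.Quotient.mk_eq_zero, PP, Submodule.mem_span_singleton]
    constructor
    · rintro ⟨a, rfl⟩
      exact ⟨a, by rw [Algebra.linearMap_apply, Algebra.algebraMap_eq_smul_one]⟩
    · rintro ⟨a, rfl⟩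
      exact ⟨a, by rw [Algebra.linearMap_apply, Algebra.algebraMap_eq_smul_one]⟩
  have hinjT := LinearMap.lTensor_injective_of_exact_of_flat (PP A H).mkQ
    (PP A H).mkQ_surjective (Algebra.linearMap A H) hginj hexact (A ⧸ I)
  have hsub : Subsingleton (H ⧸ I • (⊤ : Submodule A H)) := by
    rw [Submodule.Quotient.subsingleton_iff, hI]
  have hsub2 : Subsingleton ((A ⧸ I) ⊗[A] H) :=
    (TensorProduct.quotTensorEquivQuotSMul H I).injective.subsingleton
  have hsub3 : Subsingleton ((A ⧸ I) ⊗[A] A) := hinjT.subsingleton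
  have hsub4 : Subsingleton (A ⧸ I) := (TensorProduct.rid A (A ⧸ I)).symm.injective.subsingleton
  exact Ideal.Quotient.subsingleton_iff.mp hsub4

end Faithful

end Groth.Agent.Lib.helper15.HopfFF
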