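import Mathlib
import Groth.Agent.Lib.Helper15.HopfFF

set_option autoImplicit false
universe u v
open TensorProduct

namespace Groth.Agent.Lib.helper15.HopfSubalg

variable {k : Type u} [Field k] {A : Type v} [CommRing A] [HopfAlgebra k A]

/-- a subalgebra stable under comultiplication and antipode (universe-general version of
`SGA3.IsHopfSubalgebra`). -/
def IsHopfSub (B : Subalgebra k A) : Prop :=
  (∀ b ∈ B, Coalgebra.comul (R := k) b ∈
      LinearMap.range (TensorProduct.map B.val.toLinearMap B.val.toLinearMap)) ∧
    ∀ b ∈ B, HopfAlgebra.antipode k b ∈ B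

variable (B : Subalgebra k A)

/-- `B ⊗ B → A ⊗ A`. -/
noncomputable def T : B ⊗[k] B →ₐ[k] A ⊗[k] A := Algebra.TensorProduct.map B.val B.val

theorem T_tmul (x y : B) : T B (x ⊗ₜ[k] y) = (x : A) ⊗ₜ[k] (y : A) := rfl

theorem T_eq (t : B ⊗[k] B) :
    T B t = TensorProduct.map B.val.toLinearMap B.val.toLinearMap t := rfl

theorem T_injective : Function.Injective (T B) := by
  have := TensorProduct.map_injective_of_flat_flat B.val.toLinearMap B.val.toLinearMap
    Subtype.val_injective Subtype.val_injective
  exact this

/-- `B ⊗ (B ⊗ B) → A ⊗ (A ⊗ A)`. -/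
noncomputable def T3 : B ⊗[k] (B ⊗[k] B) →ₐ[k] A ⊗[k] (A ⊗[k] A) :=
  Algebra.TensorProduct.map B.val (T B)

theorem T3_tmul (x : B) (t : B ⊗[k] B) : T3 B (x ⊗ₜ[k] t) = (x : A) ⊗ₜ[k] T B t := rfl

theorem T3_injective : Function.Injective (T3 B) := by
  have := TensorProduct.map_injective_of_flat_flat B.val.toLinearMap (T B).toLinearMap
    Subtype.val_injective (T_injective B)
  exact this

variable {B} (hB : IsHopfSub B)

/-- the comultiplication of a Hopf subalgebra. -/
noncomputable def comulB : B →ₐ[k] B ⊗[k] B :=
  ((AlgEquiv.ofInjective (T B) (T_injective B)).symm : (T B).range →ₐ[k] B ⊗[k] B).comp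
    (((Bialgebra.comulAlgHom k A).comp B.val).codRestrict (T B).range (fun b => by
      obtain ⟨t, ht⟩ := hB.1 b b.2
      exact ⟨t, ht⟩))

theorem T_comulB (b : B) : T B (comulB hB b) = Coalgebra.comul (R := k) (b : A) := by
  have h := (AlgEquiv.ofInjective (T B) (T_injective B)).apply_symm_apply
    ((((Bialgebra.comulAlgHom k A).comp B.val).codRestrict (T B).range (fun b => by
      obtain ⟨t, ht⟩ := hB.1 b b.2
      exact ⟨t, ht⟩)) b)
  have h2 := congrArg Subtype.val h
  rw [AlgEquiv.ofInjective_apply] at h2
  exact h2

/-- the counit of a Hopf subalgebra. -/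
noncomputable def counitB : B →ₐ[k] k := (Bialgebra.counitAlgHom k A).comp B.val

theorem counitB_apply (b : B) : counitB (B := B) b = Coalgebra.counit (R := k) (b : A) := rfl

theorem nat_assoc (u : (B ⊗[k] B) ⊗[k] B) :
    T3 B (Algebra.TensorProduct.assoc k k k B B B u) =
      Algebra.TensorProduct.assoc k k k A A A
        ((Algebra.TensorProduct.map (T B) B.val) u) := by
  induction u with
  | zero => simp
  | add a b ha hb => simp only [map_add, ha, hb]
  | tmul s y =>
    induction s with
    | zero => simp
    | add a b ha hb => simp only [add_tmul, map_add, ha, hb]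
    | tmul x x' => rfl

theorem coassocB :
    (Algebra.TensorProduct.assoc k k k B B B).toAlgHom.comp
      ((Algebra.TensorProduct.map (comulB hB) (.id k B)).comp (comulB hB))
      = (Algebra.TensorProduct.map (.id k B) (comulB hB)).comp (comulB hB) := by
  ext b
  apply T3_injective B
  simp only [AlgHom.comp_apply]
  have hco : ∀ u, ((Algebra.TensorProduct.assoc k k k B B B).toAlgHom) u =
      (Algebra.TensorProduct.assoc k k k B B B) u := fun _ => rfl
  rw [hco, nat_assoc]
  have N1 : ∀ t : B ⊗[k] B, (Algebra.TensorProduct.map (T B) B.val)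
      ((Algebra.TensorProduct.map (comulB hB) (.id k B)) t) =
      (Algebra.TensorProduct.map (Bialgebra.comulAlgHom k A) (.id k A)) (T B t) := by
    intro t
    induction t with
    | zero => simp
    | add a b ha hb => simp only [map_add, ha, hb]
    | tmul x y =>
      simp only [Algebra.TensorProduct.map_tmul, T_tmul, AlgHom.id_apply, T_comulB,
        Bialgebra.comulAlgHom_apply, Subalgebra.coe_val]
  have N2 : ∀ t : B ⊗[k] B, T3 B ((Algebra.TensorProduct.map (.id k B) (comulB hB)) t) =
      (Algebra.TensorProduct.map (.id k A) (Bialgebra.comulAlgHom k A)) (T B t) := by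
    intro t
    induction t with
    | zero => simp
    | add a b ha hb => simp only [map_add, ha, hb]
    | tmul x y =>
      simp only [Algebra.TensorProduct.map_tmul, T_tmul, AlgHom.id_apply, T_comulB, T3_tmul,
        Bialgebra.comulAlgHom_apply]
  rw [N1, N2, T_comulB]
  have := Coalgebra.coassoc_apply (R := k) (b : A)
  generalize Coalgebra.comul (R := k) (b : A) = t at this ⊢
  exact this

theorem rTensorB :
    (Algebra.TensorProduct.map (counitB (B := B)) (.id k B)).comp (comulB hB)
      = (Algebra.TensorProduct.lid k B).symm := by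
  ext b
  apply (Algebra.TensorProduct.lid k B).injective
  have hco : ((Algebra.TensorProduct.lid k B).symm : B →ₐ[k] k ⊗[k] B) b =
      (Algebra.TensorProduct.lid k B).symm b := rfl
  rw [hco, AlgEquiv.apply_symm_apply]
  apply Subtype.val_injective
  have N : ∀ t : B ⊗[k] B, ((Algebra.TensorProduct.lid k B)
      ((Algebra.TensorProduct.map (counitB (B := B)) (.id k B)) t) : A) =
      TensorProduct.lid k A ((Coalgebra.counit (R := k) (A := A)).rTensor A (T B t)) := by
    intro t
    induction t with
    | zero => simp
    | add a b ha hb => simp only [map_add, Subalgebra.coe_add, ha, hb]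
    | tmul x y =>
      simp only [Algebra.TensorProduct.map_tmul, T_tmul, AlgHom.id_apply, counitB_apply,
        Algebra.TensorProduct.lid_tmul, LinearMap.rTensor_tmul, TensorProduct.lid_tmul,
        Subalgebra.coe_smul]
  rw [AlgHom.comp_apply, N, T_comulB, Coalgebra.rTensor_counit_comul, TensorProduct.lid_tmul,
    one_smul]

theorem lTensorB :
    (Algebra.TensorProduct.map (.id k B) (counitB (B := B))).comp (comulB hB)
      = (Algebra.TensorProduct.rid k k B).symm := by
  ext b
  apply (Algebra.TensorProduct.rid k k B).injective
  have hco : ((Algebra.TensorProduct.rid k k B).symm : B →ₐ[k] B ⊗[k] k) b =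
      (Algebra.TensorProduct.rid k k B).symm b := rfl
  rw [hco, AlgEquiv.apply_symm_apply]
  apply Subtype.val_injective
  have N : ∀ t : B ⊗[k] B, ((Algebra.TensorProduct.rid k k B)
      ((Algebra.TensorProduct.map (.id k B) (counitB (B := B))) t) : A) =
      TensorProduct.rid k A ((Coalgebra.counit (R := k) (A := A)).lTensor A (T B t)) := by
    intro t
    induction t with
    | zero => simp
    | add a b ha hb => simp only [map_add, Subalgebra.coe_add, ha, hb]
    | tmul x y =>
      simp only [Algebra.TensorProduct.map_tmul, T_tmul, AlgHom.id_apply, counitB_apply,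
        Algebra.TensorProduct.rid_tmul, LinearMap.lTensor_tmul, TensorProduct.rid_tmul,
        Subalgebra.coe_smul]
  rw [AlgHom.comp_apply, N, T_comulB, Coalgebra.lTensor_counit_comul, TensorProduct.rid_tmul,
    one_smul]

/-- the bialgebra structure of a Hopf subalgebra. -/
@[reducible] noncomputable def bialgebraB : Bialgebra k B :=
  Bialgebra.ofAlgHom (comulB hB) (counitB (B := B)) (coassocB hB) (rTensorB hB) (lTensorB hB)

/-- the antipode of a Hopf subalgebra. -/
noncomputable def antipodeB : B →ₐ[k] B :=
  ((HopfAlgebra.antipodeAlgHom k A).comp B.val).codRestrict B (fun b => hB.2 b b.2)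

theorem antipodeB_coe (b : B) : (antipodeB hB b : A) = HopfAlgebra.antipode k (b : A) := rfl

theorem comulB_eq (b : B) :
    letI := bialgebraB hB
    Coalgebra.comul (R := k) b = comulB hB b := rfl

theorem counitB_eq (b : B) :
    letI := bialgebraB hB
    Coalgebra.counit (R := k) b = Coalgebra.counit (R := k) (b : A) := rfl

/-- the Hopf algebra structure of a Hopf subalgebra. -/
@[reducible] noncomputable def hopfAlgebraB : HopfAlgebra k B :=
  letI := bialgebraB hB
  HopfAlgebra.ofAlgHom (antipodeB hB)
    (by
      ext b
      have N : ∀ t : B ⊗[k] B,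
          ((Algebra.TensorProduct.lift (antipodeB hB) (.id k B) fun _ => Commute.all _) t : A) =
          LinearMap.mul' k A ((HopfAlgebra.antipode k).rTensor A (T B t)) := by
        intro t
        induction t with
        | zero => simp
        | add a b ha hb => simp only [map_add, Subalgebra.coe_add, ha, hb]
        | tmul x y => rfl
      rw [AlgHom.comp_apply, AlgHom.comp_apply, Bialgebra.comulAlgHom_apply, comulB_eq, N, T_comulB,
        HopfAlgebra.mul_antipode_rTensor_comul_apply]
      rfl)
    (by
      ext b
      have N : ∀ t : B ⊗[k] B,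
          ((Algebra.TensorProduct.lift (.id k B) (antipodeB hB) fun _ _ => Commute.all _ _) t : A) =
          LinearMap.mul' k A ((HopfAlgebra.antipode k).lTensor A (T B t)) := by
        intro t
        induction t with
        | zero => simp
        | add a b ha hb => simp only [map_add, Subalgebra.coe_add, ha, hb]
        | tmul x y => rfl
      rw [AlgHom.comp_apply, AlgHom.comp_apply, Bialgebra.comulAlgHom_apply, comulB_eq, N, T_comulB,
        HopfAlgebra.mul_antipode_lTensor_comul_apply]
      rfl)

/-- the inclusion of a Hopf subalgebra as a bialgebra map. -/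
noncomputable def incl :
    letI := hopfAlgebraB hB
    B →ₐc[k] A :=
  letI := hopfAlgebraB hB
  BialgHom.ofAlgHom B.val rfl (by
    ext b
    exact T_comulB hB b)

theorem incl_apply (b : B) :
    letI := hopfAlgebraB hB
    incl hB b = (b : A) := rfl

include hB in
/-- **Takeuchi**: a commutative Hopf algebra over a field is faithfully flat over every Hopf
subalgebra. -/
theorem faithfullyFlat_of_isHopfSub : Module.FaithfullyFlat B A := by
  letI := hopfAlgebraB hB
  exact HopfFF.faithfullyFlat_of_injective (incl hB) (fun _ => rfl) Subtype.val_injective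

end Groth.Agent.Lib.helper15.HopfSubalg
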