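import Mathlib
import Groth.Agent.Lib.Helper15.Cartier
import Groth.Agent.Lib.Helper15.HopfSubalg
import Groth.Agent.Lib.Helper15.ComodOps

/-!
# Lie-algebra invariants in characteristic zero (helper15)

* `mem_pow_of_stable`: a set of elements of the augmentation ideal stable under the left-invariant
  derivations lies in every power of the augmentation ideal (char 0).
* `eq_zero_of_primitive`: a primitive element killed by all `ε`-derivations is zero
  (f.g. commutative Hopf algebra over a field of characteristic zero).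
-/

set_option autoImplicit false

namespace Groth.Agent.Lib.helper15.LieInv

open MvPolynomial Coalgebra TensorProduct Groth.Agent.Lib.helper15.HeightOne
  Groth.Agent.Lib.helper15.HopfGr

section Stable

variable {k A : Type*} [Field k] [CommRing A] [Bialgebra k A]
variable {n : ℕ} (x : Fin n → A) (hx : ∀ j, counit (R := k) (x j) = 0)
  (φ : Fin n → A →ₗ[k] k) (hφ : ∀ i, IsEpsDer (φ i))
  (hφx : ∀ i j, φ i (x j) = if i = j then 1 else 0)

include hx hφx in
/-- if `f` is homogeneous of degree `d+1` and `D_i (f(x)) ∈ I^(d+1)` then `(∂_i f)(x) ∈ I^(d+1)` -/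
lemma aeval_pderiv_mem' (d : ℕ) (f : MvPolynomial (Fin n) k) (hf : f.IsHomogeneous (d + 1))
    (i : Fin n)
    (h1 : derOf (φ i) (hφ i) (aeval x f) ∈ (RingHom.ker (Bialgebra.counitAlgHom k A)) ^ (d + 1)) :
    aeval x (pderiv i f) ∈ (RingHom.ker (Bialgebra.counitAlgHom k A)) ^ (d + 1) := by
  classical
  set I := RingHom.ker (Bialgebra.counitAlgHom k A) with hI
  have hxI : ∀ j, x j ∈ I := fun j => hx j
  rw [deriv_aeval] at h1
  have hg : ∀ j, aeval x (pderiv j f) ∈ I ^ d := fun j =>
    aeval_mem_pow I x hxI _ d (by simpa using hf.pderiv (i := j))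
  have hy : ∀ j, derOf (φ i) (hφ i) (x j) - (if i = j then 1 else 0) ∈ I := by
    intro j
    rw [hI, RingHom.mem_ker, map_sub]
    have : (Bialgebra.counitAlgHom k A) (derOf (φ i) (hφ i) (x j)) = φ i (x j) :=
      counit_derOf _ _ _
    rw [this, hφx]
    split_ifs <;> simp
  have hsum : ∑ j, aeval x (pderiv j f) * derOf (φ i) (hφ i) (x j) =
      aeval x (pderiv i f) +
        ∑ j, aeval x (pderiv j f) * (derOf (φ i) (hφ i) (x j) - (if i = j then 1 else 0)) := by
    simp only [mul_sub, Finset.sum_sub_distrib]
    rw [Finset.sum_eq_single i (f := fun j => aeval x (pderiv j f) * (if i = j then (1 : A) else 0))]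
    · simp
    · intro j _ hj; rw [if_neg (Ne.symm hj), mul_zero]
    · intro h; exact absurd (Finset.mem_univ _) h
  rw [hsum] at h1
  have h2 : ∑ j, aeval x (pderiv j f) * (derOf (φ i) (hφ i) (x j) - (if i = j then 1 else 0)) ∈
      I ^ (d + 1) := by
    refine Ideal.sum_mem _ fun j _ => ?_
    rw [pow_succ]
    exact Ideal.mul_mem_mul (hg j) (hy j)
  exact (Ideal.add_mem_iff_left _ h2).1 h1

include hx hφx in
/-- a subset of the augmentation ideal stable under the left-invariant derivations `D_i` lies in
every power of the augmentation ideal (characteristic zero) -/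
theorem mem_pow_of_stable [CharZero k]
    (hspan : ∀ a : A, counit (R := k) a = 0 → ∃ c : Fin n → k,
      a - ∑ j, c j • x j ∈ (RingHom.ker (Bialgebra.counitAlgHom k A)) ^ 2)
    (T : Set A) (hT0 : ∀ a ∈ T, counit (R := k) a = 0)
    (hTD : ∀ i, ∀ a ∈ T, derOf (φ i) (hφ i) a ∈ T) :
    ∀ m : ℕ, ∀ a ∈ T, a ∈ (RingHom.ker (Bialgebra.counitAlgHom k A)) ^ m := by
  intro m
  induction m with
  | zero => intro a _; simp
  | succ m ih =>
    intro a ha
    rcases m with _ | d
    · rw [zero_add, pow_one]; exact hT0 a ha
    · obtain ⟨f, hf, hr⟩ := exists_homogeneous_rep x hx hspan (d + 1) a (ih a ha)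
      have hp : ∀ i, pderiv i f = 0 := by
        intro i
        have h1 : derOf (φ i) (hφ i) (aeval x f) ∈
            (RingHom.ker (Bialgebra.counitAlgHom k A)) ^ (d + 1) := by
          have e : aeval x f = a - (a - aeval x f) := by ring
          rw [e, map_sub]
          exact Ideal.sub_mem _ (ih _ (hTD i a ha)) (deriv_pow_le _ _ (d + 1) _ hr)
        have h2 := aeval_pderiv_mem' x hx φ hφ hφx d f hf i h1
        exact eq_zero_of_aeval_mem x hx φ hφ hφx d (pderiv i f)
          (by simpa using hf.pderiv (i := i)) (by exact_mod_cast Nat.factorial_ne_zero d) h2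
      have he := hf.sum_X_mul_pderiv
      simp only [hp, mul_zero, Finset.sum_const_zero] at he
      have h2 : (((d + 1 : ℕ) : k)) • f = 0 := by
        rw [Nat.cast_smul_eq_nsmul]
        exact he.symm
      have hd1 : ((d + 1 : ℕ) : k) ≠ 0 := by exact_mod_cast Nat.succ_ne_zero d
      have hf0 : f = 0 := (smul_eq_zero.1 h2).resolve_left hd1
      rw [hf0, map_zero, sub_zero] at hr
      exact hr

end Stable

section Krull

variable {k A : Type*} [Field k] [CharZero k] [CommRing A] [Bialgebra k A] [IsNoetherianRing A]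

/-- elements of a subset of the augmentation ideal stable under all left-invariant derivations are
killed by an element of counit one -/
theorem exists_mul_eq_zero_of_stable (T : Set A) (hT0 : ∀ a ∈ T, counit (R := k) a = 0)
    (hTD : ∀ (φ : A →ₗ[k] k) (hφ : IsEpsDer φ), ∀ a ∈ T, derOf φ hφ a ∈ T) :
    ∀ a ∈ T, ∃ s : A, counit (R := k) s = 1 ∧ s * a = 0 := by
  intro a ha
  have := finite_cotangent (k := k) (A := A)
  obtain ⟨x, φ, hx, hφ, hφx, hspan, -⟩ := exists_cotangent_data (k := k) (A := A)
  have hmem : a ∈ (⨅ i : ℕ, (RingHom.ker (Bialgebra.counitAlgHom k A)) ^ i • ⊤ : Submodule A A) := by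
    rw [Submodule.mem_iInf]
    intro i
    have := mem_pow_of_stable x hx φ hφ hφx hspan T hT0 (fun i => hTD (φ i) (hφ i)) i a ha
    simpa using this
  obtain ⟨r, hr⟩ := (Ideal.mem_iInf_smul_pow_eq_bot_iff _ a).1 hmem
  refine ⟨1 - r, ?_, ?_⟩
  · have : counit (R := k) (r : A) = 0 := r.2
    rw [map_sub, this, sub_zero, Bialgebra.counit_one]
  · rw [sub_mul, one_mul, ← smul_eq_mul (r : A), hr, sub_self]

end Krull

section Prim

open Groth.Agent.Lib.helper15.HopfSubalg Groth.Agent.Lib.helper15.Cartier

universe u v

variable {k : Type u} [Field k] {A : Type v} [CommRing A] [HopfAlgebra k A]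

/-- primitive elements -/
def IsPrim (b : A) : Prop := comul (R := k) b = b ⊗ₜ[k] (1 : A) + (1 : A) ⊗ₜ[k] b

lemma counit_of_isPrim {b : A} (hb : IsPrim (k := k) b) : counit (R := k) b = 0 := by
  have h := Coalgebra.rTensor_counit_comul (R := k) b
  rw [hb, map_add, LinearMap.rTensor_tmul, LinearMap.rTensor_tmul, Bialgebra.counit_one] at h
  have h2 := congrArg (TensorProduct.lid k A) h
  simp only [map_add, TensorProduct.lid_tmul, one_smul] at h2
  have h3 : counit (R := k) b • (1 : A) = 0 := by
    have := sub_eq_zero.2 h2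
    simpa using this
  have h4 := congrArg (Bialgebra.counitAlgHom k A) h3
  simpa using h4

lemma isEpsDer_one {φ : A →ₗ[k] k} (hφ : IsEpsDer φ) : φ 1 = 0 := by
  have := hφ 1 1
  simp only [mul_one, Bialgebra.counit_one, one_mul] at this
  simpa using this

lemma derOf_isPrim {φ : A →ₗ[k] k} (hφ : IsEpsDer φ) {b : A} (hb : IsPrim (k := k) b) :
    derOf φ hφ b = algebraMap k A (φ b) := by
  show contr φ (comul b) = _
  rw [hb, map_add, contr_tmul, contr_tmul, isEpsDer_one hφ, zero_smul, zero_add,
    Algebra.algebraMap_eq_smul_one]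

lemma antipode_isPrim {b : A} (hb : IsPrim (k := k) b) : HopfAlgebra.antipode k b = -b := by
  have h := HopfAlgebra.mul_antipode_rTensor_comul_apply (R := k) b
  rw [hb, map_add, LinearMap.rTensor_tmul, LinearMap.rTensor_tmul, map_add,
    LinearMap.mul'_apply, LinearMap.mul'_apply, HopfAlgebra.antipode_one, mul_one, one_mul,
    counit_of_isPrim hb, map_zero] at h
  exact eq_neg_of_add_eq_zero_left h

/-- a subalgebra generated by a set stable under comultiplication and antipode is a Hopf
subalgebra -/
lemma isHopfSub_adjoin (s : Set A)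
    (h1 : ∀ a ∈ s, Bialgebra.comulAlgHom k A a ∈ (T (Algebra.adjoin k s)).range)
    (h2 : ∀ a ∈ s, HopfAlgebra.antipodeAlgHom k A a ∈ Algebra.adjoin k s) :
    IsHopfSub (Algebra.adjoin k s) := by
  constructor
  · have hle : Algebra.adjoin k s ≤
        (T (Algebra.adjoin k s)).range.comap (Bialgebra.comulAlgHom k A) :=
      Algebra.adjoin_le fun a ha => h1 a ha
    intro b hb
    obtain ⟨t, ht⟩ := hle hb
    exact ⟨t, ht⟩
  · have hle : Algebra.adjoin k s ≤
        (Algebra.adjoin k s).comap (HopfAlgebra.antipodeAlgHom k A) :=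
      Algebra.adjoin_le fun a ha => h2 a ha
    intro b hb
    exact hle hb

lemma isHopfSub_adjoin_prim {b : A} (hb : IsPrim (k := k) b) :
    IsHopfSub (Algebra.adjoin k ({b} : Set A)) := by
  have hbm : b ∈ Algebra.adjoin k ({b} : Set A) := Algebra.subset_adjoin rfl
  refine isHopfSub_adjoin _ ?_ ?_
  · rintro a rfl
    have e : T (Algebra.adjoin k ({a} : Set A))
        ((⟨a, hbm⟩ : Algebra.adjoin k ({a} : Set A)) ⊗ₜ[k] 1 + 1 ⊗ₜ[k] ⟨a, hbm⟩) =
        Bialgebra.comulAlgHom k A a := by
      rw [map_add, T_tmul, T_tmul]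
      exact hb.symm
    exact ⟨_, e⟩
  · rintro a rfl
    show HopfAlgebra.antipode k a ∈ _
    rw [antipode_isPrim hb]
    exact Subalgebra.neg_mem _ hbm

end Prim

section Core

open Groth.Agent.Lib.helper15.HopfSubalg Groth.Agent.Lib.helper15.Cartier WithConv

universe u v

variable {k : Type u} [Field k] [CharZero k] {A : Type v} [CommRing A] [HopfAlgebra k A]

omit [CharZero k] in
/-- convolution powers of a point evaluate additively on a primitive element -/
lemma convPow_apply_isPrim {K : Type*} [Field K] [Algebra k K] {b : A} (hb : IsPrim (k := k) b)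
    (g : A →ₐ[k] K) (n : ℕ) :
    ((toConv g) ^ n : WithConv (A →ₐ[k] K)).ofConv b = (n : K) * g b := by
  induction n with
  | zero =>
    rw [pow_zero]
    show (1 : WithConv (A →ₐ[k] K)) b = _
    rw [AlgHom.convOne_apply, counit_of_isPrim hb]
    simp
  | succ n ih =>
    rw [pow_succ]
    show ((toConv g) ^ n * toConv g : WithConv (A →ₐ[k] K)) b = _
    rw [AlgHom.convMul_apply, hb, map_add, Algebra.TensorProduct.lift_tmul,
      Algebra.TensorProduct.lift_tmul, map_one, map_one, mul_one, one_mul, ih]
    push_cast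
    ring

/-- an algebraic primitive element of a f.g. commutative Hopf algebra in characteristic zero
vanishes -/
theorem eq_zero_of_isPrim_of_isAlgebraic [Algebra.FiniteType k A] {b : A} (hb : IsPrim (k := k) b)
    (halg : IsAlgebraic k b) : b = 0 := by
  obtain ⟨P, hP0, hP⟩ := halg
  have h0 : CharZero (AlgebraicClosure k) :=
    charZero_of_injective_algebraMap (algebraMap k (AlgebraicClosure k)).injective
  have hg : ∀ g : A →ₐ[k] AlgebraicClosure k, g b = 0 := by
    intro g
    by_contra hgb
    have hroot : ∀ n : ℕ, (P.map (algebraMap k (AlgebraicClosure k))).IsRoot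
        ((n : AlgebraicClosure k) * g b) := by
      intro n
      rw [← convPow_apply_isPrim hb g n, Polynomial.IsRoot.def, Polynomial.eval_map,
        ← Polynomial.aeval_def, Polynomial.aeval_algHom_apply, hP, map_zero]
    have hinf : Set.Infinite {x | (P.map (algebraMap k (AlgebraicClosure k))).IsRoot x} := by
      refine Set.infinite_of_injective_forall_mem
        (f := fun n : ℕ => (n : AlgebraicClosure k) * g b) ?_ hroot
      intro m n hmn
      have := mul_right_cancel₀ hgb hmn
      exact_mod_cast this
    have := Polynomial.eq_zero_of_infinite_isRoot _ hinf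
    rw [Polynomial.map_eq_zero] at this
    exact hP0 this
  have hJac : IsJacobsonRing A := isJacobsonRing_of_finiteType (A := k) (B := A)
  have hred : IsReduced A := isReduced_of_charZero k A
  have hmem : b ∈ (⊥ : Ideal A).jacobson := by
    rw [Ideal.jacobson, Ideal.mem_sInf]
    rintro m ⟨-, hm⟩
    obtain ⟨g, hgk⟩ := exists_algHom_ker_eq k A (AlgebraicClosure k) m
    rw [← hgk]
    exact hg g
  have hrad : (⊥ : Ideal A).IsRadical := by
    rw [Ideal.isRadical_iff_quotient_reduced]
    exact isReduced_of_injective (RingEquiv.quotientBot A).toRingHom (RingEquiv.quotientBot A).injective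
  rw [hJac.out hrad] at hmem
  exact hmem

/-- **Core lemma**: in a f.g. commutative Hopf algebra over a field of characteristic zero, a
primitive element killed by all `ε`-derivations is zero -/
theorem eq_zero_of_isPrim [Algebra.FiniteType k A] {b : A} (hb : IsPrim (k := k) b)
    (hφb : ∀ φ : A →ₗ[k] k, IsEpsDer φ → φ b = 0) : b = 0 := by
  have hN : IsNoetherianRing A := Algebra.FiniteType.isNoetherianRing k A
  by_cases halg : IsAlgebraic k b
  · exact eq_zero_of_isPrim_of_isAlgebraic hb halg
  exfalso
  obtain ⟨s, hs1, hsb⟩ := exists_mul_eq_zero_of_stable (k := k) ({b, 0} : Set A)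
    (by
      rintro a (rfl | rfl)
      · exact counit_of_isPrim hb
      · exact map_zero _)
    (by
      rintro φ hφ a (rfl | rfl)
      · rw [derOf_isPrim hφ hb, hφb φ hφ, map_zero]; exact Or.inr rfl
      · rw [map_zero]; exact Or.inr rfl)
    b (Or.inl rfl)
  have hB := isHopfSub_adjoin_prim hb
  have hflat : Module.Flat (Algebra.adjoin k ({b} : Set A)) A :=
    (faithfullyFlat_of_isHopfSub hB).toFlat
  have hbm : b ∈ Algebra.adjoin k ({b} : Set A) := Algebra.subset_adjoin rfl
  have hreg : IsSMulRegular (Algebra.adjoin k ({b} : Set A))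
      (⟨b, hbm⟩ : Algebra.adjoin k ({b} : Set A)) := by
    intro c d hcd
    obtain ⟨c, hc⟩ := c
    obtain ⟨d, hd⟩ := d
    rw [Algebra.adjoin_singleton_eq_range_aeval] at hc hd
    obtain ⟨Pc, rfl⟩ := hc
    obtain ⟨Pd, rfl⟩ := hd
    have h1 : b * Polynomial.aeval b Pc = b * Polynomial.aeval b Pd := by
      have := congrArg Subtype.val hcd
      simpa using this
    have h2 : Polynomial.aeval b (Polynomial.X * Pc) = Polynomial.aeval b (Polynomial.X * Pd) := by
      simpa using h1
    have hinj : Function.Injective (Polynomial.aeval (R := k) b) :=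
      transcendental_iff_injective.1 halg
    have h3 := hinj h2
    have h4 : Pc = Pd := mul_left_cancel₀ Polynomial.X_ne_zero h3
    subst h4
    rfl
  have hregA := IsSMulRegular.of_flat (S := A) hreg
  have hs0 : s = 0 := by
    apply hregA
    show b • s = b • 0
    rw [smul_eq_mul, smul_eq_mul, mul_zero, mul_comm, hsb]
  rw [hs0, map_zero] at hs1
  exact zero_ne_one hs1

end Core

section Slice

variable {k V N : Type*} [Field k] [AddCommGroup V] [Module k V] [AddCommGroup N] [Module k N]

/-- `λ ⊗ id : V ⊗ N → N` -/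
noncomputable def slL (l : V →ₗ[k] k) : V ⊗[k] N →ₗ[k] N :=
  (TensorProduct.lid k N).toLinearMap ∘ₗ l.rTensor N

@[simp] lemma slL_tmul (l : V →ₗ[k] k) (w : V) (n : N) : slL l (w ⊗ₜ[k] n) = l w • n := by
  simp [slL]

lemma eq_zero_of_forall_slL (z : V ⊗[k] N) (h : ∀ l : V →ₗ[k] k, slL l z = 0) : z = 0 := by
  classical
  let b := Module.Basis.ofVectorSpace k V
  apply (TensorProduct.equivFinsuppOfBasisLeft b).injective
  rw [map_zero]
  ext i
  rw [TensorProduct.equivFinsuppOfBasisLeft_apply]
  exact h (b.coord i)

end Slice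

section Fixed

open Groth.Agent.Lib.helper15.ComodOps Groth.Agent.Lib.helper15.ComodFin

universe u v

variable {k : Type u} [Field k] {A : Type v} [CommRing A] [HopfAlgebra k A]

/-- the coefficient `(λ ⊗ id)(ρ v - v ⊗ 1)` is primitive when `ρ v - v ⊗ 1 ∈ W ⊗ A` with `W` the
fixed vectors -/
lemma isPrim_slL {V : Type*} [AddCommGroup V] [Module k V] [HopfRep.Comod k A V]
    (v : V) (z : V ⊗[k] A)
    (hz : z ∈ LinearMap.range ((HopfRep.fixedPts k A V).subtype.rTensor A))
    (ht : HopfRep.Comod.coact (k := k) (A := A) v = v ⊗ₜ[k] (1 : A) + z)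
    (l : V →ₗ[k] k) : IsPrim (k := k) (slL l z) := by
  -- generic identities
  have h1 : ∀ s : V ⊗[k] A, comul (R := k) (slL l s) =
      slL l ((comul (R := k) (A := A)).lTensor V s) := by
    intro s
    induction s with
    | zero => simp
    | tmul w a => simp
    | add x y hx hy => simp only [map_add, hx, hy]
  have h2 : ∀ s : (HopfRep.fixedPts k A V) ⊗[k] A, slL l ((TensorProduct.assoc k V A A)
      ((HopfRep.Comod.coact (k := k) (A := A) (V := V)).rTensor A
        ((HopfRep.fixedPts k A V).subtype.rTensor A s))) =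
      (1 : A) ⊗ₜ[k] slL l ((HopfRep.fixedPts k A V).subtype.rTensor A s) := by
    intro s
    induction s with
    | zero => simp
    | tmul w a =>
      have hw : HopfRep.Comod.coact (k := k) (A := A) (w : V) = (w : V) ⊗ₜ[k] (1 : A) := w.2
      simp [hw, TensorProduct.tmul_smul]
    | add x y hx hy => simp only [map_add, hx, hy, TensorProduct.tmul_add]
  have h3 : ∀ s : V ⊗[k] A, slL l ((TensorProduct.assoc k V A A) (s ⊗ₜ[k] (1 : A))) =
      slL l s ⊗ₜ[k] (1 : A) := by
    intro s
    induction s with
    | zero => simp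
    | tmul w a => simp [TensorProduct.smul_tmul']
    | add x y hx hy => simp only [map_add, hx, hy, TensorProduct.add_tmul]
  have hco := congr($(HopfRep.Comod.coassoc (k := k) (A := A) (V := V)) v)
  simp only [LinearMap.comp_apply, LinearEquiv.coe_coe] at hco
  have e1 : (comul (R := k) (A := A)).lTensor V z =
      (TensorProduct.assoc k V A A)
        ((HopfRep.Comod.coact (k := k) (A := A) (V := V)).rTensor A z) +
      (TensorProduct.assoc k V A A) (z ⊗ₜ[k] (1 : A)) := by
    have e2 := hco
    rw [ht, map_add, map_add, map_add, LinearMap.rTensor_tmul, LinearMap.lTensor_tmul, ht,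
      TensorProduct.add_tmul, map_add, TensorProduct.assoc_tmul, Bialgebra.comul_one,
      Algebra.TensorProduct.one_def, add_assoc] at e2
    have e3 := add_left_cancel e2
    rw [← e3, add_comm]
  obtain ⟨t, rfl⟩ := hz
  show comul (R := k) _ = _
  rw [h1, e1, map_add, h2, h3]
  abel

/-- **Lie-invariant vectors are invariant** for a unipotent group in characteristic zero -/
theorem fixed_of_lie_invariant [CharZero k] [Algebra.FiniteType k A]
    (hU : HopfRep.IsUnipotent k A) (N : ℕ) :
    ∀ (V : Type v) [AddCommGroup V] [Module k V] [HopfRep.Comod k A V] [Module.Finite k V],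
      Module.finrank k V = N → ∀ v : V,
      (∀ φ : A →ₗ[k] k, IsEpsDer φ →
        LinearMap.lTensor V φ (HopfRep.Comod.coact (k := k) (A := A) v) = 0) →
      HopfRep.Comod.coact (k := k) (A := A) v = v ⊗ₜ[k] (1 : A) := by
  induction N using Nat.strong_induction_on with
  | _ N ih =>
    intro V _ _ _ _ hN v hv
    by_cases hV : Nontrivial V
    · have hFne : HopfRep.fixedPts k A V ≠ ⊥ := hU V inferInstance hV
      have hFsub : HopfRep.IsSubcomod (k := k) (A := A) (HopfRep.fixedPts k A V) :=
        fixedPts_isSubcomod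
      let _ : HopfRep.Comod k A (V ⧸ HopfRep.fixedPts k A V) := quotComod _ hFsub
      have hlt : Module.finrank k (V ⧸ HopfRep.fixedPts k A V) < N := by
        have h1 := Submodule.finrank_quotient_add_finrank (HopfRep.fixedPts k A V)
        have h2 : 1 ≤ Module.finrank k (HopfRep.fixedPts k A V) :=
          Submodule.one_le_finrank_iff.mpr hFne
        omega
      have hvbar : ∀ φ : A →ₗ[k] k, IsEpsDer φ →
          LinearMap.lTensor (V ⧸ HopfRep.fixedPts k A V) φ
            (HopfRep.Comod.coact (k := k) (A := A) ((HopfRep.fixedPts k A V).mkQ v)) = 0 := by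
        intro φ hφ
        show LinearMap.lTensor _ φ (quotCoact _ hFsub ((HopfRep.fixedPts k A V).mkQ v)) = 0
        rw [quotCoact_mk]
        have key : ∀ s : V ⊗[k] A, LinearMap.lTensor (V ⧸ HopfRep.fixedPts k A V) φ
            ((HopfRep.fixedPts k A V).mkQ.rTensor A s) =
            (HopfRep.fixedPts k A V).mkQ.rTensor k (LinearMap.lTensor V φ s) := by
          intro s
          induction s with
          | zero => simp
          | tmul w a => simp
          | add x y hx hy => simp only [map_add, hx, hy]
        rw [key, hv φ hφ, map_zero]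
      have hfix := ih _ hlt (V ⧸ HopfRep.fixedPts k A V) rfl ((HopfRep.fixedPts k A V).mkQ v) hvbar
      have hz0 : (HopfRep.fixedPts k A V).mkQ.rTensor A
          (HopfRep.Comod.coact (k := k) (A := A) v - v ⊗ₜ[k] (1 : A)) = 0 := by
        rw [map_sub, ← quotCoact_mk _ hFsub, LinearMap.rTensor_tmul]
        exact sub_eq_zero.2 hfix
      have hex := rTensor_exact A (LinearMap.exact_subtype_mkQ (HopfRep.fixedPts k A V))
        (Submodule.mkQ_surjective _)
      have hzr : HopfRep.Comod.coact (k := k) (A := A) v - v ⊗ₜ[k] (1 : A) ∈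
          LinearMap.range ((HopfRep.fixedPts k A V).subtype.rTensor A) := (hex _).1 hz0
      have ht : HopfRep.Comod.coact (k := k) (A := A) v =
          v ⊗ₜ[k] (1 : A) + (HopfRep.Comod.coact (k := k) (A := A) v - v ⊗ₜ[k] (1 : A)) := by abel
      have hzero : HopfRep.Comod.coact (k := k) (A := A) v - v ⊗ₜ[k] (1 : A) = 0 := by
        apply eq_zero_of_forall_slL
        intro l
        apply eq_zero_of_isPrim (isPrim_slL v _ hzr ht l)
        intro φ hφ
        have key : ∀ s : V ⊗[k] A,
            φ (slL l s) = l (TensorProduct.rid k V (LinearMap.lTensor V φ s)) := by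
          intro s
          induction s with
          | zero => simp
          | tmul w a => simp [mul_comm]
          | add x y hx hy => simp only [map_add, hx, hy]
        rw [key, map_sub, hv φ hφ, LinearMap.lTensor_tmul, isEpsDer_one hφ]
        simp
      exact sub_eq_zero.1 hzero
    · rw [not_nontrivial_iff_subsingleton] at hV
      rw [Subsingleton.elim v 0]
      simp

/-- version of `fixed_of_lie_invariant` for arbitrary (possibly infinite-dimensional) comodules -/
theorem fixed_of_lie_invariant' [CharZero k] [Algebra.FiniteType k A]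
    (hU : HopfRep.IsUnipotent k A) (V : Type v) [AddCommGroup V] [Module k V]
    [HopfRep.Comod k A V] (v : V)
    (hv : ∀ φ : A →ₗ[k] k, IsEpsDer φ →
      LinearMap.lTensor V φ (HopfRep.Comod.coact (k := k) (A := A) v) = 0) :
    HopfRep.Comod.coact (k := k) (A := A) v = v ⊗ₜ[k] (1 : A) := by
  have hW : HopfRep.IsSubcomod (k := k) (A := A) (RCV (k := k) (A := A) v) := RCV_isSubcomod v
  let _ : HopfRep.Comod k A (RCV (k := k) (A := A) v) := subComod _ hW
  have hfin : Module.Finite k (RCV (k := k) (A := A) v) := Module.Finite.iff_fg.2 (RCV_fg v)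
  have hw : ∀ φ : A →ₗ[k] k, IsEpsDer φ →
      LinearMap.lTensor (RCV (k := k) (A := A) v) φ
        (HopfRep.Comod.coact (k := k) (A := A)
          (⟨v, mem_RCV v⟩ : RCV (k := k) (A := A) v)) = 0 := by
    intro φ hφ
    apply rTensor_subtype_injective (RCV (k := k) (A := A) v) k
    rw [map_zero]
    have key : ∀ s : (RCV (k := k) (A := A) v) ⊗[k] A,
        (RCV (k := k) (A := A) v).subtype.rTensor k (LinearMap.lTensor _ φ s) =
        LinearMap.lTensor V φ ((RCV (k := k) (A := A) v).subtype.rTensor A s) := by
      intro s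
      induction s with
      | zero => simp
      | tmul w a => simp
      | add x y hx hy => simp only [map_add, hx, hy]
    show (RCV (k := k) (A := A) v).subtype.rTensor k
      (LinearMap.lTensor _ φ (subCoact _ hW ⟨v, mem_RCV v⟩)) = 0
    rw [key, subtype_subCoact]
    exact hv φ hφ
  have h := fixed_of_lie_invariant hU _ (RCV (k := k) (A := A) v) rfl ⟨v, mem_RCV v⟩ hw
  have h2 := congrArg ((RCV (k := k) (A := A) v).subtype.rTensor A) h
  have h3 : (RCV (k := k) (A := A) v).subtype.rTensor A
      (subCoact _ hW (⟨v, mem_RCV v⟩ : RCV (k := k) (A := A) v)) = _ := h2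
  rw [subtype_subCoact] at h3
  simpa using h3

/-- an element of a unipotent f.g. Hopf algebra in characteristic zero killed by all left-invariant
derivations is a constant -/
theorem eq_algebraMap_of_derOf_eq_zero [CharZero k] [Algebra.FiniteType k A]
    (hU : HopfRep.IsUnipotent k A) (a : A)
    (ha : ∀ (φ : A →ₗ[k] k) (hφ : IsEpsDer φ), derOf φ hφ a = 0) :
    a = algebraMap k A (counit (R := k) a) := by
  have h := fixed_of_lie_invariant' hU A a (by
    intro φ hφ
    show LinearMap.lTensor A φ (comul (R := k) a) = 0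
    have h1 : derOf φ hφ a = (TensorProduct.rid k A) (LinearMap.lTensor A φ (comul (R := k) a)) := rfl
    rw [ha φ hφ] at h1
    exact (TensorProduct.rid k A).injective (by rw [← h1, map_zero]))
  have h1 : comul (R := k) a = a ⊗ₜ[k] (1 : A) := h
  have h2 := Coalgebra.rTensor_counit_comul (R := k) a
  rw [h1, LinearMap.rTensor_tmul] at h2
  have h3 := congrArg (TensorProduct.lid k A) h2
  simp only [TensorProduct.lid_tmul, one_smul] at h3
  rw [Algebra.algebraMap_eq_smul_one]
  exact h3.symm

end Fixed

end Groth.Agent.Lib.helper15.LieInv
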