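import Mathlib
import Groth.Prelude.Def_HopfRep
import Groth.Agent.Lib.Helper15.ComodOps
import Groth.Agent.Lib.Helper15.LieInv

/-!
# Coconnected filtrations and unipotence (helper15)

* `IsCoconnFilt C`: an exhaustive increasing filtration `C 0 = k·1 ⊆ C 1 ⊆ ⋯` of a bialgebra with
  `Δ (C r) ⊆ ∑ C i ⊗ C (r - i)`.
* `fixedPts_ne_bot_of_filt`: if such a filtration exists, every nonzero comodule has a nonzero fixed
  vector (`isUnipotent_of_filt`).
-/

set_option autoImplicit false
universe u v
open TensorProduct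

namespace Groth.Agent.Lib.helper15.Coconn

open Groth.Agent.Lib.helper15.HopfSub Groth.Agent.Lib.helper15.ComodFin
  Groth.Agent.Lib.helper15.ComodOps

section Defs

variable {k : Type u} [Field k] {A : Type v} [CommRing A] [Bialgebra k A]

/-- a coconnected filtration of a bialgebra. -/
structure IsCoconnFilt (C : ℕ → Submodule k A) : Prop where
  mono : Monotone C
  zero : C 0 = Submodule.span k {(1 : A)}
  top : (⨆ r, C r) = ⊤
  comul : ∀ r, Submodule.map (CoalgebraStruct.comul (R := k) (A := A)) (C r) ≤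
    ⨆ i ∈ Finset.range (r + 1), LinearMap.range (TensorProduct.mapIncl (C i) (C (r - i)))

variable {C : ℕ → Submodule k A}

/-- for `a ∈ C (r+1)` and `φ 1 = 0`, `(id ⊗ φ)(Δ a) ∈ C r`. -/
lemma slR_comul_mem (hC : IsCoconnFilt C) (r : ℕ) (a : A) (ha : a ∈ C (r + 1))
    (φ : Module.Dual k A) (hφ : φ 1 = 0) :
    slR φ (Coalgebra.comul (R := k) a) ∈ C r := by
  have h1 : Coalgebra.comul (R := k) a ∈
      ⨆ i ∈ Finset.range (r + 1 + 1), LinearMap.range (TensorProduct.mapIncl (C i) (C (r + 1 - i))) :=
    hC.comul (r + 1) ⟨a, ha, rfl⟩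
  have h2 : (⨆ i ∈ Finset.range (r + 1 + 1),
      LinearMap.range (TensorProduct.mapIncl (C i) (C (r + 1 - i)))) ≤ (C r).comap (slR φ) := by
    refine iSup₂_le fun i hi => ?_
    rintro _ ⟨t, rfl⟩
    rw [Submodule.mem_comap]
    induction t with
    | zero => simp
    | add x y hx hy => rw [map_add, map_add]; exact add_mem hx hy
    | tmul x y =>
      rw [TensorProduct.mapIncl, TensorProduct.map_tmul, slR_tmul]
      rw [Finset.mem_range] at hi
      by_cases hir : i = r + 1
      · have h0 : r + 1 - i ≤ 0 := by omega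
        have hy : (y : A) ∈ C 0 := hC.mono h0 y.2
        rw [hC.zero, Submodule.mem_span_singleton] at hy
        obtain ⟨c, hc⟩ := hy
        have h3 : φ ((C (r + 1 - i)).subtype y) = 0 := by
          change φ (y : A) = 0
          rw [← hc, map_smul, hφ, smul_zero]
        rw [h3, zero_smul]
        exact zero_mem _
      · have hle : i ≤ r := by omega
        exact Submodule.smul_mem _ _ (hC.mono hle x.2)
  exact h2 h1

end Defs

section Unip

variable {k : Type u} [Field k] {A : Type v} [CommRing A] [Bialgebra k A]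
variable {V : Type*} [AddCommGroup V] [Module k V] [HopfRep.Comod k A V]

local notation "ρ" => HopfRep.Comod.coact (k := k) (A := A) (V := V)
local notation "Δ" => Coalgebra.comul (R := k) (A := A)

open Groth.Agent.Lib.helper15.LieInv in
/-- slices commute: `φ ((ψ ⊗ id) t) = ψ ((id ⊗ φ) t)`. -/
lemma slice_comm (ψ : Module.Dual k V) (φ : Module.Dual k A) (t : V ⊗[k] A) :
    φ (LieInv.slL ψ t) = ψ (slV φ t) := by
  induction t with
  | zero => simp
  | add x y hx hy => rw [map_add, map_add, map_add, map_add, hx, hy]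
  | tmul v a => rw [LieInv.slL_tmul, slV_tmul, map_smul, map_smul, smul_eq_mul, smul_eq_mul, mul_comm]

/-- the matrix coefficients of `(id ⊗ φ)(ρ v)`. -/
lemma coef_slV (ψ : Module.Dual k V) (φ : Module.Dual k A) (v : V) :
    LieInv.slL ψ (ρ (slV φ (ρ v))) = slR φ (Δ (LieInv.slL ψ (ρ v))) := by
  rw [coact_slV, coassocV]
  generalize ρ v = t
  induction t with
  | zero => simp
  | add x y hx hy => simp only [map_add, hx, hy]
  | tmul y a =>
    rw [LinearMap.lTensor_tmul, slV₂_assoc_symm, LieInv.slL_tmul, LieInv.slL_tmul, map_smul,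
      map_smul]

/-- the counit of a matrix coefficient. -/
lemma counit_coef (ψ : Module.Dual k V) (v : V) :
    Coalgebra.counit (R := k) (LieInv.slL ψ (ρ v)) = ψ v := by
  rw [slice_comm]
  congr 1
  have := congr($(HopfRep.Comod.counit_comp (k := k) (A := A) (V := V)) v)
  simp only [LinearMap.comp_apply] at this
  simp [slV, this]

/-- a vector all of whose matrix coefficients are scalars is fixed. -/
lemma mem_fixedPts_of_coef (v : V)
    (h : ∀ ψ : Module.Dual k V, LieInv.slL ψ (ρ v) ∈ Submodule.span k {(1 : A)}) :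
    v ∈ HopfRep.fixedPts k A V := by
  change ρ v = v ⊗ₜ[k] (1 : A)
  rw [← sub_eq_zero]
  apply LieInv.eq_zero_of_forall_slL
  intro ψ
  rw [map_sub, LieInv.slL_tmul]
  obtain ⟨c, hc⟩ := Submodule.mem_span_singleton.1 (h ψ)
  have h1 := counit_coef (A := A) ψ v
  rw [← hc, map_smul, Bialgebra.counit_one, smul_eq_mul, mul_one] at h1
  rw [← hc, h1, sub_self]

variable {C : ℕ → Submodule k A}

/-- the vectors whose matrix coefficients lie in `C r`. -/
noncomputable def Vr (C : ℕ → Submodule k A) (r : ℕ) : Submodule k V :=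
  ⨅ ψ : Module.Dual k V, (C r).comap (LieInv.slL ψ ∘ₗ ρ)

lemma mem_Vr (r : ℕ) (v : V) :
    v ∈ Vr (V := V) C r ↔ ∀ ψ : Module.Dual k V, LieInv.slL ψ (ρ v) ∈ C r := by
  simp [Vr, Submodule.mem_iInf]

lemma exists_mem_Vr (hC : IsCoconnFilt C) (v : V) : ∃ r, v ∈ Vr (V := V) C r := by
  have key : ∀ t : V ⊗[k] A, ∃ r, ∀ ψ : Module.Dual k V, LieInv.slL ψ t ∈ C r := by
    intro t
    induction t with
    | zero => exact ⟨0, fun ψ => by simp⟩
    | add x y hx hy =>
      obtain ⟨r, hr⟩ := hx
      obtain ⟨s, hs⟩ := hy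
      refine ⟨max r s, fun ψ => ?_⟩
      rw [map_add]
      exact add_mem (hC.mono (le_max_left r s) (hr ψ)) (hC.mono (le_max_right r s) (hs ψ))
    | tmul y a =>
      have ha : a ∈ ⨆ r, C r := by rw [hC.top]; trivial
      obtain ⟨r, hr⟩ := (Submodule.mem_iSup_of_directed _ hC.mono.directed_le).1 ha
      refine ⟨r, fun ψ => ?_⟩
      rw [LieInv.slL_tmul]
      exact Submodule.smul_mem _ _ hr
  obtain ⟨r, hr⟩ := key (ρ v)
  exact ⟨r, (mem_Vr r v).2 hr⟩

/-- **a coconnected bialgebra is unipotent**: every nonzero comodule has a nonzero fixed vector. -/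
theorem fixedPts_ne_bot_of_filt (hC : IsCoconnFilt C) [Nontrivial V] :
    HopfRep.fixedPts k A V ≠ ⊥ := by
  classical
  obtain ⟨v0, hv0⟩ := exists_ne (0 : V)
  have hex : ∃ r, Vr (V := V) C r ≠ ⊥ := by
    obtain ⟨r, hr⟩ := exists_mem_Vr hC v0
    exact ⟨r, fun h => hv0 (by rw [h] at hr; exact (Submodule.mem_bot k).1 hr)⟩
  set r0 := Nat.find hex with hr0
  have hr0ne : Vr (V := V) C r0 ≠ ⊥ := Nat.find_spec hex
  obtain ⟨v, hv, hvne⟩ := Submodule.exists_mem_ne_zero_of_ne_bot hr0ne
  have hfix : v ∈ HopfRep.fixedPts k A V := by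
    apply mem_fixedPts_of_coef
    intro ψ
    rw [← hC.zero]
    rcases Nat.eq_zero_or_pos r0 with h0 | hpos
    · have := (mem_Vr r0 v).1 hv ψ
      rwa [h0] at this
    · obtain ⟨r, hr⟩ : ∃ r, r0 = r + 1 := ⟨r0 - 1, by omega⟩
      have hmin : Vr (V := V) C r = ⊥ := by
        by_contra hne
        have := Nat.find_min' hex hne
        omega
      -- all slices `(id ⊗ φ)(ρ v)` with `φ 1 = 0` vanish
      have hw : ∀ φ : Module.Dual k A, φ 1 = 0 → slV φ (ρ v) = 0 := by
        intro φ hφ
        have hmem : slV φ (ρ v) ∈ Vr (V := V) C r := by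
          rw [mem_Vr]
          intro ψ'
          rw [coef_slV]
          apply slR_comul_mem hC r _ _ φ hφ
          have := (mem_Vr r0 v).1 hv ψ'
          rwa [hr] at this
        rw [hmin] at hmem
        exact (Submodule.mem_bot k).1 hmem
      by_contra hnot
      rw [hC.zero] at hnot
      obtain ⟨φ, hφ1, hφ2⟩ := Submodule.exists_dual_map_eq_bot_of_notMem hnot inferInstance
      have hφ0 : φ 1 = 0 := by
        have : φ 1 ∈ Submodule.map φ (Submodule.span k {(1 : A)}) :=
          ⟨1, Submodule.subset_span rfl, rfl⟩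
        rw [hφ2] at this
        exact (Submodule.mem_bot k).1 this
      apply hφ1
      rw [slice_comm, hw φ hφ0, map_zero]
  intro hbot
  rw [hbot] at hfix
  exact hvne ((Submodule.mem_bot k).1 hfix)

end Unip


section Partial

variable {k : Type u} [Field k] {A : Type v} [CommRing A] [Bialgebra k A]

/-- a coconnected filtration of a sub-coalgebra (no exhaustiveness). -/
structure IsCoconnFilt' (C : ℕ → Submodule k A) : Prop where
  mono : Monotone C
  zero : C 0 = Submodule.span k {(1 : A)}
  comul : ∀ r, Submodule.map (CoalgebraStruct.comul (R := k) (A := A)) (C r) ≤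
    ⨆ i ∈ Finset.range (r + 1), LinearMap.range (TensorProduct.mapIncl (C i) (C (r - i)))

lemma IsCoconnFilt.toPartial {C : ℕ → Submodule k A} (hC : IsCoconnFilt C) : IsCoconnFilt' C :=
  ⟨hC.mono, hC.zero, hC.comul⟩

variable {C : ℕ → Submodule k A}

lemma slR_comul_mem' (hC : IsCoconnFilt' C) (r : ℕ) (a : A) (ha : a ∈ C (r + 1))
    (φ : Module.Dual k A) (hφ : φ 1 = 0) :
    slR φ (Coalgebra.comul (R := k) a) ∈ C r := by
  have h1 : Coalgebra.comul (R := k) a ∈
      ⨆ i ∈ Finset.range (r + 1 + 1), LinearMap.range (TensorProduct.mapIncl (C i) (C (r + 1 - i))) :=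
    hC.comul (r + 1) ⟨a, ha, rfl⟩
  have h2 : (⨆ i ∈ Finset.range (r + 1 + 1),
      LinearMap.range (TensorProduct.mapIncl (C i) (C (r + 1 - i)))) ≤ (C r).comap (slR φ) := by
    refine iSup₂_le fun i hi => ?_
    rintro _ ⟨t, rfl⟩
    rw [Submodule.mem_comap]
    induction t with
    | zero => simp
    | add x y hx hy => rw [map_add, map_add]; exact add_mem hx hy
    | tmul x y =>
      rw [TensorProduct.mapIncl, TensorProduct.map_tmul, slR_tmul]
      rw [Finset.mem_range] at hi
      by_cases hir : i = r + 1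
      · have h0 : r + 1 - i ≤ 0 := by omega
        have hy : (y : A) ∈ C 0 := hC.mono h0 y.2
        rw [hC.zero, Submodule.mem_span_singleton] at hy
        obtain ⟨c, hc⟩ := hy
        have h3 : φ ((C (r + 1 - i)).subtype y) = 0 := by
          change φ (y : A) = 0
          rw [← hc, map_smul, hφ, smul_zero]
        rw [h3, zero_smul]
        exact zero_mem _
      · have hle : i ≤ r := by omega
        exact Submodule.smul_mem _ _ (hC.mono hle x.2)
  exact h2 h1

variable {V : Type*} [AddCommGroup V] [Module k V] [HopfRep.Comod k A V]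

local notation "ρ" => HopfRep.Comod.coact (k := k) (A := A) (V := V)

lemma exists_mem_Vr' (hC : IsCoconnFilt' C)
    (hcoef : ∀ (v : V) (ψ : Module.Dual k V), LieInv.slL ψ (ρ v) ∈ ⨆ r, C r) (v : V) :
    ∃ r, v ∈ Vr (V := V) C r := by
  classical
  let b := Module.Basis.ofVectorSpace k V
  -- expansion of `ρ v` along the basis of `V`
  set c := TensorProduct.equivFinsuppOfBasisLeft (N := A) b (ρ v) with hc
  have hci : ∀ i, c i = LieInv.slL (b.coord i) (ρ v) := by
    intro i
    rw [hc, TensorProduct.equivFinsuppOfBasisLeft_apply]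
    rfl
  have hsum : ρ v = c.sum fun i a => b i ⊗ₜ[k] a := by
    rw [hc, ← TensorProduct.equivFinsuppOfBasisLeft_symm_apply, LinearEquiv.symm_apply_apply]
  have hex : ∀ i, ∃ r, c i ∈ C r := by
    intro i
    rw [hci]
    exact (Submodule.mem_iSup_of_directed _ hC.mono.directed_le).1 (hcoef v (b.coord i))
  choose r hr using hex
  refine ⟨c.support.sup r, (mem_Vr _ v).2 fun ψ => ?_⟩
  rw [hsum, Finsupp.sum, map_sum]
  refine Submodule.sum_mem _ fun i hi => ?_
  rw [LieInv.slL_tmul]
  exact Submodule.smul_mem _ _ (hC.mono (Finset.le_sup hi) (hr i))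

/-- a nonzero comodule whose matrix coefficients lie in a coconnected sub-coalgebra has a nonzero
fixed vector. -/
theorem fixedPts_ne_bot_of_filt' (hC : IsCoconnFilt' C)
    (hcoef : ∀ (v : V) (ψ : Module.Dual k V), LieInv.slL ψ (ρ v) ∈ ⨆ r, C r) [Nontrivial V] :
    HopfRep.fixedPts k A V ≠ ⊥ := by
  classical
  obtain ⟨v0, hv0⟩ := exists_ne (0 : V)
  have hex : ∃ r, Vr (V := V) C r ≠ ⊥ := by
    obtain ⟨r, hr⟩ := exists_mem_Vr' hC hcoef v0
    exact ⟨r, fun h => hv0 (by rw [h] at hr; exact (Submodule.mem_bot k).1 hr)⟩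
  set r0 := Nat.find hex with hr0
  have hr0ne : Vr (V := V) C r0 ≠ ⊥ := Nat.find_spec hex
  obtain ⟨v, hv, hvne⟩ := Submodule.exists_mem_ne_zero_of_ne_bot hr0ne
  have hfix : v ∈ HopfRep.fixedPts k A V := by
    apply mem_fixedPts_of_coef
    intro ψ
    rw [← hC.zero]
    rcases Nat.eq_zero_or_pos r0 with h0 | hpos
    · have := (mem_Vr r0 v).1 hv ψ
      rwa [h0] at this
    · obtain ⟨r, hr⟩ : ∃ r, r0 = r + 1 := ⟨r0 - 1, by omega⟩
      have hmin : Vr (V := V) C r = ⊥ := by
        by_contra hne
        have := Nat.find_min' hex hne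
        omega
      have hw : ∀ φ : Module.Dual k A, φ 1 = 0 → slV φ (ρ v) = 0 := by
        intro φ hφ
        have hmem : slV φ (ρ v) ∈ Vr (V := V) C r := by
          rw [mem_Vr]
          intro ψ'
          rw [coef_slV]
          apply slR_comul_mem' hC r _ _ φ hφ
          have := (mem_Vr r0 v).1 hv ψ'
          rwa [hr] at this
        rw [hmin] at hmem
        exact (Submodule.mem_bot k).1 hmem
      by_contra hnot
      rw [hC.zero] at hnot
      obtain ⟨φ, hφ1, hφ2⟩ := Submodule.exists_dual_map_eq_bot_of_notMem hnot inferInstance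
      have hφ0 : φ 1 = 0 := by
        have : φ 1 ∈ Submodule.map φ (Submodule.span k {(1 : A)}) :=
          ⟨1, Submodule.subset_span rfl, rfl⟩
        rw [hφ2] at this
        exact (Submodule.mem_bot k).1 this
      apply hφ1
      rw [slice_comm, hw φ hφ0, map_zero]
  intro hbot
  rw [hbot] at hfix
  exact hvne ((Submodule.mem_bot k).1 hfix)

end Partial

section Push

variable {k : Type u} [Field k] {A : Type v} [CommRing A] [Bialgebra k A]
  {B : Type*} [CommRing B] [Bialgebra k B] (f : A →ₐc[k] B)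

/-- the image of a coconnected filtration under a bialgebra map. -/
lemma isCoconnFilt'_map {C : ℕ → Submodule k A} (hC : IsCoconnFilt' C) :
    IsCoconnFilt' fun r => (C r).map (f : A →ₐ[k] B).toLinearMap where
  mono := fun r s hrs => Submodule.map_mono (hC.mono hrs)
  zero := by
    change Submodule.map _ (C 0) = _
    rw [hC.zero, Submodule.map_span, Set.image_singleton]
    congr 2
    exact map_one f
  comul := by
    intro r
    rw [Submodule.map_le_iff_le_comap]
    rintro _ ⟨a, ha, rfl⟩
    rw [Submodule.mem_comap]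
    have h1 : CoalgebraStruct.comul (R := k) ((f : A →ₐ[k] B).toLinearMap a) =
        TensorProduct.map (f : A →ₐ[k] B).toLinearMap (f : A →ₐ[k] B).toLinearMap
          (CoalgebraStruct.comul (R := k) a) := (CoalgHomClass.map_comp_comul_apply f a).symm
    rw [h1]
    have h2 := hC.comul r ⟨a, ha, rfl⟩
    have h3 : (⨆ i ∈ Finset.range (r + 1), LinearMap.range (TensorProduct.mapIncl (C i) (C (r - i)))) ≤
        (⨆ i ∈ Finset.range (r + 1), LinearMap.range (TensorProduct.mapIncl
          ((C i).map (f : A →ₐ[k] B).toLinearMap) ((C (r - i)).map (f : A →ₐ[k] B).toLinearMap))).comap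
          (TensorProduct.map (f : A →ₐ[k] B).toLinearMap (f : A →ₐ[k] B).toLinearMap) := by
      refine iSup₂_le fun i hi => ?_
      rintro _ ⟨t, rfl⟩
      rw [Submodule.mem_comap]
      refine Submodule.mem_iSup_of_mem i (Submodule.mem_iSup_of_mem hi ?_)
      induction t with
      | zero => simp
      | add x y hx hy => rw [map_add, map_add]; exact add_mem hx hy
      | tmul x y =>
        exact ⟨(⟨(f : A →ₐ[k] B).toLinearMap x, Submodule.mem_map_of_mem x.2⟩ :
            (C i).map (f : A →ₐ[k] B).toLinearMap) ⊗ₜ[k]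
          (⟨(f : A →ₐ[k] B).toLinearMap y, Submodule.mem_map_of_mem y.2⟩ :
            (C (r - i)).map (f : A →ₐ[k] B).toLinearMap), rfl⟩
    exact h3 h2

/-- a quotient bialgebra of a coconnected bialgebra is coconnected. -/
lemma isCoconnFilt_map {C : ℕ → Submodule k A} (hC : IsCoconnFilt C) (hf : Function.Surjective f) :
    IsCoconnFilt fun r => (C r).map (f : A →ₐ[k] B).toLinearMap := by
  have h := isCoconnFilt'_map f hC.toPartial
  refine ⟨h.mono, h.zero, ?_, h.comul⟩
  rw [← Submodule.map_iSup, hC.top, Submodule.map_top, LinearMap.range_eq_top]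
  exact hf

end Push

section Main

variable {k : Type u} [Field k] {A : Type v} [CommRing A] [Bialgebra k A]

theorem isUnipotent_of_filt {C : ℕ → Submodule k A} (hC : IsCoconnFilt C) :
    HopfRep.IsUnipotent k A := by
  intro V _ _ _ _ hnt
  exact fixedPts_ne_bot_of_filt hC

end Main

end Groth.Agent.Lib.helper15.Coconn
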