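import Mathlib
import Groth.Prelude.Def_HopfRep
import Groth.Agent.Lib.Helper15.Coconn

/-!
# Triangular matrix-coalgebra data and flags of comodules (helper15)

* `TData k A`: a finite index type with weights and a triangular matrix `a` with
  `Δ (a i j) = ∑ l, a i l ⊗ a l j`.
* `exists_triData`: if every nonzero finite-dimensional comodule has an eigenvector with eigenvalue in
  `G`, then every finite-dimensional comodule is spanned by vectors `w j` with
  `ρ (w j) = ∑ i, w i ⊗ a i j` for a triangular datum with diagonal in `G`.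
-/

set_option autoImplicit false
universe u v
open TensorProduct

namespace Groth.Agent.Lib.helper15.TriData

open Groth.Agent.Lib.helper15.HopfSub Groth.Agent.Lib.helper15.ComodFin
  Groth.Agent.Lib.helper15.ComodOps Groth.Agent.Lib.helper15.Coconn

/-- a triangular matrix-coalgebra datum. -/
structure TData (k : Type u) (A : Type v) [Field k] [CommRing A] [Bialgebra k A] where
  I : Type
  fin : Fintype I
  wt : I → ℕ
  a : I → I → A
  tri : ∀ i j, i ≠ j → wt j ≤ wt i → a i j = 0
  comul : ∀ i j, Coalgebra.comul (R := k) (a i j) =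
    letI := fin; ∑ l : I, a i l ⊗ₜ[k] a l j

attribute [instance] TData.fin

section Basic

variable {k : Type u} [Field k] {A : Type v} [CommRing A] [Bialgebra k A]
variable {W : Type*} [AddCommGroup W] [Module k W] [HopfRep.Comod k A W]

local notation "ρ" => HopfRep.Comod.coact (k := k) (A := A) (V := W)
local notation "Δ" => Coalgebra.comul (R := k) (A := A)

/-- cancelling a nonzero vector in a tensor product. -/
lemma tmul_left_cancel {N : Type*} [AddCommGroup N] [Module k N] {w : W} (hw : w ≠ 0) {x y : N}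
    (h : w ⊗ₜ[k] x = w ⊗ₜ[k] y) : x = y := by
  have hnot : w ∉ (⊥ : Submodule k W) := fun h0 => hw ((Submodule.mem_bot k).1 h0)
  obtain ⟨ψ, hψ, -⟩ := Submodule.exists_dual_map_eq_bot_of_notMem hnot inferInstance
  have h1 := congrArg (LieInv.slL ψ) h
  rw [LieInv.slL_tmul, LieInv.slL_tmul] at h1
  exact smul_right_injective N hψ h1

/-- the eigenvalue of a nonzero eigenvector is group-like (comultiplication part). -/
lemma comul_eq_of_eigen {w : W} (hw : w ≠ 0) {g : A} (h : ρ w = w ⊗ₜ[k] g) :
    Δ g = g ⊗ₜ[k] g := by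
  have h1 := coassocV (k := k) (A := A) w
  rw [h, LinearMap.rTensor_tmul, h, LinearMap.lTensor_tmul] at h1
  have h2 := congrArg (TensorProduct.assoc k W A A) h1
  rw [LinearEquiv.apply_symm_apply, TensorProduct.assoc_tmul] at h2
  exact (tmul_left_cancel hw h2).symm

/-- the line spanned by an eigenvector is a subcomodule. -/
lemma isSubcomod_span_of_eigen {w : W} {g : A} (h : ρ w = w ⊗ₜ[k] g) :
    HopfRep.IsSubcomod (k := k) (A := A) (Submodule.span k {w}) := by
  intro v hv
  obtain ⟨c, rfl⟩ := Submodule.mem_span_singleton.1 hv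
  refine ⟨(⟨c • w, hv⟩ : Submodule.span k {w}) ⊗ₜ[k] g, ?_⟩
  rw [LinearMap.rTensor_tmul, map_smul, h, TensorProduct.smul_tmul']
  rfl

/-- elements of `(k w) ⊗ A` are of the form `w ⊗ b`. -/
lemma exists_tmul_of_span_singleton (w : W) (t : (Submodule.span k {w}) ⊗[k] A) :
    ∃ b : A, (Submodule.span k {w}).subtype.rTensor A t = w ⊗ₜ[k] b := by
  induction t with
  | zero => exact ⟨0, by simp⟩
  | add x y hx hy =>
    obtain ⟨b, hb⟩ := hx
    obtain ⟨b', hb'⟩ := hy
    exact ⟨b + b', by rw [map_add, hb, hb', TensorProduct.tmul_add]⟩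
  | tmul x a =>
    obtain ⟨c, hc⟩ := Submodule.mem_span_singleton.1 x.2
    refine ⟨c • a, ?_⟩
    rw [LinearMap.rTensor_tmul, Submodule.subtype_apply, ← hc, TensorProduct.smul_tmul]

end Basic


section Extend

variable {k : Type u} [Field k] {A : Type v} [CommRing A] [Bialgebra k A]

local notation "Δ" => Coalgebra.comul (R := k) (A := A)

/-- the matrix of the extended datum. -/
def extA (D' : TData k A) (g : A) (b : D'.I → A) : Option D'.I → Option D'.I → A
  | none, none => g
  | none, some j => b j
  | some _, none => 0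
  | some i, some j => D'.a i j

/-- the weights of the extended datum. -/
def extWt (D' : TData k A) : Option D'.I → ℕ
  | none => 0
  | some i => D'.wt i + 1

/-- extension of a triangular datum by a new bottom row `(g, b)`. -/
def TData.extend (D' : TData k A) (g : A) (b : D'.I → A) (hg : Δ g = g ⊗ₜ[k] g)
    (hb : ∀ j, Δ (b j) = g ⊗ₜ[k] b j + ∑ l : D'.I, b l ⊗ₜ[k] D'.a l j) : TData k A where
  I := Option D'.I
  fin := inferInstance
  wt := extWt D'
  a := extA D' g b
  tri := by
    rintro (_ | i) (_ | j) hne hle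
    · exact absurd rfl hne
    · simp [extWt] at hle
    · rfl
    · have hne' : i ≠ j := fun h => hne (by rw [h])
      have hle' : D'.wt j ≤ D'.wt i := by simpa [extWt] using hle
      exact D'.tri i j hne' hle'
  comul := by
    rintro (_ | i) (_ | j)
    · rw [Fintype.sum_option]
      simp only [extA, TensorProduct.tmul_zero, Finset.sum_const_zero, add_zero]
      exact hg
    · rw [Fintype.sum_option]
      simp only [extA]
      exact hb j
    · rw [Fintype.sum_option]
      simp only [extA, TensorProduct.tmul_zero, TensorProduct.zero_tmul, Finset.sum_const_zero,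
        add_zero, map_zero]
    · rw [Fintype.sum_option]
      simp only [extA, TensorProduct.zero_tmul, zero_add]
      exact D'.comul i j

variable {W : Type*} [AddCommGroup W] [Module k W] [HopfRep.Comod k A W]

local notation "ρ" => HopfRep.Comod.coact (k := k) (A := A) (V := W)

/-- the comultiplication of the new row, from coassociativity. -/
lemma comul_newRow (D' : TData k A) {w0 : W} (hw0 : w0 ≠ 0) {g : A} (hg : ρ w0 = w0 ⊗ₜ[k] g)
    (wl : D'.I → W) (b : D'.I → A)
    (hρ : ∀ j, ρ (wl j) = ∑ i : D'.I, wl i ⊗ₜ[k] D'.a i j + w0 ⊗ₜ[k] b j) (j : D'.I) :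
    Δ (b j) = g ⊗ₜ[k] b j + ∑ l : D'.I, b l ⊗ₜ[k] D'.a l j := by
  have h1 := coassocV (k := k) (A := A) (wl j)
  have h2 := congrArg (TensorProduct.assoc k W A A) h1
  rw [LinearEquiv.apply_symm_apply] at h2
  rw [hρ j] at h2
  simp only [map_add, map_sum, LinearMap.rTensor_tmul, LinearMap.lTensor_tmul, hρ, hg,
    TensorProduct.add_tmul, TensorProduct.sum_tmul, TensorProduct.assoc_tmul, D'.comul,
    TensorProduct.tmul_sum, Finset.sum_add_distrib] at h2
  -- cancel the double sums
  have h3 : ∑ x : D'.I, ∑ i : D'.I, wl i ⊗ₜ[k] (D'.a i x ⊗ₜ[k] D'.a x j) =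
      ∑ x : D'.I, ∑ x_1 : D'.I, wl x ⊗ₜ[k] (D'.a x x_1 ⊗ₜ[k] D'.a x_1 j) := Finset.sum_comm
  rw [h3, add_assoc, add_right_inj] at h2
  rw [← TensorProduct.tmul_sum, ← TensorProduct.tmul_add] at h2
  have h4 := tmul_left_cancel hw0 h2
  rw [← h4, add_comm]

end Extend


section Flag

variable {k : Type u} [Field k] {A : Type v} [CommRing A] [Bialgebra k A]

/-- every nonzero finite-dimensional comodule has an eigenvector with eigenvalue in `G`. -/
def EigenProp (k : Type u) (A : Type v) [Field k] [CommRing A] [Bialgebra k A] (G : Set A) : Prop :=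
  ∀ (V : Type v) [AddCommGroup V] [Module k V] [HopfRep.Comod k A V],
    Module.Finite k V → Nontrivial V →
      ∃ (v : V) (g : A), v ≠ 0 ∧ g ∈ G ∧ HopfRep.Comod.coact (k := k) (A := A) v = v ⊗ₜ[k] g

/-- the empty datum. -/
def emptyData (k : Type u) (A : Type v) [Field k] [CommRing A] [Bialgebra k A] : TData k A where
  I := Empty
  fin := inferInstance
  wt := fun i => i.elim
  a := fun i => i.elim
  tri := fun i => i.elim
  comul := fun i => i.elim

/-- **flags**: a finite-dimensional comodule is spanned by a triangular family. -/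
theorem exists_tData {G : Set A} (hE : EigenProp k A G) :
    ∀ (n : ℕ) (W : Type v) [AddCommGroup W] [Module k W] [HopfRep.Comod k A W] [Module.Finite k W],
      Module.finrank k W = n →
      ∃ (D : TData k A) (w : D.I → W), (∀ i, D.a i i ∈ G) ∧ Submodule.span k (Set.range w) = ⊤ ∧
        ∀ j, HopfRep.Comod.coact (k := k) (A := A) (w j) = ∑ i : D.I, w i ⊗ₜ[k] D.a i j := by
  intro n
  induction n with
  | zero =>
    intro W _ _ _ _ hn
    have hsub : Subsingleton W := Module.finrank_zero_iff.1 hn
    refine ⟨emptyData k A, fun i => i.elim, fun i => i.elim, ?_, fun i => i.elim⟩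
    exact Subsingleton.elim _ _
  | succ n ih =>
    intro W _ _ _ _ hn
    have hnt : Nontrivial W := by
      apply Module.nontrivial_of_finrank_pos (R := k)
      omega
    obtain ⟨w0, g, hw0, hgG, hg⟩ := hE W inferInstance hnt
    set K : Submodule k W := Submodule.span k {w0} with hK
    have hKsub : HopfRep.IsSubcomod (k := k) (A := A) K := isSubcomod_span_of_eigen hg
    let _ : HopfRep.Comod k A (W ⧸ K) := quotComod K hKsub
    have hfr : Module.finrank k (W ⧸ K) = n := by
      have h1 := Submodule.finrank_quotient_add_finrank K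
      have h2 : Module.finrank k K = 1 := finrank_span_singleton hw0
      omega
    obtain ⟨D', w', hdiag, hspan, hρ'⟩ := ih (W ⧸ K) hfr
    choose wl hwl using fun j => Submodule.Quotient.mk_surjective K (w' j)
    -- the new row
    have hex : ∀ j, ∃ b : A, HopfRep.Comod.coact (k := k) (A := A) (wl j) =
        ∑ i : D'.I, wl i ⊗ₜ[k] D'.a i j + w0 ⊗ₜ[k] b := by
      intro j
      have h1 : K.mkQ.rTensor A (HopfRep.Comod.coact (k := k) (A := A) (wl j) -
          ∑ i : D'.I, wl i ⊗ₜ[k] D'.a i j) = 0 := by
        rw [map_sub, ← quotCoact_mk K hKsub, map_sum]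
        simp only [LinearMap.rTensor_tmul, Submodule.mkQ_apply, hwl]
        rw [sub_eq_zero]
        exact hρ' j
      have hexact : Function.Exact (K.subtype.rTensor A) (K.mkQ.rTensor A) :=
        rTensor_exact A (LinearMap.exact_subtype_mkQ K) (Submodule.mkQ_surjective K)
      obtain ⟨t, ht⟩ := (hexact _).1 h1
      obtain ⟨b, hb⟩ := exists_tmul_of_span_singleton (A := A) w0 t
      refine ⟨b, ?_⟩
      rw [← hb, ht]
      abel
    choose b hb using hex
    have hgl : Coalgebra.comul (R := k) g = g ⊗ₜ[k] g := comul_eq_of_eigen hw0 hg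
    have hbrow := comul_newRow D' hw0 hg wl b hb
    refine ⟨D'.extend g b hgl hbrow, fun o => o.elim w0 wl, ?_, ?_, ?_⟩
    · rintro (_ | i)
      · exact hgG
      · exact hdiag i
    · -- spanning
      set P : Submodule k W := Submodule.span k (Set.range fun o : Option D'.I => o.elim w0 wl) with hP
      have hw0P : w0 ∈ P := Submodule.subset_span ⟨none, rfl⟩
      have hwlP : ∀ j, wl j ∈ P := fun j => Submodule.subset_span ⟨some j, rfl⟩
      have hKP : K ≤ P := Submodule.span_le.2 (by rintro _ rfl; exact hw0P)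
      have hmap : (⊤ : Submodule k (W ⧸ K)) ≤ P.map K.mkQ := by
        rw [← hspan]
        refine Submodule.span_le.2 ?_
        rintro _ ⟨j, rfl⟩
        exact ⟨wl j, hwlP j, hwl j⟩
      rw [eq_top_iff]
      intro v _
      obtain ⟨p, hp, hpv⟩ := hmap (Submodule.mem_top : K.mkQ v ∈ ⊤)
      have h1 : v - p ∈ K := by
        rw [← Submodule.Quotient.mk_eq_zero, Submodule.Quotient.mk_sub]
        rw [sub_eq_zero]
        exact hpv.symm
      have h2 : v = (v - p) + p := by abel
      rw [h2]
      exact add_mem (hKP h1) hp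
    · rintro (_ | j)
      · change HopfRep.Comod.coact (k := k) (A := A) w0 =
          ∑ o : Option D'.I, (o.elim w0 wl) ⊗ₜ[k] extA D' g b o none
        rw [Fintype.sum_option]
        simp only [Option.elim, extA, TensorProduct.tmul_zero, Finset.sum_const_zero, add_zero]
        exact hg
      · change HopfRep.Comod.coact (k := k) (A := A) (wl j) =
          ∑ o : Option D'.I, (o.elim w0 wl) ⊗ₜ[k] extA D' g b o (some j)
        rw [Fintype.sum_option]
        simp only [Option.elim, extA]
        rw [hb j, add_comm]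

end Flag


section Filt

variable {k : Type u} [Field k] {A : Type v} [CommRing A] [Bialgebra k A]

local notation "Δ" => Coalgebra.comul (R := k) (A := A)

/-- the one-element datum. -/
def unitData (k : Type u) (A : Type v) [Field k] [CommRing A] [Bialgebra k A] : TData k A where
  I := Unit
  fin := inferInstance
  wt := fun _ => 0
  a := fun _ _ => 1
  tri := fun i j h => absurd (Subsingleton.elim i j) h
  comul := fun _ _ => by
    rw [Bialgebra.comul_one]
    simp [Algebra.TensorProduct.one_def]

/-- the filtration by widths of entries of unitriangular data. -/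
def Cfilt (k : Type u) (A : Type v) [Field k] [CommRing A] [Bialgebra k A] (r : ℕ) : Submodule k A :=
  Submodule.span k {x | ∃ D : TData k A, (∀ i, D.a i i = 1) ∧
    ∃ i j : D.I, D.wt j ≤ D.wt i + r ∧ x = D.a i j}

lemma entry_mem_Cfilt (D : TData k A) (hD : ∀ i, D.a i i = 1) (i j : D.I) (r : ℕ)
    (h : D.wt j ≤ D.wt i + r) : D.a i j ∈ Cfilt k A r :=
  Submodule.subset_span ⟨D, hD, i, j, h, rfl⟩

lemma Cfilt_mono : Monotone (Cfilt k A) := by
  intro r s hrs
  refine Submodule.span_mono ?_
  rintro x ⟨D, hD, i, j, h, rfl⟩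
  exact ⟨D, hD, i, j, by omega, rfl⟩

lemma Cfilt_zero : Cfilt k A 0 = Submodule.span k {(1 : A)} := by
  apply le_antisymm
  · refine Submodule.span_le.2 ?_
    rintro x ⟨D, hD, i, j, h, rfl⟩
    by_cases hij : i = j
    · subst hij
      rw [hD]
      exact Submodule.subset_span rfl
    · rw [D.tri i j hij (by omega)]
      exact zero_mem _
  · refine Submodule.span_le.2 ?_
    rintro _ rfl
    exact entry_mem_Cfilt (unitData k A) (fun _ => rfl) () () 0 (le_refl _)

lemma Cfilt_comul (r : ℕ) : Submodule.map (CoalgebraStruct.comul (R := k) (A := A)) (Cfilt k A r) ≤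
    ⨆ i ∈ Finset.range (r + 1),
      LinearMap.range (TensorProduct.mapIncl (Cfilt k A i) (Cfilt k A (r - i))) := by
  rw [Cfilt, Submodule.map_span_le]
  rintro x ⟨D, hD, i, j, h, rfl⟩
  have hc : CoalgebraStruct.comul (R := k) (D.a i j) = ∑ l : D.I, D.a i l ⊗ₜ[k] D.a l j := D.comul i j
  rw [hc]
  refine Submodule.sum_mem _ fun l _ => ?_
  by_cases h1 : D.a i l = 0
  · rw [h1, TensorProduct.zero_tmul]; exact zero_mem _
  by_cases h2 : D.a l j = 0
  · rw [h2, TensorProduct.tmul_zero]; exact zero_mem _
  have h3 : D.wt i ≤ D.wt l := by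
    by_contra hlt
    by_cases hil : i = l
    · subst hil; exact hlt (le_refl _)
    · exact h1 (D.tri i l hil (by omega))
  have h4 : D.wt l ≤ D.wt j := by
    by_contra hlt
    by_cases hlj : l = j
    · subst hlj; exact hlt (le_refl _)
    · exact h2 (D.tri l j hlj (by omega))
  have hs : D.wt l - D.wt i ∈ Finset.range (r + 1) := by
    rw [Finset.mem_range]; omega
  refine Submodule.mem_iSup_of_mem (D.wt l - D.wt i) (Submodule.mem_iSup_of_mem hs ?_)
  refine ⟨(⟨D.a i l, entry_mem_Cfilt D hD i l _ (by omega)⟩ : Cfilt k A (D.wt l - D.wt i)) ⊗ₜ[k]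
    (⟨D.a l j, entry_mem_Cfilt D hD l j _ (by omega)⟩ : Cfilt k A (r - (D.wt l - D.wt i))), rfl⟩

end Filt

section FiltTop

variable {k : Type u} [Field k] {A : Type v} [CommRing A] [Bialgebra k A]

/-- unipotence gives the eigenvector property for the eigenvalue `1`. -/
lemma eigenProp_of_isUnipotent (hU : HopfRep.IsUnipotent k A) : EigenProp k A {(1 : A)} := by
  intro V _ _ _ hfin hnt
  obtain ⟨v, hv, hvne⟩ := Submodule.exists_mem_ne_zero_of_ne_bot (hU V hfin hnt)
  exact ⟨v, 1, hvne, rfl, hv⟩

lemma Cfilt_top (hU : HopfRep.IsUnipotent k A) : (⨆ r, Cfilt k A r) = ⊤ := by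
  rw [eq_top_iff]
  intro x _
  set W : Submodule k A := RCV (k := k) (A := A) (V := A) x with hW
  have hWsub : HopfRep.IsSubcomod (k := k) (A := A) W := RCV_isSubcomod x
  let _ : HopfRep.Comod k A W := subComod W hWsub
  have hWfin : Module.Finite k W := Module.Finite.iff_fg.2 (RCV_fg x)
  obtain ⟨D, w, hdiag, hspan, hρ⟩ := exists_tData (eigenProp_of_isUnipotent hU) _ W rfl
  have hD : ∀ i, D.a i i = 1 := fun i => hdiag i
  -- the comultiplication of `w j`
  have hΔ : ∀ j, Coalgebra.comul (R := k) ((w j : W) : A) = ∑ i : D.I, ((w i : W) : A) ⊗ₜ[k] D.a i j := by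
    intro j
    have h1 := subtype_subCoact W hWsub (w j)
    have h2 : subCoact W hWsub (w j) = ∑ i : D.I, w i ⊗ₜ[k] D.a i j := hρ j
    rw [h2, map_sum] at h1
    simp only [LinearMap.rTensor_tmul, Submodule.subtype_apply] at h1
    exact h1.symm
  have hmem : ∀ j, ((w j : W) : A) ∈ ⨆ r, Cfilt k A r := by
    intro j
    have h1 := Coalgebra.rTensor_counit_comul (R := k) ((w j : W) : A)
    rw [hΔ j, map_sum] at h1
    simp only [LinearMap.rTensor_tmul] at h1
    have h2 := congrArg (TensorProduct.lid k A) h1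
    rw [map_sum] at h2
    simp only [TensorProduct.lid_tmul, one_smul] at h2
    rw [← h2]
    refine Submodule.sum_mem _ fun i _ => Submodule.smul_mem _ _ ?_
    exact Submodule.mem_iSup_of_mem (D.wt j) (entry_mem_Cfilt D hD i j _ (by omega))
  have hx : (⟨x, mem_RCV x⟩ : W) ∈ Submodule.span k (Set.range w) := by
    rw [hspan]; trivial
  have h3 : Submodule.span k (Set.range w) ≤ (⨆ r, Cfilt k A r).comap W.subtype := by
    refine Submodule.span_le.2 ?_
    rintro _ ⟨j, rfl⟩
    exact hmem j
  exact h3 hx

/-- **a unipotent bialgebra is coconnected.** -/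
theorem isCoconnFilt_Cfilt (hU : HopfRep.IsUnipotent k A) : IsCoconnFilt (Cfilt k A) where
  mono := Cfilt_mono
  zero := Cfilt_zero
  top := Cfilt_top hU
  comul := Cfilt_comul

end FiltTop

end Groth.Agent.Lib.helper15.TriData
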