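import Mathlib
import Groth.Prelude.Def_HopfRep
import Groth.Agent.Lib.Helper15.TriData

/-!
# The conilpotency filtration of a bialgebra and specialisation of unipotence (helper15)

For a commutative bialgebra `H` over a commutative ring `R`:
* `eProj a = a - ε(a)`, `redComul = (e ⊗ e) ∘ Δ` (the reduced comultiplication),
* `Pfilt R H n`: `P 0 = R·1`, `P (n+1) = {a | redComul a ∈ P n ⊗ H}`.

Over a field, `H` is unipotent iff `⨆ n, Pfilt n = ⊤`.  The filtration is compatible with base change
(`map_Pfilt`), and for a flat `H` over a domain `R` with fraction field `K` it is the restriction of the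
filtration of `K ⊗ H` (`mem_Pfilt_of_includeRight_mem`).  Hence unipotence of the generic fibre implies
unipotence of every fibre (`isUnipotent_fibre_of_generic`).
-/

set_option autoImplicit false
universe u v w
open TensorProduct

namespace Groth.Agent.Lib.helper15.Conilp

open Groth.Agent.Lib.helper15.HopfSub Groth.Agent.Lib.helper15.ComodFin
  Groth.Agent.Lib.helper15.ComodOps Groth.Agent.Lib.helper15.Coconn
  Groth.Agent.Lib.helper15.TriData

section Defs

variable (R : Type u) [CommRing R] (H : Type v) [CommRing H] [Bialgebra R H]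

/-- the unit composed with the counit. -/
noncomputable def ηε : H →ₗ[R] H :=
  (Algebra.linearMap R H) ∘ₗ (Coalgebra.counit (R := R) (A := H))

lemma ηε_apply (a : H) : ηε R H a = algebraMap R H (Coalgebra.counit (R := R) a) := rfl

/-- the projection onto the augmentation ideal. -/
noncomputable def eProj : H →ₗ[R] H := LinearMap.id - ηε R H

lemma eProj_apply (a : H) :
    eProj R H a = a - algebraMap R H (Coalgebra.counit (R := R) a) := rfl

lemma eProj_one : eProj R H 1 = 0 := by
  rw [eProj_apply, Bialgebra.counit_one, map_one, sub_self]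

/-- the reduced comultiplication `(e ⊗ e) ∘ Δ`. -/
noncomputable def redComul : H →ₗ[R] H ⊗[R] H :=
  TensorProduct.map (eProj R H) (eProj R H) ∘ₗ Coalgebra.comul

lemma map_eProj (t : H ⊗[R] H) :
    TensorProduct.map (eProj R H) (eProj R H) t =
      t - (ηε R H).lTensor H t - (ηε R H).rTensor H t +
        TensorProduct.map (ηε R H) (ηε R H) t := by
  induction t with
  | zero => simp
  | add x y hx hy => simp only [map_add, hx, hy]; abel
  | tmul x y =>
    simp only [TensorProduct.map_tmul, LinearMap.lTensor_tmul, LinearMap.rTensor_tmul, eProj,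
      LinearMap.sub_apply, LinearMap.id_apply, TensorProduct.sub_tmul, TensorProduct.tmul_sub]
    abel

lemma redComul_apply (a : H) :
    redComul R H a = Coalgebra.comul (R := R) a - a ⊗ₜ[R] (1 : H) - (1 : H) ⊗ₜ[R] a +
      Coalgebra.counit (R := R) a • ((1 : H) ⊗ₜ[R] (1 : H)) := by
  have h1 : (ηε R H).lTensor H (Coalgebra.comul (R := R) a) = a ⊗ₜ[R] (1 : H) := by
    have h := Coalgebra.lTensor_counit_comul (R := R) a
    have h2 : (ηε R H).lTensor H = (Algebra.linearMap R H).lTensor H ∘ₗ
        (Coalgebra.counit (R := R) (A := H)).lTensor H := by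
      rw [ηε, LinearMap.lTensor_comp]
    rw [h2, LinearMap.comp_apply, h, LinearMap.lTensor_tmul, Algebra.linearMap_apply, map_one]
  have h2 : (ηε R H).rTensor H (Coalgebra.comul (R := R) a) = (1 : H) ⊗ₜ[R] a := by
    have h := Coalgebra.rTensor_counit_comul (R := R) a
    have h2 : (ηε R H).rTensor H = (Algebra.linearMap R H).rTensor H ∘ₗ
        (Coalgebra.counit (R := R) (A := H)).rTensor H := by
      rw [ηε, LinearMap.rTensor_comp]
    rw [h2, LinearMap.comp_apply, h, LinearMap.rTensor_tmul, Algebra.linearMap_apply, map_one]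
  have h3 : TensorProduct.map (ηε R H) (ηε R H) (Coalgebra.comul (R := R) a) =
      Coalgebra.counit (R := R) a • ((1 : H) ⊗ₜ[R] (1 : H)) := by
    have h4 : TensorProduct.map (ηε R H) (ηε R H) =
        (ηε R H).rTensor H ∘ₗ (ηε R H).lTensor H := by
      rw [LinearMap.rTensor, LinearMap.lTensor, ← TensorProduct.map_comp, LinearMap.comp_id,
        LinearMap.id_comp]
    rw [h4, LinearMap.comp_apply, h1, LinearMap.rTensor_tmul, ηε_apply,
      Algebra.algebraMap_eq_smul_one, TensorProduct.smul_tmul']
  rw [redComul, LinearMap.comp_apply, map_eProj, h1, h2, h3]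

/-- the conilpotency filtration. -/
noncomputable def Pfilt : ℕ → Submodule R H
  | 0 => Submodule.span R {(1 : H)}
  | n + 1 => (LinearMap.range ((Pfilt n).subtype.rTensor H)).comap (redComul R H)

lemma Pfilt_zero : Pfilt R H 0 = Submodule.span R {(1 : H)} := rfl

lemma mem_Pfilt_succ (n : ℕ) (a : H) :
    a ∈ Pfilt R H (n + 1) ↔ redComul R H a ∈ LinearMap.range ((Pfilt R H n).subtype.rTensor H) :=
  Iff.rfl

lemma one_mem_Pfilt (n : ℕ) : (1 : H) ∈ Pfilt R H n := by
  cases n with
  | zero => exact Submodule.subset_span rfl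
  | succ n =>
    rw [mem_Pfilt_succ, redComul, LinearMap.comp_apply, Bialgebra.comul_one,
      Algebra.TensorProduct.one_def, TensorProduct.map_tmul, eProj_one, TensorProduct.zero_tmul]
    exact zero_mem _

lemma Pfilt_le_succ (n : ℕ) : Pfilt R H n ≤ Pfilt R H (n + 1) := by
  induction n with
  | zero =>
    rw [Pfilt_zero]
    refine Submodule.span_le.2 ?_
    rintro _ rfl
    exact one_mem_Pfilt R H 1
  | succ n ih =>
    intro a ha
    rw [mem_Pfilt_succ] at ha ⊢
    obtain ⟨t, ht⟩ := ha
    refine ⟨(Submodule.inclusion ih).rTensor H t, ?_⟩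
    rw [← ht, ← LinearMap.comp_apply, ← LinearMap.rTensor_comp]
    rfl

lemma Pfilt_mono : Monotone (Pfilt R H) := monotone_nat_of_le_succ (Pfilt_le_succ R H)

end Defs

section Field

variable {k : Type u} [Field k] {A : Type v} [CommRing A] [Bialgebra k A]

local notation "Δ" => Coalgebra.comul (R := k) (A := A)

/-- slices of the reduced comultiplication. -/
lemma slR_rTensor_mem (P : Submodule k A) (φ : Module.Dual k A) (t : P ⊗[k] A) :
    slR φ (P.subtype.rTensor A t) ∈ P := by
  induction t with
  | zero => simp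
  | add x y hx hy => rw [map_add, map_add]; exact add_mem hx hy
  | tmul p y =>
    rw [LinearMap.rTensor_tmul, slR_tmul]
    exact Submodule.smul_mem _ _ p.2

/-- the slice property of the conilpotency filtration. -/
lemma slR_comul_mem_Pfilt (r : ℕ) (a : A) (ha : a ∈ Pfilt k A (r + 1)) (φ : Module.Dual k A)
    (hφ : φ 1 = 0) : slR φ (Δ a) ∈ Pfilt k A r := by
  have h1 := redComul_apply k A a
  have h2 : Δ a = redComul k A a + a ⊗ₜ[k] (1 : A) + (1 : A) ⊗ₜ[k] a -
      Coalgebra.counit (R := k) a • ((1 : A) ⊗ₜ[k] (1 : A)) := by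
    rw [h1]; abel
  rw [h2, map_sub, map_add, map_add, map_smul, slR_tmul, slR_tmul, slR_tmul, hφ, zero_smul,
    add_zero, zero_smul, smul_zero, sub_zero]
  obtain ⟨t, ht⟩ := (mem_Pfilt_succ k A r a).1 ha
  rw [← ht]
  refine add_mem (slR_rTensor_mem _ φ t) (Submodule.smul_mem _ _ (one_mem_Pfilt k A r))

/-- the coradical-type filtration of a unipotent bialgebra lies in the conilpotency filtration. -/
lemma Cfilt_le_Pfilt (hU : HopfRep.IsUnipotent k A) : ∀ n, Cfilt k A n ≤ Pfilt k A n := by
  have hC := isCoconnFilt_Cfilt hU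
  intro n
  induction n with
  | zero => rw [hC.zero, Pfilt_zero]
  | succ n ih =>
    intro a ha
    rw [mem_Pfilt_succ, redComul, LinearMap.comp_apply]
    have h1 : Δ a ∈ ⨆ i ∈ Finset.range (n + 1 + 1),
        LinearMap.range (TensorProduct.mapIncl (Cfilt k A i) (Cfilt k A (n + 1 - i))) :=
      hC.comul (n + 1) ⟨a, ha, rfl⟩
    have h2 : (⨆ i ∈ Finset.range (n + 1 + 1),
        LinearMap.range (TensorProduct.mapIncl (Cfilt k A i) (Cfilt k A (n + 1 - i)))) ≤
        (LinearMap.range ((Pfilt k A n).subtype.rTensor A)).comap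
          (TensorProduct.map (eProj k A) (eProj k A)) := by
      refine iSup₂_le fun i hi => ?_
      rintro _ ⟨t, rfl⟩
      rw [Submodule.mem_comap]
      induction t with
      | zero => simp
      | add x y hx hy => rw [map_add, map_add]; exact add_mem hx hy
      | tmul x y =>
        rw [TensorProduct.mapIncl, TensorProduct.map_tmul, TensorProduct.map_tmul]
        rw [Finset.mem_range] at hi
        have hzero : ∀ z : A, z ∈ Cfilt k A 0 → eProj k A z = 0 := by
          intro z hz
          rw [hC.zero, Submodule.mem_span_singleton] at hz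
          obtain ⟨c, rfl⟩ := hz
          rw [map_smul, eProj_one, smul_zero]
        by_cases hi0 : i = 0
        · subst hi0
          rw [Submodule.subtype_apply, hzero _ x.2, TensorProduct.zero_tmul]
          exact zero_mem _
        by_cases hir : i = n + 1
        · have h0 : n + 1 - i ≤ 0 := by omega
          have hy : (y : A) ∈ Cfilt k A 0 := hC.mono h0 y.2
          rw [Submodule.subtype_apply, Submodule.subtype_apply, hzero _ hy,
            TensorProduct.tmul_zero]
          exact zero_mem _
        · have hle : i ≤ n := by omega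
          have hx : eProj k A (x : A) ∈ Pfilt k A n := by
            rw [eProj_apply, Algebra.algebraMap_eq_smul_one]
            refine sub_mem (ih (hC.mono hle x.2)) ?_
            exact Submodule.smul_mem _ _ (one_mem_Pfilt k A n)
          exact ⟨(⟨eProj k A (x : A), hx⟩ : Pfilt k A n) ⊗ₜ[k] eProj k A (y : A), rfl⟩
    exact h2 h1

lemma Pfilt_top_of_isUnipotent (hU : HopfRep.IsUnipotent k A) : (⨆ n, Pfilt k A n) = ⊤ := by
  rw [eq_top_iff, ← (isCoconnFilt_Cfilt hU).top]
  exact iSup_mono (Cfilt_le_Pfilt hU)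

variable {V : Type*} [AddCommGroup V] [Module k V] [HopfRep.Comod k A V]

local notation "ρ" => HopfRep.Comod.coact (k := k) (A := A) (V := V)

lemma exists_mem_Vr_Pfilt (htop : (⨆ n, Pfilt k A n) = ⊤) (v : V) :
    ∃ r, v ∈ Vr (V := V) (Pfilt k A) r := by
  have key : ∀ t : V ⊗[k] A, ∃ r, ∀ ψ : Module.Dual k V, LieInv.slL ψ t ∈ Pfilt k A r := by
    intro t
    induction t with
    | zero => exact ⟨0, fun ψ => by simp⟩
    | add x y hx hy =>
      obtain ⟨r, hr⟩ := hx
      obtain ⟨s, hs⟩ := hy
      refine ⟨max r s, fun ψ => ?_⟩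
      rw [map_add]
      exact add_mem (Pfilt_mono k A (le_max_left r s) (hr ψ))
        (Pfilt_mono k A (le_max_right r s) (hs ψ))
    | tmul y a =>
      have ha : a ∈ ⨆ r, Pfilt k A r := by rw [htop]; trivial
      obtain ⟨r, hr⟩ := (Submodule.mem_iSup_of_directed _ (Pfilt_mono k A).directed_le).1 ha
      refine ⟨r, fun ψ => ?_⟩
      rw [LieInv.slL_tmul]
      exact Submodule.smul_mem _ _ hr
  obtain ⟨r, hr⟩ := key (ρ v)
  exact ⟨r, (mem_Vr r v).2 hr⟩

/-- **a conilpotent bialgebra is unipotent**. -/
theorem fixedPts_ne_bot_of_Pfilt_top (htop : (⨆ n, Pfilt k A n) = ⊤) [Nontrivial V] :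
    HopfRep.fixedPts k A V ≠ ⊥ := by
  classical
  obtain ⟨v0, hv0⟩ := exists_ne (0 : V)
  have hex : ∃ r, Vr (V := V) (Pfilt k A) r ≠ ⊥ := by
    obtain ⟨r, hr⟩ := exists_mem_Vr_Pfilt htop v0
    exact ⟨r, fun h => hv0 (by rw [h] at hr; exact (Submodule.mem_bot k).1 hr)⟩
  set r0 := Nat.find hex with hr0
  have hr0ne : Vr (V := V) (Pfilt k A) r0 ≠ ⊥ := Nat.find_spec hex
  obtain ⟨v, hv, hvne⟩ := Submodule.exists_mem_ne_zero_of_ne_bot hr0ne
  have hfix : v ∈ HopfRep.fixedPts k A V := by
    apply mem_fixedPts_of_coef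
    intro ψ
    rw [← Pfilt_zero]
    rcases Nat.eq_zero_or_pos r0 with h0 | hpos
    · have := (mem_Vr r0 v).1 hv ψ
      rwa [h0] at this
    · obtain ⟨r, hr⟩ : ∃ r, r0 = r + 1 := ⟨r0 - 1, by omega⟩
      have hmin : Vr (V := V) (Pfilt k A) r = ⊥ := by
        by_contra hne
        have := Nat.find_min' hex hne
        omega
      have hw : ∀ φ : Module.Dual k A, φ 1 = 0 → slV φ (ρ v) = 0 := by
        intro φ hφ
        have hmem : slV φ (ρ v) ∈ Vr (V := V) (Pfilt k A) r := by
          rw [mem_Vr]
          intro ψ'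
          rw [coef_slV]
          apply slR_comul_mem_Pfilt r _ _ φ hφ
          have := (mem_Vr r0 v).1 hv ψ'
          rwa [hr] at this
        rw [hmin] at hmem
        exact (Submodule.mem_bot k).1 hmem
      by_contra hnot
      rw [Pfilt_zero] at hnot
      obtain ⟨φ, hφ1, hφ2⟩ := Submodule.exists_dual_map_eq_bot_of_notMem hnot inferInstance
      have hφ0 : φ 1 = 0 := by
        have : φ 1 ∈ Submodule.map φ (Submodule.span k {(1 : A)}) :=
          ⟨1, Submodule.subset_span rfl, rfl⟩
        rw [hφ2] at this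
        exact (Submodule.mem_bot k).1 this
      apply hφ1
      rw [slice_comm, hw φ hφ0, map_zero]
  intro hbot
  rw [hbot] at hfix
  exact hvne ((Submodule.mem_bot k).1 hfix)

theorem isUnipotent_of_Pfilt_top (htop : (⨆ n, Pfilt k A n) = ⊤) : HopfRep.IsUnipotent k A := by
  intro V _ _ _ _ hnt
  exact fixedPts_ne_bot_of_Pfilt_top htop

end Field

section BaseChange

variable {R : Type u} [CommRing R] {R' : Type v} [CommRing R'] [Algebra R R']
  {H : Type w} [CommRing H] [Bialgebra R H]
  {H' : Type*} [CommRing H'] [Bialgebra R' H'] [Algebra R H'] [IsScalarTower R R' H']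
  (f : H →ₐ[R] H')

/-- `x ⊗ y ↦ f x ⊗ f y`. -/
noncomputable def jmap : H ⊗[R] H →ₗ[R] H' ⊗[R'] H' :=
  (TensorProduct.mapOfCompatibleSMul R' R R H' H') ∘ₗ
    TensorProduct.map f.toLinearMap f.toLinearMap

lemma jmap_tmul (x y : H) : jmap (R' := R') f (x ⊗ₜ[R] y) = f x ⊗ₜ[R'] f y := rfl

/-- a semilinear bialgebra map. -/
structure IsSemiBialg : Prop where
  counit : ∀ h, Coalgebra.counit (R := R') (f h) = algebraMap R R' (Coalgebra.counit (R := R) h)
  comul : ∀ h, Coalgebra.comul (R := R') (f h) = jmap (R' := R') f (Coalgebra.comul (R := R) h)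

variable {f}

lemma redComul_map (hf : IsSemiBialg (R' := R') f) (h : H) :
    redComul R' H' (f h) = jmap (R' := R') f (redComul R H h) := by
  rw [redComul_apply, redComul_apply, hf.counit, hf.comul, map_add, map_sub, map_sub, map_smul,
    jmap_tmul, jmap_tmul, jmap_tmul, map_one, algebraMap_smul]

lemma map_Pfilt (hf : IsSemiBialg (R' := R') f) :
    ∀ n, ∀ h ∈ Pfilt R H n, f h ∈ Pfilt R' H' n := by
  intro n
  induction n with
  | zero =>
    intro h hh
    rw [Pfilt_zero, Submodule.mem_span_singleton] at hh ⊢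
    obtain ⟨c, rfl⟩ := hh
    exact ⟨algebraMap R R' c, by rw [map_smul, map_one, algebraMap_smul]⟩
  | succ n ih =>
    intro h hh
    rw [mem_Pfilt_succ] at hh ⊢
    obtain ⟨t, ht⟩ := hh
    rw [redComul_map hf, ← ht]
    clear ht
    induction t with
    | zero => simp
    | add x y hx hy => rw [map_add, map_add]; exact add_mem hx hy
    | tmul p y =>
      rw [LinearMap.rTensor_tmul, jmap_tmul]
      exact ⟨(⟨f p.1, ih _ p.2⟩ : Pfilt R' H' n) ⊗ₜ[R'] f y, rfl⟩

end BaseChange

section IncludeRight

variable {R : Type u} [CommRing R] (R' : Type v) [CommRing R'] [Algebra R R']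
  {H : Type w} [CommRing H] [Bialgebra R H]

lemma isSemiBialg_includeRight :
    IsSemiBialg (R' := R') (Algebra.TensorProduct.includeRight : H →ₐ[R] R' ⊗[R] H) where
  counit := by
    intro h
    rw [Algebra.TensorProduct.includeRight_apply, TensorProduct.counit_tmul,
      CommSemiring.counit_apply, Algebra.algebraMap_eq_smul_one]
  comul := by
    intro h
    rw [Algebra.TensorProduct.includeRight_apply, TensorProduct.comul_tmul,
      CommSemiring.comul_apply]
    generalize Coalgebra.comul (R := R) h = t
    induction t with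
    | zero => simp
    | add x y hx hy => rw [TensorProduct.tmul_add, map_add, map_add, hx, hy]
    | tmul x y =>
      rw [TensorProduct.AlgebraTensorModule.tensorTensorTensorComm_tmul, jmap_tmul]
      rfl

end IncludeRight

section Generic

variable {R : Type u} [CommRing R] (K : Type v) [Field K] [Algebra R K]
  [IsFractionRing R K] {H : Type w} [CommRing H] [Bialgebra R H] [Module.Flat R H]

/-- `M ⊗[R] N → M ⊗[K] N` is injective for modules over the fraction field. -/
lemma mapOfCompatibleSMul_injective (M N : Type*) [AddCommGroup M] [AddCommGroup N]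
    [Module R M] [Module R N] [Module K M] [Module K N] [IsScalarTower R K M]
    [IsScalarTower R K N] :
    Function.Injective (TensorProduct.mapOfCompatibleSMul K R R M N) := by
  have := IsLocalization.tensorProduct_compatibleSMul (nonZeroDivisors R) K M N
  exact (TensorProduct.equivOfCompatibleSMul K R R M N).injective

lemma includeRight_injective :
    Function.Injective (Algebra.TensorProduct.includeRight : H →ₐ[R] K ⊗[R] H) :=
  Algebra.TensorProduct.includeRight_injective (IsFractionRing.injective R K)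

/-- **the conilpotency filtration of a flat bialgebra over a domain is the restriction of that of
its generic fibre.** -/
theorem mem_Pfilt_of_includeRight_mem : ∀ (n : ℕ) (h : H),
    (Algebra.TensorProduct.includeRight : H →ₐ[R] K ⊗[R] H) h ∈ Pfilt K (K ⊗[R] H) n →
      h ∈ Pfilt R H n := by
  have hsb := isSemiBialg_includeRight (R := R) K (H := H)
  set ι : H →ₐ[R] K ⊗[R] H := Algebra.TensorProduct.includeRight with hι
  have hιinj : Function.Injective ι := includeRight_injective K
  intro n
  induction n with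
  | zero =>
    intro h hh
    rw [Pfilt_zero, Submodule.mem_span_singleton] at hh ⊢
    obtain ⟨c, hc⟩ := hh
    have h1 := congrArg (Coalgebra.counit (R := K)) hc
    rw [map_smul, Bialgebra.counit_one, smul_eq_mul, mul_one, hsb.counit] at h1
    refine ⟨Coalgebra.counit (R := R) h, ?_⟩
    apply hιinj
    rw [map_smul, map_one, ← hc, h1, algebraMap_smul]
  | succ n ih =>
    intro h hh
    rw [mem_Pfilt_succ] at hh ⊢
    set F := Pfilt R H n with hF
    set P := Pfilt K (K ⊗[R] H) n with hP
    -- the induced map on quotients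
    have hle : F ≤ LinearMap.ker ((P.mkQ.restrictScalars R) ∘ₗ ι.toLinearMap) := by
      intro x hx
      rw [LinearMap.mem_ker, LinearMap.comp_apply]
      exact (Submodule.Quotient.mk_eq_zero P).2 (map_Pfilt hsb n x hx)
    set ιbar : H ⧸ F →ₗ[R] (K ⊗[R] H) ⧸ P :=
      F.liftQ ((P.mkQ.restrictScalars R) ∘ₗ ι.toLinearMap) hle with hιbar
    have hιbar_inj : Function.Injective ιbar := by
      rw [← LinearMap.ker_eq_bot]
      apply Submodule.ker_liftQ_eq_bot
      intro x hx
      rw [LinearMap.mem_ker, LinearMap.comp_apply] at hx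
      exact ih x ((Submodule.Quotient.mk_eq_zero P).1 hx)
    -- `Θ`
    set Θ : (H ⧸ F) ⊗[R] H →ₗ[R] ((K ⊗[R] H) ⧸ P) ⊗[K] (K ⊗[R] H) :=
      (TensorProduct.mapOfCompatibleSMul K R R ((K ⊗[R] H) ⧸ P) (K ⊗[R] H)) ∘ₗ
        TensorProduct.map ιbar ι.toLinearMap with hΘ
    have hΘinj : Function.Injective Θ := by
      have h1 : Function.Injective (ιbar.rTensor H) :=
        Module.Flat.rTensor_preserves_injective_linearMap ιbar hιbar_inj
      have : Module.Flat R K := IsLocalization.flat K (nonZeroDivisors R)
      have : Module.Flat R ((K ⊗[R] H) ⧸ P) := Module.Flat.trans R K _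
      have h2 : Function.Injective (ι.toLinearMap.lTensor ((K ⊗[R] H) ⧸ P)) :=
        Module.Flat.lTensor_preserves_injective_linearMap ι.toLinearMap hιinj
      have h3 : TensorProduct.map ιbar ι.toLinearMap =
          (ι.toLinearMap.lTensor ((K ⊗[R] H) ⧸ P)) ∘ₗ (ιbar.rTensor H) := by
        rw [LinearMap.lTensor, LinearMap.rTensor, ← TensorProduct.map_comp, LinearMap.id_comp,
          LinearMap.comp_id]
      rw [hΘ, h3, LinearMap.coe_comp, LinearMap.coe_comp]
      exact (mapOfCompatibleSMul_injective K _ _).comp (h2.comp h1)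
    -- commutation
    have hcomm : ∀ t : H ⊗[R] H, Θ (F.mkQ.rTensor H t) =
        P.mkQ.rTensor (K ⊗[R] H) (jmap (R' := K) ι t) := by
      intro t
      induction t with
      | zero => simp
      | add x y hx hy => simp only [map_add, hx, hy]
      | tmul x y => rfl
    -- conclusion
    have hex : Function.Exact (F.subtype.rTensor H) (F.mkQ.rTensor H) :=
      rTensor_exact H (LinearMap.exact_subtype_mkQ F) (Submodule.mkQ_surjective F)
    apply (hex _).1
    apply hΘinj
    rw [map_zero, hcomm, ← redComul_map hsb]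
    obtain ⟨t, ht⟩ := hh
    rw [← ht, ← LinearMap.comp_apply, ← LinearMap.rTensor_comp]
    have h0 : P.mkQ ∘ₗ P.subtype = 0 := by
      ext x
      exact (Submodule.Quotient.mk_eq_zero P).2 x.2
    rw [h0, LinearMap.rTensor_zero, LinearMap.zero_apply]

/-- **specialisation of unipotence**: if the generic fibre of a flat bialgebra over a domain is
unipotent then so is every fibre. -/
theorem isUnipotent_fibre_of_generic (κ : Type*) [Field κ] [Algebra R κ]
    (hK : HopfRep.IsUnipotent K (K ⊗[R] H)) : HopfRep.IsUnipotent κ (κ ⊗[R] H) := by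
  apply isUnipotent_of_Pfilt_top
  have htopK := Pfilt_top_of_isUnipotent hK
  have hR : ∀ h : H, ∃ n, h ∈ Pfilt R H n := by
    intro h
    have h1 : (Algebra.TensorProduct.includeRight : H →ₐ[R] K ⊗[R] H) h ∈
        ⨆ n, Pfilt K (K ⊗[R] H) n := by rw [htopK]; trivial
    obtain ⟨n, hn⟩ := (Submodule.mem_iSup_of_directed _
      (Pfilt_mono K (K ⊗[R] H)).directed_le).1 h1
    exact ⟨n, mem_Pfilt_of_includeRight_mem K n h hn⟩
  rw [eq_top_iff]
  rintro x -
  induction x with
  | zero => exact zero_mem _
  | add x y hx hy => exact add_mem hx hy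
  | tmul c h =>
    obtain ⟨n, hn⟩ := hR h
    have h1 := map_Pfilt (isSemiBialg_includeRight (R := R) κ (H := H)) n h hn
    have h2 : c ⊗ₜ[R] h = c • ((Algebra.TensorProduct.includeRight : H →ₐ[R] κ ⊗[R] H) h) := by
      rw [Algebra.TensorProduct.includeRight_apply, TensorProduct.smul_tmul', smul_eq_mul, mul_one]
    rw [h2]
    exact Submodule.smul_mem _ _ (Submodule.mem_iSup_of_mem n h1)

end Generic

end Groth.Agent.Lib.helper15.Conilp
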