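import Mathlib
import Groth.Agent.Lib.Helper15.Conilp

/-!
# Descent of cocommutativity along injective / localization base changes (helper15)

For an `R`-bialgebra `A` and an `R`-algebra `S`: if `S ⊗[R] A` is cocommutative over `S`, then
`1 ⊗ (Δ a - τ Δ a) = 0` in `S ⊗ (A ⊗ A)`.  Hence cocommutativity descends along injective ring maps
(for flat `A`) and can be checked after localizing at all maximal ideals.
-/

set_option autoImplicit false
set_option linter.style.haveILetI false
set_option linter.unusedSectionVars false
universe u v w
open TensorProduct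

namespace Groth.Agent.Lib.helper15.CocommDescent

open Groth.Agent.Lib.helper15.Conilp

section Jmap

variable (R : Type u) [CommRing R] (A : Type v) [CommRing A] [Bialgebra R A]
  (S : Type w) [CommRing S] [Algebra R S]

local notation "ι" => (Algebra.TensorProduct.includeRight : A →ₐ[R] S ⊗[R] A)

lemma jmap_eq (t : A ⊗[R] A) :
    jmap (R' := S) ι t =
      TensorProduct.AlgebraTensorModule.distribBaseChange R S A A ((1 : S) ⊗ₜ[R] t) := by
  induction t with
  | zero => simp
  | add x y hx hy => rw [map_add, hx, hy, TensorProduct.tmul_add, map_add]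
  | tmul x y =>
    rw [jmap_tmul, TensorProduct.AlgebraTensorModule.distribBaseChange_tmul]
    rfl

lemma jmap_comm (t : A ⊗[R] A) :
    TensorProduct.comm S (S ⊗[R] A) (S ⊗[R] A) (jmap (R' := S) ι t) =
      jmap (R' := S) ι (TensorProduct.comm R A A t) := by
  induction t with
  | zero => simp
  | add x y hx hy => rw [map_add, map_add, hx, hy, map_add, map_add]
  | tmul x y => rfl

/-- if the base change is cocommutative, then `Δ a` and `τ Δ a` agree after base change. -/
theorem one_tmul_comm_comul [Coalgebra.IsCocomm S (S ⊗[R] A)] (a : A) :
    (1 : S) ⊗ₜ[R] (TensorProduct.comm R A A (Coalgebra.comul (R := R) a)) =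
      (1 : S) ⊗ₜ[R] (Coalgebra.comul (R := R) a) := by
  apply (TensorProduct.AlgebraTensorModule.distribBaseChange R S A A).injective
  rw [← jmap_eq, ← jmap_eq, ← jmap_comm]
  have h1 := (isSemiBialg_includeRight (R := R) S (H := A)).comul a
  rw [← h1]
  exact Coalgebra.comm_comul (R := S) _

/-- cocommutativity descends along an injective ring map, for a flat bialgebra. -/
theorem isCocomm_of_injective [Module.Flat R A] (hinj : Function.Injective (algebraMap R S))
    [Coalgebra.IsCocomm S (S ⊗[R] A)] : Coalgebra.IsCocomm R A := by
  constructor
  ext a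
  rw [LinearMap.comp_apply, LinearEquiv.coe_coe]
  exact Algebra.TensorProduct.includeRight_injective (A := S) (B := A ⊗[R] A) hinj
    (one_tmul_comm_comul R A S a)

/-- cocommutativity can be checked after localizing at every maximal ideal. -/
theorem isCocomm_of_localization
    (h : ∀ (P : Ideal R) [P.IsMaximal],
      Coalgebra.IsCocomm (Localization.AtPrime P) (Localization.AtPrime P ⊗[R] A)) :
    Coalgebra.IsCocomm R A := by
  constructor
  ext a
  rw [LinearMap.comp_apply, LinearEquiv.coe_coe]
  refine Module.eq_of_localization_maximal
    (fun P _ => Localization.AtPrime P ⊗[R] (A ⊗[R] A))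
    (fun P _ => TensorProduct.mk R (Localization.AtPrime P) (A ⊗[R] A) 1) _ _ ?_
  intro P hP
  haveI := h P
  exact one_tmul_comm_comul R A (Localization.AtPrime P) a

end Jmap

end Groth.Agent.Lib.helper15.CocommDescent
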