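import Mathlib

/-!
# Homomorphisms into diagonalisable groups modulo a nilpotent ideal (helper15)
-/

set_option autoImplicit false

namespace Groth.Agent.Lib.helper15.MultType

open TensorProduct WithConv

section Core

variable {R : Type*} [CommRing R] {M : Type*} [Monoid M]

/-- the coefficient functional -/
noncomputable def coeffAt (m : M) : MonoidAlgebra R M →ₗ[R] R :=
  (Finsupp.lapply m) ∘ₗ (MonoidAlgebra.coeffLinearEquiv R).toLinearMap

lemma coeffAt_apply (m : M) (x : MonoidAlgebra R M) : coeffAt m x = x.coeff m := rfl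

lemma mul'_map_coeffAt_comul [DecidableEq M] (m n : M) (x : MonoidAlgebra R M) :
    LinearMap.mul' R R (TensorProduct.map (coeffAt m) (coeffAt n) (Coalgebra.comul x)) =
      if m = n then x.coeff m else 0 := by
  induction x using MonoidAlgebra.induction_linear with
  | zero => simp
  | add x y hx hy =>
    rw [map_add, map_add, map_add, hx, hy, MonoidAlgebra.coeff_add, Finsupp.add_apply]
    split_ifs <;> simp
  | single l r =>
    rw [MonoidAlgebra.comul_single, CommSemiring.comul_apply, TensorProduct.map_tmul,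
      TensorProduct.map_tmul, LinearMap.mul'_apply, MonoidAlgebra.lsingle_apply,
      MonoidAlgebra.lsingle_apply, coeffAt_apply, coeffAt_apply, MonoidAlgebra.coeff_single,
      MonoidAlgebra.coeff_single, Finsupp.single_apply, Finsupp.single_apply]
    by_cases hmn : m = n
    · subst hmn
      by_cases hlm : l = m <;> simp [hlm]
    · by_cases hlm : l = m
      · subst hlm
        simp [hmn]
      · simp [hlm, hmn]

lemma counit_eq_sum (x : MonoidAlgebra R M) :
    Coalgebra.counit (R := R) x = x.coeff.sum fun _ r => r := by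
  induction x using MonoidAlgebra.induction_linear with
  | zero => simp
  | add x y hx hy =>
    rw [map_add, hx, hy, MonoidAlgebra.coeff_add, Finsupp.sum_add_index' (by simp) (by simp)]
  | single l r =>
    rw [MonoidAlgebra.counit_single, CommSemiring.counit_apply, MonoidAlgebra.coeff_single,
      Finsupp.sum_single_index rfl]

variable {C : Type*} [Semiring C] [Bialgebra R C]

/-- the components of a bialgebra map into a group algebra -/
noncomputable def comp (φ : C →ₐc[R] MonoidAlgebra R M) (m : M) : WithConv (C →ₗ[R] R) :=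
  toConv (coeffAt m ∘ₗ (φ : C →ₗ[R] MonoidAlgebra R M))

lemma comp_apply (φ : C →ₐc[R] MonoidAlgebra R M) (m : M) (c : C) :
    comp φ m c = (φ c).coeff m := rfl

lemma comp_mul_comp [DecidableEq M] (φ : C →ₐc[R] MonoidAlgebra R M) (m n : M) :
    comp φ m * comp φ n = if m = n then comp φ m else 0 := by
  ext c
  have h1 : Coalgebra.comul (R := R) (φ c) = TensorProduct.map (φ : C →ₗ[R] MonoidAlgebra R M)
      (φ : C →ₗ[R] MonoidAlgebra R M) (Coalgebra.comul c) :=
    (CoalgHomClass.map_comp_comul_apply φ c).symm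
  have h2 := mul'_map_coeffAt_comul m n (φ c)
  rw [h1, ← LinearMap.comp_apply (TensorProduct.map (coeffAt m) (coeffAt n)),
    ← TensorProduct.map_comp] at h2
  rw [LinearMap.convMul_apply]
  change LinearMap.mul' R R (TensorProduct.map (coeffAt m ∘ₗ (φ : C →ₗ[R] MonoidAlgebra R M))
    (coeffAt n ∘ₗ (φ : C →ₗ[R] MonoidAlgebra R M)) (Coalgebra.comul c)) = _
  rw [h2]
  split_ifs <;> rfl

end Core

section Nilp

variable {R : Type*} [CommRing R] {C : Type*} [Semiring C] [Bialgebra R C]

/-- If `g = g * h` in the convolution ring and `h` takes values in `I`, then `g` takes values in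
every power of `I`. -/
lemma conv_mem_pow (g h : WithConv (C →ₗ[R] R)) (hgh : g = g * h) (I : Ideal R)
    (hh : ∀ c, h c ∈ I) (k : ℕ) : ∀ c, g c ∈ I ^ k := by
  induction k with
  | zero => intro c; simp
  | succ k ih =>
    intro c
    rw [hgh, (Coalgebra.Repr.arbitrary R c).convMul_apply, pow_succ]
    exact Ideal.sum_mem _ fun i _ => Ideal.mul_mem_mul (ih _) (hh _)

lemma conv_eq_zero_of_nilpotent (g h : WithConv (C →ₗ[R] R)) (hgh : g = g * h) (I : Ideal R)
    (hI : IsNilpotent I) (hh : ∀ c, h c ∈ I) : g = 0 := by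
  obtain ⟨n, hn⟩ := hI
  ext c
  have := conv_mem_pow g h hgh I hh n c
  rw [hn] at this
  simpa using this

lemma mem_coeff_of_mem_smul_top {M : Type*} (I : Ideal R) {x : MonoidAlgebra R M}
    (hx : x ∈ I • (⊤ : Submodule R (MonoidAlgebra R M))) (m : M) : x.coeff m ∈ I := by
  refine Submodule.smul_induction_on (p := fun x => x.coeff m ∈ I) hx ?_ ?_
  · intro i hi y _
    have : (i • y).coeff m = i * y.coeff m := rfl
    rw [this]
    exact I.mul_mem_right _ hi
  · intro x y hx hy
    rw [MonoidAlgebra.coeff_add, Finsupp.add_apply]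
    exact I.add_mem hx hy

variable {M : Type*} [Monoid M]

/-- Core of S5240 in the diagonalisable case. -/
theorem eq_trivial_of_diag (I : Ideal R) (hI : IsNilpotent I) (φ : C →ₐc[R] MonoidAlgebra R M)
    (h0 : ∀ c : C, φ c - algebraMap R (MonoidAlgebra R M) (Coalgebra.counit c) ∈
      I • (⊤ : Submodule R (MonoidAlgebra R M))) (c : C) :
    φ c = algebraMap R (MonoidAlgebra R M) (Coalgebra.counit c) := by
  classical
  have hcomp : ∀ m : M, m ≠ 1 → comp φ m = 0 := by
    intro m hm
    refine conv_eq_zero_of_nilpotent _ (comp φ m) ?_ I hI ?_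
    · rw [comp_mul_comp, if_pos rfl]
    · intro c
      have h1 := mem_coeff_of_mem_smul_top I (h0 c) m
      rw [MonoidAlgebra.coeff_sub, Finsupp.sub_apply, MonoidAlgebra.coe_algebraMap,
        Function.comp_apply, MonoidAlgebra.coeff_single, Finsupp.single_apply,
        if_neg (Ne.symm hm), sub_zero] at h1
      exact h1
  have hcoeff : ∀ m : M, m ≠ 1 → (φ c).coeff m = 0 := by
    intro m hm
    have := congrArg (fun g : WithConv (C →ₗ[R] R) => g c) (hcomp m hm)
    simpa [comp_apply] using this
  have hsingle : φ c = MonoidAlgebra.single 1 ((φ c).coeff 1) := by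
    apply MonoidAlgebra.coeff_injective
    ext m
    rw [MonoidAlgebra.coeff_single, Finsupp.single_apply]
    by_cases hm : m = 1
    · subst hm; simp
    · rw [hcoeff m hm, if_neg (Ne.symm hm)]
  have hcounit : Coalgebra.counit (R := R) (φ c) = Coalgebra.counit (R := R) c :=
    CoalgHomClass.counit_comp_apply φ c
  rw [hsingle, MonoidAlgebra.counit_single, CommSemiring.counit_apply] at hcounit
  rw [hsingle, hcounit, MonoidAlgebra.coe_algebraMap]
  simp

/-- Core of S5241 in the diagonalisable case. -/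
theorem eq_of_diag [Coalgebra.IsCocomm R C] (I : Ideal R) (hI : IsNilpotent I)
    (φ ψ : C →ₐc[R] MonoidAlgebra R M)
    (h0 : ∀ c : C, φ c - ψ c ∈ I • (⊤ : Submodule R (MonoidAlgebra R M))) (c : C) :
    φ c = ψ c := by
  classical
  have hcomp : ∀ m : M, comp φ m = comp ψ m := by
    intro m
    have he : comp φ m * comp φ m = comp φ m := by rw [comp_mul_comp, if_pos rfl]
    have hf : comp ψ m * comp ψ m = comp ψ m := by rw [comp_mul_comp, if_pos rfl]
    set e := comp φ m
    set f := comp ψ m
    have hg : e - f = (e - f) * ((e - f) * (e - f)) := by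
      linear_combination (-(e + 1 - 3 * f)) * he + (-(3 * e - f - 1)) * hf
    have hmem : ∀ c, (e - f) c ∈ I := by
      intro c
      have h1 := mem_coeff_of_mem_smul_top I (h0 c) m
      rw [MonoidAlgebra.coeff_sub, Finsupp.sub_apply] at h1
      exact h1
    have := conv_eq_zero_of_nilpotent (e - f) ((e - f) * (e - f)) hg I hI (fun c => by
      rw [(Coalgebra.Repr.arbitrary R c).convMul_apply]
      exact Ideal.sum_mem _ fun i _ => I.mul_mem_left _ (hmem _))
    exact sub_eq_zero.mp this
  apply MonoidAlgebra.coeff_injective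
  ext m
  have := congrArg (fun g : WithConv (C →ₗ[R] R) => g c) (hcomp m)
  simpa [comp_apply] using this

end Nilp

section Plumbing

variable {R : Type*} [CommRing R] {A C : Type*} [CommRing A] [CommRing C] [Bialgebra R A]
  [Bialgebra R C]

/-- base change of a bialgebra map -/
noncomputable def bc (S : Type*) [CommRing S] [Algebra R S] (φ : C →ₐc[R] A) :
    S ⊗[R] C →ₐc[S] S ⊗[R] A :=
  Bialgebra.TensorProduct.map (BialgHom.id S S) φ

lemma bc_tmul (S : Type*) [CommRing S] [Algebra R S] (φ : C →ₐc[R] A) (s : S) (c : C) :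
    bc S φ (s ⊗ₜ c) = s ⊗ₜ φ c := rfl

lemma tmul_mem_smul_top (S : Type*) [CommRing S] [Algebra R S] (I : Ideal R) {N : Type*}
    [AddCommGroup N] [Module R N] {x : N} (hx : x ∈ I • (⊤ : Submodule R N)) (s : S) :
    s ⊗ₜ[R] x ∈ (I.map (algebraMap R S)) • (⊤ : Submodule S (S ⊗[R] N)) := by
  refine Submodule.smul_induction_on
    (p := fun x => s ⊗ₜ[R] x ∈ (I.map (algebraMap R S)) • (⊤ : Submodule S (S ⊗[R] N))) hx ?_ ?_
  · intro i hi y _
    have : s ⊗ₜ[R] (i • y) = (algebraMap R S i) • (s ⊗ₜ[R] y) := by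
      rw [TensorProduct.tmul_smul, TensorProduct.smul_tmul', TensorProduct.smul_tmul',
        Algebra.smul_def, smul_eq_mul]
    rw [this]
    exact Submodule.smul_mem_smul (Ideal.mem_map_of_mem _ hi) Submodule.mem_top
  · intro x y hx hy
    rw [TensorProduct.tmul_add]
    exact add_mem hx hy

lemma bc_sub_mem (S : Type*) [CommRing S] [Algebra R S] (I : Ideal R) (φ ψ : C →ₐc[R] A)
    (h : ∀ c, φ c - ψ c ∈ I • (⊤ : Submodule R A)) (c' : S ⊗[R] C) :
    bc S φ c' - bc S ψ c' ∈ (I.map (algebraMap R S)) • (⊤ : Submodule S (S ⊗[R] A)) := by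
  induction c' using TensorProduct.induction_on with
  | zero => simp
  | tmul s c =>
    rw [bc_tmul, bc_tmul, ← TensorProduct.tmul_sub]
    exact tmul_mem_smul_top S I (h c) s
  | add x y hx hy =>
    have : bc S φ (x + y) - bc S ψ (x + y) =
        (bc S φ x - bc S ψ x) + (bc S φ y - bc S ψ y) := by
      rw [map_add, map_add]; ring
    rw [this]
    exact add_mem hx hy

lemma equiv_sub_mem {B : Type*} [CommRing B] [Bialgebra R B] (e : A ≃ₐc[R] B) (I : Ideal R)
    {x : A} (hx : x ∈ I • (⊤ : Submodule R A)) : e x ∈ I • (⊤ : Submodule R B) := by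
  refine Submodule.smul_induction_on (p := fun x => e x ∈ I • (⊤ : Submodule R B)) hx ?_ ?_
  · intro i hi y _
    rw [map_smul]
    exact Submodule.smul_mem_smul hi Submodule.mem_top
  · intro x y hx hy
    rw [map_add]
    exact add_mem hx hy

lemma isNilpotent_map {S : Type*} [CommRing S] [Algebra R S] {I : Ideal R} (hI : IsNilpotent I) :
    IsNilpotent (I.map (algebraMap R S)) := by
  obtain ⟨n, hn⟩ := hI
  refine ⟨n, ?_⟩
  rw [← Ideal.map_pow, hn]
  exact Ideal.map_bot

lemma eq_zero_of_localization {N : Type*} [AddCommGroup N] [Module R N] (s : Set R)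
    (hs : Ideal.span s = ⊤) (x : N)
    (h : ∀ f ∈ s, (1 : Localization.Away f) ⊗ₜ[R] x = 0) : x = 0 := by
  by_contra hx
  have hann : (Submodule.span R {x}).annihilator ≠ ⊤ := by
    intro htop
    apply hx
    have : (1 : R) ∈ (Submodule.span R {x}).annihilator := htop ▸ Submodule.mem_top
    rw [Submodule.mem_annihilator_span_singleton] at this
    simpa using this
  obtain ⟨𝔪, h𝔪, hle⟩ := Ideal.exists_le_maximal _ hann
  have : ¬ s ⊆ 𝔪 := by
    intro hsub
    have : Ideal.span s ≤ 𝔪 := Ideal.span_le.mpr hsub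
    rw [hs] at this
    exact h𝔪.ne_top (top_le_iff.mp this)
  obtain ⟨f, hfs, hf𝔪⟩ := Set.not_subset.mp this
  have h1 := h f hfs
  have h2 : (TensorProduct.mk R (Localization.Away f) N 1) x = 0 := h1
  rw [IsLocalizedModule.eq_zero_iff (Submonoid.powers f)] at h2
  obtain ⟨⟨_, n, rfl⟩, hn⟩ := h2
  have h3 : f ^ n ∈ 𝔪 := by
    apply hle
    rw [Submodule.mem_annihilator_span_singleton]
    exact hn
  exact hf𝔪 (h𝔪.isPrime.mem_of_pow_mem n h3)

lemma sub_mem_of_tmul_eq (I : Ideal R) {N : Type*} [AddCommGroup N] [Module R N] {x y : N}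
    (h : (1 : R ⧸ I) ⊗ₜ[R] x = (1 : R ⧸ I) ⊗ₜ[R] y) : x - y ∈ I • (⊤ : Submodule R N) := by
  have h1 : (1 : R ⧸ I) ⊗ₜ[R] (x - y) = 0 := by rw [TensorProduct.tmul_sub, h, sub_self]
  have h2 := congrArg (TensorProduct.quotTensorEquivQuotSMul N I) h1
  rw [map_zero, ← map_one (Ideal.Quotient.mk I), TensorProduct.quotTensorEquivQuotSMul_mk_tmul,
    one_smul, Submodule.Quotient.mk_eq_zero] at h2
  exact h2

end Plumbing

section Triv

variable {R : Type*} [CommRing R] {A C : Type*} [CommRing A] [CommRing C] [Bialgebra R A]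
  [Bialgebra R C]

/-- the trivial homomorphism -/
noncomputable def triv : C →ₐc[R] A :=
  (Bialgebra.unitBialgHom R A).comp (Bialgebra.counitBialgHom R C)

lemma triv_apply (c : C) :
    (triv : C →ₐc[R] A) c = algebraMap R A (Coalgebra.counit c) := rfl

lemma bc_triv (S : Type*) [CommRing S] [Algebra R S] (c' : S ⊗[R] C) :
    bc S (triv : C →ₐc[R] A) c' = algebraMap S (S ⊗[R] A) (Coalgebra.counit c') := by
  induction c' using TensorProduct.induction_on with
  | zero => simp
  | tmul s c =>
    rw [bc_tmul, triv_apply, TensorProduct.counit_tmul, CommSemiring.counit_apply,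
      Algebra.TensorProduct.algebraMap_apply, Algebra.algebraMap_eq_smul_one,
      TensorProduct.tmul_smul, TensorProduct.smul_tmul']
    rfl
  | add x y hx hy => rw [map_add, map_add, map_add, hx, hy]

end Triv

end Groth.Agent.Lib.helper15.MultType
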