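import Mathlib
import Groth.Prelude.Def_SGA3b
import Groth.Agent.Lib.Helper15.MultType

/-!
# Groups of multiplicative type over a local ring (helper15)

* `cancelBialg`: `R' ⊗[L] (L ⊗[R] A) ≃ₐc[R'] R' ⊗[R] A`.
* `isMultTypeConst_of_isLocalRing`: over a local ring `IsMultType` implies `IsMultTypeConst`.
-/

set_option autoImplicit false
universe u
open TensorProduct SGA3b

namespace Groth.Agent.Lib.helper15.MultLocal

section Cancel

variable (R : Type*) [CommRing R] (L : Type*) [CommRing L] [Algebra R L]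
  (R' : Type*) [CommRing R'] [Algebra R R'] [Algebra L R'] [IsScalarTower R L R']
  (A : Type*) [CommRing A] [Bialgebra R A]

lemma cb_tmul (r : R') (l : L) (a : A) :
    Algebra.TensorProduct.cancelBaseChange R L R' R' A (r ⊗ₜ[L] (l ⊗ₜ[R] a)) = (l • r) ⊗ₜ[R] a :=
  Algebra.TensorProduct.cancelBaseChange_tmul R L R' R' A r l a

lemma comul_cb (r : R') (l : L) (a : A) :
    TensorProduct.map (Algebra.TensorProduct.cancelBaseChange R L R' R' A).toLinearMap
      (Algebra.TensorProduct.cancelBaseChange R L R' R' A).toLinearMap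
      (Coalgebra.comul (R := R') (r ⊗ₜ[L] (l ⊗ₜ[R] a) : R' ⊗[L] (L ⊗[R] A))) =
    Coalgebra.comul (R := R') ((l • r) ⊗ₜ[R] a) := by
  rw [TensorProduct.comul_tmul, TensorProduct.comul_tmul, TensorProduct.comul_tmul]
  rw [← (Coalgebra.Repr.arbitrary R a).eq]
  simp only [CommSemiring.comul_apply, TensorProduct.tmul_sum, map_sum,
    TensorProduct.AlgebraTensorModule.tensorTensorTensorComm_tmul, TensorProduct.map_tmul,
    AlgEquiv.toLinearMap_apply, cb_tmul, one_smul]

lemma counit_cb (r : R') (l : L) (a : A) :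
    Coalgebra.counit (R := R') ((l • r) ⊗ₜ[R] a) =
      Coalgebra.counit (R := R') (r ⊗ₜ[L] (l ⊗ₜ[R] a) : R' ⊗[L] (L ⊗[R] A)) := by
  rw [TensorProduct.counit_tmul, TensorProduct.counit_tmul, TensorProduct.counit_tmul,
    CommSemiring.counit_apply, CommSemiring.counit_apply, CommSemiring.counit_apply,
    smul_assoc]

omit [Algebra R R'] [IsScalarTower R L R'] in
lemma induction₂ {P : R' ⊗[L] (L ⊗[R] A) → Prop} (h0 : P 0)
    (hadd : ∀ x y, P x → P y → P (x + y))
    (ht : ∀ (r : R') (l : L) (a : A), P (r ⊗ₜ[L] (l ⊗ₜ[R] a))) (x : R' ⊗[L] (L ⊗[R] A)) : P x := by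
  induction x using TensorProduct.induction_on with
  | zero => exact h0
  | add x y hx hy => exact hadd x y hx hy
  | tmul r y =>
    induction y using TensorProduct.induction_on with
    | zero => rw [TensorProduct.tmul_zero]; exact h0
    | add x y hx hy => rw [TensorProduct.tmul_add]; exact hadd _ _ hx hy
    | tmul l a => exact ht r l a

/-- cancellation of base change, as a bialgebra isomorphism. -/
noncomputable def cancelBialg : R' ⊗[L] (L ⊗[R] A) ≃ₐc[R'] R' ⊗[R] A :=
  BialgEquiv.ofAlgEquiv (Algebra.TensorProduct.cancelBaseChange R L R' R' A)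
    (by
      apply AlgHom.ext
      intro x
      induction x using induction₂ with
      | h0 => simp
      | hadd x y hx hy => rw [map_add, map_add, hx, hy]
      | ht r l a =>
        change Coalgebra.counit (R := R')
          (Algebra.TensorProduct.cancelBaseChange R L R' R' A (r ⊗ₜ[L] (l ⊗ₜ[R] a))) = _
        rw [cb_tmul, counit_cb]
        rfl)
    (by
      apply AlgHom.ext
      intro x
      induction x using induction₂ with
      | h0 => simp
      | hadd x y hx hy => rw [map_add, map_add, hx, hy]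
      | ht r l a =>
        change TensorProduct.map (Algebra.TensorProduct.cancelBaseChange R L R' R' A).toLinearMap
          (Algebra.TensorProduct.cancelBaseChange R L R' R' A).toLinearMap
          (Coalgebra.comul (R := R') (r ⊗ₜ[L] (l ⊗ₜ[R] a) : R' ⊗[L] (L ⊗[R] A))) =
          Coalgebra.comul (R := R')
            (Algebra.TensorProduct.cancelBaseChange R L R' R' A (r ⊗ₜ[L] (l ⊗ₜ[R] a)))
        rw [comul_cb, cb_tmul])

lemma cancelBialg_tmul (r : R') (l : L) (a : A) :
    cancelBialg R L R' A (r ⊗ₜ[L] (l ⊗ₜ[R] a)) = (l • r) ⊗ₜ[R] a :=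
  cb_tmul R L R' A r l a

end Cancel

section Local

variable (R : Type u) [CommRing R] [IsLocalRing R] (A : Type u) [CommRing A] [HopfAlgebra R A]

/-- over a local ring, a group of multiplicative type has constant type. -/
theorem isMultTypeConst_of_isLocalRing (h : IsMultType R A) : IsMultTypeConst R A := by
  obtain ⟨s, hs, hcov⟩ := h
  have hex : ∃ f ∈ s, IsUnit f := by
    by_contra hcon
    push_neg at hcon
    have hle : Ideal.span s ≤ IsLocalRing.maximalIdeal R :=
      Ideal.span_le.mpr fun f hf => (IsLocalRing.mem_maximalIdeal f).mpr (hcon f hf)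
    rw [hs] at hle
    exact (IsLocalRing.maximalIdeal.isMaximal R).ne_top (top_le_iff.mp hle)
  obtain ⟨f, hfs, hfu⟩ := hex
  obtain ⟨R', _, _, hff, M, _, ⟨e⟩⟩ := hcov f hfs
  letI : Algebra R R' :=
    ((algebraMap (Localization.Away f) R').comp (algebraMap R (Localization.Away f))).toAlgebra
  haveI : IsScalarTower R (Localization.Away f) R' := IsScalarTower.of_algebraMap_eq fun _ => rfl
  have hle : Submonoid.powers f ≤ IsUnit.submonoid R := by
    rintro _ ⟨n, rfl⟩
    exact hfu.pow n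
  let eL : R ≃ₐ[R] Localization.Away f := IsLocalization.atUnits R (Submonoid.powers f) hle
  haveI : Module.FaithfullyFlat R (Localization.Away f) :=
    Module.FaithfullyFlat.of_linearEquiv R R eL.toLinearEquiv.symm
  haveI : Module.FaithfullyFlat R R' := Module.FaithfullyFlat.trans R (Localization.Away f) R'
  refine ⟨R', inferInstance, inferInstance, inferInstance, M, inferInstance, ?_⟩
  exact ⟨(cancelBialg R (Localization.Away f) R' A).symm.trans e⟩

end Local

section Coeff

open Groth.Agent.Lib.helper15.MultType WithConv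

variable {S : Type*} [CommRing S] {M : Type*} [CommMonoid M] {C : Type*} [CommRing C] [Bialgebra S C]

/-- an element of a group algebra whose coefficients lie in `I` lies in `I • ⊤`. -/
lemma mem_smul_top_of_coeff (I : Ideal S) (x : MonoidAlgebra S M) (h : ∀ m, x.coeff m ∈ I) :
    x ∈ I • (⊤ : Submodule S (MonoidAlgebra S M)) := by
  classical
  have hx : x = ∑ m ∈ x.coeff.support, (x.coeff m) • MonoidAlgebra.single m (1 : S) := by
    apply MonoidAlgebra.coeff_injective
    ext m'
    rw [MonoidAlgebra.coeff_sum, Finsupp.finset_sum_apply]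
    simp only [MonoidAlgebra.coeff_smul, MonoidAlgebra.coeff_single, Finsupp.smul_apply,
      Finsupp.single_apply, smul_eq_mul, mul_ite, mul_one, mul_zero]
    rw [Finset.sum_ite_eq' x.coeff.support m']
    split_ifs with hm
    · rfl
    · exact Finsupp.notMem_support_iff.mp hm
  rw [hx]
  exact Submodule.sum_mem _ fun m _ => Submodule.smul_mem_smul (h m) Submodule.mem_top

/-- the ideal generated by the coefficients of the differences `φ c - ψ c`. -/
def coeffIdeal (φ ψ : C →ₐc[S] MonoidAlgebra S M) : Ideal S :=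
  Ideal.span {r | ∃ (m : M) (c : C), r = (φ c - ψ c).coeff m}

lemma coeff_mem_coeffIdeal (φ ψ : C →ₐc[S] MonoidAlgebra S M) (m : M) (c : C) :
    (φ c - ψ c).coeff m ∈ coeffIdeal φ ψ :=
  Ideal.subset_span ⟨m, c, rfl⟩

lemma sub_mem_coeffIdeal_smul (φ ψ : C →ₐc[S] MonoidAlgebra S M) (c : C) :
    φ c - ψ c ∈ (coeffIdeal φ ψ) • (⊤ : Submodule S (MonoidAlgebra S M)) :=
  mem_smul_top_of_coeff _ _ fun m => coeff_mem_coeffIdeal φ ψ m c

/-- the set of `c` with `φ c ≡ ψ c` modulo an ideal `I` of the base is a subalgebra. -/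
lemma forall_sub_mem_of_adjoin (φ ψ : C →ₐc[S] MonoidAlgebra S M) (I : Ideal S) (g : Set C)
    (hg : Algebra.adjoin S g = ⊤)
    (h : ∀ c ∈ g, φ c - ψ c ∈ I • (⊤ : Submodule S (MonoidAlgebra S M))) (c : C) :
    φ c - ψ c ∈ I • (⊤ : Submodule S (MonoidAlgebra S M)) := by
  let I' : Ideal (MonoidAlgebra S M) := I.map (algebraMap S (MonoidAlgebra S M))
  have hI' : ∀ x : MonoidAlgebra S M, x ∈ I • (⊤ : Submodule S (MonoidAlgebra S M)) ↔ x ∈ I' := by
    intro x
    rw [Ideal.smul_top_eq_map]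
    rfl
  let f1 : C →ₐ[S] (MonoidAlgebra S M ⧸ I') := (Ideal.Quotient.mkₐ S I').comp (φ : C →ₐ[S] _)
  let f2 : C →ₐ[S] (MonoidAlgebra S M ⧸ I') := (Ideal.Quotient.mkₐ S I').comp (ψ : C →ₐ[S] _)
  have heq : ∀ c, f1 c = f2 c ↔ φ c - ψ c ∈ I' := by
    intro c
    change Ideal.Quotient.mk I' (φ c) = Ideal.Quotient.mk I' (ψ c) ↔ _
    rw [Ideal.Quotient.eq]
  have hle : Algebra.adjoin S g ≤ AlgHom.equalizer f1 f2 := by
    apply Algebra.adjoin_le
    intro c hc
    exact (heq c).mpr ((hI' _).mp (h c hc))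
  rw [hg] at hle
  exact (hI' _).mpr ((heq c).mp (hle Algebra.mem_top))

/-- if `C` is of finite type the coefficient ideal is finitely generated. -/
lemma coeffIdeal_fg [Algebra.FiniteType S C] (φ ψ : C →ₐc[S] MonoidAlgebra S M) :
    (coeffIdeal φ ψ).FG := by
  classical
  obtain ⟨g, hg⟩ := (Algebra.FiniteType.out : (⊤ : Subalgebra S C).FG)
  let T : Finset S := g.biUnion fun c => (φ c - ψ c).coeff.support.image fun m => (φ c - ψ c).coeff m
  have hsub : ∀ c ∈ g, φ c - ψ c ∈ (Ideal.span (T : Set S)) • (⊤ : Submodule S (MonoidAlgebra S M)) := by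
    intro c hc
    apply mem_smul_top_of_coeff
    intro m
    by_cases hm : m ∈ (φ c - ψ c).coeff.support
    · apply Ideal.subset_span
      rw [Finset.mem_coe, Finset.mem_biUnion]
      exact ⟨c, hc, Finset.mem_image_of_mem _ hm⟩
    · rw [Finsupp.notMem_support_iff.mp hm]
      exact Ideal.zero_mem _
  have hall := forall_sub_mem_of_adjoin φ ψ (Ideal.span (T : Set S)) (g : Set C) hg
    (fun c hc => hsub c hc)
  refine ⟨T, le_antisymm ?_ ?_⟩
  · apply Ideal.span_le.mpr
    intro r hr
    rw [Finset.mem_coe, Finset.mem_biUnion] at hr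
    obtain ⟨c, _, hr⟩ := hr
    obtain ⟨m, _, rfl⟩ := Finset.mem_image.mp hr
    exact coeff_mem_coeffIdeal φ ψ m c
  · apply Ideal.span_le.mpr
    rintro r ⟨m, c, rfl⟩
    exact mem_coeff_of_mem_smul_top _ (hall c) m

/-- if each difference of components `d` satisfies `d = d * h` with `h` valued in the
coefficient ideal, the coefficient ideal is idempotent. -/
lemma coeffIdeal_isIdempotentElem (φ ψ : C →ₐc[S] MonoidAlgebra S M)
    (H : ∀ m : M, ∃ h : WithConv (C →ₗ[S] S),
      comp φ m - comp ψ m = (comp φ m - comp ψ m) * h ∧ ∀ c, h c ∈ coeffIdeal φ ψ) :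
    IsIdempotentElem (coeffIdeal φ ψ) := by
  apply le_antisymm Ideal.mul_le_right
  apply Ideal.span_le.mpr
  rintro r ⟨m, c, rfl⟩
  obtain ⟨h, h1, h2⟩ := H m
  have h3 : (φ c - ψ c).coeff m = (comp φ m - comp ψ m) c := by
    rw [MonoidAlgebra.coeff_sub, Finsupp.sub_apply]
    rfl
  rw [h3, h1, (Coalgebra.Repr.arbitrary S c).convMul_apply]
  refine Ideal.sum_mem _ fun i _ => Ideal.mul_mem_mul ?_ (h2 _)
  have h4 : (comp φ m - comp ψ m) ((Coalgebra.Repr.arbitrary S c).left i) =
      (φ ((Coalgebra.Repr.arbitrary S c).left i) - ψ ((Coalgebra.Repr.arbitrary S c).left i)).coeff m := by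
    rw [MonoidAlgebra.coeff_sub, Finsupp.sub_apply]
    rfl
  rw [h4]
  exact coeff_mem_coeffIdeal φ ψ m _

end Coeff

section Hyp

open Groth.Agent.Lib.helper15.MultType WithConv

variable {S : Type*} [CommRing S] {M : Type*} [CommMonoid M] {C : Type*} [CommRing C] [Bialgebra S C]

lemma coeff_algebraMap_one (r : S) :
    (algebraMap S (MonoidAlgebra S M) r).coeff 1 = r := by
  rw [MonoidAlgebra.coe_algebraMap, Function.comp_apply, MonoidAlgebra.coeff_single,
    Finsupp.single_eq_same]
  rfl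

lemma coeff_algebraMap_of_ne (r : S) {m : M} (hm : m ≠ 1) :
    (algebraMap S (MonoidAlgebra S M) r).coeff m = 0 := by
  classical
  rw [MonoidAlgebra.coe_algebraMap, Function.comp_apply, MonoidAlgebra.coeff_single,
    Finsupp.single_apply, if_neg (Ne.symm hm)]

/-- the hypothesis of `eq_of_components` when the second homomorphism is trivial. -/
lemma hyp_of_trivial (Φ Ψ : C →ₐc[S] MonoidAlgebra S M)
    (hΨ : ∀ c, Ψ c = algebraMap S (MonoidAlgebra S M) (Coalgebra.counit c)) (m : M) :
    ∃ h : WithConv (C →ₗ[S] S),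
      comp Φ m - comp Ψ m = (comp Φ m - comp Ψ m) * h ∧ ∀ c, h c ∈ coeffIdeal Φ Ψ := by
  classical
  have hval : ∀ c, (comp Φ m - comp Ψ m) c = (Φ c - Ψ c).coeff m := by
    intro c
    rw [MonoidAlgebra.coeff_sub, Finsupp.sub_apply]
    rfl
  have he : comp Φ m * comp Φ m = comp Φ m := by rw [comp_mul_comp, if_pos rfl]
  by_cases hm : m = 1
  · subst hm
    have hΨ1 : comp Ψ 1 = 1 := by
      ext c
      rw [comp_apply, hΨ, coeff_algebraMap_one]
      rfl
    refine ⟨comp Ψ 1 - comp Φ 1, ?_, ?_⟩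
    · rw [hΨ1, sub_mul, mul_sub, mul_sub, he, mul_one, one_mul, one_mul]
      abel
    · intro c
      have h1 : (comp Ψ 1 - comp Φ 1) c = (Ψ c).coeff 1 - (Φ c).coeff 1 := rfl
      have h2 : (Ψ c).coeff 1 - (Φ c).coeff 1 = -((Φ c - Ψ c).coeff 1) := by
        rw [MonoidAlgebra.coeff_sub, Finsupp.sub_apply, neg_sub]
      rw [h1, h2]
      exact neg_mem (coeff_mem_coeffIdeal Φ Ψ 1 c)
  · have hΨ0 : comp Ψ m = 0 := by
      ext c
      rw [comp_apply, hΨ, coeff_algebraMap_of_ne _ hm]
      rfl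
    refine ⟨comp Φ m - comp Ψ m, ?_, ?_⟩
    · rw [hΨ0, sub_zero, he]
    · intro c
      rw [hval]
      exact coeff_mem_coeffIdeal Φ Ψ m c

/-- the hypothesis of `eq_of_components` for a cocommutative source. -/
lemma hyp_of_cocomm [Coalgebra.IsCocomm S C] (Φ Ψ : C →ₐc[S] MonoidAlgebra S M) (m : M) :
    ∃ h : WithConv (C →ₗ[S] S),
      comp Φ m - comp Ψ m = (comp Φ m - comp Ψ m) * h ∧ ∀ c, h c ∈ coeffIdeal Φ Ψ := by
  classical
  have hval : ∀ c, (comp Φ m - comp Ψ m) c = (Φ c - Ψ c).coeff m := by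
    intro c
    rw [MonoidAlgebra.coeff_sub, Finsupp.sub_apply]
    rfl
  have he : comp Φ m * comp Φ m = comp Φ m := by rw [comp_mul_comp, if_pos rfl]
  have hf : comp Ψ m * comp Ψ m = comp Ψ m := by rw [comp_mul_comp, if_pos rfl]
  set a := comp Φ m
  set b := comp Ψ m
  refine ⟨(a - b) * (a - b), ?_, ?_⟩
  · linear_combination (-(a + 1 - 3 * b)) * he + (-(3 * a - b - 1)) * hf
  · intro c
    rw [(Coalgebra.Repr.arbitrary S c).convMul_apply]
    refine Ideal.sum_mem _ fun i _ => Ideal.mul_mem_left _ _ ?_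
    rw [hval]
    exact coeff_mem_coeffIdeal Φ Ψ m _

end Hyp

section Descent

variable {R : Type*} [CommRing R] [IsLocalRing R] {S : Type*} [CommRing S] [Algebra R S]
  [Module.FaithfullyFlat R S] {A : Type*} [AddCommGroup A] [Module R A]

/-- Nakayama plus faithfully flat descent: finitely many elements which, after a faithfully flat
base change, are fixed by an element of the extended maximal ideal, vanish. -/
lemma eq_zero_of_smul_eq {ι : Type*} [Finite ι] (x : ι → A) (ε : S)
    (hε : ε ∈ Ideal.map (algebraMap R S) (IsLocalRing.maximalIdeal R))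
    (h : ∀ i, (1 : S) ⊗ₜ[R] x i = ε • ((1 : S) ⊗ₜ[R] x i)) (i : ι) : x i = 0 := by
  set 𝔪 := IsLocalRing.maximalIdeal R with h𝔪
  set X₀ : Submodule R A := Submodule.span R (Set.range x) with hX₀
  have hfg : X₀.FG := Submodule.fg_span (Set.finite_range x)
  have hle : X₀ ≤ 𝔪 • X₀ := by
    apply Submodule.span_le.mpr
    rintro _ ⟨j, rfl⟩
    set π := (𝔪 • X₀).mkQ with hπ
    have hinj := Module.FaithfullyFlat.tensorProduct_mk_injective (A := R) (B := S) (A ⧸ 𝔪 • X₀)
    have h1 : (1 : S) ⊗ₜ[R] π (x j) = ε ⊗ₜ[R] π (x j) := by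
      have h2 := h j
      rw [TensorProduct.smul_tmul', smul_eq_mul, mul_one] at h2
      have h3 := congrArg (LinearMap.lTensor S π) h2
      rwa [LinearMap.lTensor_tmul, LinearMap.lTensor_tmul] at h3
    have h4 : ∀ s ∈ Ideal.map (algebraMap R S) 𝔪, s ⊗ₜ[R] π (x j) = 0 := by
      intro s hs
      refine Submodule.span_induction (p := fun s _ => s ⊗ₜ[R] π (x j) = 0) ?_ ?_ ?_ ?_ hs
      · rintro _ ⟨μ, hμ, rfl⟩
        have h5 : μ • x j ∈ 𝔪 • X₀ :=
          Submodule.smul_mem_smul hμ (Submodule.subset_span ⟨j, rfl⟩)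
        change (algebraMap R S μ) ⊗ₜ[R] π (x j) = 0
        have h7 : π (μ • x j) = 0 := (Submodule.Quotient.mk_eq_zero _).mpr h5
        rw [Algebra.algebraMap_eq_smul_one, TensorProduct.smul_tmul, ← map_smul, h7,
          TensorProduct.tmul_zero]
      · exact TensorProduct.zero_tmul _ _
      · intro a b _ _ ha hb
        rw [TensorProduct.add_tmul, ha, hb, add_zero]
      · intro a b _ hb
        rw [smul_eq_mul, ← smul_eq_mul, ← TensorProduct.smul_tmul', hb, smul_zero]
    have h6 : π (x j) = 0 := by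
      apply hinj
      rw [TensorProduct.mk_apply, h1, h4 ε hε, map_zero]
    exact (Submodule.Quotient.mk_eq_zero _).mp h6
  have hbot : X₀ = ⊥ :=
    Submodule.eq_bot_of_le_smul_of_le_jacobson_bot 𝔪 X₀ hfg hle
      (IsLocalRing.maximalIdeal_le_jacobson ⊥)
  have : x i ∈ X₀ := Submodule.subset_span ⟨i, rfl⟩
  rw [hbot, Submodule.mem_bot] at this
  exact this

end Descent

section Main

open Groth.Agent.Lib.helper15.MultType WithConv

variable {R : Type u} [CommRing R] [IsLocalRing R] {A C : Type u} [CommRing A] [CommRing C]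
  [HopfAlgebra R A] [HopfAlgebra R C]

/-- Rigidity over a local base, diagonalisable after the faithfully flat base change `S`:
two homomorphisms which agree modulo the maximal ideal and whose differences of components are
"idempotent-like" agree. -/
theorem eq_of_components [Algebra.FiniteType R C]
    (S : Type u) [CommRing S] [Algebra R S] [Module.FaithfullyFlat R S] (M : Type u) [CommGroup M]
    (e : S ⊗[R] A ≃ₐc[S] MonoidAlgebra S M) (φ ψ : C →ₐc[R] A)
    (hs : ∀ c, φ c - ψ c ∈ (IsLocalRing.maximalIdeal R) • (⊤ : Submodule R A))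
    (H : ∀ m : M, ∃ h : WithConv ((S ⊗[R] C) →ₗ[S] S),
      comp ((e : _ →ₐc[S] MonoidAlgebra S M).comp (bc S φ)) m -
        comp ((e : _ →ₐc[S] MonoidAlgebra S M).comp (bc S ψ)) m =
      (comp ((e : _ →ₐc[S] MonoidAlgebra S M).comp (bc S φ)) m -
        comp ((e : _ →ₐc[S] MonoidAlgebra S M).comp (bc S ψ)) m) * h ∧
      ∀ c, h c ∈ coeffIdeal ((e : _ →ₐc[S] MonoidAlgebra S M).comp (bc S φ))
        ((e : _ →ₐc[S] MonoidAlgebra S M).comp (bc S ψ))) :
    φ = ψ := by
  classical
  set Φ := (e : _ →ₐc[S] MonoidAlgebra S M).comp (bc S φ) with hΦ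
  set Ψ := (e : _ →ₐc[S] MonoidAlgebra S M).comp (bc S ψ) with hΨ
  set 𝔪 := IsLocalRing.maximalIdeal R with h𝔪
  have hfg := coeffIdeal_fg Φ Ψ
  have hid := coeffIdeal_isIdempotentElem Φ Ψ H
  obtain ⟨ε, hε, hJ⟩ := (Ideal.isIdempotentElem_iff_of_fg _ hfg).mp hid
  have hJm : coeffIdeal Φ Ψ ≤ Ideal.map (algebraMap R S) 𝔪 := by
    apply Ideal.span_le.mpr
    rintro r ⟨m, c', rfl⟩
    have h1 := equiv_sub_mem e _ (bc_sub_mem S 𝔪 φ ψ hs c')
    rw [map_sub] at h1
    exact mem_coeff_of_mem_smul_top _ h1 m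
  have hεm : ε ∈ Ideal.map (algebraMap R S) 𝔪 := by
    apply hJm
    rw [hJ]
    exact Submodule.mem_span_singleton_self ε
  have hfix : ∀ y ∈ (coeffIdeal Φ Ψ) • (⊤ : Submodule S (MonoidAlgebra S M)), ε • y = y := by
    intro y hy
    refine Submodule.smul_induction_on (p := fun y => ε • y = y) hy ?_ ?_
    · intro j hj y' _
      rw [hJ] at hj
      obtain ⟨s, rfl⟩ := Submodule.mem_span_singleton.mp hj
      rw [smul_smul, smul_eq_mul, mul_comm ε, mul_assoc, hε.eq]
    · intro a b ha hb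
      rw [smul_add, ha, hb]
  have hkey : ∀ c : C, (1 : S) ⊗ₜ[R] (φ c - ψ c) = ε • ((1 : S) ⊗ₜ[R] (φ c - ψ c)) := by
    intro c
    apply EquivLike.injective e
    have h1 : e ((1 : S) ⊗ₜ[R] (φ c - ψ c)) = Φ ((1 : S) ⊗ₜ[R] c) - Ψ ((1 : S) ⊗ₜ[R] c) := by
      rw [TensorProduct.tmul_sub, map_sub]
      rfl
    rw [map_smul, h1, hfix _ (sub_mem_coeffIdeal_smul Φ Ψ _)]
  obtain ⟨g, hg⟩ := (Algebra.FiniteType.out : (⊤ : Subalgebra R C).FG)
  have hzero : ∀ c : (g : Set C), φ c.1 - ψ c.1 = 0 :=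
    eq_zero_of_smul_eq (S := S) (fun c : (g : Set C) => φ c.1 - ψ c.1) ε hεm
      (fun c => hkey c.1)
  have halg : (φ : C →ₐ[R] A) = (ψ : C →ₐ[R] A) :=
    AlgHom.ext_of_adjoin_eq_top hg fun c hc => sub_eq_zero.mp (hzero ⟨c, hc⟩)
  exact DFunLike.ext _ _ fun c => DFunLike.congr_fun halg c

/-- Finite type case of S5245: a homomorphism from a group of multiplicative type over a local
ring to an affine group of finite type which is trivial on the closed fibre is trivial. -/
theorem eq_trivial_of_finiteType [Algebra.FiniteType R C] (hH : IsMultType R A) (φ : C →ₐc[R] A)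
    (hs : ∀ c : C, φ c - algebraMap R A (Coalgebra.counit c) ∈
      Ideal.map (algebraMap R A) (IsLocalRing.maximalIdeal R)) (c : C) :
    φ c = algebraMap R A (Coalgebra.counit c) := by
  obtain ⟨S, _, _, hff, M, _, ⟨e⟩⟩ := isMultTypeConst_of_isLocalRing R A hH
  have h1 : φ = (triv : C →ₐc[R] A) := by
    refine eq_of_components S M e φ triv ?_ ?_
    · intro c
      rw [Ideal.smul_top_eq_map]
      exact hs c
    · intro m
      refine hyp_of_trivial _ _ ?_ m
      intro c'
      change e (bc S (triv : C →ₐc[R] A) c') = _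
      rw [bc_triv, AlgHomClass.commutes]
  rw [h1]
  rfl

/-- S2985: rigidity over a local base for a commutative target of finite type. -/
theorem eq_of_cocomm [Algebra.FiniteType R C] [Coalgebra.IsCocomm R C] (hH : IsMultType R A)
    (φ ψ : C →ₐc[R] A)
    (hs : ∀ c : C, φ c - ψ c ∈ Ideal.map (algebraMap R A) (IsLocalRing.maximalIdeal R)) :
    φ = ψ := by
  obtain ⟨S, _, _, hff, M, _, ⟨e⟩⟩ := isMultTypeConst_of_isLocalRing R A hH
  refine eq_of_components S M e φ ψ ?_ ?_
  · intro c
    rw [Ideal.smul_top_eq_map]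
    exact hs c
  · intro m
    exact hyp_of_cocomm _ _ m

end Main

end Groth.Agent.Lib.helper15.MultLocal
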