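import Mathlib
import Groth.Prelude.Def_SGA3b
import Groth.Agent.Lib.Helper15.MultLocal

/-!
# Quotients of diagonalisable groups which are of multiplicative type (helper15)

Over a connected base, a quotient Hopf algebra of a group algebra which is of multiplicative type is
a group algebra (S2983).

* `coeff_mul_coeff`, `sum_coeff`: coefficients of a group-like element of `S[P]` form a complete
  family of orthogonal idempotents.
* `mem_map_ker_toSpanSingleton`: flat base change of the annihilator of an element.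
* `Cover`: a family of flat `R`-algebras `S i`, jointly faithful and "submersive", trivialising `B`.
-/

set_option autoImplicit false
universe u
open TensorProduct SGA3b

namespace Groth.Agent.Lib.helper15.DiagSub

open Groth.Agent.Lib.helper15.MultType Groth.Agent.Lib.helper15.MultLocal

section GrpLike

variable {S : Type*} [CommRing S] {P : Type*} [CommMonoid P]

lemma coeff_mul_coeff [DecidableEq P] {g : MonoidAlgebra S P} (hg : IsGroupLikeElem S g)
    (p q : P) : g.coeff p * g.coeff q = if p = q then g.coeff p else 0 := by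
  have h := mul'_map_coeffAt_comul (R := S) p q g
  rw [hg.comul_eq_tmul_self, TensorProduct.map_tmul, LinearMap.mul'_apply] at h
  exact h

lemma sum_coeff {g : MonoidAlgebra S P} (hg : IsGroupLikeElem S g) :
    (g.coeff.sum fun _ r => r) = 1 := by
  rw [← counit_eq_sum, hg.counit_eq_one]

lemma isGroupLikeElem_tmul {R : Type*} [CommRing R] [Algebra R S] {B : Type*} [CommRing B]
    [Bialgebra R B] {b : B} (hb : IsGroupLikeElem R b) :
    IsGroupLikeElem S ((1 : S) ⊗ₜ[R] b) where
  counit_eq_one := by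
    rw [TensorProduct.counit_tmul, hb.counit_eq_one, one_smul, CommSemiring.counit_apply]
  comul_eq_tmul_self := by
    rw [TensorProduct.comul_tmul, hb.comul_eq_tmul_self, CommSemiring.comul_apply,
      TensorProduct.AlgebraTensorModule.tensorTensorTensorComm_tmul]

end GrpLike

section FlatAnn

variable {R : Type*} [CommRing R] {S : Type*} [CommRing S] [Algebra R S] [Module.Flat R S]
  {B : Type*} [AddCommGroup B] [Module R B]

/-- flat base change of the annihilator of an element. -/
lemma mem_map_ker_toSpanSingleton (y : B) (s : S) (h : s ⊗ₜ[R] y = 0) :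
    s ∈ Ideal.map (algebraMap R S) (LinearMap.ker (LinearMap.toSpanSingleton R B y)) := by
  set f := LinearMap.toSpanSingleton R B y with hf
  have hker := Module.Flat.ker_lTensor_eq S S f
  have h1 : s ⊗ₜ[R] (1 : R) ∈ LinearMap.ker (AlgebraTensorModule.lTensor S S f) := by
    rw [LinearMap.mem_ker, AlgebraTensorModule.lTensor_tmul, hf,
      LinearMap.toSpanSingleton_apply, one_smul, h]
  rw [hker] at h1
  obtain ⟨z, hz⟩ := h1
  have h2 : ∀ z : S ⊗[R] (LinearMap.ker f),
      TensorProduct.rid R S (AlgebraTensorModule.lTensor S S (LinearMap.ker f).subtype z) ∈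
        Ideal.map (algebraMap R S) (LinearMap.ker f) := by
    intro z
    induction z using TensorProduct.induction_on with
    | zero => simp
    | add a b ha hb =>
      rw [map_add, map_add]
      exact add_mem ha hb
    | tmul s' i =>
      rw [AlgebraTensorModule.lTensor_tmul, Submodule.subtype_apply, TensorProduct.rid_tmul,
        Algebra.smul_def]
      exact Ideal.mul_mem_right _ _ (Ideal.mem_map_of_mem _ i.2)
  have h3 := h2 z
  rw [hz, TensorProduct.rid_tmul, one_smul] at h3
  exact h3

end FlatAnn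

section CoverDef

/-- the data of `IsMultTypeConst`. -/
structure ConstData (L : Type u) [CommRing L] (B' : Type u) [CommRing B'] [HopfAlgebra L B'] where
  S : Type u
  [instRing : CommRing S]
  [instAlg : Algebra L S]
  ff : Module.FaithfullyFlat L S
  P : Type u
  [instGrp : CommGroup P]
  E : S ⊗[L] B' ≃ₐc[S] MonoidAlgebra S P

attribute [instance] ConstData.instRing ConstData.instAlg ConstData.instGrp ConstData.ff

lemma nonempty_constData {L : Type u} [CommRing L] {B' : Type u} [CommRing B'] [HopfAlgebra L B']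
    (h : IsMultTypeConst L B') : Nonempty (ConstData L B') := by
  obtain ⟨R', i1, i2, hff, M, i3, ⟨e⟩⟩ := h
  exact ⟨{ S := R', ff := hff, P := M, E := e }⟩

/-- a trivialising cover of a Hopf algebra `B` over `R`: flat `R`-algebras `S i` over which `B`
becomes a group algebra, which are jointly faithful and jointly submersive on spectra. -/
structure Cover (R : Type u) [CommRing R] (B : Type u) [CommRing B] [HopfAlgebra R B] where
  ι : Type u
  S : ι → Type u
  [instRing : ∀ i, CommRing (S i)]
  [instAlg : ∀ i, Algebra R (S i)]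
  flat : ∀ i, Module.Flat R (S i)
  P : ι → Type u
  [instGrp : ∀ i, CommGroup (P i)]
  E : ∀ i, S i ⊗[R] B ≃ₐc[S i] MonoidAlgebra (S i) (P i)
  inj : ∀ r : R, (∀ i, algebraMap R (S i) r = 0) → r = 0
  qt : ∀ Z : Set (PrimeSpectrum R),
    (∀ i, IsOpen (PrimeSpectrum.comap (algebraMap R (S i)) ⁻¹' Z)) → IsOpen Z

attribute [instance] Cover.instRing Cover.instAlg Cover.instGrp Cover.flat

variable {R : Type u} [CommRing R] {B : Type u} [CommRing B] [HopfAlgebra R B]

theorem nonempty_cover (h : IsMultType R B) : Nonempty (Cover R B) := by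
  classical
  obtain ⟨s, hs, hcov⟩ := h
  let D : ∀ i : {f // f ∈ s}, ConstData (Localization.Away i.1) (Localization.Away i.1 ⊗[R] B) :=
    fun i => Classical.choice (nonempty_constData (hcov i.1 i.2))
  letI algS : ∀ i : {f // f ∈ s}, Algebra R (D i).S := fun i =>
    ((algebraMap (Localization.Away i.1) (D i).S).comp
      (algebraMap R (Localization.Away i.1))).toAlgebra
  haveI tower : ∀ i : {f // f ∈ s}, IsScalarTower R (Localization.Away i.1) (D i).S := fun i =>
    IsScalarTower.of_algebraMap_eq fun _ => rfl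
  haveI flatS : ∀ i : {f // f ∈ s}, Module.Flat R (D i).S := fun i =>
    haveI : Module.Flat R (Localization.Away i.1) := IsLocalization.flat _ (Submonoid.powers i.1)
    Module.Flat.trans R (Localization.Away i.1) (D i).S
  refine ⟨{ ι := {f // f ∈ s}, S := fun i => (D i).S, flat := flatS, P := fun i => (D i).P,
            E := fun i => (cancelBialg R (Localization.Away i.1) (D i).S B).symm.trans (D i).E,
            inj := ?_, qt := ?_ }⟩
  · intro r hr
    apply eq_zero_of_localization s hs r
    intro f hf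
    have h1 : algebraMap (Localization.Away f) (D ⟨f, hf⟩).S (algebraMap R (Localization.Away f) r) = 0 :=
      hr ⟨f, hf⟩
    have h2 : algebraMap R (Localization.Away f) r = 0 :=
      FaithfulSMul.algebraMap_injective (Localization.Away f) (D ⟨f, hf⟩).S
        (by rw [h1, map_zero])
    have h3 : (1 : Localization.Away f) ⊗ₜ[R] r = (algebraMap R (Localization.Away f) r) ⊗ₜ[R] (1 : R) := by
      rw [Algebra.algebraMap_eq_smul_one, TensorProduct.smul_tmul, smul_eq_mul, mul_one]
    rw [h3, h2, TensorProduct.zero_tmul]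
  · intro Z hZ
    rw [isOpen_iff_forall_mem_open]
    intro 𝔭 h𝔭
    have hex : ∃ f ∈ s, f ∉ 𝔭.asIdeal := by
      by_contra hcon
      push_neg at hcon
      have hle : Ideal.span s ≤ 𝔭.asIdeal := Ideal.span_le.mpr hcon
      rw [hs] at hle
      exact 𝔭.isPrime.ne_top (top_le_iff.mp hle)
    obtain ⟨f, hfs, hf𝔭⟩ := hex
    set ι₀ := PrimeSpectrum.comap (algebraMap R (Localization.Away f)) with hι₀
    have hemb : Topology.IsOpenEmbedding ι₀ :=
      PrimeSpectrum.localization_away_isOpenEmbedding (Localization.Away f) f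
    set π := PrimeSpectrum.comap (algebraMap (Localization.Away f) (D ⟨f, hfs⟩).S) with hπ
    have hquot : Topology.IsQuotientMap π := by
      apply PrimeSpectrum.isQuotientMap_of_generalizingMap
      · exact PrimeSpectrum.comap_surjective_of_faithfullyFlat
      · exact RingHom.Flat.generalizingMap_comap
          (RingHom.flat_algebraMap_iff.mpr inferInstance)
    have hopen : IsOpen (ι₀ ⁻¹' Z) := by
      rw [← hquot.isOpen_preimage]
      have := hZ ⟨f, hfs⟩
      exact this
    refine ⟨ι₀ '' (ι₀ ⁻¹' Z), Set.image_preimage_subset _ _, hemb.isOpenMap _ hopen, ?_⟩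
    have hrange : 𝔭 ∈ Set.range ι₀ := by
      rw [hι₀, PrimeSpectrum.localization_away_comap_range (Localization.Away f) f]
      exact hf𝔭
    obtain ⟨𝔮, rfl⟩ := hrange
    exact ⟨𝔮, h𝔭, rfl⟩

end CoverDef

section ClaimC

variable {R : Type u} [CommRing R] {B : Type u} [CommRing B] [HopfAlgebra R B]

/-- annihilator of `g - 1` for a group-like `g` of `S[P]`. -/
lemma smul_sub_one_eq_zero_iff {S : Type*} [CommRing S] {P : Type*} [CommMonoid P]
    {g : MonoidAlgebra S P} (hg : IsGroupLikeElem S g) (s : S) :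
    s • (g - 1) = 0 ↔ s ∈ Ideal.span {g.coeff 1} := by
  classical
  have hone : ∀ p : P, (1 : MonoidAlgebra S P).coeff p = if p = 1 then 1 else 0 := by
    intro p
    rw [MonoidAlgebra.one_def, MonoidAlgebra.coeff_single, Finsupp.single_apply]
    simp only [eq_comm]
  have hcoef : ∀ p : P, (s • (g - 1)).coeff p = s * (g.coeff p - (1 : MonoidAlgebra S P).coeff p) := by
    intro p
    rw [MonoidAlgebra.coeff_smul, Finsupp.smul_apply, MonoidAlgebra.coeff_sub, Finsupp.sub_apply,
      smul_eq_mul]
  constructor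
  · intro h
    have h1 := hcoef 1
    rw [h, hone, if_pos rfl] at h1
    rw [Ideal.mem_span_singleton']
    refine ⟨s, ?_⟩
    have h2 : (0 : MonoidAlgebra S P).coeff 1 = 0 := rfl
    rw [h2] at h1
    linear_combination -h1
  · intro h
    obtain ⟨a, rfl⟩ := Ideal.mem_span_singleton'.mp h
    apply MonoidAlgebra.coeff_injective
    ext p
    rw [hcoef, hone]
    have h0 : (0 : MonoidAlgebra S P).coeff p = 0 := rfl
    rw [h0]
    by_cases hp : p = 1
    · subst hp
      rw [if_pos rfl]
      have := coeff_mul_coeff hg 1 1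
      rw [if_pos rfl] at this
      linear_combination a * this
    · rw [if_neg hp, sub_zero]
      have := coeff_mul_coeff hg 1 p
      rw [if_neg (Ne.symm hp)] at this
      rw [mul_assoc, this, mul_zero]

/-- Over a connected base, a group-like element `b ≠ 1` of `B` has, over every member of the
cover, zero coefficient at `1`. -/
theorem coeff_one_eq_zero (𝒞 : Cover R B) (hconn : ∀ e : R, IsIdempotentElem e → e = 0 ∨ e = 1)
    {b : B} (hb : IsGroupLikeElem R b) (hb1 : b ≠ 1) (i : 𝒞.ι) :
    (𝒞.E i ((1 : 𝒞.S i) ⊗ₜ[R] b)).coeff 1 = 0 := by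
  classical
  set y := b - 1 with hy
  set I : Ideal R := LinearMap.ker (LinearMap.toSpanSingleton R B y) with hI
  have hg : ∀ j, IsGroupLikeElem (𝒞.S j) (𝒞.E j ((1 : 𝒞.S j) ⊗ₜ[R] b)) := fun j =>
    (isGroupLikeElem_tmul hb).map (𝒞.E j)
  have hEy : ∀ j, 𝒞.E j ((1 : 𝒞.S j) ⊗ₜ[R] y) = 𝒞.E j ((1 : 𝒞.S j) ⊗ₜ[R] b) - 1 := by
    intro j
    rw [hy, TensorProduct.tmul_sub, map_sub, ← Algebra.TensorProduct.one_def, map_one]
  -- (C1)
  have hC1 : ∀ j, Ideal.map (algebraMap R (𝒞.S j)) I =
      Ideal.span {(𝒞.E j ((1 : 𝒞.S j) ⊗ₜ[R] b)).coeff 1} := by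
    intro j
    apply le_antisymm
    · rw [Ideal.map_le_iff_le_comap]
      intro r hr
      rw [Ideal.mem_comap, ← smul_sub_one_eq_zero_iff (hg j), ← hEy, ← map_smul,
        Algebra.smul_def, Algebra.TensorProduct.algebraMap_apply, Algebra.TensorProduct.tmul_mul_tmul, mul_one,
        one_mul]
      have h1 : r • y = 0 := hr
      have h2 : (algebraMap R (𝒞.S j) r) ⊗ₜ[R] y = (1 : 𝒞.S j) ⊗ₜ[R] (r • y) := by
        rw [Algebra.algebraMap_eq_smul_one, TensorProduct.smul_tmul]
      rw [Algebra.algebraMap_self_apply, h2, h1, TensorProduct.tmul_zero, map_zero]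
    · rw [Ideal.span_le, Set.singleton_subset_iff]
      have h1 := (smul_sub_one_eq_zero_iff (hg j) _).mpr
        (Ideal.mem_span_singleton_self ((𝒞.E j ((1 : 𝒞.S j) ⊗ₜ[R] b)).coeff 1))
      rw [← hEy, ← map_smul] at h1
      have h2 := (EmbeddingLike.map_eq_zero_iff (f := 𝒞.E j)).mp h1
      rw [TensorProduct.smul_tmul', smul_eq_mul, mul_one] at h2
      exact mem_map_ker_toSpanSingleton y _ h2
  -- (C2)
  have hopen : IsOpen (PrimeSpectrum.zeroLocus (I : Set R)) := by
    apply 𝒞.qt
    intro j
    rw [PrimeSpectrum.preimage_comap_zeroLocus, ← PrimeSpectrum.zeroLocus_span]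
    have h1 : Ideal.span ((algebraMap R (𝒞.S j)) '' (I : Set R)) =
        Ideal.map (algebraMap R (𝒞.S j)) I := rfl
    rw [h1, hC1 j, PrimeSpectrum.zeroLocus_span]
    set ε := (𝒞.E j ((1 : 𝒞.S j) ⊗ₜ[R] b)).coeff 1 with hε
    have hidem : ε * ε = ε := by
      have := coeff_mul_coeff (hg j) 1 1
      rwa [if_pos rfl] at this
    rw [PrimeSpectrum.zeroLocus_eq_basicOpen_of_mul_add ε (1 - ε) (by rw [mul_sub, mul_one, hidem, sub_self])
      (by ring)]
    exact (PrimeSpectrum.basicOpen (1 - ε)).2
  -- (C3)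
  have hclopen : IsClopen (PrimeSpectrum.zeroLocus (I : Set R)) :=
    ⟨PrimeSpectrum.isClosed_zeroLocus _, hopen⟩
  obtain ⟨e, he, hZe⟩ := PrimeSpectrum.exists_idempotent_basicOpen_eq_of_isClopen hclopen
  rcases hconn e he with rfl | rfl
  · exfalso
    rw [PrimeSpectrum.basicOpen_zero, TopologicalSpace.Opens.coe_bot,
      PrimeSpectrum.zeroLocus_empty_iff_eq_top] at hZe
    have h1 : (1 : R) ∈ I := hZe ▸ Submodule.mem_top
    have h2 : (1 : R) • y = 0 := h1
    rw [one_smul, hy, sub_eq_zero] at h2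
    exact hb1 h2
  · rw [PrimeSpectrum.basicOpen_one, TopologicalSpace.Opens.coe_top,
      PrimeSpectrum.zeroLocus_eq_univ_iff] at hZe
    have hle : Ideal.map (algebraMap R (𝒞.S i)) I ≤ nilradical (𝒞.S i) := by
      rw [Ideal.map_le_iff_le_comap]
      intro r hr
      rw [Ideal.mem_comap, mem_nilradical]
      exact (mem_nilradical.mp (hZe hr)).map _
    have h1 : (𝒞.E i ((1 : 𝒞.S i) ⊗ₜ[R] b)).coeff 1 ∈ nilradical (𝒞.S i) := by
      apply hle
      rw [hC1 i]
      exact Ideal.mem_span_singleton_self _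
    have hidem : IsIdempotentElem ((𝒞.E i ((1 : 𝒞.S i) ⊗ₜ[R] b)).coeff 1) := by
      have := coeff_mul_coeff (hg i) 1 1
      rwa [if_pos rfl] at this
    exact hidem.eq_zero_of_isNilpotent (mem_nilradical.mp h1)

end ClaimC

section Inj

variable {R : Type u} [CommRing R] {B : Type u} [CommRing B] [HopfAlgebra R B]

/-- coefficients of `a * g'` against those of a group-like `g'` in a group algebra. -/
lemma coeff_mul_mul_coeff {S : Type*} [CommRing S] {P : Type*} [CommGroup P]
    {g' : MonoidAlgebra S P} (hg' : IsGroupLikeElem S g') (a : MonoidAlgebra S P) (p : P) :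
    g'.coeff p * (a * g').coeff p = a.coeff 1 * g'.coeff p := by
  classical
  have h1 : g'.coeff p • g' = MonoidAlgebra.single p (g'.coeff p) := by
    apply MonoidAlgebra.coeff_injective
    ext q
    rw [MonoidAlgebra.coeff_smul, Finsupp.smul_apply, smul_eq_mul, coeff_mul_coeff hg' p q,
      MonoidAlgebra.coeff_single, Finsupp.single_apply]
  have h2 : (g'.coeff p • (a * g')).coeff p = g'.coeff p * (a * g').coeff p := by
    rw [MonoidAlgebra.coeff_smul, Finsupp.smul_apply, smul_eq_mul]
  rw [← h2, ← mul_smul_comm, h1, MonoidAlgebra.coeff_mul_single_apply, mul_inv_cancel]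

/-- Over a connected base, group-like elements of `B` indexed injectively by a group are
linearly independent: the induced map from the group algebra is injective. -/
theorem lift_injective (𝒞 : Cover R B) (hconn : ∀ e : R, IsIdempotentElem e → e = 0 ∨ e = 1)
    {N : Type*} [CommGroup N] (χ : N →* B) (hχ : ∀ ν, IsGroupLikeElem R (χ ν))
    (hinj : ∀ ν, χ ν = 1 → ν = 1) : Function.Injective (MonoidAlgebra.lift R B N χ) := by
  classical
  rw [injective_iff_map_eq_zero]
  intro x hx
  apply MonoidAlgebra.coeff_injective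
  ext ν0
  change x.coeff ν0 = 0
  by_cases hν0 : ν0 ∈ x.coeff.support
  swap
  · exact Finsupp.notMem_support_iff.mp hν0
  apply 𝒞.inj
  intro i
  set g : N → MonoidAlgebra (𝒞.S i) (𝒞.P i) := fun ν => 𝒞.E i ((1 : 𝒞.S i) ⊗ₜ[R] χ ν) with hgdef
  have hg : ∀ ν, IsGroupLikeElem (𝒞.S i) (g ν) := fun ν =>
    (isGroupLikeElem_tmul (hχ ν)).map (𝒞.E i)
  -- the relation
  have h0 : ∑ ν ∈ x.coeff.support, (algebraMap R (𝒞.S i) (x.coeff ν)) • g ν = 0 := by
    have h1 : 𝒞.E i ((1 : 𝒞.S i) ⊗ₜ[R] (MonoidAlgebra.lift R B N χ x)) = 0 := by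
      rw [hx, TensorProduct.tmul_zero, map_zero]
    rw [MonoidAlgebra.lift_apply, Finsupp.sum, TensorProduct.tmul_sum, map_sum] at h1
    rw [← h1]
    refine Finset.sum_congr rfl fun ν _ => ?_
    rw [hgdef]
    simp only
    rw [← map_smul, TensorProduct.tmul_smul, TensorProduct.smul_tmul', TensorProduct.smul_tmul',
      Algebra.algebraMap_eq_smul_one, smul_eq_mul, mul_one]
  -- orthogonality
  have hK : ∀ ν ν' : N, ν ≠ ν' → ∀ p, (g ν).coeff p * (g ν').coeff p = 0 := by
    intro ν ν' hne p
    have hμ : ν * ν'⁻¹ ≠ 1 := fun h => hne (mul_inv_eq_one.mp h)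
    have hχμ : χ (ν * ν'⁻¹) ≠ 1 := fun h => hμ (hinj _ h)
    have hd := coeff_one_eq_zero 𝒞 hconn (hχ (ν * ν'⁻¹)) hχμ i
    have hmul : g ν = g (ν * ν'⁻¹) * g ν' := by
      rw [hgdef]
      simp only
      rw [← map_mul, Algebra.TensorProduct.tmul_mul_tmul, mul_one, ← map_mul,
        inv_mul_cancel_right]
    rw [mul_comm, hmul, coeff_mul_mul_coeff (hg ν'), hd, zero_mul]
  -- extraction
  have hp : ∀ p, algebraMap R (𝒞.S i) (x.coeff ν0) * (g ν0).coeff p = 0 := by
    intro p
    have h1 := congrArg (fun w => w.coeff p * (g ν0).coeff p) h0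
    simp only [MonoidAlgebra.coeff_sum, Finsupp.finsetSum_apply, MonoidAlgebra.coeff_smul,
      Finsupp.smul_apply, smul_eq_mul, MonoidAlgebra.coeff_zero, Finsupp.zero_apply, zero_mul,
      Finset.sum_mul] at h1
    rw [Finset.sum_eq_single ν0] at h1
    · rw [mul_assoc, coeff_mul_coeff (hg ν0) p p, if_pos rfl] at h1
      exact h1
    · intro ν _ hne
      rw [mul_assoc, hK ν ν0 hne p, mul_zero]
    · intro h
      exact absurd hν0 h
  have hsum := sum_coeff (hg ν0)
  rw [Finsupp.sum] at hsum
  calc algebraMap R (𝒞.S i) (x.coeff ν0) = algebraMap R (𝒞.S i) (x.coeff ν0) * 1 := (mul_one _).symm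
    _ = algebraMap R (𝒞.S i) (x.coeff ν0) * ∑ p ∈ (g ν0).coeff.support, (g ν0).coeff p := by
      rw [hsum]
    _ = 0 := by
      rw [Finset.mul_sum]
      exact Finset.sum_eq_zero fun p _ => hp p

end Inj

section Main

variable {R : Type u} [CommRing R] {B : Type u} [CommRing B] [HopfAlgebra R B]

/-- two algebra maps out of `R[N]` agreeing on the group elements agree. -/
lemma algHom_ext_single {N : Type*} [CommGroup N] {T : Type*} [CommRing T] [Algebra R T]
    {φ₁ φ₂ : MonoidAlgebra R N →ₐ[R] T}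
    (h : ∀ ν, φ₁ (MonoidAlgebra.single ν 1) = φ₂ (MonoidAlgebra.single ν 1)) : φ₁ = φ₂ := by
  apply AlgHom.ext
  intro x
  induction x using MonoidAlgebra.induction_linear with
  | zero => simp
  | add a b ha hb => rw [map_add, map_add, ha, hb]
  | single ν r =>
    have : MonoidAlgebra.single ν r = r • (MonoidAlgebra.single ν (1 : R)) := by
      rw [MonoidAlgebra.smul_single, smul_eq_mul, mul_one]
    rw [this, map_smul, map_smul, h]

/-- S2983, group algebra form: over a connected base, a Hopf quotient of a group algebra which is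
of multiplicative type is diagonalisable. -/
theorem isDiag_of_surjective (hconn : ∀ e : R, IsIdempotentElem e → e = 0 ∨ e = 1)
    (M : Type u) [CommGroup M] (ρ : MonoidAlgebra R M →ₐc[R] B) (hρ : Function.Surjective ρ)
    (hB : IsMultType R B) : IsDiag R B := by
  classical
  obtain ⟨𝒞⟩ := nonempty_cover hB
  let χ₁ : M →* B := ((ρ : MonoidAlgebra R M →ₐ[R] B) : MonoidAlgebra R M →* B).comp
    (MonoidAlgebra.of R M)
  let χ₀ : M →* Bˣ := χ₁.toHomUnits
  have hχ₀ : ∀ m, ((χ₀ m : Bˣ) : B) = ρ (MonoidAlgebra.single m 1) := fun m => rfl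
  have hgl₀ : ∀ m, IsGroupLikeElem R ((χ₀ m : Bˣ) : B) := fun m =>
    (MonoidAlgebra.isGroupLikeElem_single_one (R := R) (A := R) m).map ρ
  let χ : M ⧸ χ₀.ker →* B := (Units.coeHom B).comp (QuotientGroup.kerLift χ₀)
  have hgl : ∀ ν, IsGroupLikeElem R (χ ν) := by
    intro ν
    induction ν using QuotientGroup.induction_on with
    | H m => exact hgl₀ m
  have hinj : ∀ ν, χ ν = 1 → ν = 1 := by
    intro ν h
    apply QuotientGroup.kerLift_injective χ₀
    rw [map_one]
    exact Units.ext h
  set ρ' := MonoidAlgebra.lift R B (M ⧸ χ₀.ker) χ with hρ'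
  have hρ'_single : ∀ ν, ρ' (MonoidAlgebra.single ν 1) = χ ν := by
    intro ν
    rw [hρ', MonoidAlgebra.lift_single, one_smul]
  have hinj' : Function.Injective ρ' := lift_injective 𝒞 hconn χ hgl hinj
  have hcomp : ρ'.comp (MonoidAlgebra.mapDomainAlgHom R R (QuotientGroup.mk' χ₀.ker)) =
      (ρ : MonoidAlgebra R M →ₐ[R] B) := by
    apply algHom_ext_single
    intro m
    rw [AlgHom.comp_apply, MonoidAlgebra.mapDomainAlgHom_apply, MonoidAlgebra.mapDomain_single,
      hρ'_single]
    rfl
  have hsurj' : Function.Surjective ρ' := by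
    intro b
    obtain ⟨x, rfl⟩ := hρ b
    exact ⟨MonoidAlgebra.mapDomainAlgHom R R (QuotientGroup.mk' χ₀.ker) x,
      DFunLike.congr_fun hcomp x⟩
  let f : MonoidAlgebra R (M ⧸ χ₀.ker) ≃ₐ[R] B := AlgEquiv.ofBijective ρ' ⟨hinj', hsurj'⟩
  have hf : ∀ x, f x = ρ' x := fun x => rfl
  refine ⟨M ⧸ χ₀.ker, inferInstance, ⟨(BialgEquiv.ofAlgEquiv f ?_ ?_).symm⟩⟩
  · apply algHom_ext_single
    intro ν
    rw [AlgHom.comp_apply, Bialgebra.counitAlgHom_apply, Bialgebra.counitAlgHom_apply]
    change Coalgebra.counit (R := R) (f (MonoidAlgebra.single ν 1)) = _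
    rw [hf, hρ'_single, (hgl ν).counit_eq_one,
      (MonoidAlgebra.isGroupLikeElem_single_one (R := R) (A := R) ν).counit_eq_one]
  · apply algHom_ext_single
    intro ν
    rw [AlgHom.comp_apply, AlgHom.comp_apply, Bialgebra.comulAlgHom_apply,
      Bialgebra.comulAlgHom_apply,
      (MonoidAlgebra.isGroupLikeElem_single_one (R := R) (A := R) ν).comul_eq_tmul_self,
      Algebra.TensorProduct.map_tmul]
    change f (MonoidAlgebra.single ν 1) ⊗ₜ[R] f (MonoidAlgebra.single ν 1) =
      Coalgebra.comul (R := R) (f (MonoidAlgebra.single ν 1))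
    rw [hf, hρ'_single, (hgl ν).comul_eq_tmul_self]

end Main

end Groth.Agent.Lib.helper15.DiagSub
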