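import Mathlib
import Groth.Prelude.Def_SGA3b
import Groth.Agent.Lib.Helper15.MultLocal
import Groth.Agent.Lib.Helper15.DiagSub

/-!
# Rigidity of group-like elements modulo a nil ideal: the case of group algebras (helper15)

For a bialgebra `B` over `T` and an ideal `J` of `T`:
* `GLmod T B J x`: `x` is group-like modulo `J`;
* `RigidInj T B J`: two group-like elements congruent modulo `J` are equal;
* `RigidSurj T B J`: every element group-like modulo `J` is congruent to a group-like element.
Both hold for group algebras `T[N]` when `J` is a nil ideal (lifting of complete families of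
orthogonal idempotents), and transfer along bialgebra isomorphisms.
-/

set_option autoImplicit false
universe u
open TensorProduct

namespace Groth.Agent.Lib.helper15.Rigid

open Groth.Agent.Lib.helper15.MultType Groth.Agent.Lib.helper15.MultLocal
  Groth.Agent.Lib.helper15.DiagSub

section Defs

variable (T : Type*) [CommRing T] (B : Type*) [CommRing B] [Bialgebra T B] (J : Ideal T)

/-- `x` is group-like modulo `J`. -/
def GLmod (x : B) : Prop :=
  Coalgebra.comul (R := T) x - x ⊗ₜ[T] x ∈ J • (⊤ : Submodule T (B ⊗[T] B)) ∧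
    Coalgebra.counit (R := T) x - 1 ∈ J

/-- two group-like elements congruent modulo `J` are equal. -/
def RigidInj : Prop :=
  ∀ g g' : B, IsGroupLikeElem T g → IsGroupLikeElem T g' →
    g - g' ∈ J • (⊤ : Submodule T B) → g = g'

/-- every element which is group-like modulo `J` is congruent to a group-like element. -/
def RigidSurj : Prop :=
  ∀ x : B, GLmod T B J x → ∃ g : B, IsGroupLikeElem T g ∧ g - x ∈ J • (⊤ : Submodule T B)

end Defs

section Linear

variable {T : Type*} [CommRing T] (J : Ideal T)

lemma map_mem_smul_top {M M' : Type*} [AddCommGroup M] [Module T M] [AddCommGroup M']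
    [Module T M'] (φ : M →ₗ[T] M') {x : M} (hx : x ∈ J • (⊤ : Submodule T M)) :
    φ x ∈ J • (⊤ : Submodule T M') := by
  refine Submodule.smul_induction_on (p := fun x => φ x ∈ J • (⊤ : Submodule T M')) hx ?_ ?_
  · intro i hi y _
    rw [map_smul]
    exact Submodule.smul_mem_smul hi Submodule.mem_top
  · intro x y hx hy
    rw [map_add]
    exact add_mem hx hy

lemma apply_mem_of_mem_smul_top {M : Type*} [AddCommGroup M] [Module T M] (φ : M →ₗ[T] T)
    {x : M} (hx : x ∈ J • (⊤ : Submodule T M)) : φ x ∈ J := by
  have h := map_mem_smul_top J φ hx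
  rwa [Ideal.smul_top_eq_map, Algebra.algebraMap_self, Ideal.map_id] at h

end Linear

section GroupAlg

variable (T : Type*) [CommRing T] (N : Type*) [CommMonoid N] (J : Ideal T)

theorem rigidInj_monoidAlgebra (hJ : ∀ x ∈ J, IsNilpotent x) :
    RigidInj T (MonoidAlgebra T N) J := by
  classical
  intro g g' hg hg' hd
  apply MonoidAlgebra.coeff_injective
  ext n
  have h1 : IsIdempotentElem (g.coeff n) := by
    have := coeff_mul_coeff hg n n
    rw [if_pos rfl] at this
    exact this
  have h2 : IsIdempotentElem (g'.coeff n) := by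
    have := coeff_mul_coeff hg' n n
    rw [if_pos rfl] at this
    exact this
  apply eq_of_isNilpotent_sub_of_isIdempotentElem h1 h2
  apply hJ
  have := mem_coeff_of_mem_smul_top J hd n
  rwa [MonoidAlgebra.coeff_sub, Finsupp.sub_apply] at this

theorem rigidSurj_monoidAlgebra (hJ : ∀ x ∈ J, IsNilpotent x) :
    RigidSurj T (MonoidAlgebra T N) J := by
  classical
  rintro x ⟨hx1, hx2⟩
  have hmul : ∀ n m : N, (if n = m then x.coeff n else 0) - x.coeff n * x.coeff m ∈ J := by
    intro n m
    let φ : MonoidAlgebra T N ⊗[T] MonoidAlgebra T N →ₗ[T] T :=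
      LinearMap.mul' T T ∘ₗ TensorProduct.map (coeffAt n) (coeffAt m)
    have h := apply_mem_of_mem_smul_top J φ hx1
    rw [map_sub] at h
    have e1 : φ (Coalgebra.comul (R := T) x) = if n = m then x.coeff n else 0 :=
      mul'_map_coeffAt_comul n m x
    have e2 : φ (x ⊗ₜ[T] x) = x.coeff n * x.coeff m := by
      simp [φ, coeffAt_apply]
    rwa [e1, e2] at h
  have hsum : (x.coeff.sum fun _ r => r) - 1 ∈ J := by
    rw [← counit_eq_sum]; exact hx2
  set F := x.coeff.support with hF
  let f := Ideal.Quotient.mk J
  let ebar : F → T ⧸ J := fun n => f (x.coeff n)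
  have hcoi : CompleteOrthogonalIdempotents ebar := by
    rw [CompleteOrthogonalIdempotents.iff_ortho_complete]
    refine ⟨?_, ?_⟩
    · intro n m hnm
      have h := hmul n m
      have hne : (n : N) ≠ m := fun h => hnm (Subtype.ext h)
      rw [if_neg hne, zero_sub] at h
      have h' := J.neg_mem h
      rw [neg_neg] at h'
      change f (x.coeff n) * f (x.coeff m) = 0
      rw [← map_mul]
      exact Ideal.Quotient.eq_zero_iff_mem.mpr h'
    · change ∑ n : F, f (x.coeff n) = 1
      rw [← map_sum, ← map_one f, Ideal.Quotient.eq]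
      have : ∑ n : F, x.coeff (n : N) = x.coeff.sum fun _ r => r := by
        rw [Finset.sum_coe_sort F (fun n => x.coeff n)]
        rfl
      rw [this]
      exact hsum
  have hker : ∀ y ∈ RingHom.ker f, IsNilpotent y := by
    intro y hy
    apply hJ
    rwa [Ideal.mk_ker] at hy
  obtain ⟨e, he, hfe⟩ := CompleteOrthogonalIdempotents.lift_of_isNilpotent_ker f hker hcoi
    (fun i => ⟨_, rfl⟩)
  -- extension by zero
  let e' : N → T := fun n => if h : n ∈ F then e ⟨n, h⟩ else 0
  have he'1 : ∀ n ∈ F, ∀ m ∈ F, e' n * e' m = if n = m then e' n else 0 := by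
    intro n hn m hm
    simp only [e', dif_pos hn, dif_pos hm]
    have := he.toOrthogonalIdempotents.mul_eq ⟨n, hn⟩ ⟨m, hm⟩
    rw [this]
    simp only [Subtype.mk.injEq]
  have he'2 : ∑ n ∈ F, e' n = 1 := by
    rw [← he.complete, ← Finset.sum_coe_sort F e']
    apply Finset.sum_congr rfl
    intro n _
    simp only [e', dif_pos n.2]
  have he'3 : ∀ n ∈ F, e' n - x.coeff n ∈ J := by
    intro n hn
    simp only [e', dif_pos hn]
    have := congrFun hfe ⟨n, hn⟩
    rw [← Ideal.Quotient.eq]
    exact this
  have hgl : ∀ n : N, IsGroupLikeElem T (MonoidAlgebra.single n (1 : T)) :=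
    fun n => MonoidAlgebra.isGroupLikeElem_single_one (R := T) (A := T) n
  refine ⟨∑ n ∈ F, e' n • MonoidAlgebra.single n (1 : T), ⟨?_, ?_⟩, ?_⟩
  · rw [map_sum]
    simp only [map_smul, (hgl _).counit_eq_one, smul_eq_mul, mul_one]
    exact he'2
  · rw [map_sum]
    simp only [map_smul, (hgl _).comul_eq_tmul_self]
    rw [TensorProduct.sum_tmul]
    apply Finset.sum_congr rfl
    intro n hn
    rw [TensorProduct.tmul_sum]
    have : ∀ m ∈ F, (e' n • MonoidAlgebra.single n (1 : T)) ⊗ₜ[T]
        (e' m • MonoidAlgebra.single m (1 : T)) =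
        if n = m then e' n • (MonoidAlgebra.single n (1 : T) ⊗ₜ[T] MonoidAlgebra.single n 1)
          else 0 := by
      intro m hm
      rw [TensorProduct.smul_tmul_smul, he'1 n hn m hm]
      split_ifs with h
      · subst h; rfl
      · rw [zero_smul]
    rw [Finset.sum_congr rfl this, Finset.sum_ite_eq F n, if_pos hn]
  · apply mem_smul_top_of_coeff
    intro m
    rw [MonoidAlgebra.coeff_sub, Finsupp.sub_apply, MonoidAlgebra.coeff_sum,
      Finsupp.finsetSum_apply]
    simp only [MonoidAlgebra.coeff_smul, MonoidAlgebra.coeff_single, Finsupp.smul_apply,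
      Finsupp.single_apply, smul_eq_mul, mul_ite, mul_one, mul_zero]
    rw [Finset.sum_ite_eq' F m]
    split_ifs with hm
    · exact he'3 m hm
    · have : x.coeff m = 0 := by
        rw [hF] at hm
        simpa using hm
      rw [this, sub_zero]
      exact J.zero_mem

end GroupAlg

section Transfer

variable {T : Type*} [CommRing T] {B B' : Type*} [CommRing B] [CommRing B'] [Bialgebra T B]
  [Bialgebra T B'] (J : Ideal T)

lemma glmod_map (φ : B →ₐc[T] B') {x : B} (hx : GLmod T B J x) : GLmod T B' J (φ x) := by
  obtain ⟨h1, h2⟩ := hx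
  refine ⟨?_, ?_⟩
  · have h := map_mem_smul_top J (TensorProduct.map (φ : B →ₗ[T] B') (φ : B →ₗ[T] B')) h1
    rw [map_sub, TensorProduct.map_tmul] at h
    have hc : TensorProduct.map (φ : B →ₗ[T] B') (φ : B →ₗ[T] B') (Coalgebra.comul (R := T) x) =
        Coalgebra.comul (R := T) (φ x) := by
      have := CoalgHomClass.map_comp_comul (R := T) φ
      exact LinearMap.congr_fun this x
    rw [hc] at h
    exact h
  · have : Coalgebra.counit (R := T) (φ x) = Coalgebra.counit (R := T) x := by
      have := CoalgHomClass.counit_comp (R := T) φ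
      exact LinearMap.congr_fun this x
    rw [this]
    exact h2

theorem rigidInj_of_equiv (e : B ≃ₐc[T] B') (h : RigidInj T B' J) : RigidInj T B J := by
  intro g g' hg hg' hd
  apply e.injective
  apply h _ _ (hg.map e) (hg'.map e)
  rw [← map_sub]
  exact equiv_sub_mem e J hd

theorem rigidSurj_of_equiv (e : B ≃ₐc[T] B') (h : RigidSurj T B' J) : RigidSurj T B J := by
  intro x hx
  obtain ⟨g, hg, hgx⟩ := h (e x) (glmod_map J (e : B →ₐc[T] B') hx)
  refine ⟨e.symm g, hg.map e.symm, ?_⟩
  have := equiv_sub_mem e.symm J hgx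
  rwa [map_sub, BialgEquiv.symm_apply_apply] at this

end Transfer

end Groth.Agent.Lib.helper15.Rigid
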