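import Mathlib
import Groth.Prelude.Def_SGA3b
import Groth.Agent.Lib.Helper15.Rigid0

/-!
# Rigidity of group-like elements: faithfully flat descent (helper15)

* `exact_amitsur`, `exists_of_coface_eq`: exactness of `N → S ⊗ N → (S ⊗ S) ⊗ N` for a faithfully
  flat `R`-algebra `S` and an arbitrary `R`-module `N`.
* `liftGL`: the bialgebra map `T[P] → B` of a character with group-like values.
* `bcDiag`: base change of a diagonalisable bialgebra.
* `isGroupLikeElem_rTensor`: semilinear base change preserves group-like elements.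
* `beta`, `glmod_tmul`, `eqs_of_groupLike_tmul`, `glmod_of_tmul_quot`: group-likeness and base change.
* `JI`, `faithfullyFlat_pi`, `glue`, `double_ji`: finite families of flat algebras.
* `rigidInj_descent`, `rigidSurj_descent`: descent of rigidity along a finite jointly faithfully
  flat family.
-/

set_option autoImplicit false
set_option linter.unusedSectionVars false
set_option linter.style.haveILetI false
universe u
open TensorProduct

namespace Groth.Agent.Lib.helper15.Rigid

open Groth.Agent.Lib.helper15.MultType Groth.Agent.Lib.helper15.MultLocal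
  Groth.Agent.Lib.helper15.DiagSub

section Amitsur

variable (R : Type*) [CommRing R] (S : Type*) [CommRing S] [Algebra R S]
  (N : Type*) [AddCommGroup N] [Module R N]

/-- the two coface maps `S → S ⊗ S` -/
noncomputable abbrev cL : S →ₗ[R] S ⊗[R] S :=
  (Algebra.TensorProduct.includeLeft (R := R) (S := R) (A := S) (B := S)).toLinearMap
noncomputable abbrev cR : S →ₗ[R] S ⊗[R] S :=
  (Algebra.TensorProduct.includeRight (R := R) (A := S) (B := S)).toLinearMap

noncomputable def d0 : N →ₗ[R] S ⊗[R] N := TensorProduct.mk R S N 1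

noncomputable def d1 : S ⊗[R] N →ₗ[R] (S ⊗[R] S) ⊗[R] N :=
  LinearMap.rTensor N (cL R S - cR R S)

lemma d1_tmul (s : S) (n : N) :
    d1 R S N (s ⊗ₜ[R] n) = (s ⊗ₜ[R] (1 : S)) ⊗ₜ[R] n - ((1 : S) ⊗ₜ[R] s) ⊗ₜ[R] n := by
  simp [d1]

noncomputable def kk : S ⊗[R] (S ⊗[R] N) →ₗ[R] S ⊗[R] N :=
  LinearMap.rTensor N (LinearMap.mul' R S) ∘ₗ (TensorProduct.assoc R S S N).symm.toLinearMap

noncomputable def hh : S ⊗[R] ((S ⊗[R] S) ⊗[R] N) →ₗ[R] S ⊗[R] (S ⊗[R] N) :=
  (TensorProduct.assoc R S S N).toLinearMap ∘ₗ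
    LinearMap.rTensor N (LinearMap.rTensor S (LinearMap.mul' R S) ∘ₗ
      (TensorProduct.assoc R S S S).symm.toLinearMap) ∘ₗ
    (TensorProduct.assoc R S (S ⊗[R] S) N).symm.toLinearMap

lemma homotopy :
    hh R S N ∘ₗ (d1 R S N).lTensor S = (d0 R S N).lTensor S ∘ₗ kk R S N - LinearMap.id := by
  ext s s' n
  simp [hh, kk, d0, d1_tmul, TensorProduct.tmul_sub]

theorem exact_amitsur [Module.FaithfullyFlat R S] : Function.Exact (d0 R S N) (d1 R S N) := by
  apply Module.FaithfullyFlat.lTensor_reflects_exact R S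
  intro z
  constructor
  · intro hz
    refine ⟨kk R S N z, ?_⟩
    have := LinearMap.congr_fun (homotopy R S N) z
    simp only [LinearMap.comp_apply, LinearMap.sub_apply, LinearMap.id_apply] at this
    rw [hz, map_zero] at this
    exact (sub_eq_zero.mp this.symm)
  · rintro ⟨w, rfl⟩
    rw [← LinearMap.comp_apply, ← LinearMap.lTensor_comp]
    have : d1 R S N ∘ₗ d0 R S N = 0 := by
      ext n
      simp [d0, d1_tmul]
    rw [this, LinearMap.lTensor_zero, LinearMap.zero_apply]

theorem exists_of_coface_eq [Module.FaithfullyFlat R S] (g : S ⊗[R] N)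
    (h : LinearMap.rTensor N (cL R S) g = LinearMap.rTensor N (cR R S) g) :
    ∃ n : N, (1 : S) ⊗ₜ[R] n = g := by
  have h1 : d1 R S N g = 0 := by
    rw [d1, LinearMap.rTensor_sub, LinearMap.sub_apply, h, sub_self]
  obtain ⟨n, hn⟩ := (exact_amitsur R S N g).mp h1
  exact ⟨n, hn⟩

end Amitsur


section LiftGL

variable {T : Type*} [CommRing T] {P : Type*} [CommMonoid P] {B : Type*} [CommRing B]
  [Bialgebra T B]

/-- the bialgebra map `T[P] → B` attached to a character with group-like values. -/
noncomputable def liftGL (g : P →* B) (hg : ∀ p, IsGroupLikeElem T (g p)) :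
    MonoidAlgebra T P →ₐc[T] B :=
  BialgHom.ofAlgHom (MonoidAlgebra.lift T B P g)
    (by
      refine MonoidAlgebra.algHom_ext (fun p => ?_) (Subsingleton.elim _ _)
      simp only [AlgHom.comp_apply, Bialgebra.counitAlgHom_apply, MonoidAlgebra.lift_single,
        one_smul, (hg p).counit_eq_one]
      exact ((MonoidAlgebra.isGroupLikeElem_single_one (R := T) (A := T) p).counit_eq_one).symm)
    (by
      refine MonoidAlgebra.algHom_ext (fun p => ?_) (Subsingleton.elim _ _)
      simp only [AlgHom.comp_apply, Bialgebra.comulAlgHom_apply, MonoidAlgebra.lift_single,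
        one_smul, (hg p).comul_eq_tmul_self]
      rw [(MonoidAlgebra.isGroupLikeElem_single_one (R := T) (A := T) p).comul_eq_tmul_self,
        Algebra.TensorProduct.map_tmul, MonoidAlgebra.lift_single, one_smul])

lemma liftGL_single (g : P →* B) (hg : ∀ p, IsGroupLikeElem T (g p)) (p : P) (t : T) :
    liftGL g hg (MonoidAlgebra.single p t) = t • g p := by
  change MonoidAlgebra.lift T B P g (MonoidAlgebra.single p t) = _
  rw [MonoidAlgebra.lift_single]

lemma liftGL_apply (g : P →* B) (hg : ∀ p, IsGroupLikeElem T (g p)) (x : MonoidAlgebra T P) :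
    liftGL g hg x = x.coeff.sum fun p t => t • g p := by
  change MonoidAlgebra.lift T B P g x = _
  rw [MonoidAlgebra.lift_apply]

end LiftGL

section BcDiag

variable {T : Type*} [CommRing T] {P : Type*} [CommMonoid P] {B : Type*} [CommRing B]
  [Bialgebra T B] (T' : Type*) [CommRing T'] [Algebra T T']

/-- the character `p ↦ 1 ⊗ E⁻¹(p)` -/
noncomputable def bcChar (E : B ≃ₐc[T] MonoidAlgebra T P) : P →* T' ⊗[T] B where
  toFun p := (1 : T') ⊗ₜ[T] E.symm (MonoidAlgebra.single p 1)
  map_one' := by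
    have : (MonoidAlgebra.single (1 : P) (1 : T)) = 1 := rfl
    rw [this, map_one]; rfl
  map_mul' p q := by
    have : (MonoidAlgebra.single (p * q) (1 : T)) =
        MonoidAlgebra.single p 1 * MonoidAlgebra.single q 1 := by
      rw [MonoidAlgebra.single_mul_single, one_mul]
    rw [this, map_mul, Algebra.TensorProduct.tmul_mul_tmul, one_mul]

lemma bcChar_groupLike (E : B ≃ₐc[T] MonoidAlgebra T P) (p : P) :
    IsGroupLikeElem T' (bcChar T' E p) :=
  isGroupLikeElem_tmul
    ((MonoidAlgebra.isGroupLikeElem_single_one (R := T) (A := T) p).map E.symm)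

noncomputable def bcDiagHom (E : B ≃ₐc[T] MonoidAlgebra T P) :
    MonoidAlgebra T' P →ₐc[T'] T' ⊗[T] B :=
  liftGL (bcChar T' E) (bcChar_groupLike T' E)

lemma bcDiagHom_eq (E : B ≃ₐc[T] MonoidAlgebra T P) (z : MonoidAlgebra T' P) :
    bcDiagHom T' E z =
      Algebra.TensorProduct.congr (AlgEquiv.refl (R := T') (A₁ := T'))
        (E.symm : MonoidAlgebra T P ≃ₐ[T] B)
        ((MonoidAlgebra.scalarTensorEquiv T T').symm z) := by
  induction z using MonoidAlgebra.induction_linear with
  | zero => simp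
  | add x y hx hy => rw [map_add, map_add, map_add, hx, hy]
  | single p t =>
    rw [bcDiagHom, liftGL_single, MonoidAlgebra.scalarTensorEquiv_symm_single]
    simp only [Algebra.TensorProduct.congr_apply, Algebra.TensorProduct.map_tmul]
    change t • ((1 : T') ⊗ₜ[T] E.symm (MonoidAlgebra.single p 1)) = _
    rw [TensorProduct.smul_tmul', smul_eq_mul, mul_one]
    rfl

theorem bcDiagHom_bijective (E : B ≃ₐc[T] MonoidAlgebra T P) :
    Function.Bijective (bcDiagHom T' E) := by
  have : ⇑(bcDiagHom T' E) =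
      ⇑(Algebra.TensorProduct.congr (AlgEquiv.refl (R := T') (A₁ := T'))
        (E.symm : MonoidAlgebra T P ≃ₐ[T] B)) ∘ ⇑(MonoidAlgebra.scalarTensorEquiv T T' (M := P)).symm := by
    funext z
    exact bcDiagHom_eq T' E z
  rw [this]
  exact (AlgEquiv.bijective _).comp (AlgEquiv.bijective _)

/-- base change of a diagonalisable bialgebra. -/
noncomputable def bcDiag (E : B ≃ₐc[T] MonoidAlgebra T P) :
    T' ⊗[T] B ≃ₐc[T'] MonoidAlgebra T' P :=
  (BialgEquiv.ofBijective (bcDiagHom T' E) (bcDiagHom_bijective T' E)).symm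

end BcDiag


section SL

variable {R : Type*} [CommRing R] {T T' : Type*} [CommRing T] [CommRing T'] [Algebra R T]
  [Algebra R T'] (σ : T →ₐ[R] T') {A : Type*} [CommRing A] [Bialgebra R A]

/-- semilinear base change preserves group-like elements. -/
lemma isGroupLikeElem_rTensor {y : T ⊗[R] A} (hy : IsGroupLikeElem T y) :
    IsGroupLikeElem T' (LinearMap.rTensor A σ.toLinearMap y) := by
  letI : Algebra T T' := σ.toRingHom.toAlgebra
  haveI : IsScalarTower R T T' := IsScalarTower.of_algebraMap_eq fun r => (σ.commutes r).symm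
  have h1 : IsGroupLikeElem T' ((1 : T') ⊗ₜ[T] y) := isGroupLikeElem_tmul hy
  have h2 := h1.map (cancelBialg R T T' A)
  have h3 : ∀ y : T ⊗[R] A,
      cancelBialg R T T' A ((1 : T') ⊗ₜ[T] y) = LinearMap.rTensor A σ.toLinearMap y := by
    intro y
    induction y using TensorProduct.induction_on with
    | zero => simp
    | tmul t a =>
      rw [cancelBialg_tmul, LinearMap.rTensor_tmul, Algebra.smul_def, mul_one]
      rfl
    | add x y hx hy => rw [TensorProduct.tmul_add, map_add, map_add, hx, hy]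
  rwa [h3] at h2

lemma rTensor_smul (t : T) (z : T ⊗[R] A) :
    LinearMap.rTensor A σ.toLinearMap (t • z) = σ t • LinearMap.rTensor A σ.toLinearMap z := by
  induction z using TensorProduct.induction_on with
  | zero => simp
  | tmul t₁ a =>
    rw [TensorProduct.smul_tmul', LinearMap.rTensor_tmul, LinearMap.rTensor_tmul,
      TensorProduct.smul_tmul', smul_eq_mul, smul_eq_mul]
    simp
  | add x y hx hy => rw [smul_add, map_add, map_add, hx, hy, smul_add]

lemma rTensor_mem_smul_top (I : Ideal R) {y : T ⊗[R] A}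
    (hy : y ∈ (I.map (algebraMap R T)) • (⊤ : Submodule T (T ⊗[R] A))) :
    LinearMap.rTensor A σ.toLinearMap y ∈
      (I.map (algebraMap R T')) • (⊤ : Submodule T' (T' ⊗[R] A)) := by
  refine Submodule.smul_induction_on
    (p := fun y => LinearMap.rTensor A σ.toLinearMap y ∈
      (I.map (algebraMap R T')) • (⊤ : Submodule T' (T' ⊗[R] A))) hy ?_ ?_
  · intro t ht z _
    rw [rTensor_smul]
    refine Submodule.smul_mem_smul ?_ Submodule.mem_top
    have h1 : Ideal.map (σ : T →+* T') (I.map (algebraMap R T)) = I.map (algebraMap R T') := by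
      rw [Ideal.map_map]
      congr 1
      exact σ.comp_algebraMap
    rw [← h1]
    exact Ideal.mem_map_of_mem _ ht
  · intro x y hx hy
    rw [map_add]
    exact add_mem hx hy

end SL

section Beta

variable (R : Type*) [CommRing R] (S : Type*) [CommRing S] [Algebra R S]
  (A : Type*) [CommRing A] [Bialgebra R A]

/-- `a ⊗ b ↦ (1 ⊗ a) ⊗ (1 ⊗ b)` -/
noncomputable def beta : A ⊗[R] A →ₗ[R] (S ⊗[R] A) ⊗[S] (S ⊗[R] A) :=
  ((AlgebraTensorModule.tensorTensorTensorComm R S R S S S A A).toLinearMap.restrictScalars R) ∘ₗ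
    (TensorProduct.mk R (S ⊗[S] S) (A ⊗[R] A) ((1 : S) ⊗ₜ[S] (1 : S)))

lemma beta_apply (z : A ⊗[R] A) :
    beta R S A z = AlgebraTensorModule.tensorTensorTensorComm R S R S S S A A
      (((1 : S) ⊗ₜ[S] (1 : S)) ⊗ₜ[R] z) := rfl

lemma beta_tmul (a b : A) :
    beta R S A (a ⊗ₜ[R] b) = ((1 : S) ⊗ₜ[R] a) ⊗ₜ[S] ((1 : S) ⊗ₜ[R] b) := by
  rw [beta_apply, AlgebraTensorModule.tensorTensorTensorComm_tmul]

lemma beta_comul (a : A) :
    beta R S A (Coalgebra.comul (R := R) a) = Coalgebra.comul (R := S) ((1 : S) ⊗ₜ[R] a) := by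
  rw [beta_apply, TensorProduct.comul_tmul, CommSemiring.comul_apply]

lemma beta_eq_zero {z : A ⊗[R] A} (h : beta R S A z = 0) : (1 : S) ⊗ₜ[R] z = 0 := by
  rw [beta_apply] at h
  have h1 : ((1 : S) ⊗ₜ[S] (1 : S)) ⊗ₜ[R] z = 0 :=
    (AlgebraTensorModule.tensorTensorTensorComm R S R S S S A A).injective (by rw [h, map_zero])
  have h2 := congrArg (LinearMap.rTensor (A ⊗[R] A)
    ((TensorProduct.lid S S).toLinearMap.restrictScalars R)) h1
  rw [LinearMap.rTensor_tmul, map_zero] at h2
  simpa using h2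

lemma beta_mem (I : Ideal R) {z : A ⊗[R] A} (hz : z ∈ I • (⊤ : Submodule R (A ⊗[R] A))) :
    beta R S A z ∈ (I.map (algebraMap R S)) •
      (⊤ : Submodule S ((S ⊗[R] A) ⊗[S] (S ⊗[R] A))) := by
  refine Submodule.smul_induction_on
    (p := fun z => beta R S A z ∈ (I.map (algebraMap R S)) •
      (⊤ : Submodule S ((S ⊗[R] A) ⊗[S] (S ⊗[R] A)))) hz ?_ ?_
  · intro i hi y _
    rw [map_smul, ← algebraMap_smul S i]
    exact Submodule.smul_mem_smul (Ideal.mem_map_of_mem _ hi) Submodule.mem_top
  · intro x y hx hy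
    rw [map_add]
    exact add_mem hx hy

variable {R S A}

lemma glmod_tmul (I : Ideal R) {x : A} (hx : GLmod R A I x) :
    GLmod S (S ⊗[R] A) (I.map (algebraMap R S)) ((1 : S) ⊗ₜ[R] x) := by
  obtain ⟨h1, h2⟩ := hx
  refine ⟨?_, ?_⟩
  · have := beta_mem R S A I h1
    rwa [map_sub, beta_comul, beta_tmul] at this
  · rw [TensorProduct.counit_tmul, CommSemiring.counit_apply]
    have : Coalgebra.counit (R := R) x • (1 : S) - 1 =
        algebraMap R S (Coalgebra.counit (R := R) x - 1) := by
      rw [map_sub, map_one, Algebra.algebraMap_eq_smul_one]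
    rw [this]
    exact Ideal.mem_map_of_mem _ h2

lemma eqs_of_groupLike_tmul {a : A} (h : IsGroupLikeElem S ((1 : S) ⊗ₜ[R] a)) :
    (1 : S) ⊗ₜ[R] (Coalgebra.comul (R := R) a - a ⊗ₜ[R] a) = 0 ∧
      algebraMap R S (Coalgebra.counit (R := R) a - 1) = 0 := by
  refine ⟨?_, ?_⟩
  · apply beta_eq_zero
    rw [map_sub, beta_comul, beta_tmul, h.comul_eq_tmul_self, sub_self]
  · have := h.counit_eq_one
    rw [TensorProduct.counit_tmul, CommSemiring.counit_apply] at this
    rw [map_sub, map_one, Algebra.algebraMap_eq_smul_one, this, sub_self]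

lemma glmod_of_tmul_quot (I : Ideal R) {x : A}
    (h : IsGroupLikeElem (R ⧸ I) ((1 : R ⧸ I) ⊗ₜ[R] x)) : GLmod R A I x := by
  obtain ⟨h1, h2⟩ := eqs_of_groupLike_tmul h
  refine ⟨?_, ?_⟩
  · have := sub_mem_of_tmul_eq I (x := Coalgebra.comul (R := R) x - x ⊗ₜ[R] x) (y := 0)
      (by rw [h1, TensorProduct.tmul_zero])
    rwa [sub_zero] at this
  · exact Ideal.Quotient.eq_zero_iff_mem.mp h2

end Beta


section Family

variable {R : Type u} [CommRing R] {ι : Type u} [Fintype ι] [DecidableEq ι]
  (S : ι → Type u) [∀ i, CommRing (S i)] [∀ i, Algebra R (S i)]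

noncomputable abbrev pr (i : ι) : (∀ i, S i) →ₗ[R] S i := LinearMap.proj i
noncomputable abbrev sg (i : ι) : S i →ₗ[R] (∀ i, S i) := LinearMap.single R S i

lemma sum_sg_pr : ∑ i, sg (R := R) S i ∘ₗ pr S i = LinearMap.id := by
  refine LinearMap.ext fun x => ?_
  simp only [LinearMap.sum_apply, LinearMap.comp_apply, LinearMap.proj_apply,
    LinearMap.coe_single, LinearMap.id_apply]
  exact Finset.univ_sum_single x

/-- the joint injectivity hypothesis. -/
def JI : Prop :=
  ∀ (N : Type u) [AddCommGroup N] [Module R N] (n : N), (∀ i, (1 : S i) ⊗ₜ[R] n = 0) → n = 0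

variable {S}

lemma flat_pi [∀ i, Module.Flat R (S i)] : Module.Flat R (∀ i, S i) :=
  Module.Flat.of_linearEquiv (DFinsupp.linearEquivFunOnFintype (R := R) (M := S)).symm

theorem faithfullyFlat_pi [∀ i, Module.Flat R (S i)] (ji : JI (R := R) S) :
    Module.FaithfullyFlat R (∀ i, S i) := by
  rw [Module.FaithfullyFlat.iff_flat_and_lTensor_reflects_triviality]
  refine ⟨flat_pi, ?_⟩
  intro N _ _ hsub
  refine ⟨fun n n' => ?_⟩
  have key : ∀ n : N, n = 0 := by
    intro n
    apply ji N n
    intro i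
    have h0 : (1 : ∀ i, S i) ⊗ₜ[R] n = 0 := Subsingleton.elim _ _
    have := congrArg (LinearMap.rTensor N (pr (R := R) S i)) h0
    rw [LinearMap.rTensor_tmul, map_zero] at this
    exact this
  rw [key n, key n']

variable (S) in
/-- gluing a family of elements of `S i ⊗ N` to an element of `(∏ S i) ⊗ N`. -/
noncomputable def glue {N : Type*} [AddCommGroup N] [Module R N] (g : ∀ i, S i ⊗[R] N) :
    (∀ i, S i) ⊗[R] N :=
  ∑ i, LinearMap.rTensor N (sg (R := R) S i) (g i)

lemma pr_glue {N : Type*} [AddCommGroup N] [Module R N] (g : ∀ i, S i ⊗[R] N) (j : ι) :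
    LinearMap.rTensor N (pr (R := R) S j) (glue S g) = g j := by
  rw [glue, map_sum]
  rw [Finset.sum_eq_single j]
  · rw [← LinearMap.comp_apply, ← LinearMap.rTensor_comp, LinearMap.proj_comp_single_same,
      LinearMap.rTensor_id, LinearMap.id_apply]
  · intro i _ hij
    rw [← LinearMap.comp_apply, ← LinearMap.rTensor_comp,
      LinearMap.proj_comp_single_ne _ _ _ _ (Ne.symm hij), LinearMap.rTensor_zero,
      LinearMap.zero_apply]
  · intro h
    exact absurd (Finset.mem_univ j) h

lemma sum_map_sg_pr :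
    ∑ i, ∑ j, TensorProduct.map (sg (R := R) S i) (sg (R := R) S j) ∘ₗ
      TensorProduct.map (pr (R := R) S i) (pr (R := R) S j) = LinearMap.id := by
  apply TensorProduct.ext'
  intro x y
  simp only [LinearMap.sum_apply, LinearMap.comp_apply, TensorProduct.map_tmul,
    LinearMap.id_apply]
  have hx : x = ∑ i, sg (R := R) S i (pr (R := R) S i x) := by
    have := LinearMap.congr_fun (sum_sg_pr (R := R) S) x
    simpa [LinearMap.sum_apply] using this.symm
  have hy : y = ∑ i, sg (R := R) S i (pr (R := R) S i y) := by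
    have := LinearMap.congr_fun (sum_sg_pr (R := R) S) y
    simpa [LinearMap.sum_apply] using this.symm
  conv_rhs => rw [hx, hy]
  rw [TensorProduct.sum_tmul]
  apply Finset.sum_congr rfl
  intro i _
  rw [TensorProduct.tmul_sum]

lemma double_ji {N : Type*} [AddCommGroup N] [Module R N]
    (y : ((∀ i, S i) ⊗[R] (∀ i, S i)) ⊗[R] N)
    (h : ∀ i j, LinearMap.rTensor N
      (TensorProduct.map (pr (R := R) S i) (pr (R := R) S j)) y = 0) : y = 0 := by
  have h1 : LinearMap.rTensor N (LinearMap.id (R := R) (M := (∀ i, S i) ⊗[R] (∀ i, S i))) y = y := by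
    rw [LinearMap.rTensor_id, LinearMap.id_apply]
  rw [← h1, ← sum_map_sg_pr]
  change (LinearMap.rTensorHom N (∑ i, ∑ j, TensorProduct.map (sg (R := R) S i) (sg (R := R) S j) ∘ₗ
      TensorProduct.map (pr (R := R) S i) (pr (R := R) S j))) y = 0
  rw [map_sum, LinearMap.sum_apply]
  apply Finset.sum_eq_zero
  intro i _
  rw [map_sum, LinearMap.sum_apply]
  apply Finset.sum_eq_zero
  intro j _
  rw [LinearMap.coe_rTensorHom, LinearMap.rTensor_comp, LinearMap.comp_apply, h i j, map_zero]

end Family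

section Descent

variable {R : Type u} [CommRing R] {ι : Type u} [Fintype ι] [DecidableEq ι]
  {S : ι → Type u} [∀ i, CommRing (S i)] [∀ i, Algebra R (S i)]
  {A : Type u} [CommRing A] [Bialgebra R A] (I : Ideal R)

theorem rigidInj_descent (ji : JI (R := R) S)
    (h1 : ∀ i, RigidInj (S i) (S i ⊗[R] A) (I.map (algebraMap R (S i)))) : RigidInj R A I := by
  intro g g' hg hg' hd
  have h : ∀ i, (1 : S i) ⊗ₜ[R] g = (1 : S i) ⊗ₜ[R] g' := by
    intro i
    refine h1 i _ _ (isGroupLikeElem_tmul hg) (isGroupLikeElem_tmul hg') ?_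
    rw [← TensorProduct.tmul_sub]
    exact tmul_mem_smul_top (S i) I hd 1
  have := ji A (g - g') (fun i => by rw [TensorProduct.tmul_sub, h i, sub_self])
  exact sub_eq_zero.mp this

lemma lTensor_mkQ_eq_zero {S₀ : Type*} [CommRing S₀] [Algebra R S₀] {N : Type*} [AddCommGroup N]
    [Module R N] {w : S₀ ⊗[R] N}
    (hw : w ∈ (I.map (algebraMap R S₀)) • (⊤ : Submodule S₀ (S₀ ⊗[R] N))) :
    LinearMap.lTensor S₀ (Submodule.mkQ (I • (⊤ : Submodule R N))) w = 0 := by
  have hann : ∀ t ∈ I.map (algebraMap R S₀),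
      ∀ y : S₀ ⊗[R] (N ⧸ (I • (⊤ : Submodule R N))), t • y = 0 := by
    intro t ht
    have hle : I.map (algebraMap R S₀) ≤
        Module.annihilator S₀ (S₀ ⊗[R] (N ⧸ (I • (⊤ : Submodule R N)))) := by
      rw [Ideal.map_le_iff_le_comap]
      intro i hi
      rw [Ideal.mem_comap, Module.mem_annihilator]
      intro y
      induction y using TensorProduct.induction_on with
      | zero => simp
      | tmul s n =>
        induction n using Submodule.Quotient.induction_on with
        | H n =>
          rw [algebraMap_smul, ← TensorProduct.tmul_smul, ← Submodule.Quotient.mk_smul]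
          have : Submodule.Quotient.mk (p := I • (⊤ : Submodule R N)) (i • n) = 0 := by
            rw [Submodule.Quotient.mk_eq_zero]
            exact Submodule.smul_mem_smul hi Submodule.mem_top
          rw [this, TensorProduct.tmul_zero]
      | add x y hx hy => rw [smul_add, hx, hy, add_zero]
    exact fun y => Module.mem_annihilator.mp (hle ht) y
  have hsl : ∀ (t : S₀) (z : S₀ ⊗[R] N),
      LinearMap.lTensor S₀ (Submodule.mkQ (I • (⊤ : Submodule R N))) (t • z) =
        t • LinearMap.lTensor S₀ (Submodule.mkQ (I • (⊤ : Submodule R N))) z := by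
    intro t z
    induction z using TensorProduct.induction_on with
    | zero => simp
    | tmul s n => rw [TensorProduct.smul_tmul', LinearMap.lTensor_tmul, LinearMap.lTensor_tmul,
        TensorProduct.smul_tmul']
    | add x y hx hy => rw [smul_add, map_add, map_add, hx, hy, smul_add]
  refine Submodule.smul_induction_on
    (p := fun w => LinearMap.lTensor S₀ (Submodule.mkQ (I • (⊤ : Submodule R N))) w = 0) hw ?_ ?_
  · intro t ht z _
    rw [hsl]
    exact hann t ht _
  · intro x y hx hy
    rw [map_add, hx, hy, add_zero]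

theorem rigidSurj_descent [∀ i, Module.Flat R (S i)] (ji : JI (R := R) S)
    (h1 : ∀ i, RigidSurj (S i) (S i ⊗[R] A) (I.map (algebraMap R (S i))))
    (h2 : ∀ i j, RigidInj (S i ⊗[R] S j) ((S i ⊗[R] S j) ⊗[R] A)
      (I.map (algebraMap R (S i ⊗[R] S j)))) : RigidSurj R A I := by
  intro x hx
  haveI : Module.FaithfullyFlat R (∀ i, S i) := faithfullyFlat_pi ji
  choose g hg hgx using fun i => h1 i _ (glmod_tmul (S := S i) I hx)
  set G := glue S g with hG
  -- the cocycle condition
  have hco : LinearMap.rTensor A (cL R (∀ i, S i)) G = LinearMap.rTensor A (cR R (∀ i, S i)) G := by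
    rw [← sub_eq_zero]
    apply double_ji
    intro i j
    rw [map_sub, sub_eq_zero]
    let σL : S i →ₐ[R] S i ⊗[R] S j := Algebra.TensorProduct.includeLeft
    let σR : S j →ₐ[R] S i ⊗[R] S j := Algebra.TensorProduct.includeRight
    have eL : LinearMap.rTensor A (TensorProduct.map (pr (R := R) S i) (pr (R := R) S j))
        (LinearMap.rTensor A (cL R (∀ i, S i)) G) = LinearMap.rTensor A σL.toLinearMap (g i) := by
      rw [← LinearMap.comp_apply, ← LinearMap.rTensor_comp]
      have : TensorProduct.map (pr (R := R) S i) (pr (R := R) S j) ∘ₗ cL R (∀ i, S i) =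
          σL.toLinearMap ∘ₗ pr (R := R) S i := by
        ext x
        simp [σL]
      rw [this, LinearMap.rTensor_comp, LinearMap.comp_apply, hG, pr_glue]
    have eR : LinearMap.rTensor A (TensorProduct.map (pr (R := R) S i) (pr (R := R) S j))
        (LinearMap.rTensor A (cR R (∀ i, S i)) G) = LinearMap.rTensor A σR.toLinearMap (g j) := by
      rw [← LinearMap.comp_apply, ← LinearMap.rTensor_comp]
      have : TensorProduct.map (pr (R := R) S i) (pr (R := R) S j) ∘ₗ cR R (∀ i, S i) =
          σR.toLinearMap ∘ₗ pr (R := R) S j := by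
        ext x
        simp [σR]
      rw [this, LinearMap.rTensor_comp, LinearMap.comp_apply, hG, pr_glue]
    rw [eL, eR]
    refine h2 i j _ _ (isGroupLikeElem_rTensor σL (hg i)) (isGroupLikeElem_rTensor σR (hg j)) ?_
    have e1 : LinearMap.rTensor A σL.toLinearMap ((1 : S i) ⊗ₜ[R] x) =
        LinearMap.rTensor A σR.toLinearMap ((1 : S j) ⊗ₜ[R] x) := by
      rw [LinearMap.rTensor_tmul, LinearMap.rTensor_tmul]
      simp [σL, σR]
    have e2 : LinearMap.rTensor A σL.toLinearMap (g i) - LinearMap.rTensor A σR.toLinearMap (g j) =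
        LinearMap.rTensor A σL.toLinearMap (g i - (1 : S i) ⊗ₜ[R] x) -
          LinearMap.rTensor A σR.toLinearMap (g j - (1 : S j) ⊗ₜ[R] x) := by
      rw [map_sub, map_sub, e1]
      abel
    rw [e2]
    exact sub_mem (rTensor_mem_smul_top σL I (hgx i)) (rTensor_mem_smul_top σR I (hgx j))
  obtain ⟨a, ha⟩ := exists_of_coface_eq R (∀ i, S i) A G hco
  have hai : ∀ i, (1 : S i) ⊗ₜ[R] a = g i := by
    intro i
    have := congrArg (LinearMap.rTensor A (pr (R := R) S i)) ha
    rw [LinearMap.rTensor_tmul, hG, pr_glue] at this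
    exact this
  have hgl : ∀ i, IsGroupLikeElem (S i) ((1 : S i) ⊗ₜ[R] a) := fun i => by rw [hai i]; exact hg i
  refine ⟨a, ⟨?_, ?_⟩, ?_⟩
  · have := ji R (Coalgebra.counit (R := R) a - 1) (fun i => by
      have h := (eqs_of_groupLike_tmul (hgl i)).2
      have e : (1 : S i) ⊗ₜ[R] (Coalgebra.counit (R := R) a - 1) =
          (algebraMap R (S i) (Coalgebra.counit (R := R) a - 1)) ⊗ₜ[R] (1 : R) := by
        rw [Algebra.algebraMap_eq_smul_one, TensorProduct.smul_tmul, smul_eq_mul, mul_one]
      rw [e, h, TensorProduct.zero_tmul])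
    exact sub_eq_zero.mp this
  · have := ji (A ⊗[R] A) (Coalgebra.comul (R := R) a - a ⊗ₜ[R] a)
      (fun i => (eqs_of_groupLike_tmul (hgl i)).1)
    exact sub_eq_zero.mp this
  · have := ji (A ⧸ (I • (⊤ : Submodule R A)))
      (Submodule.Quotient.mk (a - x)) (fun i => by
        have h := lTensor_mkQ_eq_zero I (hgx i)
        rw [← hai i, ← TensorProduct.tmul_sub, LinearMap.lTensor_tmul] at h
        exact h)
    exact (Submodule.Quotient.mk_eq_zero _).mp this

end Descent

end Groth.Agent.Lib.helper15.Rigid
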