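import Mathlib
import Groth.Prelude.Def_SGA3b
import Groth.Agent.Lib.Helper15.RigidDesc

/-!
# Rigidity of group-like elements for groups of multiplicative type (helper15)

* `liftGL_bijective`: a bialgebra map `T[M] → T[P]` whose coefficient idempotents are orthogonal and
  which is surjective modulo a nil ideal is bijective.
* `FCover`, `nonempty_fcover`: a finite jointly faithfully flat trivialising family for a group of
  multiplicative type.
* `rigidInj_of_fcover`, `rigidSurj_of_fcover`: for `A` of multiplicative type over `R` and a nil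
  ideal `I`, group-like elements of `A/IA` lift uniquely to group-like elements of `A`.
-/

set_option autoImplicit false
set_option linter.unusedSectionVars false
set_option linter.style.haveILetI false
universe u
open TensorProduct SGA3b

namespace Groth.Agent.Lib.helper15.Rigid

open Groth.Agent.Lib.helper15.MultType Groth.Agent.Lib.helper15.MultLocal
  Groth.Agent.Lib.helper15.DiagSub


section BijCoeff

variable {T : Type*} [CommRing T] {M P : Type*} [CommMonoid M] [CommMonoid P] (J : Ideal T)

lemma liftGL_coeff (G : M →* MonoidAlgebra T P) (hG : ∀ m, IsGroupLikeElem T (G m))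
    (z : MonoidAlgebra T M) (p : P) :
    (liftGL G hG z).coeff p = ∑ m ∈ z.coeff.support, z.coeff m * (G m).coeff p := by
  rw [liftGL_apply, Finsupp.sum, MonoidAlgebra.coeff_sum, Finsupp.finsetSum_apply]
  apply Finset.sum_congr rfl
  intro m _
  rw [MonoidAlgebra.coeff_smul, Finsupp.smul_apply, smul_eq_mul]

theorem liftGL_bijective (hJ : ∀ x ∈ J, IsNilpotent x)
    (G : M →* MonoidAlgebra T P) (hG : ∀ m, IsGroupLikeElem T (G m))
    (horth : ∀ m m' p, m ≠ m' → (G m).coeff p * (G m').coeff p = 0)
    (hb : ∀ p : P, ∃ z : MonoidAlgebra T M,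
      liftGL G hG z - MonoidAlgebra.single p 1 ∈ J • (⊤ : Submodule T (MonoidAlgebra T P))) :
    Function.Bijective (liftGL G hG) := by
  classical
  have c1 : ∀ m p q, (G m).coeff p * (G m).coeff q = if p = q then (G m).coeff p else 0 :=
    fun m p q => coeff_mul_coeff (hG m) p q
  have c2 : ∀ m, ∑ p ∈ (G m).coeff.support, (G m).coeff p = 1 := fun m => sum_coeff (hG m)
  constructor
  · rw [injective_iff_map_eq_zero]
    intro z hz
    apply MonoidAlgebra.coeff_injective
    ext m₀
    have h1 : ∀ p, z.coeff m₀ * (G m₀).coeff p = 0 := by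
      intro p
      have h := congrArg (fun w => (G m₀).coeff p * w.coeff p) hz
      simp only [MonoidAlgebra.coeff_zero, Finsupp.zero_apply, mul_zero] at h
      rw [liftGL_coeff, Finset.mul_sum] at h
      have h2 : ∀ m ∈ z.coeff.support, (G m₀).coeff p * (z.coeff m * (G m).coeff p) =
          if m = m₀ then z.coeff m₀ * (G m₀).coeff p else 0 := by
        intro m _
        split_ifs with hm
        · subst hm
          have := c1 m p p
          rw [if_pos rfl] at this
          calc (G m).coeff p * (z.coeff m * (G m).coeff p)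
              = z.coeff m * ((G m).coeff p * (G m).coeff p) := by ring
            _ = z.coeff m * (G m).coeff p := by rw [this]
        · have := horth m₀ m p (Ne.symm hm)
          calc (G m₀).coeff p * (z.coeff m * (G m).coeff p)
              = z.coeff m * ((G m₀).coeff p * (G m).coeff p) := by ring
            _ = 0 := by rw [this, mul_zero]
      rw [Finset.sum_congr rfl h2, Finset.sum_ite_eq' z.coeff.support m₀] at h
      split_ifs at h with hm
      · exact h
      · have : z.coeff m₀ = 0 := by simpa using hm
        rw [this, zero_mul]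
    have h3 : z.coeff m₀ * ∑ p ∈ (G m₀).coeff.support, (G m₀).coeff p = 0 := by
      rw [Finset.mul_sum]
      exact Finset.sum_eq_zero fun p _ => h1 p
    rw [c2, mul_one] at h3
    rw [h3]
    rfl
  · -- surjectivity
    have hsingle : ∀ p : P, ∃ w, liftGL G hG w = MonoidAlgebra.single p (1 : T) := by
      intro p
      obtain ⟨z, hz⟩ := hb p
      set F := z.coeff.support with hF
      have hcoef := mem_coeff_of_mem_smul_top J hz p
      rw [MonoidAlgebra.coeff_sub, Finsupp.sub_apply, liftGL_coeff, MonoidAlgebra.coeff_single,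
        Finsupp.single_eq_same] at hcoef
      set e := ∑ m ∈ F, (G m).coeff p with he
      have hce : ∀ m ∈ F, (G m).coeff p * e = (G m).coeff p := by
        intro m hm
        rw [he, Finset.mul_sum]
        have : ∀ m' ∈ F, (G m).coeff p * (G m').coeff p =
            if m' = m then (G m).coeff p else 0 := by
          intro m' _
          split_ifs with h
          · subst h
            have := c1 m' p p
            rwa [if_pos rfl] at this
          · exact horth m m' p (Ne.symm h)
        rw [Finset.sum_congr rfl this, Finset.sum_ite_eq' F m, if_pos hm]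
      set u := ∑ m ∈ F, z.coeff m * (G m).coeff p with hu
      have hu1 : (1 - e) * u = 0 := by
        rw [hu, Finset.mul_sum]
        apply Finset.sum_eq_zero
        intro m hm
        have := hce m hm
        calc (1 - e) * (z.coeff m * (G m).coeff p)
            = z.coeff m * ((G m).coeff p - (G m).coeff p * e) := by ring
          _ = 0 := by rw [this, sub_self, mul_zero]
      have hunit : IsUnit u := by
        have hn : IsNilpotent (u - 1) := hJ _ hcoef
        have := hn.isUnit_add_one
        rwa [sub_add_cancel] at this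
      have he1 : e = 1 := by
        have := (hunit.mul_left_eq_zero).mp hu1
        exact (sub_eq_zero.mp this).symm
      refine ⟨∑ m ∈ F, (G m).coeff p • MonoidAlgebra.single m (1 : T), ?_⟩
      rw [map_sum]
      simp only [map_smul, liftGL_single, one_smul]
      apply MonoidAlgebra.coeff_injective
      ext q
      rw [MonoidAlgebra.coeff_sum, Finsupp.finsetSum_apply, MonoidAlgebra.coeff_single,
        Finsupp.single_apply]
      simp only [MonoidAlgebra.coeff_smul, Finsupp.smul_apply, smul_eq_mul, c1]
      split_ifs with hpq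
      · exact he1 ▸ he.symm ▸ rfl
      · exact Finset.sum_const_zero
    intro w
    induction w using MonoidAlgebra.induction_linear with
    | zero => exact ⟨0, map_zero _⟩
    | add x y hx hy =>
      obtain ⟨a, rfl⟩ := hx
      obtain ⟨b, rfl⟩ := hy
      exact ⟨a + b, map_add _ _ _⟩
    | single p t =>
      obtain ⟨w, hw⟩ := hsingle p
      refine ⟨t • w, ?_⟩
      rw [map_smul, hw, MonoidAlgebra.smul_single, smul_eq_mul, mul_one]

end BijCoeff


section FCoverDef

/-- a finite trivialising family of flat `R`-algebras, jointly faithful. -/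
structure FCover (R : Type u) [CommRing R] (B : Type u) [CommRing B] [HopfAlgebra R B] where
  ι : Type u
  [fin : Fintype ι]
  [dec : DecidableEq ι]
  S : ι → Type u
  [instRing : ∀ i, CommRing (S i)]
  [instAlg : ∀ i, Algebra R (S i)]
  flat : ∀ i, Module.Flat R (S i)
  P : ι → Type u
  [instGrp : ∀ i, CommGroup (P i)]
  E : ∀ i, S i ⊗[R] B ≃ₐc[S i] MonoidAlgebra (S i) (P i)
  ji : JI (R := R) S

attribute [instance] FCover.fin FCover.dec FCover.instRing FCover.instAlg FCover.instGrp
  FCover.flat

variable {R : Type u} [CommRing R] {B : Type u} [CommRing B] [HopfAlgebra R B]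

theorem nonempty_fcover (h : IsMultType R B) : Nonempty (FCover R B) := by
  classical
  obtain ⟨s, hs, hcov⟩ := h
  obtain ⟨s', hs's, hs'⟩ := (Ideal.span_eq_top_iff_finite s).mp hs
  let D : ∀ i : {f // f ∈ s'},
      ConstData (Localization.Away i.1) (Localization.Away i.1 ⊗[R] B) :=
    fun i => Classical.choice (nonempty_constData (hcov i.1 (hs's i.2)))
  letI algS : ∀ i : {f // f ∈ s'}, Algebra R (D i).S := fun i =>
    ((algebraMap (Localization.Away i.1) (D i).S).comp
      (algebraMap R (Localization.Away i.1))).toAlgebra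
  haveI tower : ∀ i : {f // f ∈ s'}, IsScalarTower R (Localization.Away i.1) (D i).S := fun i =>
    IsScalarTower.of_algebraMap_eq fun _ => rfl
  haveI flatS : ∀ i : {f // f ∈ s'}, Module.Flat R (D i).S := fun i =>
    haveI : Module.Flat R (Localization.Away i.1) := IsLocalization.flat _ (Submonoid.powers i.1)
    Module.Flat.trans R (Localization.Away i.1) (D i).S
  refine ⟨{ ι := {f // f ∈ s'}, S := fun i => (D i).S, flat := flatS, P := fun i => (D i).P,
            E := fun i => (cancelBialg R (Localization.Away i.1) (D i).S B).symm.trans (D i).E,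
            ji := ?_ }⟩
  intro N _ _ n hn
  apply eq_zero_of_localization (↑s' : Set R) hs' n
  intro f hf
  have h1 : (1 : (D ⟨f, hf⟩).S) ⊗ₜ[R] n = 0 := hn ⟨f, hf⟩
  haveI : IsScalarTower R (Localization.Away f) (D ⟨f, hf⟩).S := tower ⟨f, hf⟩
  have h2 : (1 : (D ⟨f, hf⟩).S) ⊗ₜ[Localization.Away f] ((1 : Localization.Away f) ⊗ₜ[R] n) = 0 := by
    apply (TensorProduct.AlgebraTensorModule.cancelBaseChange R (Localization.Away f)
      (D ⟨f, hf⟩).S (D ⟨f, hf⟩).S N).injective
    rw [TensorProduct.AlgebraTensorModule.cancelBaseChange_tmul, one_smul, map_zero, h1]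
  exact (Module.FaithfullyFlat.one_tmul_eq_zero_iff (Localization.Away f) _ _).mp h2

lemma nil_map {S : Type*} [CommRing S] [Algebra R S] {I : Ideal R} (hI : ∀ x ∈ I, IsNilpotent x) :
    ∀ x ∈ I.map (algebraMap R S), IsNilpotent x := by
  have hle : I.map (algebraMap R S) ≤ nilradical S := by
    rw [Ideal.map_le_iff_le_comap]
    intro x hx
    rw [Ideal.mem_comap, mem_nilradical]
    exact (hI x hx).map _
  exact fun x hx => mem_nilradical.mp (hle hx)

theorem rigidInj_of_fcover (𝒞 : FCover R B) (I : Ideal R) (hI : ∀ x ∈ I, IsNilpotent x) :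
    RigidInj R B I :=
  rigidInj_descent I 𝒞.ji (fun i => rigidInj_of_equiv _ (𝒞.E i)
    (rigidInj_monoidAlgebra _ _ _ (nil_map hI)))

theorem rigidSurj_of_fcover (𝒞 : FCover R B) (I : Ideal R) (hI : ∀ x ∈ I, IsNilpotent x) :
    RigidSurj R B I :=
  rigidSurj_descent I 𝒞.ji
    (fun i => rigidSurj_of_equiv _ (𝒞.E i) (rigidSurj_monoidAlgebra _ _ _ (nil_map hI)))
    (fun i j => rigidInj_of_equiv _
      ((cancelBialg R (𝒞.S i) (𝒞.S i ⊗[R] 𝒞.S j) B).symm.trans
        (bcDiag (𝒞.S i ⊗[R] 𝒞.S j) (𝒞.E i)))
      (rigidInj_monoidAlgebra _ _ _ (nil_map hI)))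

end FCoverDef

end Groth.Agent.Lib.helper15.Rigid
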