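import Mathlib
import Groth.Prelude.Def_SGA3b
import Groth.Agent.Lib.Helper15.RigidDiag0

/-!
# A group of multiplicative type which is diagonalisable modulo a nil ideal is diagonalisable
(helper15; SGA3 X)
-/

set_option autoImplicit false
set_option linter.unusedSectionVars false
set_option linter.style.haveILetI false
universe u
open TensorProduct SGA3b

namespace Groth.Agent.Lib.helper15.Rigid

open Groth.Agent.Lib.helper15.MultType Groth.Agent.Lib.helper15.MultLocal
  Groth.Agent.Lib.helper15.DiagSub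


section Main

variable (R : Type u) [CommRing R] (A : Type u) [CommRing A] [HopfAlgebra R A]

lemma tmul_eq_zero_of_mem {R : Type*} [CommRing R] (I : Ideal R) {N : Type*} [AddCommGroup N]
    [Module R N] {w : N} (hw : w ∈ I • (⊤ : Submodule R N)) : (1 : R ⧸ I) ⊗ₜ[R] w = 0 := by
  have := tmul_mem_smul_top (R ⧸ I) I hw 1
  rw [Ideal.Quotient.algebraMap_eq, Ideal.map_quotient_self, Submodule.bot_smul] at this
  exact (Submodule.mem_bot _).mp this

theorem isDiag_of_fcover_mod_nil (I : Ideal R) (hI : ∀ x ∈ I, IsNilpotent x)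
    (𝒞 : FCover R A) (h0 : IsDiag (R ⧸ I) ((R ⧸ I) ⊗[R] A)) : IsDiag R A := by
  classical
  obtain ⟨M, _, ⟨e₀⟩⟩ := h0
  have hinj := rigidInj_of_fcover 𝒞 I hI
  have hsurj := rigidSurj_of_fcover 𝒞 I hI
  let y : M → (R ⧸ I) ⊗[R] A := fun m => e₀.symm (MonoidAlgebra.single m 1)
  have hy : ∀ m, IsGroupLikeElem (R ⧸ I) (y m) := fun m =>
    (MonoidAlgebra.isGroupLikeElem_single_one (R := R ⧸ I) (A := R ⧸ I) m).map e₀.symm
  have hex : ∀ m, ∃ γ : A, IsGroupLikeElem R γ ∧ (1 : R ⧸ I) ⊗ₜ[R] γ = y m := by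
    intro m
    obtain ⟨x, hx⟩ := TensorProduct.mk_surjective R A (R ⧸ I) Ideal.Quotient.mk_surjective (y m)
    have hx' : (1 : R ⧸ I) ⊗ₜ[R] x = y m := hx
    have hgl : GLmod R A I x := glmod_of_tmul_quot I (by rw [hx']; exact hy m)
    obtain ⟨γ, hγ, hγx⟩ := hsurj x hgl
    refine ⟨γ, hγ, ?_⟩
    rw [← hx', ← sub_eq_zero, ← TensorProduct.tmul_sub]
    exact tmul_eq_zero_of_mem I hγx
  choose γ hγ hγy using hex
  have hy1 : y 1 = 1 := by
    have : (MonoidAlgebra.single (1 : M) (1 : R ⧸ I)) = 1 := rfl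
    simp only [y]
    rw [this, map_one]
  have hymul : ∀ m m', y (m * m') = y m * y m' := by
    intro m m'
    have : (MonoidAlgebra.single (m * m') (1 : R ⧸ I)) =
        MonoidAlgebra.single m 1 * MonoidAlgebra.single m' 1 := by
      rw [MonoidAlgebra.single_mul_single, one_mul]
    simp only [y]
    rw [this, map_mul]
  have hone : γ 1 = 1 := by
    apply hinj _ _ (hγ 1) (IsGroupLikeElem.one (R := R))
    apply sub_mem_of_tmul_eq I
    rw [hγy, hy1]
    rfl
  have hmul : ∀ m m', γ (m * m') = γ m * γ m' := by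
    intro m m'
    apply hinj _ _ (hγ _) ((hγ m).mul (hγ m'))
    apply sub_mem_of_tmul_eq I
    rw [hγy, hymul, ← hγy m, ← hγy m', Algebra.TensorProduct.tmul_mul_tmul, one_mul]
  let γh : M →* A := { toFun := γ, map_one' := hone, map_mul' := hmul }
  let Ψ : MonoidAlgebra R M →ₐc[R] A := liftGL γh hγ
  have hΨs : ∀ m r, Ψ (MonoidAlgebra.single m r) = r • γ m := fun m r => liftGL_single γh hγ m r
  have hsm : ∀ (r : R) (w : A), (1 : R ⧸ I) ⊗ₜ[R] (r • w) =
      (Ideal.Quotient.mk I r) • ((1 : R ⧸ I) ⊗ₜ[R] w) := by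
    intro r w
    rw [TensorProduct.tmul_smul, ← algebraMap_smul (R ⧸ I) r, Ideal.Quotient.algebraMap_eq]
  -- surjectivity modulo `I`
  have hbR : ∀ a : A, ∃ z : MonoidAlgebra R M, Ψ z - a ∈ I • (⊤ : Submodule R A) := by
    have key : ∀ v : MonoidAlgebra (R ⧸ I) M,
        ∃ z : MonoidAlgebra R M, e₀ ((1 : R ⧸ I) ⊗ₜ[R] Ψ z) = v := by
      intro v
      induction v using MonoidAlgebra.induction_linear with
      | zero => exact ⟨0, by simp⟩
      | add x y hx hy =>
        obtain ⟨a, rfl⟩ := hx
        obtain ⟨b, rfl⟩ := hy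
        exact ⟨a + b, by rw [map_add, TensorProduct.tmul_add, map_add]⟩
      | single m r' =>
        obtain ⟨r, rfl⟩ := Ideal.Quotient.mk_surjective r'
        refine ⟨MonoidAlgebra.single m r, ?_⟩
        rw [hΨs, hsm, hγy, map_smul]
        simp only [y]
        rw [BialgEquiv.apply_symm_apply, MonoidAlgebra.smul_single, smul_eq_mul, mul_one]
    intro a
    obtain ⟨z, hz⟩ := key (e₀ ((1 : R ⧸ I) ⊗ₜ[R] a))
    exact ⟨z, sub_mem_of_tmul_eq I (EquivLike.injective e₀ hz)⟩
  -- the base changes of `Ψ` are bijective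
  have hbc : ∀ i, Function.Bijective
      (LinearMap.lTensor (𝒞.S i) (Ψ : MonoidAlgebra R M →ₗ[R] A)) := by
    intro i
    have hJ := nil_map (S := 𝒞.S i) hI
    let G : M →* MonoidAlgebra (𝒞.S i) (𝒞.P i) :=
      { toFun := fun m => 𝒞.E i ((1 : 𝒞.S i) ⊗ₜ[R] γ m)
        map_one' := by
          rw [hone]
          exact map_one (𝒞.E i)
        map_mul' := fun m m' => by
          rw [hmul, ← map_mul, Algebra.TensorProduct.tmul_mul_tmul, one_mul] }
    have hGdef : ∀ m, G m = 𝒞.E i ((1 : 𝒞.S i) ⊗ₜ[R] γ m) := fun m => rfl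
    have hG : ∀ m, IsGroupLikeElem (𝒞.S i) (G m) := fun m =>
      (isGroupLikeElem_tmul (hγ m)).map (𝒞.E i)
    have c1 : ∀ m p q, (G m).coeff p * (G m).coeff q = if p = q then (G m).coeff p else 0 :=
      fun m p q => coeff_mul_coeff (hG m) p q
    have horth : ∀ m m' p, m ≠ m' → (G m).coeff p * (G m').coeff p = 0 := by
      intro m m' p hne
      set a := (G m).coeff p with ha
      set b := (G m').coeff p with hb
      have haa : a * a = a := by have := c1 m p p; rwa [if_pos rfl] at this
      have hbb : b * b = b := by have := c1 m' p p; rwa [if_pos rfl] at this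
      have he_idem : IsIdempotentElem (a * b) := by
        change a * b * (a * b) = a * b
        calc a * b * (a * b) = (a * a) * (b * b) := by ring
          _ = a * b := by rw [haa, hbb]
      have hkill : (a * b) • (G m - G m') = 0 := by
        apply MonoidAlgebra.coeff_injective
        ext q
        rw [MonoidAlgebra.coeff_smul, Finsupp.smul_apply, MonoidAlgebra.coeff_sub,
          Finsupp.sub_apply, smul_eq_mul, MonoidAlgebra.coeff_zero, Finsupp.zero_apply]
        have e1 : a * b * (G m).coeff q = if p = q then a * b else 0 := by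
          calc a * b * (G m).coeff q = b * (a * (G m).coeff q) := by ring
            _ = b * (if p = q then a else 0) := by rw [ha, c1 m p q]
            _ = if p = q then a * b else 0 := by split_ifs <;> ring
        have e2 : a * b * (G m').coeff q = if p = q then a * b else 0 := by
          calc a * b * (G m').coeff q = a * (b * (G m').coeff q) := by ring
            _ = a * (if p = q then b else 0) := by rw [hb, c1 m' p q]
            _ = if p = q then a * b else 0 := by split_ifs <;> ring
        rw [mul_sub, e1, e2, sub_self]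
      have h1 : (a * b) ⊗ₜ[R] (γ m - γ m') = (0 : 𝒞.S i ⊗[R] A) := by
        apply EquivLike.injective (𝒞.E i)
        rw [map_zero]
        have : (a * b) ⊗ₜ[R] (γ m - γ m') =
            (a * b) • ((1 : 𝒞.S i) ⊗ₜ[R] γ m - (1 : 𝒞.S i) ⊗ₜ[R] γ m') := by
          rw [← TensorProduct.tmul_sub, TensorProduct.smul_tmul', smul_eq_mul, mul_one]
        rw [this, map_smul, map_sub]
        exact hkill
      have h2 := mem_map_ker_toSpanSingleton (γ m - γ m') (a * b) h1
      have hker : LinearMap.ker (LinearMap.toSpanSingleton R A (γ m - γ m')) ≤ I := by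
        intro r hr
        rw [LinearMap.mem_ker, LinearMap.toSpanSingleton_apply] at hr
        have h3 : e₀ ((1 : R ⧸ I) ⊗ₜ[R] (r • (γ m - γ m'))) = 0 := by
          rw [hr, TensorProduct.tmul_zero, map_zero]
        rw [hsm, TensorProduct.tmul_sub, hγy, hγy, map_smul, map_sub] at h3
        simp only [y, BialgEquiv.apply_symm_apply] at h3
        have h5 := congrArg (fun w => w.coeff m) h3
        simp only [MonoidAlgebra.coeff_smul, MonoidAlgebra.coeff_sub, MonoidAlgebra.coeff_single,
          Finsupp.smul_apply, Finsupp.sub_apply, Finsupp.single_eq_same, smul_eq_mul,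
          MonoidAlgebra.coeff_zero, Finsupp.zero_apply] at h5
        rw [Finsupp.single_eq_of_ne hne, sub_zero, mul_one] at h5
        exact Ideal.Quotient.eq_zero_iff_mem.mp h5
      have h6 : a * b ∈ I.map (algebraMap R (𝒞.S i)) := Ideal.map_mono hker h2
      have h7 : IsNilpotent (a * b) := hJ _ h6
      exact eq_of_isNilpotent_sub_of_isIdempotentElem he_idem IsIdempotentElem.zero
        (by simpa using h7)
    have hrel : ∀ u : 𝒞.S i ⊗[R] MonoidAlgebra R M,
        𝒞.E i (LinearMap.lTensor (𝒞.S i) (Ψ : MonoidAlgebra R M →ₗ[R] A) u) =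
          liftGL G hG (MonoidAlgebra.scalarTensorEquiv R (𝒞.S i) u) := by
      intro u
      induction u using TensorProduct.induction_on with
      | zero => simp
      | add x y hx hy => rw [map_add, map_add, map_add, map_add, hx, hy]
      | tmul s x =>
        induction x using MonoidAlgebra.induction_linear with
        | zero => simp
        | add x y hx hy =>
          rw [TensorProduct.tmul_add, map_add, map_add, map_add, map_add, hx, hy]
        | single m r =>
          rw [LinearMap.lTensor_tmul]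
          change 𝒞.E i (s ⊗ₜ[R] Ψ (MonoidAlgebra.single m r)) = _
          rw [hΨs, MonoidAlgebra.scalarTensorEquiv_tmul, map_smul]
          have e1 : MonoidAlgebra.mapAlgHom M (Algebra.ofId R (𝒞.S i)) (MonoidAlgebra.single m r) =
              MonoidAlgebra.single m (algebraMap R (𝒞.S i) r) := by
            simp [Algebra.ofId_apply]
          rw [e1, liftGL_single, hGdef, ← map_smul, ← map_smul]
          congr 1
          rw [TensorProduct.tmul_smul, ← algebraMap_smul (𝒞.S i) r, TensorProduct.smul_tmul',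
            TensorProduct.smul_tmul', TensorProduct.smul_tmul', smul_eq_mul, smul_eq_mul,
            smul_eq_mul, mul_one]
          congr 1
          ring
    have hb : ∀ p : 𝒞.P i, ∃ z : MonoidAlgebra (𝒞.S i) M,
        liftGL G hG z - MonoidAlgebra.single p 1 ∈
          (I.map (algebraMap R (𝒞.S i))) •
            (⊤ : Submodule (𝒞.S i) (MonoidAlgebra (𝒞.S i) (𝒞.P i))) := by
      intro p
      have key : ∀ w' : 𝒞.S i ⊗[R] A, ∃ u : 𝒞.S i ⊗[R] MonoidAlgebra R M,
          LinearMap.lTensor (𝒞.S i) (Ψ : MonoidAlgebra R M →ₗ[R] A) u - w' ∈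
            (I.map (algebraMap R (𝒞.S i))) • (⊤ : Submodule (𝒞.S i) (𝒞.S i ⊗[R] A)) := by
        intro w'
        induction w' using TensorProduct.induction_on with
        | zero => exact ⟨0, by simp⟩
        | tmul s a =>
          obtain ⟨z, hz⟩ := hbR a
          refine ⟨s ⊗ₜ[R] z, ?_⟩
          rw [LinearMap.lTensor_tmul, ← TensorProduct.tmul_sub]
          exact tmul_mem_smul_top (𝒞.S i) I hz s
        | add x y hx hy =>
          obtain ⟨a, ha⟩ := hx
          obtain ⟨b, hb⟩ := hy
          refine ⟨a + b, ?_⟩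
          have := add_mem ha hb
          rw [map_add]
          convert this using 1
          abel
      obtain ⟨u, hu⟩ := key ((𝒞.E i).symm (MonoidAlgebra.single p 1))
      refine ⟨MonoidAlgebra.scalarTensorEquiv R (𝒞.S i) u, ?_⟩
      rw [← hrel]
      have := equiv_sub_mem (𝒞.E i) _ hu
      rwa [map_sub, BialgEquiv.apply_symm_apply] at this
    have hΦ := liftGL_bijective _ hJ G hG horth hb
    have hfun : ⇑(LinearMap.lTensor (𝒞.S i) (Ψ : MonoidAlgebra R M →ₗ[R] A)) =
        ⇑(𝒞.E i).symm ∘ ⇑(liftGL G hG) ∘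
          ⇑(MonoidAlgebra.scalarTensorEquiv R (𝒞.S i) (M := M)) := by
      funext u
      simp only [Function.comp_apply]
      rw [← hrel, BialgEquiv.symm_apply_apply]
    rw [hfun]
    exact (𝒞.E i).symm.bijective.comp (hΦ.comp (AlgEquiv.bijective _))
  have hΨinj : Function.Injective Ψ := by
    rw [injective_iff_map_eq_zero]
    intro z hz
    apply 𝒞.ji (MonoidAlgebra R M) z
    intro i
    apply (hbc i).1
    rw [LinearMap.lTensor_tmul, map_zero]
    change (1 : 𝒞.S i) ⊗ₜ[R] Ψ z = 0
    rw [hz, TensorProduct.tmul_zero]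
  have hΨsurj : Function.Surjective Ψ := by
    intro w
    have := 𝒞.ji (A ⧸ LinearMap.range (Ψ : MonoidAlgebra R M →ₗ[R] A))
      (Submodule.Quotient.mk w) (fun i => by
        obtain ⟨u, hu⟩ := (hbc i).2 ((1 : 𝒞.S i) ⊗ₜ[R] w)
        have h1 : LinearMap.lTensor (𝒞.S i)
            (Submodule.mkQ (LinearMap.range (Ψ : MonoidAlgebra R M →ₗ[R] A)))
            ((1 : 𝒞.S i) ⊗ₜ[R] w) = 0 := by
          rw [← hu, ← LinearMap.comp_apply, ← LinearMap.lTensor_comp, LinearMap.range_mkQ_comp,
            LinearMap.lTensor_zero, LinearMap.zero_apply]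
        rwa [LinearMap.lTensor_tmul] at h1)
    rw [Submodule.Quotient.mk_eq_zero] at this
    obtain ⟨z, hz⟩ := this
    exact ⟨z, hz⟩
  exact ⟨M, inferInstance, ⟨(BialgEquiv.ofBijective Ψ ⟨hΨinj, hΨsurj⟩).symm⟩⟩

theorem isDiag_of_isDiag_mod_nil (I : Ideal R) (hI : ∀ x ∈ I, IsNilpotent x)
    (h : IsMultType R A) (h0 : IsDiag (R ⧸ I) ((R ⧸ I) ⊗[R] A)) : IsDiag R A := by
  obtain ⟨𝒞⟩ := nonempty_fcover h
  exact isDiag_of_fcover_mod_nil R A I hI 𝒞 h0

end Main

end Groth.Agent.Lib.helper15.Rigid
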