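import Mathlib
import Groth.Prelude.Def_SGA3b
import Groth.Agent.Lib.Helper15.RigidDiag

/-!
# A group of multiplicative type and of finite type over a field is isotrivial (helper15; SGA3 X)

* `isGroupLikeElem_of_tmul`: group-likeness is reflected by injective base change (flat bialgebra).
* `exists_finite_field_diag`: a trivialisation `R' ⊗ A ≅ R'[M]` over a nonzero `k`-algebra `R'`
  (with `A` of finite type, `M` finitely generated) descends to a finitely generated subalgebra of
  `R'`, hence to a finite extension field of `k` (Zariski's lemma).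
* `exists_groupLike_descent`: descent of group-like elements along a faithfully flat map whose
  diagonal is a nil thickening (rigidity + Amitsur).
* `nonempty_bialgEquiv_of_purelyInseparable`: diagonalisability descends along purely inseparable
  field extensions.
* `isotrivial_of_field` (= S2969).
-/

set_option autoImplicit false
set_option linter.unusedSectionVars false
set_option linter.style.haveILetI false
universe u
open TensorProduct SGA3b

namespace Groth.Agent.Lib.helper15.Rigid

open Groth.Agent.Lib.helper15.MultType Groth.Agent.Lib.helper15.MultLocal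
  Groth.Agent.Lib.helper15.DiagSub


section Reflect

variable {R : Type*} [CommRing R] {S : Type*} [CommRing S] [Algebra R S]
  {𝔸 : Type*} [CommRing 𝔸] [Bialgebra R 𝔸] [Module.Flat R 𝔸]

/-- group-likeness is reflected by an injective base change when the bialgebra is flat. -/
lemma isGroupLikeElem_of_tmul (hinj : Function.Injective (algebraMap R S)) {y : 𝔸}
    (h : IsGroupLikeElem S ((1 : S) ⊗ₜ[R] y)) : IsGroupLikeElem R y := by
  obtain ⟨h1, h2⟩ := eqs_of_groupLike_tmul h
  refine ⟨?_, ?_⟩
  · have := hinj (h2.trans (map_zero _).symm)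
    exact sub_eq_zero.mp this
  · have hinj2 : Function.Injective
        (LinearMap.rTensor (𝔸 ⊗[R] 𝔸) (Algebra.linearMap R S)) :=
      Module.Flat.rTensor_preserves_injective_linearMap _ hinj
    have h3 : LinearMap.rTensor (𝔸 ⊗[R] 𝔸) (Algebra.linearMap R S)
        ((1 : R) ⊗ₜ[R] (Coalgebra.comul (R := R) y - y ⊗ₜ[R] y)) = 0 := by
      rw [LinearMap.rTensor_tmul, Algebra.linearMap_apply, map_one]
      exact h1
    have h4 := hinj2 (h3.trans (map_zero _).symm)
    have h5 := congrArg (TensorProduct.lid R (𝔸 ⊗[R] 𝔸)) h4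
    rw [TensorProduct.lid_tmul, one_smul, map_zero] at h5
    exact sub_eq_zero.mp h5

end Reflect

section SpreadOut

variable {k : Type u} [Field k] {A : Type u} [CommRing A] [HopfAlgebra k A]
  {R' : Type u} [CommRing R'] [Algebra k R']

/-- the map `B ⊗ A → R' ⊗ A` for a subalgebra `B` of `R'`. -/
noncomputable abbrev incl (B : Subalgebra k R') : ↥B ⊗[k] A →ₐ[k] R' ⊗[k] A :=
  Algebra.TensorProduct.map B.val (AlgHom.id k A)

lemma incl_injective (B : Subalgebra k R') : Function.Injective (incl (A := A) B) := by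
  have h : ⇑(incl (A := A) B) = ⇑(LinearMap.rTensor A B.val.toLinearMap) := by
    funext y
    induction y using TensorProduct.induction_on with
    | zero => simp
    | tmul b a => rfl
    | add x y hx hy => rw [map_add, map_add, hx, hy]
  rw [h]
  exact Module.Flat.rTensor_preserves_injective_linearMap _ Subtype.val_injective

lemma exists_finset_incl (y : R' ⊗[k] A) : ∃ C : Finset R', ∀ B : Subalgebra k R',
    (↑C : Set R') ⊆ B → y ∈ (incl (A := A) B).range := by
  classical
  induction y using TensorProduct.induction_on with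
  | zero => exact ⟨∅, fun B _ => zero_mem _⟩
  | tmul r a =>
    refine ⟨{r}, fun B hB => ⟨(⟨r, hB (by simp)⟩ : ↥B) ⊗ₜ[k] a, rfl⟩⟩
  | add x y hx hy =>
    obtain ⟨C1, h1⟩ := hx
    obtain ⟨C2, h2⟩ := hy
    refine ⟨C1 ∪ C2, fun B hB => add_mem (h1 B ?_) (h2 B ?_)⟩
    · exact fun c hc => hB (by simp [Finset.mem_coe.mp hc])
    · exact fun c hc => hB (by simp [Finset.mem_coe.mp hc])

lemma exists_finset_mapAlgHom {M : Type*} [Monoid M] (v : MonoidAlgebra R' M) :
    ∃ C : Finset R', ∀ B : Subalgebra k R',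
      (↑C : Set R') ⊆ B → v ∈ (MonoidAlgebra.mapAlgHom M B.val).range := by
  classical
  induction v using MonoidAlgebra.induction_linear with
  | zero => exact ⟨∅, fun B _ => zero_mem _⟩
  | single m r =>
    refine ⟨{r}, fun B hB => ⟨MonoidAlgebra.single m (⟨r, hB (by simp)⟩ : ↥B), ?_⟩⟩
    exact MonoidAlgebra.mapAlgHom_single (M := M) B.val m _
  | add x y hx hy =>
    obtain ⟨C1, h1⟩ := hx
    obtain ⟨C2, h2⟩ := hy
    refine ⟨C1 ∪ C2, fun B hB => add_mem (h1 B ?_) (h2 B ?_)⟩
    · exact fun c hc => hB (by simp [Finset.mem_coe.mp hc])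
    · exact fun c hc => hB (by simp [Finset.mem_coe.mp hc])

lemma cancel_one_tmul (B : Subalgebra k R') (y : ↥B ⊗[k] A) :
    cancelBialg k ↥B R' A ((1 : R') ⊗ₜ[↥B] y) = incl (A := A) B y := by
  induction y using TensorProduct.induction_on with
  | zero => simp
  | tmul b a =>
    rw [cancelBialg_tmul, Algebra.smul_def, mul_one]
    rfl
  | add x y hx hy => rw [TensorProduct.tmul_add, map_add, map_add, hx, hy]

theorem exists_finite_field_diag (hft : Algebra.FiniteType k A) [Nontrivial R']
    {M : Type u} [CommGroup M] (hM : Monoid.FG M)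
    (E : R' ⊗[k] A ≃ₐc[R'] MonoidAlgebra R' M) :
    ∃ (K' : Type u) (_ : Field K') (_ : Algebra k K'), Module.Finite k K' ∧
      Nonempty (K' ⊗[k] A ≃ₐc[K'] MonoidAlgebra K' M) := by
  classical
  obtain ⟨SM, hSM⟩ := hM
  obtain ⟨GA, hGA⟩ := hft.out
  choose C1 hC1 using fun m : M =>
    exists_finset_incl (A := A) (E.symm (MonoidAlgebra.single m (1 : R')))
  choose C2 hC2 using fun a : A =>
    exists_finset_mapAlgHom (k := k) (E ((1 : R') ⊗ₜ[k] a))
  let C : Finset R' := (SM.biUnion C1) ∪ (GA.biUnion C2)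
  let B : Subalgebra k R' := Algebra.adjoin k (↑C : Set R')
  have hCB : (↑C : Set R') ⊆ B := Algebra.subset_adjoin
  have hB1 : ∀ m ∈ SM, (↑(C1 m) : Set R') ⊆ B := by
    intro m hm c hc
    apply hCB
    simp only [C, Finset.coe_union, Set.mem_union, Finset.mem_coe, Finset.mem_biUnion]
    exact Or.inl ⟨m, hm, hc⟩
  have hB2 : ∀ a ∈ GA, (↑(C2 a) : Set R') ⊆ B := by
    intro a ha c hc
    apply hCB
    simp only [C, Finset.coe_union, Set.mem_union, Finset.mem_coe, Finset.mem_biUnion]
    exact Or.inr ⟨a, ha, hc⟩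
  have hs1 : ∀ m m' : M, (MonoidAlgebra.single (m * m') (1 : R')) =
      MonoidAlgebra.single m 1 * MonoidAlgebra.single m' 1 := by
    intro m m'
    rw [MonoidAlgebra.single_mul_single, one_mul]
  have hs0 : (MonoidAlgebra.single (1 : M) (1 : R')) = 1 := rfl
  -- all characters are defined over `B`
  have hW : ∀ m : M, E.symm (MonoidAlgebra.single m (1 : R')) ∈ (incl (A := A) B).range := by
    intro m
    have hm : m ∈ Submonoid.closure (↑SM : Set M) := by rw [hSM]; trivial
    induction hm using Submonoid.closure_induction with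
    | mem m hm => exact hC1 m B (hB1 m hm)
    | one => rw [hs0, map_one]; exact one_mem _
    | mul m m' _ _ h1 h2 => rw [hs1, map_mul]; exact mul_mem h1 h2
  choose g hg0 using hW
  have hg : ∀ m, incl (A := A) B (g m) = E.symm (MonoidAlgebra.single m (1 : R')) := hg0
  have hinj := incl_injective (A := A) B
  have hg1 : g 1 = 1 := by
    apply hinj
    rw [hg, hs0, map_one, map_one]
  have hgmul : ∀ m m', g (m * m') = g m * g m' := by
    intro m m'
    apply hinj
    rw [hg, hs1, map_mul, map_mul, hg, hg]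
  let gh : M →* ↥B ⊗[k] A := { toFun := g, map_one' := hg1, map_mul' := hgmul }
  have hgl : ∀ m, IsGroupLikeElem ↥B (gh m) := by
    intro m
    apply isGroupLikeElem_of_tmul (S := R') Subtype.val_injective
    have h1 : IsGroupLikeElem R' (cancelBialg k ↥B R' A ((1 : R') ⊗ₜ[↥B] g m)) := by
      rw [cancel_one_tmul, hg]
      exact (MonoidAlgebra.isGroupLikeElem_single_one (R := R') (A := R') m).map E.symm
    exact (isGroupLikeElem_map_equiv (cancelBialg k ↥B R' A)).mp h1
  let Ψ : MonoidAlgebra ↥B M →ₐc[↥B] ↥B ⊗[k] A := liftGL gh hgl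
  have hsmul : ∀ (b : ↥B) (y : ↥B ⊗[k] A), incl (A := A) B (b • y) = (b : R') • incl (A := A) B y := by
    intro b y
    induction y using TensorProduct.induction_on with
    | zero => simp
    | tmul b' a =>
      rw [TensorProduct.smul_tmul', smul_eq_mul]
      change ((b * b' : ↥B) : R') ⊗ₜ[k] a = (b : R') • ((b' : R') ⊗ₜ[k] a)
      rw [TensorProduct.smul_tmul', smul_eq_mul]
      rfl
    | add x y hx hy => rw [smul_add, map_add, map_add, hx, hy, smul_add]
  have hcompat : ∀ z : MonoidAlgebra ↥B M,
      incl (A := A) B (Ψ z) = E.symm (MonoidAlgebra.mapAlgHom M B.val z) := by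
    intro z
    induction z using MonoidAlgebra.induction_linear with
    | zero => simp
    | add x y hx hy => rw [map_add, map_add, map_add, map_add, hx, hy]
    | single m b =>
      have e1 : Ψ (MonoidAlgebra.single m b) = b • g m := liftGL_single gh hgl m b
      have e2 : MonoidAlgebra.mapAlgHom M B.val (MonoidAlgebra.single m b) =
          (b : R') • MonoidAlgebra.single m (1 : R') := by
        rw [MonoidAlgebra.smul_single, smul_eq_mul, mul_one]
        exact MonoidAlgebra.mapAlgHom_single (M := M) B.val m b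
      rw [e1, e2, hsmul, hg, map_smul]
  have hΨinj : Function.Injective Ψ := by
    rw [injective_iff_map_eq_zero]
    intro z hz
    have h1 : E.symm (MonoidAlgebra.mapAlgHom M B.val z) = 0 := by
      rw [← hcompat, hz, map_zero]
    have h2 : MonoidAlgebra.mapAlgHom M B.val z = 0 :=
      EquivLike.injective E.symm (h1.trans (map_zero _).symm)
    apply MonoidAlgebra.coeff_injective
    ext m
    have h3 := congrArg (fun w => w.coeff m) h2
    simp only [MonoidAlgebra.coeff_mapAlgHom, MonoidAlgebra.coeff_zero, Finsupp.zero_apply] at h3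
    simpa using h3
  have hΨsurj : Function.Surjective Ψ := by
    let W : Subalgebra k A := Subalgebra.comap
      (Algebra.TensorProduct.includeRight : A →ₐ[k] ↥B ⊗[k] A)
      ((Ψ : MonoidAlgebra ↥B M →ₐ[↥B] ↥B ⊗[k] A).restrictScalars k).range
    have hWtop : W = ⊤ := by
      rw [eq_top_iff, ← hGA]
      apply Algebra.adjoin_le
      intro a ha
      obtain ⟨z, hz⟩ := hC2 a B (hB2 a ha)
      refine ⟨z, ?_⟩
      apply hinj
      change incl (A := A) B (Ψ z) = _
      rw [hcompat]
      have : (MonoidAlgebra.mapAlgHom M B.val) z = E ((1 : R') ⊗ₜ[k] a) := hz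
      rw [this, BialgEquiv.symm_apply_apply]
      rfl
    intro w
    induction w using TensorProduct.induction_on with
    | zero => exact ⟨0, map_zero _⟩
    | tmul b a =>
      have ha : a ∈ W := by rw [hWtop]; trivial
      obtain ⟨z, hz⟩ := ha
      refine ⟨b • z, ?_⟩
      rw [map_smul]
      have hz' : Ψ z = (1 : ↥B) ⊗ₜ[k] a := hz
      rw [hz', TensorProduct.smul_tmul', smul_eq_mul, mul_one]
    | add x y hx hy =>
      obtain ⟨a, rfl⟩ := hx
      obtain ⟨b, rfl⟩ := hy
      exact ⟨a + b, map_add _ _ _⟩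
  let EB : MonoidAlgebra ↥B M ≃ₐc[↥B] ↥B ⊗[k] A := BialgEquiv.ofBijective Ψ ⟨hΨinj, hΨsurj⟩
  -- a residue field of `B`
  haveI : Nontrivial ↥B := inferInstance
  obtain ⟨𝔪, h𝔪⟩ := Ideal.exists_maximal ↥B
  letI : Field (↥B ⧸ 𝔪) := Ideal.Quotient.field 𝔪
  haveI : Algebra.FiniteType k ↥B := (Subalgebra.fg_iff_finiteType B).mp (Subalgebra.fg_adjoin_finset C)
  haveI : Algebra.FiniteType k (↥B ⧸ 𝔪) :=
    Algebra.FiniteType.of_surjective (Ideal.Quotient.mkₐ k 𝔪) Ideal.Quotient.mk_surjective
  haveI : Module.Finite k (↥B ⧸ 𝔪) := finite_of_finite_type_of_isJacobsonRing k (↥B ⧸ 𝔪)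
  refine ⟨↥B ⧸ 𝔪, inferInstance, inferInstance, inferInstance, ⟨?_⟩⟩
  exact (cancelBialg k ↥B (↥B ⧸ 𝔪) A).symm.trans (bcDiag (↥B ⧸ 𝔪) EB.symm)

end SpreadOut




section Radicial

variable {R : Type u} [CommRing R] {S : Type u} [CommRing S] [Algebra R S]

lemma mem_smul_top_of_rTensor_mul'_eq_zero {N : Type*} [AddCommGroup N] [Module R N]
    (y : (S ⊗[R] S) ⊗[R] N) (hy : LinearMap.rTensor N (LinearMap.mul' R S) y = 0) :
    y ∈ (KaehlerDifferential.ideal R S) • (⊤ : Submodule (S ⊗[R] S) ((S ⊗[R] S) ⊗[R] N)) := by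
  have hex : Function.Exact (LinearMap.ker (LinearMap.mul' R S)).subtype (LinearMap.mul' R S) :=
    LinearMap.exact_subtype_ker_map _
  have hsurj : Function.Surjective (LinearMap.mul' R S) := fun s => ⟨s ⊗ₜ[R] 1, by simp⟩
  have hex2 := rTensor_exact N hex hsurj
  obtain ⟨w, rfl⟩ := (hex2 y).mp hy
  clear hy
  induction w using TensorProduct.induction_on with
  | zero => simp
  | tmul j n =>
    rw [LinearMap.rTensor_tmul, Submodule.subtype_apply]
    have hj : (j : S ⊗[R] S) ∈ KaehlerDifferential.ideal R S := by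
      have := j.2
      rw [LinearMap.mem_ker] at this
      exact this
    have : (j : S ⊗[R] S) ⊗ₜ[R] n = (j : S ⊗[R] S) • ((1 : S ⊗[R] S) ⊗ₜ[R] n) := by
      rw [TensorProduct.smul_tmul', smul_eq_mul, mul_one]
    rw [this]
    exact Submodule.smul_mem_smul hj Submodule.mem_top
  | add x y hx hy =>
    rw [map_add]
    exact add_mem hx hy

variable [Module.FaithfullyFlat R S] {B : Type u} [CommRing B] [Bialgebra R B] [Module.Flat R B]

/-- descent of group-like elements along a faithfully flat map whose diagonal is a nil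
thickening. -/
theorem exists_groupLike_descent
    (hrig : RigidInj (S ⊗[R] S) ((S ⊗[R] S) ⊗[R] B) (KaehlerDifferential.ideal R S))
    {g : S ⊗[R] B} (hg : IsGroupLikeElem S g) :
    ∃ a : B, IsGroupLikeElem R a ∧ (1 : S) ⊗ₜ[R] a = g := by
  let σL : S →ₐ[R] S ⊗[R] S := Algebra.TensorProduct.includeLeft
  let σR : S →ₐ[R] S ⊗[R] S := Algebra.TensorProduct.includeRight
  have hL := isGroupLikeElem_rTensor σL hg
  have hR := isGroupLikeElem_rTensor σR hg
  have hd : LinearMap.rTensor B σL.toLinearMap g - LinearMap.rTensor B σR.toLinearMap g ∈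
      (KaehlerDifferential.ideal R S) • (⊤ : Submodule (S ⊗[R] S) ((S ⊗[R] S) ⊗[R] B)) := by
    apply mem_smul_top_of_rTensor_mul'_eq_zero
    rw [map_sub, ← LinearMap.comp_apply, ← LinearMap.comp_apply, ← LinearMap.rTensor_comp,
      ← LinearMap.rTensor_comp]
    have e1 : LinearMap.mul' R S ∘ₗ σL.toLinearMap = LinearMap.id := by
      ext s; simp [σL]
    have e2 : LinearMap.mul' R S ∘ₗ σR.toLinearMap = LinearMap.id := by
      ext s; simp [σR]
    rw [e1, e2, sub_self]
  have heq := hrig _ _ hL hR hd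
  obtain ⟨a, ha⟩ := exists_of_coface_eq R S B g heq
  refine ⟨a, ?_, ha⟩
  apply isGroupLikeElem_of_tmul (S := S) (FaithfulSMul.algebraMap_injective R S)
  rw [ha]
  exact hg

end Radicial

section PurelyInsep

variable {F : Type u} [Field F] {K : Type u} [Field K] [Algebra F K] [IsPurelyInseparable F K]

lemma nil_kaehler_ideal : ∀ x ∈ KaehlerDifferential.ideal F K, IsNilpotent x := by
  have hle : KaehlerDifferential.ideal F K ≤ nilradical (K ⊗[F] K) := by
    rw [← KaehlerDifferential.span_range_eq_ideal, Ideal.span_le]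
    rintro _ ⟨s, rfl⟩
    obtain ⟨q, hq⟩ := ExpChar.exists F
    haveI := hq
    obtain ⟨n, c, hc⟩ := IsPurelyInseparable.pow_mem F q s
    haveI : ExpChar (K ⊗[F] K) q :=
      expChar_of_injective_algebraMap (algebraMap F (K ⊗[F] K)).injective q
    change IsNilpotent _
    refine ⟨q ^ n, ?_⟩
    rw [sub_pow_expChar_pow, Algebra.TensorProduct.tmul_pow, Algebra.TensorProduct.tmul_pow,
      one_pow, ← hc, Algebra.algebraMap_eq_smul_one, TensorProduct.tmul_smul,
      TensorProduct.smul_tmul', sub_self]
  exact fun x hx => mem_nilradical.mp (hle hx)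

variable {B : Type u} [CommRing B] [HopfAlgebra F B] {M : Type u} [CommGroup M]

theorem nonempty_bialgEquiv_of_purelyInseparable
    (E : K ⊗[F] B ≃ₐc[K] MonoidAlgebra K M) : Nonempty (B ≃ₐc[F] MonoidAlgebra F M) := by
  classical
  have hrig : RigidInj (K ⊗[F] K) ((K ⊗[F] K) ⊗[F] B) (KaehlerDifferential.ideal F K) :=
    rigidInj_of_equiv _ ((cancelBialg F K (K ⊗[F] K) B).symm.trans (bcDiag (K ⊗[F] K) E))
      (rigidInj_monoidAlgebra _ _ _ nil_kaehler_ideal)
  have hex : ∀ m : M, ∃ a : B, IsGroupLikeElem F a ∧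
      (1 : K) ⊗ₜ[F] a = E.symm (MonoidAlgebra.single m (1 : K)) := fun m =>
    exists_groupLike_descent hrig
      ((MonoidAlgebra.isGroupLikeElem_single_one (R := K) (A := K) m).map E.symm)
  choose γ hγ hγE using hex
  have hinj : Function.Injective (fun a : B => (1 : K) ⊗ₜ[F] a) :=
    Module.FaithfullyFlat.tensorProduct_mk_injective (A := F) (B := K) B
  have hone : γ 1 = 1 := by
    apply hinj
    change (1 : K) ⊗ₜ[F] γ 1 = (1 : K) ⊗ₜ[F] (1 : B)
    rw [hγE]
    have : (MonoidAlgebra.single (1 : M) (1 : K)) = 1 := rfl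
    rw [this, map_one]
    rfl
  have hmul : ∀ m m', γ (m * m') = γ m * γ m' := by
    intro m m'
    apply hinj
    change (1 : K) ⊗ₜ[F] γ (m * m') = (1 : K) ⊗ₜ[F] (γ m * γ m')
    have : (MonoidAlgebra.single (m * m') (1 : K)) =
        MonoidAlgebra.single m 1 * MonoidAlgebra.single m' 1 := by
      rw [MonoidAlgebra.single_mul_single, one_mul]
    rw [hγE, this, map_mul, ← hγE, ← hγE, Algebra.TensorProduct.tmul_mul_tmul, one_mul]
  let γh : M →* B := { toFun := γ, map_one' := hone, map_mul' := hmul }
  let Ψ : MonoidAlgebra F M →ₐc[F] B := liftGL γh hγ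
  have hΨs : ∀ m r, Ψ (MonoidAlgebra.single m r) = r • γ m := fun m r => liftGL_single γh hγ m r
  have hrel : ∀ u : K ⊗[F] MonoidAlgebra F M,
      LinearMap.lTensor K (Ψ : MonoidAlgebra F M →ₗ[F] B) u =
        E.symm (MonoidAlgebra.scalarTensorEquiv F K u) := by
    intro u
    induction u using TensorProduct.induction_on with
    | zero => simp
    | add x y hx hy => rw [map_add, map_add, map_add, hx, hy]
    | tmul s x =>
      induction x using MonoidAlgebra.induction_linear with
      | zero => simp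
      | add x y hx hy =>
        rw [TensorProduct.tmul_add, map_add, map_add, map_add, hx, hy]
      | single m r =>
        rw [LinearMap.lTensor_tmul]
        change s ⊗ₜ[F] Ψ (MonoidAlgebra.single m r) = _
        rw [hΨs, MonoidAlgebra.scalarTensorEquiv_tmul, map_smul]
        have e1 : MonoidAlgebra.mapAlgHom M (Algebra.ofId F K) (MonoidAlgebra.single m r) =
            algebraMap F K r • MonoidAlgebra.single m (1 : K) := by
          rw [MonoidAlgebra.smul_single, smul_eq_mul, mul_one]
          simp [Algebra.ofId_apply]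
        rw [e1, map_smul, ← hγE, TensorProduct.tmul_smul, ← algebraMap_smul K r,
          TensorProduct.smul_tmul', TensorProduct.smul_tmul', TensorProduct.smul_tmul',
          smul_eq_mul, smul_eq_mul, smul_eq_mul, mul_one]
        congr 1
        ring
  have hbij : Function.Bijective (LinearMap.lTensor K (Ψ : MonoidAlgebra F M →ₗ[F] B)) := by
    have hfun : ⇑(LinearMap.lTensor K (Ψ : MonoidAlgebra F M →ₗ[F] B)) =
        ⇑E.symm ∘ ⇑(MonoidAlgebra.scalarTensorEquiv F K (M := M)) := by
      funext u
      exact hrel u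
    rw [hfun]
    exact E.symm.bijective.comp (AlgEquiv.bijective _)
  have hΨbij : Function.Bijective (Ψ : MonoidAlgebra F M →ₗ[F] B) :=
    (Module.FaithfullyFlat.lTensor_bijective_iff_bijective (R := F) (M := K) _).mp hbij
  exact ⟨(BialgEquiv.ofBijective Ψ hΨbij).symm⟩

end PurelyInsep

section Final

variable (k : Type u) [Field k] (A : Type u) [CommRing A] [HopfAlgebra k A]

theorem isotrivial_of_field (hft : Algebra.FiniteType k A) (h : IsMultType k A) :
    ∃ (k' : Type u) (_ : Field k') (_ : Algebra k k'), Module.Finite k k' ∧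
      Algebra.IsSeparable k k' ∧ IsDiagFT k' (k' ⊗[k] A) := by
  obtain ⟨R', _, _, hff, M, _, ⟨E⟩⟩ := isMultTypeConst_of_isLocalRing k A h
  haveI : Nontrivial R' := by
    have hinj := FaithfulSMul.algebraMap_injective k R'
    exact ⟨⟨0, 1, fun h01 => zero_ne_one (hinj (by rw [map_zero, map_one]; exact h01))⟩⟩
  have hMfg : Group.FG M := by
    haveI : Algebra.FiniteType k A := hft
    have h1 : Algebra.FiniteType R' (R' ⊗[k] A) := inferInstance
    have h2 : Algebra.FiniteType R' (MonoidAlgebra R' M) := h1.equiv (E : R' ⊗[k] A ≃ₐ[R'] _)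
    exact MonoidAlgebra.finiteType_iff_group_fg.mp h2
  obtain ⟨K', _, _, hfin, ⟨E'⟩⟩ :=
    exists_finite_field_diag hft (Group.fg_iff_monoid_fg.mp hMfg) E
  haveI : Algebra.IsAlgebraic k K' := Algebra.IsAlgebraic.of_finite k K'
  haveI : IsPurelyInseparable (separableClosure k K') K' :=
    separableClosure.isPurelyInseparable k K'
  obtain ⟨e⟩ := nonempty_bialgEquiv_of_purelyInseparable (F := separableClosure k K') (K := K')
    (B := (separableClosure k K') ⊗[k] A) ((cancelBialg k (separableClosure k K') K' A).trans E')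
  exact ⟨separableClosure k K', inferInstance, inferInstance, inferInstance, inferInstance,
    M, inferInstance, hMfg, ⟨e⟩⟩

end Final

end Groth.Agent.Lib.helper15.Rigid
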