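import Mathlib
import Groth.Prelude.Def_CartDual

/-!
# Base change of the dual (convolution) algebra; commutative dual ⇒ cocommutative (helper15)

* `beta R A S : D R A →+* D S (S ⊗[R] A)`, the semilinear ring map `x ↦ (s ⊗ a ↦ x a • s)`
  (adapted from helper22's `CartDualPts.betaLin`, which is stated over fields);
* `dualB b`, the dual basis of `D R A` attached to a finite basis `b` of `A`, and its compatibility
  with `beta`;
* `isCocomm_of_mul_comm`: a free finite bialgebra whose dual algebra is commutative is
  cocommutative.
-/

set_option autoImplicit false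
set_option linter.style.haveILetI false
set_option linter.unusedSectionVars false
universe u v w
open scoped TensorProduct
open WithConv

namespace Groth.Agent.Lib.helper15.DualBC

section Beta

variable (R : Type u) [CommRing R] (A : Type v) [CommRing A] [Bialgebra R A]
  (S : Type w) [CommRing S] [Algebra R S]

/-- the linear map `D R A → D_S(S ⊗ A)`, base change of linear forms -/
noncomputable def betaLin : CartDual.D R A →ₗ[R] WithConv ((S ⊗[R] A) →ₗ[S] S) :=
  (WithConv.linearEquiv R ((S ⊗[R] A) →ₗ[S] S)).symm.toLinearMap ∘ₗ
    (Module.Dual.baseChange S (R := R) (V := A)) ∘ₗ (CartDual.toDual R A).toLinearMap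

theorem betaLin_apply_tmul (x : CartDual.D R A) (r : S) (a : A) :
    (betaLin R A S x).ofConv (r ⊗ₜ[R] a) = x a • r := rfl

/-- key computation for the convolution product of base-changed forms -/
theorem mul_aux (x y : CartDual.D R A) (r : S) (t : A ⊗[R] A) :
    LinearMap.mul' S S (TensorProduct.map (betaLin R A S x).ofConv (betaLin R A S y).ofConv
      (TensorProduct.AlgebraTensorModule.tensorTensorTensorComm R S R S S S A A
        (((1 : S) ⊗ₜ[S] r) ⊗ₜ[R] t))) =
    (LinearMap.mul' R R (TensorProduct.map x.ofConv y.ofConv t)) • r := by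
  induction t using TensorProduct.induction_on with
  | zero => simp
  | tmul a b =>
    rw [TensorProduct.AlgebraTensorModule.tensorTensorTensorComm_tmul, TensorProduct.map_tmul,
      LinearMap.mul'_apply, betaLin_apply_tmul, betaLin_apply_tmul, TensorProduct.map_tmul,
      LinearMap.mul'_apply]
    rw [Algebra.smul_def, Algebra.smul_def, Algebra.smul_def, map_mul]
    ring
  | add s t hs ht =>
    rw [TensorProduct.tmul_add, map_add, map_add, map_add, hs, ht, map_add, map_add, add_smul]

theorem betaLin_mul (x y : CartDual.D R A) :
    betaLin R A S (x * y) = betaLin R A S x * betaLin R A S y := by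
  apply WithConv.ofConv_injective
  apply TensorProduct.AlgebraTensorModule.ext
  intro r a
  have h1 : (x * y) a = LinearMap.mul' R R (TensorProduct.map x.ofConv y.ofConv
      (Coalgebra.comul (R := R) a)) := LinearMap.convMul_apply x y a
  have h2 : (betaLin R A S x * betaLin R A S y).ofConv (r ⊗ₜ[R] a) =
      LinearMap.mul' S S (TensorProduct.map (betaLin R A S x).ofConv (betaLin R A S y).ofConv
        (Coalgebra.comul (R := S) (r ⊗ₜ[R] a))) := LinearMap.convMul_apply _ _ _
  have h3 : (betaLin R A S (x * y)).ofConv (r ⊗ₜ[R] a) = (x * y) a • r := rfl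
  have h := mul_aux R A S x y r (Coalgebra.comul (R := R) a)
  change (betaLin R A S (x * y)).ofConv (r ⊗ₜ[R] a) =
    (betaLin R A S x * betaLin R A S y).ofConv (r ⊗ₜ[R] a)
  rw [h3, h1, h2, TensorProduct.comul_tmul, CommSemiring.comul_apply, h]

theorem betaLin_one : betaLin R A S 1 = 1 := by
  apply WithConv.ofConv_injective
  apply TensorProduct.AlgebraTensorModule.ext
  intro r a
  rw [betaLin_apply_tmul]
  change (1 : WithConv (A →ₗ[R] R)).ofConv a • r =
    (1 : WithConv ((S ⊗[R] A) →ₗ[S] S)).ofConv (r ⊗ₜ a)
  rw [LinearMap.convOne_apply, LinearMap.convOne_apply, TensorProduct.counit_tmul]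
  rfl

/-- the ring map `D R A → D_S(S ⊗ A)` -/
noncomputable def beta : CartDual.D R A →+* CartDual.D S (S ⊗[R] A) where
  toFun := betaLin R A S
  map_one' := betaLin_one R A S
  map_mul' := betaLin_mul R A S
  map_zero' := map_zero _
  map_add' := map_add _

theorem beta_apply_tmul (x : CartDual.D R A) (r : S) (a : A) :
    (beta R A S x).ofConv (r ⊗ₜ[R] a) = x a • r := rfl

theorem beta_smul (c : R) (x : CartDual.D R A) :
    beta R A S (c • x) = algebraMap R S c • beta R A S x := by
  apply WithConv.ofConv_injective
  apply TensorProduct.AlgebraTensorModule.ext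
  intro r a
  change (c • x) a • r = algebraMap R S c • (x a • r)
  change (c • x.ofConv a) • r = _
  rw [smul_assoc, algebraMap_smul]

end Beta

section Basis

variable {R : Type u} [CommRing R] {A : Type v} [CommRing A] [Bialgebra R A]
  {ι : Type*} [Fintype ι] [DecidableEq ι] (b : Module.Basis ι R A)

/-- the dual basis, in `D R A` -/
noncomputable def dualB : Module.Basis ι R (CartDual.D R A) :=
  b.dualBasis.map (CartDual.toDual R A).symm

theorem dualB_apply (i : ι) : dualB b i = toConv (b.coord i) := by
  rw [dualB, Module.Basis.map_apply, Module.Basis.coe_dualBasis]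
  rfl

theorem dualB_apply_apply (i : ι) (a : A) : (dualB b i) a = b.repr a i := by
  rw [dualB_apply]
  rfl

variable (S : Type w) [CommRing S] [Algebra R S]

theorem beta_dualB (i : ι) :
    beta R A S (dualB b i) = dualB (Algebra.TensorProduct.basis S b) i := by
  apply WithConv.ofConv_injective
  apply TensorProduct.AlgebraTensorModule.ext
  intro r a
  rw [beta_apply_tmul, dualB_apply_apply]
  change _ = (dualB (Algebra.TensorProduct.basis S b) i) (r ⊗ₜ[R] a)
  rw [dualB_apply_apply, Algebra.TensorProduct.basis_repr_tmul, Finsupp.smul_apply,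
    Finsupp.mapRange_apply, Algebra.smul_def, smul_eq_mul, mul_comm]

end Basis

section Cocomm

variable {R : Type u} [CommRing R] {A : Type v} [CommRing A] [Bialgebra R A]
  {ι : Type*} [Fintype ι] [DecidableEq ι] (b : Module.Basis ι R A)

lemma repr_eq_mul' (t : A ⊗[R] A) (i j : ι) :
    (b.tensorProduct b).repr t (i, j) =
      LinearMap.mul' R R (TensorProduct.map (dualB b i).ofConv (dualB b j).ofConv t) := by
  induction t using TensorProduct.induction_on with
  | zero => simp
  | tmul x y =>
    rw [Module.Basis.tensorProduct_repr_tmul_apply, TensorProduct.map_tmul, LinearMap.mul'_apply,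
      dualB_apply, dualB_apply]
    change _ = b.repr x i * b.repr y j
    rw [smul_eq_mul, mul_comm]
  | add s t hs ht =>
    rw [map_add, Finsupp.add_apply, hs, ht, map_add, map_add]

lemma repr_comm (t : A ⊗[R] A) (i j : ι) :
    (b.tensorProduct b).repr (TensorProduct.comm R A A t) (i, j) =
      (b.tensorProduct b).repr t (j, i) := by
  induction t using TensorProduct.induction_on with
  | zero => simp
  | tmul x y =>
    rw [TensorProduct.comm_tmul, Module.Basis.tensorProduct_repr_tmul_apply,
      Module.Basis.tensorProduct_repr_tmul_apply, smul_eq_mul, smul_eq_mul, mul_comm]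
  | add s t hs ht =>
    rw [map_add, map_add, Finsupp.add_apply, hs, ht, map_add, Finsupp.add_apply]

include b in
/-- a finite free bialgebra with commutative dual algebra is cocommutative -/
theorem isCocomm_of_mul_comm (h : ∀ x y : CartDual.D R A, x * y = y * x) :
    Coalgebra.IsCocomm R A := by
  constructor
  ext a
  rw [LinearMap.comp_apply, LinearEquiv.coe_coe]
  apply (b.tensorProduct b).repr.injective
  ext ⟨i, j⟩
  rw [repr_comm, repr_eq_mul', repr_eq_mul', ← LinearMap.convMul_apply,
    ← LinearMap.convMul_apply, h]

end Cocomm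

end Groth.Agent.Lib.helper15.DualBC
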