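import Mathlib

/-!
# `Dual R E ⊗ M ≃ Hom(E, M)` for `E` finitely presented and `M` flat (helper15)

* `dualTensorHom_injective`: `E` finite, `M` flat.
* `dualTensorHom_surjective`: `E` finitely presented, `M` flat.
* `dualTensorHom_bijective`, `dualTensorEquiv`.
* `dualTensorHom_lTensor`, `pair_lTensor`: naturality in `M`.
-/

set_option autoImplicit false

namespace Groth.Agent.Lib.helper15.DualTensorFlat

open TensorProduct

variable {R : Type*} [CommRing R] {E : Type*} [AddCommGroup E] [Module R E]
  {M : Type*} [AddCommGroup M] [Module R M]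

theorem dualTensorHom_surjective [Module.Flat R M] [Module.FinitePresentation R E] :
    Function.Surjective (dualTensorHom R E M) := by
  intro μ
  obtain ⟨k, g, h, rfl⟩ := Module.Flat.exists_factorization_of_finitePresentation μ
  refine ⟨∑ i : Fin k, ((Finsupp.lapply i) ∘ₗ g) ⊗ₜ[R] h (Finsupp.single i 1), ?_⟩
  ext e
  have h1 : g e = ∑ i : Fin k, (g e) i • Finsupp.single i (1 : R) := by
    conv_lhs => rw [← Finsupp.univ_sum_single (g e)]
    refine Finset.sum_congr rfl fun i _ => ?_
    rw [Finsupp.smul_single_one]
  rw [LinearMap.comp_apply]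
  conv_rhs => rw [h1, map_sum]
  rw [map_sum, LinearMap.sum_apply]
  refine Finset.sum_congr rfl fun i _ => ?_
  rw [dualTensorHom_apply, map_smul, LinearMap.comp_apply, Finsupp.lapply_apply]

theorem dualTensorHom_injective [Module.Flat R M] [Module.Finite R E] :
    Function.Injective (dualTensorHom R E M) := by
  classical
  obtain ⟨n, s, hs⟩ := Module.Finite.exists_fin (R := R) (M := E)
  let ev : Module.Dual R E →ₗ[R] (Fin n → R) := LinearMap.pi fun k => LinearMap.applyₗ (s k)
  have hev : Function.Injective ev := by
    intro f g hfg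
    apply LinearMap.ext_on_range hs
    intro k
    exact congrFun hfg k
  have h1 : Function.Injective (ev.rTensor M) :=
    Module.Flat.rTensor_preserves_injective_linearMap ev hev
  have key : ∀ t : Module.Dual R E ⊗[R] M, ev.rTensor M t =
      ∑ k : Fin n, (Pi.single k (1 : R) : Fin n → R) ⊗ₜ[R] (dualTensorHom R E M t (s k)) := by
    intro t
    induction t with
    | zero => simp
    | tmul f m =>
      rw [LinearMap.rTensor_tmul]
      have : ev f = ∑ k : Fin n, f (s k) • (Pi.single k (1 : R) : Fin n → R) := by
        ext j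
        simp [ev, Finset.sum_apply, Pi.single_apply]
      rw [this, TensorProduct.sum_tmul]
      refine Finset.sum_congr rfl fun k _ => ?_
      rw [dualTensorHom_apply, TensorProduct.smul_tmul]
    | add x y hx hy =>
      rw [map_add, hx, hy, ← Finset.sum_add_distrib]
      refine Finset.sum_congr rfl fun k _ => ?_
      rw [map_add, LinearMap.add_apply, TensorProduct.tmul_add]
  intro t t' htt'
  apply h1
  rw [key, key, htt']

theorem dualTensorHom_bijective [Module.Flat R M] [Module.FinitePresentation R E] :
    Function.Bijective (dualTensorHom R E M) :=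
  ⟨dualTensorHom_injective, dualTensorHom_surjective⟩

/-- the inverse-able form. -/
noncomputable def dualTensorEquiv (R : Type*) [CommRing R] (E : Type*) [AddCommGroup E]
    [Module R E] (M : Type*) [AddCommGroup M] [Module R M] [Module.Flat R M]
    [Module.FinitePresentation R E] : Module.Dual R E ⊗[R] M ≃ₗ[R] (E →ₗ[R] M) :=
  LinearEquiv.ofBijective (dualTensorHom R E M) dualTensorHom_bijective

@[simp] theorem dualTensorEquiv_apply [Module.Flat R M] [Module.FinitePresentation R E]
    (t : Module.Dual R E ⊗[R] M) : dualTensorEquiv R E M t = dualTensorHom R E M t := rfl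

theorem dualTensorHom_symm_apply [Module.Flat R M] [Module.FinitePresentation R E]
    (μ : E →ₗ[R] M) : dualTensorHom R E M ((dualTensorEquiv R E M).symm μ) = μ :=
  (dualTensorEquiv R E M).apply_symm_apply μ

/-- naturality of `dualTensorHom` in the coefficient module. -/
theorem dualTensorHom_lTensor {M' : Type*} [AddCommGroup M'] [Module R M'] (g : M →ₗ[R] M')
    (t : Module.Dual R E ⊗[R] M) (e : E) :
    dualTensorHom R E M' (g.lTensor (Module.Dual R E) t) e = g (dualTensorHom R E M t e) := by
  induction t with
  | zero => simp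
  | tmul f m => rw [LinearMap.lTensor_tmul, dualTensorHom_apply, dualTensorHom_apply, map_smul]
  | add x y hx hy => simp only [map_add, LinearMap.add_apply, hx, hy]

/-- pairing an element of `Q ⊗ M` with a functional on `Q`. -/
noncomputable def pair {Q : Type*} [AddCommGroup Q] [Module R Q] (ξ : Q →ₗ[R] R) :
    Q ⊗[R] M →ₗ[R] M :=
  (TensorProduct.lid R M).toLinearMap ∘ₗ ξ.rTensor M

@[simp] theorem pair_tmul {Q : Type*} [AddCommGroup Q] [Module R Q] (ξ : Q →ₗ[R] R) (f : Q)
    (m : M) : pair ξ (f ⊗ₜ[R] m) = ξ f • m := by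
  simp [pair]

theorem pair_lTensor {Q : Type*} [AddCommGroup Q] [Module R Q] (ξ : Q →ₗ[R] R)
    {M' : Type*} [AddCommGroup M'] [Module R M'] (g : M →ₗ[R] M') (t : Q ⊗[R] M) :
    pair ξ (g.lTensor Q t) = g (pair ξ t) := by
  induction t with
  | zero => simp
  | tmul f m => rw [LinearMap.lTensor_tmul, pair_tmul, pair_tmul, map_smul]
  | add x y hx hy => simp only [map_add, hx, hy]

/-- expansion of an element of `Q ⊗ M` along a "dual basis" of a projective module. -/
theorem eq_sum_tmul_pair {Q : Type*} [AddCommGroup Q] [Module R Q] {d : ℕ} (fs : Fin d → Q)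
    (ξ : Fin d → (Q →ₗ[R] R)) (h : ∀ f : Q, f = ∑ i, ξ i f • fs i) (t : Q ⊗[R] M) :
    t = ∑ j, fs j ⊗ₜ[R] pair (ξ j) t := by
  induction t with
  | zero => simp
  | tmul f m =>
    conv_lhs => rw [h f, TensorProduct.sum_tmul]
    refine Finset.sum_congr rfl fun j _ => ?_
    rw [pair_tmul, TensorProduct.smul_tmul]
  | add x y hx hy =>
    conv_lhs => rw [hx, hy, ← Finset.sum_add_distrib]
    refine Finset.sum_congr rfl fun j _ => ?_
    rw [map_add, TensorProduct.tmul_add]

end Groth.Agent.Lib.helper15.DualTensorFlat
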