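import Mathlib
import Groth.Prelude.Def_SGA3b
import Groth.Prelude.Def_CartDual2
import Groth.Agent.Lib.Helper15.DualBC
import Groth.Agent.Lib.Helper15.DualTensorFlat
set_option autoImplicit false
set_option linter.style.haveILetI false
set_option linter.unusedSectionVars false
universe u
open TensorProduct WithConv

/-!
# Base change of the Cartier dual (helper15)

`bcDual R A S : S ⊗[R] D R A ≃ₐ[S] D S (S ⊗[R] A)` for `S` flat over `R` and `A` a bialgebra which is
finitely presented as a module.
-/

namespace Groth.Agent.Lib.helper15.CartBC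
open Groth.Agent.Lib.helper15.DualBC Groth.Agent.Lib.helper15.DualTensorFlat

section BcDual

variable (R : Type u) [CommRing R] (A : Type u) [CommRing A] [Bialgebra R A]
  (S : Type u) [CommRing S] [Algebra R S]

instance instTower : IsScalarTower R S (CartDual.D S (S ⊗[R] A)) :=
  ⟨fun r s x => by
    apply WithConv.ofConv_injective
    apply LinearMap.ext
    intro y
    change (r • s) • x.ofConv y = r • (s • x.ofConv y)
    rw [smul_assoc]⟩

/-- the `S`-linear map `S ⊗ D R A → D_S (S ⊗ A)` -/
noncomputable def bcDualLin : S ⊗[R] CartDual.D R A →ₗ[S] CartDual.D S (S ⊗[R] A) :=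
  LinearMap.liftBaseChange S (betaLin R A S)

theorem bcDualLin_tmul (s : S) (x : CartDual.D R A) :
    bcDualLin R A S (s ⊗ₜ[R] x) = s • beta R A S x := by
  rw [bcDualLin, LinearMap.liftBaseChange_tmul]
  rfl

theorem bcDualLin_apply_one_tmul (z : S ⊗[R] CartDual.D R A) (a : A) :
    (bcDualLin R A S z) ((1 : S) ⊗ₜ[R] a) =
      dualTensorHom R A S (TensorProduct.map (CartDual.toDual R A).toLinearMap LinearMap.id
        (TensorProduct.comm R S (CartDual.D R A) z)) a := by
  induction z using TensorProduct.induction_on with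
  | zero => simp
  | tmul s x =>
    rw [bcDualLin_tmul, TensorProduct.comm_tmul, TensorProduct.map_tmul, dualTensorHom_apply]
    change s • (beta R A S x).ofConv ((1 : S) ⊗ₜ[R] a) = _
    rw [beta_apply_tmul]
    simp [Algebra.smul_def, mul_comm]
  | add x y hx hy =>
    rw [map_add, map_add, map_add, map_add, LinearMap.add_apply, ← hx, ← hy]
    rfl

/-- the auxiliary equivalence `S ⊗ D R A ≃ Dual R A ⊗ S`. -/
noncomputable def swapEquiv : S ⊗[R] CartDual.D R A ≃ₗ[R] Module.Dual R A ⊗[R] S :=
  (TensorProduct.comm R S (CartDual.D R A)).trans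
    (TensorProduct.congr (CartDual.toDual R A) (LinearEquiv.refl R S))

theorem bcDualLin_apply_one_tmul' (z : S ⊗[R] CartDual.D R A) (a : A) :
    (bcDualLin R A S z) ((1 : S) ⊗ₜ[R] a) = dualTensorHom R A S (swapEquiv R A S z) a :=
  bcDualLin_apply_one_tmul R A S z a

theorem ext_one_tmul {u v : CartDual.D S (S ⊗[R] A)}
    (h : ∀ a : A, u ((1 : S) ⊗ₜ[R] a) = v ((1 : S) ⊗ₜ[R] a)) : u = v := by
  apply WithConv.ofConv_injective
  apply TensorProduct.AlgebraTensorModule.ext
  intro s a
  have e : s ⊗ₜ[R] a = s • ((1 : S) ⊗ₜ[R] a) := by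
    rw [TensorProduct.smul_tmul', smul_eq_mul, mul_one]
  rw [e, map_smul, map_smul]
  congr 1
  exact h a

theorem bcDualLin_bijective [Module.Flat R S] [Module.FinitePresentation R A] :
    Function.Bijective (bcDualLin R A S) := by
  constructor
  · rw [injective_iff_map_eq_zero]
    intro z hz
    have h1 : dualTensorHom R A S (swapEquiv R A S z) = 0 := by
      apply LinearMap.ext
      intro a
      rw [← bcDualLin_apply_one_tmul', hz]
      rfl
    have h2 := dualTensorHom_injective (h1.trans (map_zero _).symm)
    exact (swapEquiv R A S).injective (h2.trans (map_zero _).symm)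
  · intro u
    let μ : A →ₗ[R] S :=
      { toFun := fun a => u ((1 : S) ⊗ₜ[R] a)
        map_add' := fun a b => by
          change u.ofConv ((1 : S) ⊗ₜ[R] (a + b)) = _
          rw [TensorProduct.tmul_add, map_add]
        map_smul' := fun r a => by
          change u.ofConv ((1 : S) ⊗ₜ[R] (r • a)) = _
          rw [TensorProduct.tmul_smul, ← algebraMap_smul S r, map_smul, algebraMap_smul]
          rfl }
    obtain ⟨w, hw⟩ := dualTensorHom_surjective (R := R) (E := A) (M := S) μ
    refine ⟨(swapEquiv R A S).symm w, ?_⟩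
    apply ext_one_tmul
    intro a
    rw [bcDualLin_apply_one_tmul', LinearEquiv.apply_symm_apply, hw]
    rfl

instance instRDC : RightDistribClass (S ⊗[R] CartDual.D R A) := by
  let _ : Semiring (S ⊗[R] CartDual.D R A) := inferInstance
  infer_instance

instance instLDC : LeftDistribClass (S ⊗[R] CartDual.D R A) := by
  let _ : Semiring (S ⊗[R] CartDual.D R A) := inferInstance
  infer_instance

theorem bcDualLin_one : bcDualLin R A S 1 = 1 := by
  rw [Algebra.TensorProduct.one_def, bcDualLin_tmul, map_one, one_smul]

theorem bcDualLin_mul (z z' : S ⊗[R] CartDual.D R A) :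
    bcDualLin R A S (z * z') = bcDualLin R A S z * bcDualLin R A S z' := by
  induction z using TensorProduct.induction_on with
  | zero =>
    have h : (0 : S ⊗[R] CartDual.D R A) * z' = 0 := zero_mul z'
    have h2 : bcDualLin R A S 0 = 0 := map_zero _
    exact (congrArg _ h).trans (h2.trans ((zero_mul _).symm.trans
      (congrArg (· * bcDualLin R A S z') h2.symm)))
  | add x y hx hy => rw [add_mul, map_add, hx, hy, map_add, add_mul]
  | tmul s x =>
    induction z' using TensorProduct.induction_on with
    | zero =>
      have h : s ⊗ₜ[R] x * (0 : S ⊗[R] CartDual.D R A) = 0 := mul_zero (s ⊗ₜ[R] x)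
      have h2 : bcDualLin R A S 0 = 0 := map_zero _
      exact (congrArg _ h).trans (h2.trans ((mul_zero _).symm.trans
        (congrArg (bcDualLin R A S (s ⊗ₜ[R] x) * ·) h2.symm)))
    | add x' y' hx hy => rw [mul_add, map_add, hx, hy, map_add, mul_add]
    | tmul s' x' =>
      rw [Algebra.TensorProduct.tmul_mul_tmul, bcDualLin_tmul, bcDualLin_tmul, bcDualLin_tmul,
        map_mul, smul_mul_smul_comm]

/-- base change of the dual algebra, as an algebra isomorphism. -/
noncomputable def bcDual [Module.Flat R S] [Module.FinitePresentation R A] :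
    S ⊗[R] CartDual.D R A ≃ₐ[S] CartDual.D S (S ⊗[R] A) :=
  AlgEquiv.ofBijective
    (AlgHom.ofLinearMap (bcDualLin R A S) (bcDualLin_one R A S) (bcDualLin_mul R A S))
    (bcDualLin_bijective R A S)

end BcDual
end Groth.Agent.Lib.helper15.CartBC
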