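import Mathlib
import Groth.Prelude.Def_SGA3b
import Groth.Prelude.Def_CartDual2
import Groth.Prelude.Def_ConstGrp
import Groth.Agent.Lib.Helper15.CartBC
import Groth.Agent.Lib.Helper15.RigidDesc
import Groth.Agent.Lib.Helper22.CartDualMon

/-!
# Finite groups of multiplicative type over a connected base are isotrivial (helper15)

* `etale_dual_of_isDiag`, `etale_dual_of_ff_isDiag`, `etale_dual_of_isIsotrivial`: the Cartier dual of
  a finite locally diagonalisable group is etale.
* `exists_basis_groupLike`: if the dual algebra is split, the Hopf algebra has a basis of group-like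
  elements.
* `isDiag_of_basis_groupLike`: a Hopf algebra with a finite basis of group-like elements over a ring
  without nontrivial idempotents is diagonalisable.
* `exists_connected_etale`: connected component of a finite etale cover of a connected base.
* `isIsotrivial_of_etale_dual`: over a connected base, etale dual implies isotrivial.
-/

set_option autoImplicit false
set_option linter.style.haveILetI false
set_option linter.unusedSectionVars false
universe u
open TensorProduct WithConv

namespace Groth.Agent.Lib.helper15.CartIsotriv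
open Groth.Agent.Lib.helper15.CartBC Groth.Agent.Lib.helper15.Rigid


section DiagEtale

variable (T : Type u) [CommRing T] (B : Type u) [CommRing B] [HopfAlgebra T B]
  [Coalgebra.IsCocomm T B] [Module.Finite T B] [Module.Projective T B]

/-- the transpose of a bialgebra isomorphism, as an algebra isomorphism of duals. -/
noncomputable def transposeEquiv {B' : Type u} [CommRing B'] [HopfAlgebra T B']
    [Module.Finite T B'] [Module.Projective T B'] (E : B ≃ₐc[T] B') :
    CartDual.D T B' ≃ₐ[T] CartDual.D T B :=
  AlgEquiv.ofAlgHom (CartDual.transpose T (E : B →ₐc[T] B') : CartDual.D T B' →ₐ[T] CartDual.D T B)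
    (CartDual.transpose T (E.symm : B' →ₐc[T] B) : CartDual.D T B →ₐ[T] CartDual.D T B')
    (by
      apply AlgHom.ext
      intro x
      apply WithConv.ofConv_injective
      apply LinearMap.ext
      intro a
      change x.ofConv (E.symm (E a)) = x.ofConv a
      rw [E.symm_apply_apply])
    (by
      apply AlgHom.ext
      intro x
      apply WithConv.ofConv_injective
      apply LinearMap.ext
      intro a
      change x.ofConv (E (E.symm a)) = x.ofConv a
      rw [E.apply_symm_apply])

theorem finite_of_finite_monoidAlgebra [Nontrivial T] (M : Type u) [CommGroup M]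
    [Module.Finite T (MonoidAlgebra T M)] : Finite M := by
  have h : Module.Finite T (M →₀ T) :=
    Module.Finite.equiv (MonoidAlgebra.coeffLinearEquiv T (S := T) (M := M))
  rcases Module.finite_finsupp_iff.1 h with h1 | h1 | ⟨_, h1⟩
  · exact Finite.of_subsingleton
  · exact (not_subsingleton T h1).elim
  · exact h1

theorem etale_dual_of_isDiag (h : SGA3b.IsDiag T B) : Algebra.Etale T (CartDual.D T B) := by
  classical
  rcases subsingleton_or_nontrivial T with hT | hT
  · have : Algebra.IsFiniteSplit T (CartDual.D T B) := Algebra.IsFiniteSplit.of_subsingleton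
    infer_instance
  obtain ⟨M, _, ⟨E⟩⟩ := h
  have : Module.Finite T (MonoidAlgebra T M) := Module.Finite.equiv E.toLinearEquiv
  have : Finite M := finite_of_finite_monoidAlgebra T M
  have := Fintype.ofFinite M
  let e1 : CartDual.D T (MonoidAlgebra T M) ≃ₐ[T] CartDual.D T B := transposeEquiv T B E
  let e2 : CartDual.D T (MonoidAlgebra T M) ≃ₐ[T] ConstGrp.F T M :=
    Groth.Agent.Lib.helper22.CartDualMon.algEquiv T M
  let e3 : (M → T) ≃ₐ[T] CartDual.D T B := (ConstGrp.equivFun T M).symm.trans (e2.symm.trans e1)
  exact Algebra.Etale.of_equiv e3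

end DiagEtale

section Converse

variable (R : Type u) [CommRing R] (A : Type u) [CommRing A] [HopfAlgebra R A]
  [Coalgebra.IsCocomm R A] [Module.Finite R A] [Module.Projective R A]

theorem etale_dual_of_ff_isDiag (T : Type u) [CommRing T] [Algebra R T] [Module.FaithfullyFlat R T]
    (h : SGA3b.IsDiag T (T ⊗[R] A)) : Algebra.Etale R (CartDual.D R A) := by
  have : Module.FinitePresentation R A := Module.finitePresentation_of_projective R A
  have h1 : Algebra.Etale T (CartDual.D T (T ⊗[R] A)) := etale_dual_of_isDiag T (T ⊗[R] A) h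
  have h2 : Algebra.Etale T (T ⊗[R] CartDual.D R A) := Algebra.Etale.of_equiv (bcDual R A T).symm
  exact Algebra.Etale.of_etale_tensorProduct_of_faithfullyFlat T

theorem etale_dual_of_isIsotrivial (h : SGA3b.IsIsotrivial R A) :
    Algebra.Etale R (CartDual.D R A) := by
  obtain ⟨T, _, _, _, _, _, hd⟩ := h
  exact etale_dual_of_ff_isDiag R A T hd

end Converse


section SplitBasis

variable (T : Type u) [CommRing T] (B : Type u) [CommRing B] [HopfAlgebra T B]
  [Module.Finite T B] [Module.Projective T B]

lemma ev₂_tmul_comul (x y : CartDual.D T B) (a : B) :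
    CartDual.ev₂ T B (x ⊗ₜ y) (Coalgebra.comul a) = (x * y).ofConv a := by
  rw [CartDual.ev₂_tmul_eq', LinearMap.convMul_apply]
  rfl

lemma one_ofConv_apply (a : B) : (1 : CartDual.D T B).ofConv a = Coalgebra.counit a := by
  simp [LinearMap.convOne_def]

lemma eq_of_ev₂ {ι : Type*} [Fintype ι] [DecidableEq ι] (x : Module.Basis ι T (CartDual.D T B))
    (z₁ z₂ : B ⊗[T] B)
    (h : ∀ j k, CartDual.ev₂ T B (x j ⊗ₜ x k) z₁ = CartDual.ev₂ T B (x j ⊗ₜ x k) z₂) :
    z₁ = z₂ := by
  rw [← sub_eq_zero, ← Module.forall_dual_apply_eq_zero_iff T]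
  intro ψ
  have key : LinearMap.applyₗ z₁ ∘ₗ (CartDual.ev₂ T B).toLinearMap =
      LinearMap.applyₗ z₂ ∘ₗ (CartDual.ev₂ T B).toLinearMap := by
    apply (x.tensorProduct x).ext
    rintro ⟨j, k⟩
    rw [Module.Basis.tensorProduct_apply]
    exact h j k
  have h2 := LinearMap.congr_fun key ((CartDual.ev₂ T B).symm ψ)
  simp only [LinearMap.comp_apply, LinearEquiv.coe_coe, LinearEquiv.apply_symm_apply,
    LinearMap.applyₗ_apply_apply] at h2
  rw [map_sub, h2, sub_self]

theorem exists_basis_groupLike {n : ℕ} (φ : CartDual.D T B ≃ₐ[T] (Fin n → T)) :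
    ∃ b : Module.Basis (Fin n) T B, ∀ i, IsGroupLikeElem T (b i) := by
  classical
  let x : Module.Basis (Fin n) T (CartDual.D T B) :=
    (Pi.basisFun T (Fin n)).map φ.symm.toLinearEquiv
  let f : Module.Basis (Fin n) T (Module.Dual T B) := x.map (CartDual.toDual T B)
  let b : Module.Basis (Fin n) T B := f.dualBasis.map (Module.evalEquiv T B).symm
  have hx : ∀ j, x j = φ.symm (Pi.single j 1) := by
    intro j
    change φ.symm.toLinearEquiv (Pi.basisFun T (Fin n) j) = _
    rw [Pi.basisFun_apply]
    rfl
  have P1 : ∀ j k, x j * x k = if j = k then x j else 0 := by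
    intro j k
    rw [hx, hx, ← map_mul]
    split_ifs with hjk
    · subst hjk
      congr 1
      funext l
      simp only [Pi.mul_apply, Pi.single_apply]
      split_ifs <;> simp
    · rw [← map_zero φ.symm]
      congr 1
      funext l
      simp only [Pi.mul_apply, Pi.single_apply, Pi.zero_apply]
      split_ifs with h1 h2
      · exact (hjk (h1.symm.trans h2)).elim
      all_goals simp
  have P2 : ∑ j, x j = 1 := by
    simp_rw [hx]
    rw [← map_sum, Finset.univ_sum_single (fun _ => (1 : T))]
    exact map_one φ.symm
  have P3 : ∀ i j, (x j).ofConv (b i) = if j = i then 1 else 0 := by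
    intro i j
    have h1 : (Module.evalEquiv T B) (b i) = f.dualBasis i := by
      change (Module.evalEquiv T B) ((Module.evalEquiv T B).symm (f.dualBasis i)) = _
      rw [LinearEquiv.apply_symm_apply]
    have h2 : (Module.evalEquiv T B) (b i) (f j) = (f j) (b i) := rfl
    rw [h1, Module.Basis.dualBasis_apply_self] at h2
    exact h2.symm
  refine ⟨b, fun i => ⟨?_, ?_⟩⟩
  · rw [← one_ofConv_apply, ← P2]
    change (∑ j, x j).ofConv (b i) = 1
    rw [WithConv.ofConv_sum, LinearMap.sum_apply]
    simp_rw [P3]
    simp
  · apply eq_of_ev₂ T B x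
    intro j k
    rw [ev₂_tmul_comul, P1, CartDual.ev₂_tmul, CartDual.coe_apply, CartDual.coe_apply, P3, P3]
    split_ifs with h1 h2 h3 h4 h5 <;> simp_all

end SplitBasis


section GLBasis

variable {T : Type u} [CommRing T] {B : Type u} [CommRing B] [HopfAlgebra T B]
  {ι : Type*} [Fintype ι] [DecidableEq ι] (b : Module.Basis ι T B)

include b in
/-- coordinates of a group-like element w.r.t. a basis of group-like elements are orthogonal
idempotents summing to one. -/
lemma repr_groupLike (hb : ∀ i, IsGroupLikeElem T (b i)) {g : B} (hg : IsGroupLikeElem T g) :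
    (∀ j k, b.repr g j * b.repr g k = if j = k then b.repr g j else 0) ∧
      ∑ j, b.repr g j = 1 := by
  have hsum : g = ∑ l, b.repr g l • b l := (b.sum_repr g).symm
  constructor
  · intro j k
    let ψ : B ⊗[T] B →ₗ[T] T :=
      LinearMap.mul' T T ∘ₗ TensorProduct.map (b.coord j) (b.coord k)
    have h1 : ψ (Coalgebra.comul g) = ψ (g ⊗ₜ[T] g) := by rw [hg.comul_eq_tmul_self]
    have h2 : ψ (g ⊗ₜ[T] g) = b.repr g j * b.repr g k := by
      simp [ψ, Module.Basis.coord_apply]
    have h3 : ψ (Coalgebra.comul g) = if j = k then b.repr g j else 0 := by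
      conv_lhs => rw [hsum]
      rw [map_sum, map_sum]
      have : ∀ l, ψ (Coalgebra.comul (b.repr g l • b l)) =
          if l = j then (if j = k then b.repr g j else 0) else 0 := by
        intro l
        rw [map_smul, (hb l).comul_eq_tmul_self, map_smul]
        simp only [ψ, LinearMap.comp_apply, TensorProduct.map_tmul, Module.Basis.coord_apply,
          Module.Basis.repr_self, LinearMap.mul'_apply, Finsupp.single_apply, smul_eq_mul]
        by_cases h1 : l = j
        · subst h1
          by_cases h2 : l = k
          · subst h2; simp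
          · simp [h2]
        · simp [h1]
      simp_rw [this]
      rw [Finset.sum_ite_eq' Finset.univ j]
      simp
    rw [← h2, ← h1, h3]
  · have h1 : Coalgebra.counit (R := T) g = 1 := hg.counit_eq_one
    conv_lhs at h1 => rw [hsum]
    rw [map_sum] at h1
    simp_rw [map_smul, (hb _).counit_eq_one, smul_eq_mul, mul_one] at h1
    exact h1

include b in
lemma exists_eq_basis_of_groupLike [Nontrivial T]
    (hT : ∀ e : T, IsIdempotentElem e → e = 0 ∨ e = 1)
    (hb : ∀ i, IsGroupLikeElem T (b i)) {g : B} (hg : IsGroupLikeElem T g) : ∃ i, g = b i := by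
  obtain ⟨h1, h2⟩ := repr_groupLike b hb hg
  have h01 : ∀ j, b.repr g j = 0 ∨ b.repr g j = 1 := by
    intro j
    apply hT
    have := h1 j j
    rw [if_pos rfl] at this
    exact this
  have hex : ∃ i, b.repr g i = 1 := by
    by_contra hne
    push Not at hne
    have : ∀ j, b.repr g j = 0 := fun j => (h01 j).resolve_right (hne j)
    simp_rw [this] at h2
    simp at h2
  obtain ⟨i, hi⟩ := hex
  refine ⟨i, ?_⟩
  apply b.repr.injective
  rw [b.repr_self]
  ext j
  rw [Finsupp.single_apply]
  split_ifs with hij
  · rw [← hij, hi]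
  · have := h1 j i
    rw [if_neg (fun h => hij h.symm), hi, mul_one] at this
    exact this

include b in
theorem isDiag_of_basis_groupLike [Nontrivial T]
    (hT : ∀ e : T, IsIdempotentElem e → e = 0 ∨ e = 1)
    (hb : ∀ i, IsGroupLikeElem T (b i)) : SGA3b.IsDiag T B := by
  classical
  have hidx : ∀ m : GroupLike T B, ∃ i, m.val = b i := fun m =>
    exists_eq_basis_of_groupLike b hT hb m.isGroupLikeElem_val
  choose idx hidx using hidx
  have idx_inj : Function.Injective idx := by
    intro m m' h
    apply GroupLike.val_injective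
    rw [hidx m, hidx m', h]
  let G : GroupLike T B →* B := GroupLike.valMonoidHom T B
  have hG : ∀ m, IsGroupLikeElem T (G m) := fun m => m.isGroupLikeElem_val
  have hbij : Function.Bijective (liftGL G hG) := by
    constructor
    · rw [injective_iff_map_eq_zero]
      intro z hz
      apply MonoidAlgebra.coeff_injective
      ext m₀
      have h1 := congrArg (fun y => b.repr y (idx m₀)) hz
      simp only [map_zero, Finsupp.zero_apply] at h1
      rw [liftGL_apply, Finsupp.sum, map_sum, Finsupp.finsetSum_apply] at h1
      have h2 : ∀ m ∈ z.coeff.support, (b.repr (z.coeff m • G m)) (idx m₀) =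
          if m = m₀ then z.coeff m else 0 := by
        intro m _
        have : G m = b (idx m) := hidx m
        rw [map_smul, this, b.repr_self, Finsupp.smul_apply, Finsupp.single_apply, smul_eq_mul]
        by_cases hm : m = m₀
        · subst hm; simp
        · rw [if_neg hm, if_neg (fun h => hm (idx_inj h)), mul_zero]
      rw [Finset.sum_congr rfl h2, Finset.sum_ite_eq' z.coeff.support m₀] at h1
      by_cases hm : m₀ ∈ z.coeff.support
      · rw [if_pos hm] at h1
        simpa using h1
      · simpa using Finsupp.notMem_support_iff.1 hm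
    · intro y
      refine ⟨∑ i, MonoidAlgebra.single (⟨b i, hb i⟩ : GroupLike T B) (b.repr y i), ?_⟩
      rw [map_sum]
      conv_rhs => rw [← b.sum_repr y]
      apply Finset.sum_congr rfl
      intro i _
      rw [liftGL_single]
      rfl
  exact ⟨GroupLike T B, inferInstance, ⟨(BialgEquiv.ofBijective (liftGL G hG) hbij).symm⟩⟩

end GLBasis


section CC

theorem idem_zero_or_one {A : Type*} [CommRing A] [ConnectedSpace (PrimeSpectrum A)] (e : A)
    (he : IsIdempotentElem e) : e = 0 ∨ e = 1 := by
  have hcl : IsClopen (PrimeSpectrum.basicOpen e : Set (PrimeSpectrum A)) :=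
    PrimeSpectrum.isClopen_iff.2 ⟨e, he, rfl⟩
  rcases _root_.isClopen_iff.1 hcl with h | h
  · left
    have h' : PrimeSpectrum.basicOpen e = ⊥ := TopologicalSpace.Opens.ext h
    rw [PrimeSpectrum.basicOpen_eq_bot_iff] at h'
    obtain ⟨n, hn⟩ := h'
    rcases n with _ | n
    · have h1 : (1 : A) = 0 := by simpa using hn
      rw [← mul_one e, h1, mul_zero]
    · rw [he.pow_succ_eq] at hn
      exact hn
  · right
    have h' : PrimeSpectrum.basicOpen e = PrimeSpectrum.basicOpen (1 : A) := by
      apply TopologicalSpace.Opens.ext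
      rw [h, PrimeSpectrum.basicOpen_one]
      rfl
    exact PrimeSpectrum.basicOpen_injOn_isIdempotentElem he IsIdempotentElem.one h'

/-- Over a connected ring a nonzero finite projective module has everywhere positive rank
(same proof as helper10's `BrauerCorner.rankAtStalk_pos_of_connected`). -/
theorem rankAtStalk_pos_of_connected {R : Type*} [CommRing R] [ConnectedSpace (PrimeSpectrum R)]
    (M : Type*) [AddCommGroup M] [Module R M] [Module.Finite R M] [Module.Projective R M]
    [Nontrivial M] (p : PrimeSpectrum R) : 0 < Module.rankAtStalk M p := by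
  by_contra h
  have h0 : Module.rankAtStalk M p = 0 := by omega
  haveI : Module.FinitePresentation R M := Module.finitePresentation_of_projective R M
  have hc := Module.isLocallyConstant_rankAtStalk (R := R) (M := M)
  have h1 : Module.rankAtStalk (R := R) M = 0 := by
    ext q
    rw [hc.apply_eq_of_preconnectedSpace q p, h0]
    rfl
  rw [Module.rankAtStalk_eq_zero_iff_subsingleton] at h1
  exact not_subsingleton M h1

/-- a finite etale algebra is a finite projective module. -/
theorem projective_of_finite_etale (R : Type*) [CommRing R] (T : Type*) [CommRing T] [Algebra R T]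
    [Algebra.Etale R T] [Module.Finite R T] : Module.Projective R T := by
  have : Module.FinitePresentation R T :=
    Module.FinitePresentation.of_finite_of_finitePresentation R T
  exact Module.Flat.projective_of_finitePresentation

/-- a nontrivial ring with disconnected spectrum has a nontrivial idempotent. -/
theorem exists_idem_of_not_connected (T : Type*) [CommRing T] [Nontrivial T]
    (h : ¬ ConnectedSpace (PrimeSpectrum T)) :
    ∃ e : T, IsIdempotentElem e ∧ e ≠ 0 ∧ e ≠ 1 := by
  have h1 : ¬ PreconnectedSpace (PrimeSpectrum T) := fun hp => h ⟨inferInstance⟩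
  rw [preconnectedSpace_iff_clopen] at h1
  push Not at h1
  obtain ⟨s, hs, hs0, hs1⟩ := h1
  obtain ⟨e, he, rfl⟩ := PrimeSpectrum.isClopen_iff.1 hs
  refine ⟨e, he, ?_, ?_⟩
  · rintro rfl
    simp at hs0
  · rintro rfl
    apply hs1
    simp

/-- the quotient by an idempotent is etale (it is a localization). -/
theorem etale_quot_idem {T : Type*} [CommRing T] (e : T) (he : IsIdempotentElem e) :
    Algebra.Etale T (T ⧸ Ideal.span {e}) := by
  have h : IsLocalization.Away (1 - e) (T ⧸ Ideal.span {e}) := by
    apply IsLocalization.away_of_isIdempotentElem he.one_sub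
    · rw [sub_sub_cancel]
      exact Ideal.mk_ker
    · exact Ideal.Quotient.mk_surjective
  exact Algebra.Etale.of_isLocalizationAway (1 - e)

theorem nontrivial_quot_idem {T : Type*} [CommRing T] (e : T) (he : IsIdempotentElem e)
    (h1 : e ≠ 1) : Nontrivial (T ⧸ Ideal.span {e}) := by
  rw [Ideal.Quotient.nontrivial_iff]
  intro h
  rw [Ideal.span_singleton_eq_top] at h
  exact h1 ((IsIdempotentElem.iff_eq_one_of_isUnit h).1 he)

theorem exists_connected_aux (R : Type u) [CommRing R] [ConnectedSpace (PrimeSpectrum R)]
    (p₀ : PrimeSpectrum R) :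
    ∀ n : ℕ, ∀ (T : Type u) [CommRing T] [Algebra R T] [Algebra.Etale R T] [Module.Finite R T]
      [Nontrivial T], Module.rankAtStalk (R := R) T p₀ ≤ n →
      ∃ (T' : Type u) (_ : CommRing T') (_ : Algebra R T'), Algebra.Etale R T' ∧
        Module.Finite R T' ∧ ConnectedSpace (PrimeSpectrum T') ∧ Nonempty (T →ₐ[R] T') := by
  intro n
  induction n with
  | zero =>
    intro T _ _ _ _ _ h
    have := projective_of_finite_etale R T
    have := rankAtStalk_pos_of_connected (R := R) T p₀
    omega
  | succ n ih =>
    intro T _ _ _ _ _ h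
    by_cases hc : ConnectedSpace (PrimeSpectrum T)
    · exact ⟨T, inferInstance, inferInstance, inferInstance, inferInstance, hc, ⟨AlgHom.id R T⟩⟩
    obtain ⟨e, he, he0, he1⟩ := exists_idem_of_not_connected T hc
    have hf : IsIdempotentElem (1 - e) := he.one_sub
    have hf1 : (1 - e) ≠ 1 := fun h => he0 (by simpa using h)
    let E := AlgEquiv.prodQuotientOfIsIdempotentElem R he hf (by ring)
      (by rw [mul_sub, mul_one, he.eq, sub_self])
    have et1 : Algebra.Etale T (T ⧸ Ideal.span {e}) := etale_quot_idem e he
    have et2 : Algebra.Etale T (T ⧸ Ideal.span {1 - e}) := etale_quot_idem (1 - e) hf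
    have eR1 : Algebra.Etale R (T ⧸ Ideal.span {e}) := Algebra.Etale.comp R T _
    have eR2 : Algebra.Etale R (T ⧸ Ideal.span {1 - e}) := Algebra.Etale.comp R T _
    have fin1 : Module.Finite R (T ⧸ Ideal.span {e}) :=
      Module.Finite.of_surjective (Ideal.Quotient.mkₐ R (Ideal.span {e})).toLinearMap
        (Ideal.Quotient.mkₐ_surjective R _)
    have fin2 : Module.Finite R (T ⧸ Ideal.span {1 - e}) :=
      Module.Finite.of_surjective (Ideal.Quotient.mkₐ R (Ideal.span {1 - e})).toLinearMap
        (Ideal.Quotient.mkₐ_surjective R _)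
    have pr1 := projective_of_finite_etale R (T ⧸ Ideal.span {e})
    have pr2 := projective_of_finite_etale R (T ⧸ Ideal.span {1 - e})
    have nt1 : Nontrivial (T ⧸ Ideal.span {e}) := nontrivial_quot_idem e he he1
    have nt2 : Nontrivial (T ⧸ Ideal.span {1 - e}) := nontrivial_quot_idem (1 - e) hf hf1
    have hr : Module.rankAtStalk (R := R) T p₀ =
        Module.rankAtStalk (R := R) (T ⧸ Ideal.span {e}) p₀ +
          Module.rankAtStalk (R := R) (T ⧸ Ideal.span {1 - e}) p₀ := by
      rw [Module.rankAtStalk_eq_of_equiv E.toLinearEquiv, Module.rankAtStalk_prod]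
      rfl
    have pos1 := rankAtStalk_pos_of_connected (R := R) (T ⧸ Ideal.span {e}) p₀
    obtain ⟨T', _, _, h1, h2, h3, ⟨g⟩⟩ := ih (T ⧸ Ideal.span {1 - e}) (by omega)
    exact ⟨T', inferInstance, inferInstance, h1, h2, h3,
      ⟨g.comp (Ideal.Quotient.mkₐ R (Ideal.span {1 - e}))⟩⟩

/-- **Connected component of a finite etale cover**: a nonzero finite etale algebra over a ring
with connected spectrum maps to a finite etale algebra with connected spectrum. -/
theorem exists_connected_etale (R : Type u) [CommRing R] [ConnectedSpace (PrimeSpectrum R)]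
    (T : Type u) [CommRing T] [Algebra R T] [Algebra.Etale R T] [Module.Finite R T]
    [Nontrivial T] :
    ∃ (T' : Type u) (_ : CommRing T') (_ : Algebra R T'), Algebra.Etale R T' ∧
      Module.Finite R T' ∧ ConnectedSpace (PrimeSpectrum T') ∧ Nonempty (T →ₐ[R] T') := by
  obtain ⟨p₀⟩ : Nonempty (PrimeSpectrum R) := inferInstance
  exact exists_connected_aux R p₀ _ T le_rfl

/-- a nonzero finite etale algebra over a ring with connected spectrum is faithfully flat. -/
theorem faithfullyFlat_of_finite_etale (R : Type*) [CommRing R] [ConnectedSpace (PrimeSpectrum R)]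
    (T : Type*) [CommRing T] [Algebra R T] [Algebra.Etale R T] [Module.Finite R T]
    [Nontrivial T] : Module.FaithfullyFlat R T := by
  have := projective_of_finite_etale R T
  apply Module.FaithfullyFlat.of_comap_surjective
  rw [← PrimeSpectrum.rankAtStalk_pos_iff_comap_surjective]
  intro p
  exact rankAtStalk_pos_of_connected (R := R) T p

end CC

section Tower

theorem isFiniteSplit_of_tower (R S T T' : Type*) [CommRing R] [CommRing S] [CommRing T]
    [CommRing T'] [Algebra R S] [Algebra R T] [Algebra R T'] [Algebra T T'] [IsScalarTower R T T']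
    [h : Algebra.IsFiniteSplit T (T ⊗[R] S)] : Algebra.IsFiniteSplit T' (T' ⊗[R] S) :=
  have _hs1 : Algebra.IsFiniteSplit T' (T' ⊗[T] (T ⊗[R] S)) := inferInstance
  Algebra.IsFiniteSplit.of_algEquiv (Algebra.TensorProduct.cancelBaseChange R T T' T' S)

end Tower

section Main

variable (R : Type u) [CommRing R] [ConnectedSpace (PrimeSpectrum R)]
  (A : Type u) [CommRing A] [HopfAlgebra R A] [Coalgebra.IsCocomm R A]
  [Module.Finite R A] [Module.Projective R A]

theorem isIsotrivial_of_etale_dual (h : Algebra.Etale R (CartDual.D R A)) :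
    SGA3b.IsIsotrivial R A := by
  obtain ⟨p₀⟩ : Nonempty (PrimeSpectrum R) := inferInstance
  have : Nontrivial R := p₀.nontrivial
  have : Module.FinitePresentation R A := Module.finitePresentation_of_projective R A
  have : Module.FinitePresentation R (CartDual.D R A) :=
    Module.finitePresentation_of_projective R _
  have hc := Module.isLocallyConstant_rankAtStalk (R := R) (M := CartDual.D R A)
  have hn : Module.rankAtStalk (R := R) (CartDual.D R A) =
      (Module.rankAtStalk (R := R) (CartDual.D R A) p₀ : ℕ) := by
    ext q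
    rw [hc.apply_eq_of_preconnectedSpace q p₀]
    rfl
  obtain ⟨T, _, _, hff, hfin, het, hsplit⟩ :=
    Algebra.IsFiniteSplit.exists_tensorProduct_of_etale hn
  have : Nontrivial T := (FaithfulSMul.algebraMap_injective R T).nontrivial
  obtain ⟨T', _, _, het', hfin', hconn', ⟨g⟩⟩ := exists_connected_etale R T
  obtain ⟨q₀⟩ : Nonempty (PrimeSpectrum T') := inferInstance
  have : Nontrivial T' := q₀.nontrivial
  have hff' : Module.FaithfullyFlat R T' := faithfullyFlat_of_finite_etale R T'
  algebraize [g.toRingHom]
  have : IsScalarTower R T T' := IsScalarTower.of_algebraMap_eq' g.comp_algebraMap.symm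
  have hs2 : Algebra.IsFiniteSplit T' (T' ⊗[R] CartDual.D R A) :=
    isFiniteSplit_of_tower R (CartDual.D R A) T T'
  have hs3 : Algebra.IsFiniteSplit T' (CartDual.D T' (T' ⊗[R] A)) :=
    @Algebra.IsFiniteSplit.of_algEquiv T' (T' ⊗[R] CartDual.D R A) _ _ _
      (CartDual.D T' (T' ⊗[R] A)) _ _ (bcDual R A T') hs2
  obtain ⟨n, ⟨φ⟩⟩ := Algebra.IsFiniteSplit.nonempty_algEquiv_fun T' (CartDual.D T' (T' ⊗[R] A))
  obtain ⟨b, hb⟩ := exists_basis_groupLike T' (T' ⊗[R] A) φ
  exact ⟨T', inferInstance, inferInstance, het', hfin', hff',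
    isDiag_of_basis_groupLike b (fun e he => idem_zero_or_one e he) hb⟩

end Main

end Groth.Agent.Lib.helper15.CartIsotriv
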