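import Mathlib
import Groth.Prelude.Def_SGA3b
import Groth.Prelude.Def_CartDual2
import Groth.Agent.Lib.Helper15.RigidDiag0
import Groth.Agent.Lib.Helper15.CocommDescent
import Groth.Agent.Lib.Helper15.CartIsotriv

/-!
# Finite groups of multiplicative type: descent of properties along a trivialising family (helper15)

For a finite trivialising flat jointly faithful family (`FCover`) of a Hopf algebra `A` which is finite
as a module: `A` is flat, finitely presented, projective, cocommutative, its Cartier dual is etale.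
Hence over a connected base a finite group of multiplicative type is isotrivial.
-/

set_option autoImplicit false
set_option linter.style.haveILetI false
set_option linter.unusedSectionVars false
universe u
open TensorProduct WithConv

namespace Groth.Agent.Lib.helper15.MultFinite
open Groth.Agent.Lib.helper15.Rigid SGA3b Groth.Agent.Lib.helper15.CartBC
  Groth.Agent.Lib.helper15.CartIsotriv


section JIDescent

variable {R : Type u} [CommRing R] {ι : Type u} [Fintype ι] [DecidableEq ι]
  {S : ι → Type u} [∀ i, CommRing (S i)] [∀ i, Algebra R (S i)]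

/-- surjectivity descends along a jointly faithful family. -/
theorem surjective_of_ji (ji : JI (R := R) S) {N N' : Type u} [AddCommGroup N] [Module R N]
    [AddCommGroup N'] [Module R N'] (f : N →ₗ[R] N')
    (h : ∀ i, Function.Surjective (f.lTensor (S i))) : Function.Surjective f := by
  rw [← LinearMap.range_eq_top, ← Submodule.Quotient.subsingleton_iff]
  refine ⟨fun a b => ?_⟩
  have key : ∀ c : N' ⧸ LinearMap.range f, c = 0 := by
    intro c
    apply ji _ c
    intro i
    obtain ⟨n', rfl⟩ := Submodule.mkQ_surjective _ c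
    obtain ⟨z, hz⟩ := h i ((1 : S i) ⊗ₜ[R] n')
    have h1 : (1 : S i) ⊗ₜ[R] (LinearMap.range f).mkQ n' =
        ((LinearMap.range f).mkQ.lTensor (S i)) ((1 : S i) ⊗ₜ[R] n') := by
      rw [LinearMap.lTensor_tmul]
    rw [h1, ← hz, ← LinearMap.comp_apply, ← LinearMap.lTensor_comp]
    have h2 : (LinearMap.range f).mkQ ∘ₗ f = 0 := by
      apply LinearMap.ext
      intro x
      rw [LinearMap.comp_apply, Submodule.mkQ_apply, LinearMap.zero_apply,
        Submodule.Quotient.mk_eq_zero]
      exact LinearMap.mem_range_self f x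
    rw [h2, LinearMap.lTensor_zero, LinearMap.zero_apply]
  rw [key a, key b]

/-- finiteness descends along a jointly faithful family. -/
theorem finite_of_ji (ji : JI (R := R) S) (N : Type u) [AddCommGroup N] [Module R N]
    (h : ∀ i, Module.Finite (S i) (S i ⊗[R] N)) : Module.Finite R N := by
  classical
  -- generators
  have hgen : ∀ i, ∃ F : Finset N, ∀ z : S i ⊗[R] N,
      z ∈ LinearMap.range ((Submodule.span R (F : Set N)).subtype.lTensor (S i)) := by
    intro i
    obtain ⟨G, hG⟩ := (h i).fg_top
    have hx : ∀ g : S i ⊗[R] N, ∃ T : Finset (S i × N), g = ∑ j ∈ T, j.1 ⊗ₜ[R] j.2 :=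
      fun g => TensorProduct.exists_finset g
    choose T hT using hx
    let F : Finset N := G.biUnion fun g => (T g).image Prod.snd
    refine ⟨F, ?_⟩
    let ιF := (Submodule.span R (F : Set N)).subtype
    -- the range is an `S i`-submodule
    let P : Submodule (S i) (S i ⊗[R] N) := LinearMap.range (ιF.baseChange (S i))
    have hP : ∀ z, z ∈ P ↔ z ∈ LinearMap.range (ιF.lTensor (S i)) := by
      intro z
      simp only [P, LinearMap.mem_range]
      rfl
    have hGP : (G : Set (S i ⊗[R] N)) ⊆ P := by
      intro g hg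
      rw [SetLike.mem_coe, hP, hT g]
      apply Submodule.sum_mem
      intro j hj
      have hjF : j.2 ∈ Submodule.span R (F : Set N) := by
        apply Submodule.subset_span
        rw [Finset.mem_coe, Finset.mem_biUnion]
        exact ⟨g, hg, Finset.mem_image_of_mem _ hj⟩
      exact ⟨j.1 ⊗ₜ[R] ⟨j.2, hjF⟩, by rw [LinearMap.lTensor_tmul]; rfl⟩
    have htop : P = ⊤ := by
      rw [eq_top_iff, ← hG]
      exact Submodule.span_le.2 hGP
    intro z
    rw [← hP, htop]
    trivial
  choose F hF using hgen
  let F0 : Finset N := Finset.univ.biUnion F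
  have hsurj : Function.Surjective (Submodule.span R (F0 : Set N)).subtype := by
    apply surjective_of_ji ji
    intro i z
    obtain ⟨w, hw⟩ := hF i z
    have hle : Submodule.span R (F i : Set N) ≤ Submodule.span R (F0 : Set N) := by
      apply Submodule.span_mono
      intro x hx
      rw [Finset.mem_coe, Finset.mem_biUnion]
      exact ⟨i, Finset.mem_univ i, hx⟩
    refine ⟨((Submodule.inclusion hle).lTensor (S i)) w, ?_⟩
    rw [← hw, ← LinearMap.comp_apply, ← LinearMap.lTensor_comp]
    rfl
  have : Submodule.span R (F0 : Set N) = ⊤ := by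
    rw [eq_top_iff]
    intro x _
    obtain ⟨y, rfl⟩ := hsurj x
    exact y.2
  exact ⟨⟨F0, this⟩⟩

end JIDescent

section FCoverDescent

variable {R : Type u} [CommRing R] {A : Type u} [CommRing A] [HopfAlgebra R A]

/-- cocommutativity is transported along bialgebra isomorphisms. -/
theorem isCocomm_of_bialgEquiv {T : Type*} [CommRing T] {B B' : Type*} [CommRing B] [Bialgebra T B]
    [CommRing B'] [Bialgebra T B'] [Coalgebra.IsCocomm T B'] (e : B ≃ₐc[T] B') :
    Coalgebra.IsCocomm T B := by
  constructor
  ext a
  have h1 : ∀ t : B ⊗[T] B,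
      TensorProduct.map (e : B →ₗ[T] B') (e : B →ₗ[T] B') (TensorProduct.comm T B B t) =
        TensorProduct.comm T B' B' (TensorProduct.map (e : B →ₗ[T] B') (e : B →ₗ[T] B') t) := by
    intro t
    induction t with
    | zero => simp
    | add x y hx hy => simp only [map_add, hx, hy]
    | tmul x y => rfl
  have hinj : Function.Injective (TensorProduct.map (e : B →ₗ[T] B') (e : B →ₗ[T] B')) :=
    (TensorProduct.map_bijective (f := (e : B →ₗ[T] B')) (g := (e : B →ₗ[T] B'))
      e.bijective e.bijective).injective
  apply hinj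
  rw [LinearMap.comp_apply]
  change TensorProduct.map (e : B →ₗ[T] B') (e : B →ₗ[T] B')
    (TensorProduct.comm T B B (Coalgebra.comul (R := T) a)) = _
  rw [h1]
  have h2 : ∀ b : B, TensorProduct.map (e : B →ₗ[T] B') (e : B →ₗ[T] B')
      (Coalgebra.comul (R := T) b) = Coalgebra.comul (R := T) (e b) := fun b =>
    (CoalgHomClass.map_comp_comul_apply e b)
  rw [h2, Coalgebra.comm_comul]

theorem free_of_fcover (𝒞 : FCover R A) (i : 𝒞.ι) : Module.Free (𝒞.S i) (𝒞.S i ⊗[R] A) :=
  Module.Free.of_equiv (𝒞.E i).symm.toLinearEquiv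

theorem flat_of_fcover (𝒞 : FCover R A) : Module.Flat R A := by
  rw [Module.Flat.iff_lTensor_preserves_injective_linearMap]
  intro N N' _ _ _ _ f hf
  rw [injective_iff_map_eq_zero]
  intro x hx
  apply 𝒞.ji (A ⊗[R] N) x
  intro i
  haveI : Module.Free (𝒞.S i) (𝒞.S i ⊗[R] A) := free_of_fcover 𝒞 i
  haveI : Module.Flat R (𝒞.S i ⊗[R] A) := Module.Flat.trans R (𝒞.S i) _
  have hinj := Module.Flat.lTensor_preserves_injective_linearMap (M := 𝒞.S i ⊗[R] A) f hf
  apply (TensorProduct.assoc R (𝒞.S i) A N).symm.injective
  apply hinj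
  rw [map_zero, map_zero]
  have nat : ∀ y : A ⊗[R] N, (f.lTensor (𝒞.S i ⊗[R] A))
      ((TensorProduct.assoc R (𝒞.S i) A N).symm ((1 : 𝒞.S i) ⊗ₜ y)) =
      (TensorProduct.assoc R (𝒞.S i) A N').symm ((1 : 𝒞.S i) ⊗ₜ (f.lTensor A y)) := by
    intro y
    induction y using TensorProduct.induction_on with
    | zero => simp
    | tmul a n => simp
    | add y z hy hz => simp only [TensorProduct.tmul_add, map_add, hy, hz]
  rw [nat, hx, TensorProduct.tmul_zero, map_zero]

theorem isCocomm_of_fcover (𝒞 : FCover R A) : Coalgebra.IsCocomm R A := by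
  constructor
  ext a
  rw [LinearMap.comp_apply, LinearEquiv.coe_coe, ← sub_eq_zero]
  apply 𝒞.ji (A ⊗[R] A)
  intro i
  haveI : Coalgebra.IsCocomm (𝒞.S i) (𝒞.S i ⊗[R] A) := isCocomm_of_bialgEquiv (𝒞.E i)
  rw [TensorProduct.tmul_sub, sub_eq_zero]
  exact Groth.Agent.Lib.helper15.CocommDescent.one_tmul_comm_comul R A (𝒞.S i) a

theorem finitePresentation_of_fcover [Module.Finite R A] (𝒞 : FCover R A) :
    Module.FinitePresentation R A := by
  obtain ⟨n, π, hπ⟩ := Module.Finite.exists_fin' R A
  rw [← Module.FinitePresentation.fg_ker_iff π hπ, ← Module.Finite.iff_fg]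
  apply finite_of_ji 𝒞.ji
  intro i
  haveI : Module.Free (𝒞.S i) (𝒞.S i ⊗[R] A) := free_of_fcover 𝒞 i
  haveI : Module.FinitePresentation (𝒞.S i) (𝒞.S i ⊗[R] A) :=
    Module.finitePresentation_of_projective _ _
  have hsurj : Function.Surjective (π.baseChange (𝒞.S i)) :=
    LinearMap.lTensor_surjective _ hπ
  have hfg := Module.FinitePresentation.fg_ker (π.baseChange (𝒞.S i)) hsurj
  let j := (LinearMap.ker π).subtype.baseChange (𝒞.S i)
  have hj : Function.Injective j :=
    Module.Flat.lTensor_preserves_injective_linearMap _ (Submodule.injective_subtype _)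
  have hex : Function.Exact j (π.baseChange (𝒞.S i)) :=
    Module.Flat.lTensor_exact (𝒞.S i) (LinearMap.exact_subtype_ker_map π)
  have hrange : LinearMap.range j = LinearMap.ker (π.baseChange (𝒞.S i)) :=
    (LinearMap.exact_iff.1 hex).symm
  have : Module.Finite (𝒞.S i) (LinearMap.range j) := by
    rw [hrange]
    exact Module.Finite.iff_fg.2 hfg
  exact Module.Finite.equiv (LinearEquiv.ofInjective j hj).symm

theorem projective_of_fcover [Module.Finite R A] (𝒞 : FCover R A) : Module.Projective R A := by
  haveI := finitePresentation_of_fcover 𝒞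
  haveI := flat_of_fcover 𝒞
  exact Module.Flat.projective_of_finitePresentation

end FCoverDescent

section Final

variable {R : Type u} [CommRing R] {A : Type u} [CommRing A] [HopfAlgebra R A]

theorem etale_dual_of_fcover [Coalgebra.IsCocomm R A] [Module.Finite R A] [Module.Projective R A]
    (𝒞 : FCover R A) : Algebra.Etale R (CartDual.D R A) := by
  haveI : Module.FinitePresentation R A := Module.finitePresentation_of_projective R A
  haveI : Module.FinitePresentation R (CartDual.D R A) :=
    Module.finitePresentation_of_projective R _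
  haveI : Algebra.FormallyUnramified R (CartDual.D R A) := by
    constructor
    refine ⟨fun a b => ?_⟩
    have key : ∀ ω : Ω[CartDual.D R A⁄R], ω = 0 := by
      intro ω
      apply 𝒞.ji _ ω
      intro i
      have h1 : Algebra.Etale (𝒞.S i) (CartDual.D (𝒞.S i) (𝒞.S i ⊗[R] A)) :=
        etale_dual_of_isDiag (𝒞.S i) (𝒞.S i ⊗[R] A) ⟨𝒞.P i, inferInstance, ⟨𝒞.E i⟩⟩
      have h2 : Algebra.Etale (𝒞.S i) (𝒞.S i ⊗[R] CartDual.D R A) :=
        Algebra.Etale.of_equiv (bcDual R A (𝒞.S i)).symm
      let _ : Algebra (CartDual.D R A) (𝒞.S i ⊗[R] CartDual.D R A) :=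
        Algebra.TensorProduct.rightAlgebra
      have : Subsingleton (𝒞.S i ⊗[R] Ω[CartDual.D R A⁄R]) :=
        (KaehlerDifferential.tensorKaehlerEquivBase R (𝒞.S i) (CartDual.D R A)
          (𝒞.S i ⊗[R] CartDual.D R A)).subsingleton
      exact Subsingleton.elim _ _
    rw [key a, key b]
  exact Algebra.Etale.of_formallyUnramified_of_flat

/-- a finite group of multiplicative type over a connected base is isotrivial. -/
theorem isIsotrivial_of_isMultType_finite [ConnectedSpace (PrimeSpectrum R)] [Module.Finite R A]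
    (hA : IsMultType R A) : IsIsotrivial R A := by
  obtain ⟨𝒞⟩ := nonempty_fcover hA
  haveI := isCocomm_of_fcover 𝒞
  haveI := projective_of_fcover 𝒞
  exact isIsotrivial_of_etale_dual R A (etale_dual_of_fcover 𝒞)

end Final

end Groth.Agent.Lib.helper15.MultFinite
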