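import Mathlib
import Groth.Prelude.Def_SGA3b

/-!
# Quotients of diagonalisable groups over a field are diagonalisable (helper15)
-/

set_option autoImplicit false
universe u
open TensorProduct

namespace Groth.Agent.Lib.helper15.MultQuot

section Diag

variable (K : Type u) [Field K] (M : Type u) [CommGroup M] (T : Type u) [CommRing T]
  [HopfAlgebra K T]

/-- a Hopf algebra over a field which is spanned by the image of a character with group-like values
is a group algebra. -/
theorem isDiag_of_span_groupLike (g : M →* T) (hg : ∀ m, IsGroupLikeElem K (g m))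
    (hspan : Submodule.span K (Set.range g) = ⊤) :
    SGA3b.IsDiag K T := by
  classical
  let g' : M ⧸ g.ker →* T := QuotientGroup.lift g.ker g le_rfl
  have hg'mk : ∀ m : M, g' (QuotientGroup.mk m) = g m := fun m => rfl
  have hg'inj : Function.Injective g' := by
    intro a b hab
    induction a using QuotientGroup.induction_on with
    | H a =>
    induction b using QuotientGroup.induction_on with
    | H b =>
    rw [hg'mk, hg'mk] at hab
    rw [QuotientGroup.eq]
    rw [MonoidHom.mem_ker, map_mul, ← hab, ← map_mul, inv_mul_cancel, map_one]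
  have hg' : ∀ m', IsGroupLikeElem K (g' m') := by
    intro m'
    induction m' using QuotientGroup.induction_on with
    | H m => exact hg m
  let Ψa : MonoidAlgebra K (M ⧸ g.ker) →ₐ[K] T := MonoidAlgebra.lift K T (M ⧸ g.ker) g'
  have hΨs : ∀ m', Ψa (MonoidAlgebra.single m' 1) = g' m' := by
    intro m'
    simp [Ψa, MonoidAlgebra.lift_single]
  let Ψ : MonoidAlgebra K (M ⧸ g.ker) →ₐc[K] T := BialgHom.ofAlgHom Ψa
    (by
      refine MonoidAlgebra.algHom_ext (fun m' => ?_) (Subsingleton.elim _ _)
      simp only [AlgHom.comp_apply, Bialgebra.counitAlgHom_apply, hΨs,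
        (hg' m').counit_eq_one]
      exact ((MonoidAlgebra.isGroupLikeElem_single_one (R := K) (A := K) m').counit_eq_one).symm)
    (by
      refine MonoidAlgebra.algHom_ext (fun m' => ?_) (Subsingleton.elim _ _)
      simp only [AlgHom.comp_apply, Bialgebra.comulAlgHom_apply, hΨs,
        (hg' m').comul_eq_tmul_self]
      rw [(MonoidAlgebra.isGroupLikeElem_single_one (R := K) (A := K) m').comul_eq_tmul_self,
        Algebra.TensorProduct.map_tmul, hΨs])
  have hΨ : ∀ x, Ψ x = Ψa x := fun x => rfl
  have hsurj : Function.Surjective Ψ := by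
    have hle : Submodule.span K (Set.range g) ≤ LinearMap.range Ψa.toLinearMap := by
      rw [Submodule.span_le]
      rintro _ ⟨m, rfl⟩
      exact ⟨MonoidAlgebra.single (QuotientGroup.mk m) 1, by
        change Ψa _ = _
        rw [hΨs]; rfl⟩
    intro x
    have hx : x ∈ LinearMap.range Ψa.toLinearMap := hle (by rw [hspan]; trivial)
    obtain ⟨y, hy⟩ := hx
    exact ⟨y, hy⟩
  have hli : LinearIndependent K (fun m' : M ⧸ g.ker => g' m') := by
    have h1 : LinearIndependent K (GroupLike.val (R := K) (A := T)) := linearIndep_groupLikeVal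
    have h2 := h1.comp (fun m' : M ⧸ g.ker => (⟨g' m', hg' m'⟩ : GroupLike K T))
      (fun a b hab => hg'inj (congrArg GroupLike.val hab))
    exact h2
  have hinj : Function.Injective Ψ := by
    rw [injective_iff_map_eq_zero]
    intro x hx
    rw [hΨ, MonoidAlgebra.lift_apply] at hx
    have h3 := linearIndependent_iff'.mp hli x.coeff.support (fun m' => x.coeff m') hx
    ext m'
    by_cases hm : m' ∈ x.coeff.support
    · exact h3 m' hm
    · simpa using hm
  exact ⟨M ⧸ g.ker, inferInstance, ⟨(BialgEquiv.ofBijective Ψ ⟨hinj, hsurj⟩).symm⟩⟩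

end Diag

section Theta

variable {L : Type u} [CommRing L] {R' K : Type u} [CommRing R'] [CommRing K] [Algebra L R']
  [Algebra L K] [Algebra R' K] [IsScalarTower L R' K]
  {B C : Type u} [CommRing B] [CommRing C] [Bialgebra L B] [Bialgebra L C] (π : B →ₐc[L] C)

/-- base change along `R' → K` combined with `π : B → C`. -/
noncomputable def theta : R' ⊗[L] B →ₐ[R'] K ⊗[L] C :=
  Algebra.TensorProduct.map (Algebra.ofId R' K) (π : B →ₐ[L] C)

/-- the induced map on the tensor squares. -/
noncomputable def theta2 :
    (R' ⊗[L] B) ⊗[R'] (R' ⊗[L] B) →ₗ[R'] (K ⊗[L] C) ⊗[K] (K ⊗[L] C) :=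
  (TensorProduct.mapOfCompatibleSMul K R' R' (K ⊗[L] C) (K ⊗[L] C)) ∘ₗ
    (TensorProduct.map (theta (R' := R') (K := K) π).toLinearMap
      (theta (R' := R') (K := K) π).toLinearMap)

theorem theta2_tmul (x y : R' ⊗[L] B) :
    theta2 (R' := R') (K := K) π (x ⊗ₜ[R'] y) = theta (K := K) π x ⊗ₜ[K] theta (K := K) π y := rfl

theorem theta_tmul (r : R') (b : B) :
    theta (R' := R') (K := K) π (r ⊗ₜ[L] b) = algebraMap R' K r ⊗ₜ[L] π b := rfl

theorem comul_theta (x : R' ⊗[L] B) :
    Coalgebra.comul (R := K) (theta (K := K) π x) =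
      theta2 (K := K) π (Coalgebra.comul (R := R') x) := by
  induction x with
  | zero => simp
  | add x y hx hy => rw [map_add, map_add, hx, hy, map_add, map_add]
  | tmul r b =>
    rw [theta_tmul, TensorProduct.comul_tmul, TensorProduct.comul_tmul,
      CommSemiring.comul_apply, CommSemiring.comul_apply]
    have hπ : Coalgebra.comul (R := L) (π b) =
        TensorProduct.map (π : B →ₗ[L] C) (π : B →ₗ[L] C) (Coalgebra.comul (R := L) b) := by
      exact (CoalgHomClass.map_comp_comul_apply π b).symm
    rw [hπ]
    generalize Coalgebra.comul (R := L) b = z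
    induction z with
    | zero => simp
    | add z w hz hw =>
      simp only [tmul_add, map_add] at hz hw ⊢
      rw [hz, hw]
    | tmul b₁ b₂ =>
      simp only [TensorProduct.map_tmul,
        TensorProduct.AlgebraTensorModule.tensorTensorTensorComm_tmul, theta2_tmul, theta_tmul,
        map_one]
      rfl

theorem counit_theta (x : R' ⊗[L] B) :
    Coalgebra.counit (R := K) (theta (K := K) π x) =
      algebraMap R' K (Coalgebra.counit (R := R') x) := by
  induction x with
  | zero => simp
  | add x y hx hy => rw [map_add, map_add, hx, hy, map_add, map_add]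
  | tmul r b =>
    rw [theta_tmul, TensorProduct.counit_tmul, TensorProduct.counit_tmul,
      CommSemiring.counit_apply, CommSemiring.counit_apply, CoalgHomClass.counit_comp_apply]
    rw [Algebra.smul_def, Algebra.smul_def, map_mul, ← IsScalarTower.algebraMap_apply]

theorem isGroupLikeElem_theta {x : R' ⊗[L] B} (hx : IsGroupLikeElem R' x) :
    IsGroupLikeElem K (theta (K := K) π x) where
  counit_eq_one := by rw [counit_theta, hx.counit_eq_one, map_one]
  comul_eq_tmul_self := by rw [comul_theta, hx.comul_eq_tmul_self, theta2_tmul]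

theorem theta_surjective (hK : Function.Surjective (algebraMap R' K))
    (hπ : Function.Surjective π) : Function.Surjective (theta (R' := R') (K := K) π) := by
  intro y
  induction y with
  | zero => exact ⟨0, map_zero _⟩
  | add y z hy hz =>
    obtain ⟨a, rfl⟩ := hy
    obtain ⟨b, rfl⟩ := hz
    exact ⟨a + b, map_add _ _ _⟩
  | tmul c d =>
    obtain ⟨r, rfl⟩ := hK c
    obtain ⟨b, rfl⟩ := hπ d
    exact ⟨r ⊗ₜ b, rfl⟩

end Theta

section Main

/-- over a field, a quotient of a group of multiplicative type (constant type) is of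
multiplicative type. -/
theorem isMultTypeConst_of_surjective {L : Type u} [CommRing L] (hL : IsField L)
    {B C : Type u} [CommRing B] [CommRing C] [HopfAlgebra L B] [HopfAlgebra L C]
    (π : B →ₐc[L] C) (hπ : Function.Surjective π) (h : SGA3b.IsMultTypeConst L B) :
    SGA3b.IsMultTypeConst L C := by
  classical
  obtain ⟨R', _, _, hff, M, _, ⟨e⟩⟩ := h
  have hLnt : Nontrivial L := hL.nontrivial
  have hnt : Nontrivial R' := by
    have h1 : Nontrivial (R' ⊗[L] L) := inferInstance
    exact (TensorProduct.rid L R').symm.toEquiv.nontrivial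
  obtain ⟨𝔪, h𝔪⟩ := Ideal.exists_maximal R'
  let _ : Field (R' ⧸ 𝔪) := Ideal.Quotient.field 𝔪
  refine ⟨R' ⧸ 𝔪, inferInstance, inferInstance, ?_, ?_⟩
  · let _ : Field L := hL.toField
    infer_instance
  · let g : M →* (R' ⧸ 𝔪) ⊗[L] C :=
      { toFun := fun m => theta (K := R' ⧸ 𝔪) π (e.symm (MonoidAlgebra.single m 1))
        map_one' := by
          have h1 : (MonoidAlgebra.single (1 : M) (1 : R')) = 1 := rfl
          rw [h1, map_one, map_one]
        map_mul' := fun a b => by
          rw [← map_mul, ← map_mul, MonoidAlgebra.single_mul_single, mul_one] }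
    have hgm : ∀ m, g m = theta (K := R' ⧸ 𝔪) π (e.symm (MonoidAlgebra.single m 1)) :=
      fun m => rfl
    have hg : ∀ m, IsGroupLikeElem (R' ⧸ 𝔪) (g m) := by
      intro m
      rw [hgm]
      apply isGroupLikeElem_theta
      exact (MonoidAlgebra.isGroupLikeElem_single_one (R := R') (A := R') m).map e.symm
    have hsurj := theta_surjective (R' := R') (K := R' ⧸ 𝔪) π Ideal.Quotient.mk_surjective hπ
    have key : ∀ z : MonoidAlgebra R' M,
        theta (K := R' ⧸ 𝔪) π (e.symm z) ∈ Submodule.span (R' ⧸ 𝔪) (Set.range g) := by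
      intro z
      induction z using MonoidAlgebra.induction_on with
      | of m => exact Submodule.subset_span ⟨m, rfl⟩
      | add z w hz hw =>
        rw [map_add, map_add]
        exact add_mem hz hw
      | smul r z hz =>
        rw [map_smul, map_smul, ← algebraMap_smul (R' ⧸ 𝔪) r]
        exact Submodule.smul_mem _ _ hz
    have hspan : Submodule.span (R' ⧸ 𝔪) (Set.range g) = ⊤ := by
      rw [eq_top_iff]
      intro y _
      obtain ⟨x, rfl⟩ := hsurj y
      rw [← e.symm_apply_apply x]
      exact key (e x)
    exact isDiag_of_span_groupLike (R' ⧸ 𝔪) M _ g hg hspan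

end Main


end Groth.Agent.Lib.helper15.MultQuot
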