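import Mathlib
import Groth.Prelude.Def_HopfRep
import Groth.Agent.Lib.Helper15.Conilp

/-!
# Operations on the conilpotency filtration (helper15)

For a commutative bialgebra `A` over a field `k`, with `Pfilt k A n` the conilpotency filtration of
`Conilp`:

* `Rf f = (id ⊗ f) ∘ Δ`, the right translation operators; `Rf_Rf`, `counit_Rf`;
* `mem_Pfilt_succ_of_Rf`: `a ∈ P (n+1)` as soon as `Rf φ a ∈ P n` for all `φ` with `φ 1 = 0`;
* `Rf_mem_Pfilt`: `P n` is stable under all `Rf f`;
* `mul_mem_Pfilt`: `P m * P n ⊆ P (m+n)`;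
* in the cocommutative case: `comul_mem_T_Pfilt`, `antipode_mem_Pfilt`;
* `Punion`: the union of the filtration as a subalgebra; `isHopfSub_Punion`.
-/

set_option autoImplicit false
universe u v
open TensorProduct

namespace Groth.Agent.Lib.helper15.PfiltOps

open Groth.Agent.Lib.helper15.HopfSub Groth.Agent.Lib.helper15.Conilp

section Basic

variable {k : Type u} [Field k] {A : Type v} [CommRing A] [Bialgebra k A]

local notation "Δ" => Coalgebra.comul (R := k) (A := A)
local notation "ε" => Coalgebra.counit (R := k) (A := A)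

/-- the right translation operator `(id ⊗ f) ∘ Δ`. -/
noncomputable def Rf (f : Module.Dual k A) : A →ₗ[k] A := slR f ∘ₗ Δ

lemma Rf_apply (f : Module.Dual k A) (a : A) : Rf f a = slR f (Δ a) := rfl

lemma Rf_one (f : Module.Dual k A) : Rf f (1 : A) = f 1 • (1 : A) := by
  rw [Rf_apply, Bialgebra.comul_one, Algebra.TensorProduct.one_def, slR_tmul]

lemma slR_slR₂ (φ f : Module.Dual k A) (t : A ⊗[k] A) :
    slR φ (slR₂ f ((TensorProduct.assoc k A A A).symm ((Δ).lTensor A t))) =
      slR (φ ∘ₗ Rf f) t := by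
  induction t with
  | zero => simp
  | add x y hx hy => simp only [map_add, hx, hy]
  | tmul x y =>
    rw [LinearMap.lTensor_tmul, slR₂_assoc_symm, slR_tmul, slR_tmul]
    rfl

/-- composition of translation operators. -/
lemma Rf_Rf (φ f : Module.Dual k A) (a : A) : Rf φ (Rf f a) = Rf (φ ∘ₗ Rf f) a := by
  rw [Rf_apply, Rf_apply, comul_slR, coassoc_symm', slR_slR₂]
  rfl

lemma counit_slR (f : Module.Dual k A) (t : A ⊗[k] A) : ε (slR f t) = f (slL ε t) := by
  induction t with
  | zero => simp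
  | add x y hx hy => simp only [map_add, hx, hy]
  | tmul x y => simp [mul_comm]

lemma slL_counit_comul (a : A) : slL ε (Δ a) = a := by
  rw [slL, LinearMap.comp_apply, Coalgebra.rTensor_counit_comul]
  simp

lemma counit_Rf (f : Module.Dual k A) (a : A) : ε (Rf f a) = f a := by
  rw [Rf_apply, counit_slR, slL_counit_comul]

lemma range_rTensor_eq_T (P : Submodule k A) :
    LinearMap.range (P.subtype.rTensor A) = T P ⊤ := by
  apply le_antisymm
  · rintro _ ⟨t, rfl⟩
    induction t with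
    | zero => simp
    | add x y hx hy => rw [map_add]; exact add_mem hx hy
    | tmul p y =>
      rw [LinearMap.rTensor_tmul]
      exact tmul_mem_T p.2 Submodule.mem_top
  · refine T_le fun u hu v _ => ?_
    exact ⟨(⟨u, hu⟩ : P) ⊗ₜ[k] v, rfl⟩

lemma slR_mem_of_mem_T {P : Submodule k A} (φ : Module.Dual k A) {t : A ⊗[k] A}
    (ht : t ∈ T P ⊤) : slR φ t ∈ P := by
  have h : T P ⊤ ≤ P.comap (slR φ) := by
    refine T_le fun u hu v _ => ?_
    rw [Submodule.mem_comap, slR_tmul]
    exact Submodule.smul_mem _ _ hu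
  exact h ht

/-- a tensor all of whose right slices lie in `P` lies in `P ⊗ A`. -/
lemma mem_T_of_slR {P : Submodule k A} {t : A ⊗[k] A}
    (h : ∀ φ : Module.Dual k A, slR φ t ∈ P) : t ∈ T P ⊤ := by
  classical
  let b := Module.Basis.ofVectorSpace k A
  obtain ⟨c, hc, hsum⟩ := expand_right b t
  rw [hsum, Finsupp.sum]
  refine Submodule.sum_mem _ fun i _ => ?_
  refine tmul_mem_T ?_ Submodule.mem_top
  rw [hc]
  exact h _

/-- a tensor all of whose left slices lie in `P` lies in `A ⊗ P`. -/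
lemma mem_T_of_slL {P : Submodule k A} {t : A ⊗[k] A}
    (h : ∀ φ : Module.Dual k A, slL φ t ∈ P) : t ∈ T ⊤ P := by
  classical
  let b := Module.Basis.ofVectorSpace k A
  obtain ⟨c, hc, hsum⟩ := expand_left b t
  rw [hsum, Finsupp.sum]
  refine Submodule.sum_mem _ fun i _ => ?_
  refine tmul_mem_T Submodule.mem_top ?_
  rw [hc]
  exact h _

lemma eProj_mem_Pfilt {n : ℕ} {z : A} (hz : z ∈ Pfilt k A n) : eProj k A z ∈ Pfilt k A n := by
  rw [eProj_apply, Algebra.algebraMap_eq_smul_one]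
  exact sub_mem hz (Submodule.smul_mem _ _ (one_mem_Pfilt k A n))

lemma slR_map_eProj (ψ : Module.Dual k A) (t : A ⊗[k] A) :
    slR ψ (TensorProduct.map (eProj k A) (eProj k A) t) =
      eProj k A (slR (ψ ∘ₗ eProj k A) t) := by
  induction t with
  | zero => simp
  | add x y hx hy => simp only [map_add, hx, hy]
  | tmul x y => simp

/-- `a ∈ P (n+1)` as soon as `Rf φ a ∈ P n` for all `φ` with `φ 1 = 0`. -/
theorem mem_Pfilt_succ_of_Rf {n : ℕ} {a : A}
    (h : ∀ φ : Module.Dual k A, φ 1 = 0 → Rf φ a ∈ Pfilt k A n) : a ∈ Pfilt k A (n + 1) := by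
  rw [mem_Pfilt_succ, range_rTensor_eq_T]
  apply mem_T_of_slR
  intro ψ
  rw [redComul, LinearMap.comp_apply, slR_map_eProj]
  apply eProj_mem_Pfilt
  apply h
  rw [LinearMap.comp_apply, eProj_one, map_zero]

/-- `a ∈ P 0` as soon as `Rf φ a = 0` for all `φ` with `φ 1 = 0`. -/
theorem mem_Pfilt_zero_of_Rf {a : A}
    (h : ∀ φ : Module.Dual k A, φ 1 = 0 → Rf φ a = 0) : a ∈ Pfilt k A 0 := by
  rw [Pfilt_zero]
  by_contra hnot
  obtain ⟨φ, hφ1, hφ2⟩ := Submodule.exists_dual_map_eq_bot_of_notMem hnot inferInstance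
  have hφ0 : φ 1 = 0 := by
    have : φ 1 ∈ Submodule.map φ (Submodule.span k {(1 : A)}) :=
      ⟨1, Submodule.subset_span rfl, rfl⟩
    rw [hφ2] at this
    exact (Submodule.mem_bot k).1 this
  apply hφ1
  rw [← counit_Rf, h φ hφ0, map_zero]

/-- `Rf φ` lowers the filtration when `φ 1 = 0`. -/
lemma Rf_mem_Pfilt_of_one {n : ℕ} {a : A} (ha : a ∈ Pfilt k A (n + 1)) (φ : Module.Dual k A)
    (hφ : φ 1 = 0) : Rf φ a ∈ Pfilt k A n :=
  slR_comul_mem_Pfilt n a ha φ hφ

/-- the filtration is stable under all translation operators. -/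
theorem Rf_mem_Pfilt {n : ℕ} {a : A} (ha : a ∈ Pfilt k A n) (f : Module.Dual k A) :
    Rf f a ∈ Pfilt k A n := by
  cases n with
  | zero =>
    rw [Pfilt_zero, Submodule.mem_span_singleton] at ha
    obtain ⟨c, rfl⟩ := ha
    rw [map_smul, Rf_one, Pfilt_zero]
    exact Submodule.smul_mem _ _ (Submodule.smul_mem _ _ (Submodule.subset_span rfl))
  | succ n =>
    apply mem_Pfilt_succ_of_Rf
    intro φ hφ
    rw [Rf_Rf]
    apply Rf_mem_Pfilt_of_one ha
    rw [LinearMap.comp_apply, Rf_one, map_smul, hφ, smul_zero]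

/-- `Δ a - a ⊗ 1 ∈ P n ⊗ A` for `a ∈ P (n+1)`. -/
lemma comul_sub_mem_T {n : ℕ} {a : A} (ha : a ∈ Pfilt k A (n + 1)) :
    Δ a - a ⊗ₜ[k] (1 : A) ∈ T (Pfilt k A n) ⊤ := by
  have h1 := (mem_Pfilt_succ k A n a).1 ha
  rw [range_rTensor_eq_T, redComul_apply] at h1
  have h2 : Δ a - a ⊗ₜ[k] (1 : A) =
      (Δ a - a ⊗ₜ[k] (1 : A) - (1 : A) ⊗ₜ[k] a + ε a • ((1 : A) ⊗ₜ[k] (1 : A))) +
        (1 : A) ⊗ₜ[k] a - ε a • ((1 : A) ⊗ₜ[k] (1 : A)) := by abel
  rw [h2]
  refine sub_mem (add_mem h1 ?_) (Submodule.smul_mem _ _ ?_)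
  · exact tmul_mem_T (one_mem_Pfilt k A n) Submodule.mem_top
  · exact tmul_mem_T (one_mem_Pfilt k A n) Submodule.mem_top

/-- products of tensors in `U ⊗ A` and `V ⊗ A`. -/
lemma mul_mem_T {U V W : Submodule k A} (hUV : ∀ u ∈ U, ∀ v ∈ V, u * v ∈ W)
    {t₁ t₂ : A ⊗[k] A} (h₁ : t₁ ∈ T U ⊤) (h₂ : t₂ ∈ T V ⊤) : t₁ * t₂ ∈ T W ⊤ := by
  have h : T U ⊤ ≤ (T W ⊤).comap (LinearMap.mulRight k t₂) := by
    refine T_le fun u hu x _ => ?_
    rw [Submodule.mem_comap, LinearMap.mulRight_apply]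
    have h' : T V ⊤ ≤ (T W ⊤).comap (LinearMap.mulLeft k (u ⊗ₜ[k] x)) := by
      refine T_le fun v hv y _ => ?_
      rw [Submodule.mem_comap, LinearMap.mulLeft_apply, Algebra.TensorProduct.tmul_mul_tmul]
      exact tmul_mem_T (hUV u hu v hv) Submodule.mem_top
    exact h' h₂
  exact h h₁

/-- the filtration is multiplicative. -/
theorem mul_mem_Pfilt : ∀ (s m n : ℕ), m + n = s → ∀ a ∈ Pfilt k A m, ∀ b ∈ Pfilt k A n,
    a * b ∈ Pfilt k A s := by
  intro s
  induction s using Nat.strong_induction_on with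
  | _ s ih =>
    intro m n hmn a ha b hb
    rcases Nat.eq_zero_or_pos m with hm | hm
    · subst hm
      rw [Pfilt_zero, Submodule.mem_span_singleton] at ha
      obtain ⟨c, rfl⟩ := ha
      rw [smul_mul_assoc, one_mul]
      have : n = s := by omega
      subst this
      exact Submodule.smul_mem _ _ hb
    rcases Nat.eq_zero_or_pos n with hn | hn
    · subst hn
      rw [Pfilt_zero, Submodule.mem_span_singleton] at hb
      obtain ⟨c, rfl⟩ := hb
      rw [mul_smul_comm, mul_one]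
      have : m = s := by omega
      subst this
      exact Submodule.smul_mem _ _ ha
    obtain ⟨m', rfl⟩ : ∃ m', m = m' + 1 := ⟨m - 1, by omega⟩
    obtain ⟨n', rfl⟩ : ∃ n', n = n' + 1 := ⟨n - 1, by omega⟩
    obtain ⟨s', rfl⟩ : ∃ s', s = s' + 1 := ⟨s - 1, by omega⟩
    apply mem_Pfilt_succ_of_Rf
    intro φ hφ
    have hta := comul_sub_mem_T ha
    have htb := comul_sub_mem_T hb
    set ta := Δ a - a ⊗ₜ[k] (1 : A) with hta_def
    set tb := Δ b - b ⊗ₜ[k] (1 : A) with htb_def
    have hΔ : Δ (a * b) = (a * b) ⊗ₜ[k] (1 : A) + ((a ⊗ₜ[k] (1 : A)) * tb + ta * (b ⊗ₜ[k] (1 : A)) +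
        ta * tb) := by
      have h1 : Δ a = a ⊗ₜ[k] (1 : A) + ta := by rw [hta_def]; abel
      have h2 : Δ b = b ⊗ₜ[k] (1 : A) + tb := by rw [htb_def]; abel
      rw [Bialgebra.comul_mul, h1, h2, add_mul, mul_add, mul_add,
        Algebra.TensorProduct.tmul_mul_tmul, mul_one]
      abel
    rw [Rf_apply, hΔ, map_add, slR_tmul, hφ, zero_smul, zero_add]
    apply slR_mem_of_mem_T
    have ha1 : a ⊗ₜ[k] (1 : A) ∈ T (Pfilt k A (m' + 1)) ⊤ := tmul_mem_T ha Submodule.mem_top
    have hb1 : b ⊗ₜ[k] (1 : A) ∈ T (Pfilt k A (n' + 1)) ⊤ := tmul_mem_T hb Submodule.mem_top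
    refine add_mem (add_mem ?_ ?_) ?_
    · exact mul_mem_T (ih s' (by omega) (m' + 1) n' (by omega)) ha1 htb
    · exact mul_mem_T (ih s' (by omega) m' (n' + 1) (by omega)) hta hb1
    · refine mul_mem_T (fun u hu v hv => ?_) hta htb
      rcases Nat.eq_zero_or_pos s' with hs | hs
      · omega
      · exact Pfilt_mono k A (by omega : s' - 1 ≤ s')
          (ih (s' - 1) (by omega) m' n' (by omega) u hu v hv)

/-- the union of the conilpotency filtration, as a subalgebra. -/
def Punion (k : Type u) [Field k] (A : Type v) [CommRing A] [Bialgebra k A] : Subalgebra k A where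
  carrier := {a | ∃ n, a ∈ Pfilt k A n}
  mul_mem' := by
    rintro a b ⟨m, hm⟩ ⟨n, hn⟩
    exact ⟨m + n, mul_mem_Pfilt (m + n) m n rfl a hm b hn⟩
  add_mem' := by
    rintro a b ⟨m, hm⟩ ⟨n, hn⟩
    exact ⟨max m n, add_mem (Pfilt_mono k A (le_max_left m n) hm)
      (Pfilt_mono k A (le_max_right m n) hn)⟩
  algebraMap_mem' := by
    intro r
    refine ⟨0, ?_⟩
    rw [Pfilt_zero, Algebra.algebraMap_eq_smul_one]
    exact Submodule.smul_mem _ _ (Submodule.subset_span rfl)

lemma mem_Punion {a : A} : a ∈ Punion k A ↔ ∃ n, a ∈ Pfilt k A n := Iff.rfl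

end Basic

section Cocomm

variable {k : Type u} [Field k] {A : Type v} [CommRing A] [Bialgebra k A]
  [Coalgebra.IsCocomm k A]

local notation "Δ" => Coalgebra.comul (R := k) (A := A)
local notation "ε" => Coalgebra.counit (R := k) (A := A)

omit [Coalgebra.IsCocomm k A] in
lemma slL_eq_slR_comm (f : Module.Dual k A) (t : A ⊗[k] A) :
    slL f t = slR f (TensorProduct.comm k A A t) := by
  induction t with
  | zero => simp
  | add x y hx hy => simp only [map_add, hx, hy]
  | tmul x y => simp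

lemma slL_comul (f : Module.Dual k A) (a : A) : slL f (Δ a) = Rf f a := by
  rw [slL_eq_slR_comm, Coalgebra.comm_comul]
  rfl

/-- the filtration consists of subcoalgebras (cocommutative case). -/
theorem comul_mem_T_Pfilt {n : ℕ} {a : A} (ha : a ∈ Pfilt k A n) :
    Δ a ∈ T (Pfilt k A n) (Pfilt k A n) := by
  apply T_inf_le
  refine ⟨mem_T_of_slR fun φ => ?_, mem_T_of_slL fun φ => ?_⟩
  · exact Rf_mem_Pfilt ha φ
  · rw [slL_comul]
    exact Rf_mem_Pfilt ha φ

/-- the translation operators commute (cocommutative case). -/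
theorem Rf_comm (φ f : Module.Dual k A) (a : A) : Rf φ (Rf f a) = Rf f (Rf φ a) := by
  have h : ∀ t : A ⊗[k] A, φ (slR f t) = f (slR φ (TensorProduct.comm k A A t)) := by
    intro t
    induction t with
    | zero => simp
    | add x y hx hy => simp only [map_add, hx, hy]
    | tmul x y => simp [mul_comm]
  have hh : φ ∘ₗ Rf f = f ∘ₗ Rf φ := by
    ext x
    rw [LinearMap.comp_apply, LinearMap.comp_apply, Rf_apply, Rf_apply, h, Coalgebra.comm_comul]
  rw [Rf_Rf, Rf_Rf, hh]

end Cocomm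

section Hopf

variable {k : Type u} [Field k] {A : Type v} [CommRing A] [HopfAlgebra k A]
  [Coalgebra.IsCocomm k A]

local notation "Δ" => Coalgebra.comul (R := k) (A := A)

/-- the filtration is stable under the antipode (cocommutative case). -/
theorem antipode_mem_Pfilt : ∀ (n : ℕ) (a : A), a ∈ Pfilt k A n →
    HopfAlgebra.antipode k a ∈ Pfilt k A n := by
  intro n
  induction n with
  | zero =>
    intro a ha
    rw [Pfilt_zero, Submodule.mem_span_singleton] at ha
    obtain ⟨c, rfl⟩ := ha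
    rw [map_smul, HopfAlgebra.antipode_one, Pfilt_zero]
    exact Submodule.smul_mem _ _ (Submodule.subset_span rfl)
  | succ n ih =>
    intro a ha
    apply mem_Pfilt_succ_of_Rf
    intro φ hφ
    have h : ∀ t : A ⊗[k] A, slR φ (TensorProduct.map (HopfAlgebra.antipode k)
        (HopfAlgebra.antipode k) t) =
        HopfAlgebra.antipode k (slR (φ ∘ₗ HopfAlgebra.antipode k) t) := by
      intro t
      induction t with
      | zero => simp
      | add x y hx hy => simp only [map_add, hx, hy]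
      | tmul x y => simp
    rw [Rf_apply, comul_antipode, Coalgebra.comm_comul, h]
    apply ih
    apply Rf_mem_Pfilt_of_one ha
    rw [LinearMap.comp_apply, HopfAlgebra.antipode_one, hφ]

/-- the union of the conilpotency filtration is a Hopf subalgebra (cocommutative case). -/
theorem isHopfSub_Punion : HopfSubalg.IsHopfSub (Punion k A) := by
  refine ⟨fun b hb => ?_, fun b hb => ?_⟩
  · obtain ⟨n, hn⟩ := hb
    have h1 := comul_mem_T_Pfilt hn
    have h2 : T (Pfilt k A n) (Pfilt k A n) ≤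
        LinearMap.range (TensorProduct.map (Punion k A).val.toLinearMap
          (Punion k A).val.toLinearMap) := by
      refine T_le fun u hu v hv => ?_
      exact ⟨(⟨u, n, hu⟩ : Punion k A) ⊗ₜ[k] (⟨v, n, hv⟩ : Punion k A), rfl⟩
    exact h2 h1
  · obtain ⟨n, hn⟩ := hb
    exact ⟨n, antipode_mem_Pfilt n b hn⟩

end Hopf

end Groth.Agent.Lib.helper15.PfiltOps
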