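import Mathlib
import Groth.Agent.Lib.Helper15.MultType

/-!
# Monomorphisms from groups of multiplicative type are closed immersions (helper15)

Also: bialgebra maps between Hopf algebras commute with antipodes (`bialgHom_antipode`).
-/

set_option autoImplicit false

namespace Groth.Agent.Lib.helper15.MultTypeMono


open TensorProduct WithConv Coalgebra HopfAlgebra LinearMap
open Groth.Agent.Lib.helper15.MultType

section Antipode

variable {R : Type*} [CommSemiring R] {A B : Type*} [Semiring A] [Semiring B]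
  [HopfAlgebra R A] [HopfAlgebra R B]

lemma antipode_comp_bialgHom (f : A →ₐc[R] B) :
    antipode R ∘ₗ f.toLinearMap = f.toLinearMap ∘ₗ antipode R := by
  have h1 : toConv (antipode R ∘ₗ f.toLinearMap) * toConv f.toLinearMap =
      (1 : WithConv (A →ₗ[R] B)) := by
    apply ofConv_injective
    calc _ = (toConv (antipode R) * toConv .id : WithConv (B →ₗ[R] B)).ofConv ∘ₗ
          f.toCoalgHom.toLinearMap := by
          rw [convMul_comp_coalgHom_distrib]; rfl
      _ = _ := by rw [antipode_mul_id, convOne_comp_coalgHom f.toCoalgHom]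
  have h2 : toConv f.toLinearMap * toConv (f.toLinearMap ∘ₗ antipode R) =
      (1 : WithConv (A →ₗ[R] B)) := by
    apply ofConv_injective
    calc _ = (AlgHomClass.toAlgHom f).toLinearMap ∘ₗ
          (toConv .id * toConv (antipode R) : WithConv (A →ₗ[R] A)).ofConv := by
          rw [algHom_comp_convMul_distrib]; rfl
      _ = _ := by rw [id_mul_antipode, algHom_comp_convOne]
  have : toConv (antipode R ∘ₗ f.toLinearMap) = toConv (f.toLinearMap ∘ₗ antipode R) := by
    calc toConv (antipode R ∘ₗ f.toLinearMap)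
        = toConv (antipode R ∘ₗ f.toLinearMap) * 1 := (mul_one _).symm
      _ = toConv (antipode R ∘ₗ f.toLinearMap) *
            (toConv f.toLinearMap * toConv (f.toLinearMap ∘ₗ antipode R)) := by rw [h2]
      _ = (toConv (antipode R ∘ₗ f.toLinearMap) * toConv f.toLinearMap) *
            toConv (f.toLinearMap ∘ₗ antipode R) := (mul_assoc _ _ _).symm
      _ = _ := by rw [h1, one_mul]
  exact toConv_injective this

lemma bialgHom_antipode (f : A →ₐc[R] B) (a : A) :
    f (antipode R a) = antipode R (f a) :=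
  (LinearMap.congr_fun (antipode_comp_bialgHom f) a).symm

end Antipode

section Core

variable {R : Type*} [CommRing R] {M : Type*} [Monoid M] {C : Type*} [Semiring C] [Bialgebra R C]

/-- Step A -/
lemma exists_map_eq_single (φ : C →ₐc[R] MonoidAlgebra R M) (c : C) (m : M) :
    ∃ c' : C, φ c' = MonoidAlgebra.single m ((φ c).coeff m) := by
  classical
  set 𝓡 := Coalgebra.Repr.arbitrary R c with h𝓡
  refine ⟨∑ i ∈ 𝓡.index, (comp φ m (𝓡.right i)) • 𝓡.left i, ?_⟩
  apply MonoidAlgebra.coeff_injective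
  ext n
  have h1 : (comp φ n * comp φ m) c = (if n = m then comp φ n else 0) c := by
    rw [comp_mul_comp φ n m]
  rw [𝓡.convMul_apply] at h1
  rw [MonoidAlgebra.coeff_single, Finsupp.single_apply, ← coeffAt_apply, map_sum, map_sum]
  have h2 : ∀ i ∈ 𝓡.index, coeffAt n (φ ((comp φ m (𝓡.right i)) • 𝓡.left i)) =
      comp φ n (𝓡.left i) * comp φ m (𝓡.right i) := by
    intro i _
    rw [map_smul, map_smul, smul_eq_mul, mul_comm]
    rfl
  rw [Finset.sum_congr rfl h2, h1]
  by_cases hnm : n = m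
  · subst hnm
    rw [if_pos rfl, if_pos rfl]
    rfl
  · rw [if_neg hnm, if_neg (Ne.symm hnm)]
    rfl

end Core

section Core2

variable {R : Type*} [CommRing R] {M : Type*} [CommGroup M] {C : Type*} [CommRing C]
  [HopfAlgebra R C]

/-- the ideal of `m`-coefficients of the image of φ. -/
noncomputable def J (φ : C →ₐc[R] MonoidAlgebra R M) (m : M) : Ideal R :=
  LinearMap.range (coeffAt m ∘ₗ (φ : C →ₗ[R] MonoidAlgebra R M))

lemma mem_J (φ : C →ₐc[R] MonoidAlgebra R M) (m : M) (r : R) :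
    r ∈ J φ m ↔ ∃ c, (φ c).coeff m = r := by
  rw [J, LinearMap.mem_range]
  rfl

lemma mem_J_iff (φ : C →ₐc[R] MonoidAlgebra R M) (m : M) (r : R) :
    r ∈ J φ m ↔ ∃ c, φ c = MonoidAlgebra.single m r := by
  rw [mem_J]
  constructor
  · rintro ⟨c, rfl⟩
    exact exists_map_eq_single φ c m
  · rintro ⟨c, hc⟩
    refine ⟨c, ?_⟩
    rw [hc, MonoidAlgebra.coeff_single, Finsupp.single_eq_same]

lemma one_mem_J_one (φ : C →ₐc[R] MonoidAlgebra R M) : (1 : R) ∈ J φ 1 := by
  rw [mem_J_iff]
  exact ⟨1, by rw [map_one]; rfl⟩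

lemma mul_mem_J (φ : C →ₐc[R] MonoidAlgebra R M) {m n : M} {r s : R} (hr : r ∈ J φ m)
    (hs : s ∈ J φ n) : r * s ∈ J φ (m * n) := by
  rw [mem_J_iff] at hr hs ⊢
  obtain ⟨c, hc⟩ := hr
  obtain ⟨d, hd⟩ := hs
  exact ⟨c * d, by rw [map_mul, hc, hd, MonoidAlgebra.single_mul_single]⟩

lemma inv_mem_J (φ : C →ₐc[R] MonoidAlgebra R M) {m : M} {r : R} (hr : r ∈ J φ m) :
    r ∈ J φ m⁻¹ := by
  rw [mem_J_iff] at hr ⊢
  obtain ⟨c, hc⟩ := hr
  refine ⟨antipode R c, ?_⟩
  rw [bialgHom_antipode, hc, MonoidAlgebra.antipode_single, CommSemiring.antipode_eq_id]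
  rfl

lemma surjective_of_J_eq_top (φ : C →ₐc[R] MonoidAlgebra R M) (hJ : ∀ m, J φ m = ⊤) :
    Function.Surjective φ := by
  intro x
  induction x using MonoidAlgebra.induction_linear with
  | zero => exact ⟨0, map_zero _⟩
  | add x y hx hy =>
    obtain ⟨a, rfl⟩ := hx
    obtain ⟨b, rfl⟩ := hy
    exact ⟨a + b, map_add _ _ _⟩
  | single n r =>
    have h1 : r ∈ J φ n := by rw [hJ n]; exact Submodule.mem_top
    rw [mem_J_iff] at h1
    exact h1

end Core2

section Main

universe u

theorem surjective_of_mono_diag (R : Type u) [CommRing R] (M : Type u) [CommGroup M]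
    (C : Type u) [CommRing C] [HopfAlgebra R C] (φ : C →ₐc[R] MonoidAlgebra R M)
    (hmono : ∀ (T : Type u) [CommRing T] [Algebra R T],
      Function.Injective (fun x : MonoidAlgebra R M →ₐ[R] T =>
        x.comp (φ : C →ₐ[R] MonoidAlgebra R M))) :
    Function.Surjective φ := by
  classical
  apply surjective_of_J_eq_top
  intro m
  by_contra hne
  obtain ⟨p, hp, hle⟩ := Ideal.exists_le_maximal _ hne
  have hprime := hp.isPrime
  let M' : Subgroup M :=
    { carrier := {n | ¬ J φ n ≤ p}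
      one_mem' := by
        intro hle1
        exact hp.ne_top ((Ideal.eq_top_iff_one _).mpr (hle1 (one_mem_J_one φ)))
      mul_mem' := by
        intro a b ha hb
        obtain ⟨r, hr, hrp⟩ := SetLike.not_le_iff_exists.mp ha
        obtain ⟨s, hs, hsp⟩ := SetLike.not_le_iff_exists.mp hb
        refine SetLike.not_le_iff_exists.mpr ⟨r * s, mul_mem_J φ hr hs, ?_⟩
        intro hrs
        rcases hprime.mem_or_mem hrs with h | h
        · exact hrp h
        · exact hsp h
      inv_mem' := by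
        intro a ha
        obtain ⟨r, hr, hrp⟩ := SetLike.not_le_iff_exists.mp ha
        exact SetLike.not_le_iff_exists.mpr ⟨r, inv_mem_J φ hr, hrp⟩ }
  have hmem : ∀ n, n ∈ M' ↔ ¬ J φ n ≤ p := fun n => Iff.rfl
  have hm : m ∉ M' := fun h => h hle
  let T := MonoidAlgebra (R ⧸ p) (M ⧸ M')
  let F₁ : M →* T := (MonoidAlgebra.of (R ⧸ p) (M ⧸ M')).comp (QuotientGroup.mk' M')
  let x₁ : MonoidAlgebra R M →ₐ[R] T := MonoidAlgebra.lift R T M F₁
  let x₂ : MonoidAlgebra R M →ₐ[R] T := MonoidAlgebra.lift R T M 1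
  have hx : x₁.comp (φ : C →ₐ[R] MonoidAlgebra R M) = x₂.comp (φ : C →ₐ[R] MonoidAlgebra R M) := by
    apply AlgHom.ext
    intro c
    change x₁ (φ c) = x₂ (φ c)
    rw [MonoidAlgebra.lift_apply, MonoidAlgebra.lift_apply]
    apply Finsupp.sum_congr
    intro n _
    by_cases hn : n ∈ M'
    · have : F₁ n = 1 := by
        change MonoidAlgebra.of (R ⧸ p) (M ⧸ M') (n : M ⧸ M') = 1
        rw [(QuotientGroup.eq_one_iff n).mpr hn, map_one]
      rw [this]; rfl
    · have h1 : (φ c).coeff n ∈ p := by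
        rw [hmem, not_not] at hn
        exact hn ((mem_J φ n _).mpr ⟨c, rfl⟩)
      have h2 : ∀ t : T, (φ c).coeff n • t = 0 := by
        intro t
        rw [← algebraMap_smul (R ⧸ p), Ideal.Quotient.algebraMap_eq,
          Ideal.Quotient.eq_zero_iff_mem.mpr h1, zero_smul]
      rw [h2, h2]
  have hx12 := hmono T hx
  have h1 : x₁ (MonoidAlgebra.single m 1) = x₂ (MonoidAlgebra.single m 1) := by rw [hx12]
  rw [MonoidAlgebra.lift_single, MonoidAlgebra.lift_single, one_smul, one_smul] at h1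
  have h2 : (F₁ m).coeff ((m : M ⧸ M')) = ((1 : M →* T) m).coeff ((m : M ⧸ M')) := by rw [h1]
  have hne1 : ((m : M ⧸ M')) ≠ 1 := fun h => hm ((QuotientGroup.eq_one_iff m).mp h)
  have h3 : (F₁ m).coeff ((m : M ⧸ M')) = 1 := by
    change (MonoidAlgebra.single (m : M ⧸ M') (1 : R ⧸ p)).coeff (m : M ⧸ M') = 1
    rw [MonoidAlgebra.coeff_single, Finsupp.single_eq_same]
  have h4 : ((1 : M →* T) m).coeff ((m : M ⧸ M')) = 0 := by
    change (MonoidAlgebra.single (1 : M ⧸ M') (1 : R ⧸ p)).coeff (m : M ⧸ M') = 0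
    rw [MonoidAlgebra.coeff_single, Finsupp.single_apply, if_neg (Ne.symm hne1)]
  rw [h3, h4] at h2
  have : Nontrivial (R ⧸ p) := Ideal.Quotient.nontrivial_iff.mpr hp.ne_top
  exact one_ne_zero h2

end Main



section Plumb

universe u

variable {R : Type u} [CommRing R] {A C : Type u} [CommRing A] [CommRing C] [Bialgebra R A]
  [Bialgebra R C]

lemma mono_bc (φ : C →ₐc[R] A)
    (hmono : ∀ (T : Type u) [CommRing T] [Algebra R T],
      Function.Injective (fun x : A →ₐ[R] T => x.comp (φ : C →ₐ[R] A)))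
    (S : Type u) [CommRing S] [Algebra R S] :
    ∀ (T : Type u) [CommRing T] [Algebra S T],
      Function.Injective (fun x : S ⊗[R] A →ₐ[S] T =>
        x.comp ((bc S φ : S ⊗[R] C →ₐc[S] S ⊗[R] A) : S ⊗[R] C →ₐ[S] S ⊗[R] A)) := by
  intro T _ _ x y hxy
  let _ : Algebra R T := Algebra.compHom T (algebraMap R S)
  have : IsScalarTower R S T := IsScalarTower.of_algebraMap_eq (fun r => rfl)
  let x' : A →ₐ[R] T := (x.restrictScalars R).comp Algebra.TensorProduct.includeRight
  let y' : A →ₐ[R] T := (y.restrictScalars R).comp Algebra.TensorProduct.includeRight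
  have h : x'.comp (φ : C →ₐ[R] A) = y'.comp (φ : C →ₐ[R] A) := by
    apply AlgHom.ext; intro c
    exact AlgHom.congr_fun hxy ((1 : S) ⊗ₜ c)
  have h' : x' = y' := hmono T h
  apply Algebra.TensorProduct.ext
  · exact Subsingleton.elim _ _
  · exact h'

lemma mono_equiv {B : Type u} [CommRing B] [Bialgebra R B] (φ : C →ₐc[R] A) (e : A ≃ₐc[R] B)
    (hmono : ∀ (T : Type u) [CommRing T] [Algebra R T],
      Function.Injective (fun x : A →ₐ[R] T => x.comp (φ : C →ₐ[R] A))) :
    ∀ (T : Type u) [CommRing T] [Algebra R T],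
      Function.Injective (fun x : B →ₐ[R] T =>
        x.comp (((e : A →ₐc[R] B).comp φ : C →ₐc[R] B) : C →ₐ[R] B)) := by
  intro T _ _ x y hxy
  have h : (x.comp ((e : A →ₐc[R] B) : A →ₐ[R] B)).comp (φ : C →ₐ[R] A) =
      (y.comp ((e : A →ₐc[R] B) : A →ₐ[R] B)).comp (φ : C →ₐ[R] A) := by
    apply AlgHom.ext; intro c
    exact AlgHom.congr_fun hxy c
  have h' := hmono T h
  apply AlgHom.ext; intro b
  obtain ⟨a, rfl⟩ := EquivLike.surjective e b
  exact AlgHom.congr_fun h' a

end Plumb


end Groth.Agent.Lib.helper15.MultTypeMono
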