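import Mathlib
import Groth.Agent.Lib.Helper15.HopfSubalg

/-!
# A Hopf subalgebra is the algebra of invariants of its kernel (helper15)

`k` a field, `A` a commutative Hopf algebra, `B ⊆ A` a Hopf subalgebra, `I = B⁺A`.
If `Δ a - a ⊗ 1 ∈ A ⊗ I` then `a ∈ B` (`mem_of_comul_sub_mem`).  Consequently two Hopf subalgebras
with the same `B⁺A` are equal (`eq_of_augIdeal_eq`).
-/

set_option autoImplicit false
universe u v
open TensorProduct

namespace Groth.Agent.Lib.helper15.Takeuchi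

open Groth.Agent.Lib.helper15.HopfSubalg

variable {k : Type u} [Field k] {A : Type v} [CommRing A] [HopfAlgebra k A] (B : Subalgebra k A)

/-- `x ⊗ y ↦ x * S y`. -/
noncomputable def mulS : A ⊗[k] A →ₗ[k] A :=
  LinearMap.mul' k A ∘ₗ (HopfAlgebra.antipode k).lTensor A

lemma mulS_tmul (x y : A) : mulS (k := k) (x ⊗ₜ[k] y) = x * HopfAlgebra.antipode k y := rfl

/-- the canonical map `A ⊗[k] A → A ⊗[B] A`. -/
noncomputable def can : A ⊗[k] A →ₗ[k] A ⊗[B] A := TensorProduct.mapOfCompatibleSMul B k k A A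

lemma can_tmul (x y : A) : can B (x ⊗ₜ[k] y) = x ⊗ₜ[B] y := rfl

/-- `x ⊗ (y ⊗ z) ↦ (x * S y) ⊗_B z`. -/
noncomputable def Theta : A ⊗[k] (A ⊗[k] A) →ₗ[k] A ⊗[B] A :=
  can B ∘ₗ (mulS (k := k) (A := A)).rTensor A ∘ₗ (TensorProduct.assoc k A A A).symm.toLinearMap

lemma Theta_tmul (x y z : A) :
    Theta B (x ⊗ₜ[k] (y ⊗ₜ[k] z)) = (x * HopfAlgebra.antipode k y) ⊗ₜ[B] z := rfl

/-- `x ⊗ y ↦ x S(y₁) ⊗_B y₂`. -/
noncomputable def psi : A ⊗[k] A →ₗ[k] A ⊗[B] A :=
  Theta B ∘ₗ (Coalgebra.comul (R := k) (A := A)).lTensor A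

lemma psi_comul (a : A) : psi B (Coalgebra.comul (R := k) a) = (1 : A) ⊗ₜ[B] a := by
  change can B ((mulS (k := k) (A := A)).rTensor A ((TensorProduct.assoc k A A A).symm
    ((Coalgebra.comul (R := k) (A := A)).lTensor A (Coalgebra.comul (R := k) a)))) = _
  rw [Coalgebra.coassoc_symm_apply, ← LinearMap.rTensor_comp_apply]
  have h3 : mulS (k := k) (A := A) ∘ₗ Coalgebra.comul (R := k) (A := A) =
      Algebra.linearMap k A ∘ₗ Coalgebra.counit (R := k) (A := A) :=
    HopfAlgebra.mul_antipode_lTensor_comul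
  rw [h3, LinearMap.rTensor_comp_apply, Coalgebra.rTensor_counit_comul, LinearMap.rTensor_tmul,
    Algebra.linearMap_apply, map_one, can_tmul]

lemma psi_tmul_one (a : A) : psi B (a ⊗ₜ[k] (1 : A)) = a ⊗ₜ[B] (1 : A) := by
  change Theta B (a ⊗ₜ[k] Coalgebra.comul (R := k) (1 : A)) = _
  rw [Bialgebra.comul_one, Algebra.TensorProduct.one_def, Theta_tmul, HopfAlgebra.antipode_one,
    mul_one]

/-- `p ⊗ q ↦ S(p) * q` on `B ⊗ B`. -/
noncomputable def mB : B ⊗[k] B →ₗ[k] A :=
  LinearMap.mul' k A ∘ₗ (HopfAlgebra.antipode k).rTensor A ∘ₗ (T B).toLinearMap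

lemma mB_tmul (p q : B) : mB B (p ⊗ₜ[k] q) = HopfAlgebra.antipode k (p : A) * (q : A) := rfl

lemma mB_eq (t : B ⊗[k] B) :
    mB B t = LinearMap.mul' k A ((HopfAlgebra.antipode k).rTensor A (T B t)) := rfl

lemma Theta_mul_T (x u v : A) (t : B ⊗[k] B) :
    Theta B (x ⊗ₜ[k] (T B t * (u ⊗ₜ[k] v))) =
      (x * HopfAlgebra.antipode k u * mB B t) ⊗ₜ[B] v := by
  induction t using TensorProduct.induction_on with
  | zero => simp
  | tmul p q =>
    rw [T_tmul, Algebra.TensorProduct.tmul_mul_tmul, Theta_tmul, mB_tmul,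
      HopfAlgebra.antipode_mul_distrib]
    have h1 : ((q : A) * v) = q • v := rfl
    rw [h1, ← TensorProduct.smul_tmul]
    have h2 : q • (x * ((HopfAlgebra.antipode k) (p : A) * (HopfAlgebra.antipode k) u)) =
        x * (HopfAlgebra.antipode k) u * ((HopfAlgebra.antipode k) (p : A) * (q : A)) := by
      change (q : A) * _ = _
      ring
    rw [h2]
  | add t t' ht ht' =>
    rw [map_add, add_mul, TensorProduct.tmul_add, map_add, ht, ht', map_add, mul_add,
      TensorProduct.add_tmul]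

variable {B} in
/-- `ψ` kills `x ⊗ (y * b)` for `b ∈ B⁺`. -/
lemma psi_tmul_mul (hB : IsHopfSub B) (x y b : A) (hb : b ∈ B)
    (hb0 : Coalgebra.counit (R := k) b = 0) : psi B (x ⊗ₜ[k] (y * b)) = 0 := by
  obtain ⟨t, ht⟩ := hB.1 b hb
  have ht' : T B t = Coalgebra.comul (R := k) b := ht
  change Theta B (x ⊗ₜ[k] Coalgebra.comul (R := k) (y * b)) = 0
  rw [Bialgebra.comul_mul, ← ht', mul_comm]
  have hm : mB B t = 0 := by
    rw [mB_eq, ht', HopfAlgebra.mul_antipode_rTensor_comul_apply, hb0, map_zero]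
  induction Coalgebra.comul (R := k) y using TensorProduct.induction_on with
  | zero => simp
  | tmul u v => rw [Theta_mul_T, hm, mul_zero, TensorProduct.zero_tmul]
  | add w w' hw hw' => rw [mul_add, TensorProduct.tmul_add, map_add, hw, hw', add_zero]

/-- the ideal `B⁺A` of `A` generated by the augmentation ideal of `B`. -/
def augIdeal : Ideal A := Ideal.span {b : A | b ∈ B ∧ Coalgebra.counit (R := k) b = 0}

variable {B} in
lemma psi_tmul_mem (hB : IsHopfSub B) (x z : A) (hz : z ∈ augIdeal B) :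
    psi B (x ⊗ₜ[k] z) = 0 := by
  have key : ∀ x y : A, psi B (x ⊗ₜ[k] (y * z)) = 0 := by
    refine Submodule.span_induction (p := fun z _ => ∀ x y : A, psi B (x ⊗ₜ[k] (y * z)) = 0)
      ?_ ?_ ?_ ?_ hz
    · rintro b ⟨hb, hb0⟩ x y
      exact psi_tmul_mul hB x y b hb hb0
    · intro x y
      rw [mul_zero, TensorProduct.tmul_zero, map_zero]
    · intro z z' _ _ h h' x y
      rw [mul_add, TensorProduct.tmul_add, map_add, h, h', add_zero]
    · intro a z _ h x y
      rw [smul_eq_mul, ← mul_assoc]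
      exact h x (y * a)
  have := key x 1
  rwa [one_mul] at this

variable {B} in
/-- an element invariant under the kernel of `Spec A → Spec B` lies in `B`. -/
theorem mem_of_comul_sub_mem (hB : IsHopfSub B) (a : A)
    (h : Coalgebra.comul (R := k) a - a ⊗ₜ[k] (1 : A) ∈
      Submodule.span k {w : A ⊗[k] A | ∃ x : A, ∃ z ∈ augIdeal B, w = x ⊗ₜ[k] z}) : a ∈ B := by
  have h0 : psi B (Coalgebra.comul (R := k) a - a ⊗ₜ[k] (1 : A)) = 0 := by
    refine Submodule.span_induction (p := fun w _ => psi B w = 0) ?_ ?_ ?_ ?_ h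
    · rintro w ⟨x, z, hz, rfl⟩
      exact psi_tmul_mem hB x z hz
    · exact map_zero _
    · intro w w' _ _ hw hw'
      rw [map_add, hw, hw', add_zero]
    · intro c w _ hw
      rw [map_smul, hw, smul_zero]
  rw [map_sub, psi_comul, psi_tmul_one, sub_eq_zero] at h0
  have hff : Module.FaithfullyFlat B A := faithfullyFlat_of_isHopfSub hB
  have heff : Algebra.IsEffective B A := Algebra.IsEffective.of_faithfullyFlat B A
  have h1 : Algebra.TensorProduct.includeLeftSubRight B A a = 0 := by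
    rw [Algebra.TensorProduct.includeLeftSubRight_apply, h0, sub_self]
  obtain ⟨b, hb⟩ := (heff a).mp h1
  rw [← hb]
  exact b.2

lemma sub_counit_mem_augIdeal (q : B) :
    (q : A) - algebraMap k A (Coalgebra.counit (R := k) (q : A)) ∈ augIdeal B := by
  apply Ideal.subset_span
  refine ⟨B.sub_mem q.2 (B.algebraMap_mem _), ?_⟩
  rw [map_sub, Bialgebra.counit_algebraMap, sub_self]

/-- `p ⊗ q ↦ p ⊗ (q - ε q)`. -/
noncomputable def Lam : A ⊗[k] A →ₗ[k] A ⊗[k] A :=
  LinearMap.id - (Algebra.linearMap k A ∘ₗ Coalgebra.counit (R := k) (A := A)).lTensor A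

lemma Lam_tmul (p q : A) :
    Lam (k := k) (p ⊗ₜ[k] q) = p ⊗ₜ[k] (q - algebraMap k A (Coalgebra.counit (R := k) q)) := by
  rw [Lam, LinearMap.sub_apply, LinearMap.id_apply, LinearMap.lTensor_tmul, TensorProduct.tmul_sub]
  rfl

lemma Lam_comul (a : A) :
    Lam (k := k) (Coalgebra.comul (R := k) a) = Coalgebra.comul (R := k) a - a ⊗ₜ[k] (1 : A) := by
  rw [Lam, LinearMap.sub_apply, LinearMap.id_apply, LinearMap.lTensor_comp_apply,
    Coalgebra.lTensor_counit_comul, LinearMap.lTensor_tmul, Algebra.linearMap_apply, map_one]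

variable {B} in
/-- elements of a Hopf subalgebra are invariant under its kernel. -/
theorem comul_sub_mem_of_mem (hB : IsHopfSub B) (b : A) (hb : b ∈ B) :
    Coalgebra.comul (R := k) b - b ⊗ₜ[k] (1 : A) ∈
      Submodule.span k {w : A ⊗[k] A | ∃ x : A, ∃ z ∈ augIdeal B, w = x ⊗ₜ[k] z} := by
  have claim : ∀ t : B ⊗[k] B, Lam (k := k) (T B t) ∈
      Submodule.span k {w : A ⊗[k] A | ∃ x : A, ∃ z ∈ augIdeal B, w = x ⊗ₜ[k] z} := by
    intro t
    induction t using TensorProduct.induction_on with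
    | zero => simp
    | tmul p q =>
      rw [T_tmul, Lam_tmul]
      exact Submodule.subset_span ⟨p, _, sub_counit_mem_augIdeal B q, rfl⟩
    | add t t' h h' =>
      rw [map_add, map_add]
      exact add_mem h h'
  obtain ⟨t, ht⟩ := hB.1 b hb
  have ht' : T B t = Coalgebra.comul (R := k) b := ht
  rw [← Lam_comul, ← ht']
  exact claim t

/-- a Hopf subalgebra is determined by (in fact monotone in) its augmentation ideal. -/
theorem le_of_augIdeal_le {B₁ B₂ : Subalgebra k A} (h₁ : IsHopfSub B₁) (h₂ : IsHopfSub B₂)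
    (h : augIdeal B₁ ≤ augIdeal B₂) : B₁ ≤ B₂ := by
  intro b hb
  apply mem_of_comul_sub_mem h₂
  refine Submodule.span_mono ?_ (comul_sub_mem_of_mem h₁ b hb)
  rintro w ⟨x, z, hz, rfl⟩
  exact ⟨x, z, h hz, rfl⟩

theorem eq_of_augIdeal_eq {B₁ B₂ : Subalgebra k A} (h₁ : IsHopfSub B₁) (h₂ : IsHopfSub B₂)
    (h : augIdeal B₁ = augIdeal B₂) : B₁ = B₂ :=
  le_antisymm (le_of_augIdeal_le h₁ h₂ h.le) (le_of_augIdeal_le h₂ h₁ h.ge)

end Groth.Agent.Lib.helper15.Takeuchi
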