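import Mathlib
import Groth.Agent.Lib.Helper15.Takeuchi
import Groth.Agent.Lib.Helper15.LieInv
import Groth.Agent.Lib.Helper15.MultTypeMono

/-!
# Hopf subalgebras of `k[t]` (`t` primitive) and isogenies from `𝔾_a` (helper15)

`k` a field, `A` a commutative Hopf algebra with a primitive `t` such that `k[X] → A`, `X ↦ t` is
bijective.

* `exists_prim_of_isHopfSub`: every Hopf subalgebra of `A` is `k[P]` for a primitive `P`.
* `sigma`: the bialgebra endomorphism `t ↦ P`.
* `bialgEquiv_of_injective_of_range_eq`: injective bialgebra maps with the same range have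
  isomorphic sources.
* `nonempty_bialgEquiv_of_injective_of_finite`: a Hopf algebra with an injective finite bialgebra
  map to `A` is isomorphic to `A`.
-/

set_option autoImplicit false
universe u v w
open TensorProduct Polynomial

namespace Groth.Agent.Lib.helper15.HopfSubPoly

open Groth.Agent.Lib.helper15.HopfSubalg Groth.Agent.Lib.helper15.Takeuchi
  Groth.Agent.Lib.helper15.LieInv

variable {k : Type u} [Field k] {A : Type v} [CommRing A] [HopfAlgebra k A]

/-- `Δ(t^n)` for a primitive element `t`. -/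
lemma comul_pow_of_isPrim {t : A} (ht : IsPrim (k := k) t) (n : ℕ) :
    Coalgebra.comul (R := k) (t ^ n) =
      ∑ i ∈ Finset.range (n + 1), (n.choose i : k) • ((t ^ i) ⊗ₜ[k] (t ^ (n - i))) := by
  have h1 : Coalgebra.comul (R := k) (t ^ n) = (Bialgebra.comulAlgHom k A t) ^ n := by
    rw [← map_pow]; rfl
  have h2 : Bialgebra.comulAlgHom k A t = t ⊗ₜ[k] (1 : A) + (1 : A) ⊗ₜ[k] t := ht
  rw [h1, h2, add_pow]
  refine Finset.sum_congr rfl fun i _ => ?_
  rw [Algebra.TensorProduct.tmul_pow, Algebra.TensorProduct.tmul_pow, one_pow, one_pow,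
    Algebra.TensorProduct.tmul_mul_tmul, mul_one, one_mul, mul_comm, ← nsmul_eq_mul,
    Nat.cast_smul_eq_nsmul]

/-- `a ↦ Δ a - a ⊗ 1 - 1 ⊗ a`. -/
noncomputable def primDefect : A →ₗ[k] A ⊗[k] A :=
  Coalgebra.comul (R := k) (A := A) - (TensorProduct.mk k A A).flip 1 - TensorProduct.mk k A A 1

lemma primDefect_apply (a : A) :
    primDefect (k := k) a = Coalgebra.comul (R := k) a - a ⊗ₜ[k] (1 : A) - (1 : A) ⊗ₜ[k] a := rfl

lemma isPrim_iff_primDefect (a : A) : IsPrim (k := k) a ↔ primDefect (k := k) a = 0 := by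
  rw [primDefect_apply, sub_sub, sub_eq_zero]
  rfl

/-- `V ⊗ V` as a submodule of `A ⊗ A`. -/
noncomputable def W (V : Submodule k A) : Submodule k (A ⊗[k] A) :=
  LinearMap.range (TensorProduct.map V.subtype V.subtype)

lemma tmul_mem_W {V : Submodule k A} {x y : A} (hx : x ∈ V) (hy : y ∈ V) : x ⊗ₜ[k] y ∈ W V :=
  ⟨(⟨x, hx⟩ : V) ⊗ₜ[k] (⟨y, hy⟩ : V), rfl⟩

lemma primDefect_pow_mem {t : A} (ht : IsPrim (k := k) t) (V : Submodule k A) (d : ℕ)
    (hV : ∀ i < d, t ^ i ∈ V) (n : ℕ) (hn0 : n ≠ 0) (hn : n ≤ d) :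
    primDefect (k := k) (t ^ n) ∈ W V := by
  obtain ⟨m, rfl⟩ := Nat.exists_eq_succ_of_ne_zero hn0
  rw [primDefect_apply, comul_pow_of_isPrim ht, Finset.sum_range_succ, Finset.sum_range_succ']
  simp only [Nat.choose_self, Nat.cast_one, one_smul, Nat.sub_self, pow_zero, Nat.choose_zero_right,
    Nat.sub_zero]
  have : ∀ (S : A ⊗[k] A) (a b : A ⊗[k] A), S + b + a - a - b = S := by
    intro S a b; abel
  rw [this]
  refine Submodule.sum_mem _ fun i hi => ?_
  rw [Finset.mem_range] at hi
  refine Submodule.smul_mem _ _ (tmul_mem_W (hV _ (by omega)) (hV _ (by omega)))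

lemma primDefect_aeval_mem {t : A} (ht : IsPrim (k := k) t) (V : Submodule k A) (p : k[X])
    (hV : ∀ i < p.natDegree, t ^ i ∈ V) (hp0 : p.coeff 0 = 0) :
    primDefect (k := k) (Polynomial.aeval t p) ∈ W V := by
  rw [Polynomial.aeval_eq_sum_range, map_sum]
  refine Submodule.sum_mem _ fun n hn => ?_
  rw [map_smul]
  by_cases hn0 : n = 0
  · subst hn0
    rw [hp0, zero_smul]
    exact zero_mem _
  · rw [Finset.mem_range] at hn
    exact Submodule.smul_mem _ _ (primDefect_pow_mem ht V _ hV n hn0 (by omega))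


/-- the image in `A` of the polynomials of degree `< d`. -/
noncomputable def Vd (t : A) (d : ℕ) : Submodule k A :=
  (Polynomial.degreeLT k d).map (Polynomial.aeval (R := k) t).toLinearMap

lemma pow_mem_Vd (t : A) (d i : ℕ) (hi : i < d) : t ^ i ∈ Vd (k := k) t d := by
  refine ⟨X ^ i, ?_, ?_⟩
  · rw [SetLike.mem_coe, Polynomial.mem_degreeLT]
    exact (Polynomial.degree_X_pow_le i).trans_lt (by exact_mod_cast hi)
  · simp

lemma eq_zero_of_mem_Vd_of_mem_span {t : A}
    (hbij : Function.Bijective (Polynomial.aeval (R := k) t)) (p : k[X]) (hp : p ≠ 0) (v : A)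
    (hv : v ∈ Vd (k := k) t p.natDegree) (hv' : v ∈ Ideal.span {Polynomial.aeval t p}) : v = 0 := by
  obtain ⟨q, hq, rfl⟩ := hv
  rw [SetLike.mem_coe, Polynomial.mem_degreeLT] at hq
  rw [Ideal.mem_span_singleton] at hv'
  obtain ⟨c, hc⟩ := hv'
  obtain ⟨r, rfl⟩ := hbij.2 c
  have h1 : (Polynomial.aeval t) q = Polynomial.aeval t (p * r) := by
    rw [map_mul]; exact hc
  have h2 : q = p * r := hbij.1 h1
  have h3 : q = 0 := by
    apply Polynomial.eq_zero_of_dvd_of_degree_lt (Dvd.intro r h2.symm)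
    rwa [Polynomial.degree_eq_natDegree hp]
  rw [h3]
  simp

variable (B : Subalgebra k A)

lemma augIdeal_le_ker_counit : augIdeal B ≤ RingHom.ker (Bialgebra.counitAlgHom k A) := by
  refine Ideal.span_le.2 ?_
  rintro b ⟨_, hb0⟩
  exact hb0

variable {B} in
/-- `B⁺A` is a Hopf ideal (the comultiplication part). -/
lemma map_mk_comul_eq_zero (hB : IsHopfSub B) (z : A) (hz : z ∈ augIdeal B) :
    Algebra.TensorProduct.map (Ideal.Quotient.mkₐ k (augIdeal B)) (Ideal.Quotient.mkₐ k (augIdeal B))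
      (Bialgebra.comulAlgHom k A z) = 0 := by
  set π := Ideal.Quotient.mkₐ k (augIdeal B) with hπ
  have hπz : ∀ z ∈ augIdeal B, π z = 0 := fun z hz => by
    rw [hπ, Ideal.Quotient.mkₐ_eq_mk]
    exact Ideal.Quotient.eq_zero_iff_mem.2 hz
  have hle : augIdeal B ≤
      RingHom.ker ((Algebra.TensorProduct.map π π).comp (Bialgebra.comulAlgHom k A)) := by
    refine Ideal.span_le.2 ?_
    rintro b ⟨hb, hb0⟩
    have hbI : b ∈ augIdeal B := Ideal.subset_span ⟨hb, hb0⟩
    have h1 := comul_sub_mem_of_mem hB b hb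
    have h2 : ∀ w ∈ Submodule.span k {w : A ⊗[k] A | ∃ x : A, ∃ z ∈ augIdeal B, w = x ⊗ₜ[k] z},
        Algebra.TensorProduct.map π π w = 0 := by
      intro w hw
      refine Submodule.span_induction (p := fun w _ => Algebra.TensorProduct.map π π w = 0)
        ?_ ?_ ?_ ?_ hw
      · rintro w ⟨x, z, hz, rfl⟩
        rw [Algebra.TensorProduct.map_tmul, hπz z hz, TensorProduct.tmul_zero]
      · exact map_zero _
      · intro w w' _ _ hw hw'
        rw [map_add, hw, hw', add_zero]
      · intro c w _ hw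
        rw [map_smul, hw, smul_zero]
    have h3 := h2 _ h1
    rw [map_sub, Algebra.TensorProduct.map_tmul, hπz b hbI, TensorProduct.zero_tmul, sub_zero] at h3
    exact h3
  exact hle hz

variable {B} in
/-- the generator of `B⁺A` is primitive. -/
theorem isPrim_of_augIdeal_eq_span {t : A} (ht : IsPrim (k := k) t)
    (hbij : Function.Bijective (Polynomial.aeval (R := k) t)) (hB : IsHopfSub B) (p : k[X])
    (hI : augIdeal B = Ideal.span {Polynomial.aeval t p}) : IsPrim (k := k) (Polynomial.aeval t p) := by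
  by_cases hp : p = 0
  · subst hp
    rw [map_zero, isPrim_iff_primDefect, map_zero]
  have hPI : Polynomial.aeval t p ∈ augIdeal B := by
    rw [hI]; exact Ideal.subset_span rfl
  have hp0 : p.coeff 0 = 0 := by
    have h1 : Bialgebra.counitAlgHom k A (Polynomial.aeval t p) = 0 := augIdeal_le_ker_counit B hPI
    rw [← Polynomial.aeval_algHom_apply] at h1
    have h2 : Bialgebra.counitAlgHom k A t = 0 := counit_of_isPrim ht
    rw [h2, ← Polynomial.coeff_zero_eq_aeval_zero] at h1
    exact h1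
  rw [isPrim_iff_primDefect]
  set π := Ideal.Quotient.mkₐ k (augIdeal B) with hπ
  have hπz : ∀ z ∈ augIdeal B, π z = 0 := fun z hz => by
    rw [hπ, Ideal.Quotient.mkₐ_eq_mk]
    exact Ideal.Quotient.eq_zero_iff_mem.2 hz
  obtain ⟨w, hw⟩ := primDefect_aeval_mem ht (Vd t p.natDegree) p
    (fun i hi => pow_mem_Vd t _ i hi) hp0
  have h0 : Algebra.TensorProduct.map π π (primDefect (k := k) (Polynomial.aeval t p)) = 0 := by
    rw [primDefect_apply, map_sub, map_sub, Algebra.TensorProduct.map_tmul,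
      Algebra.TensorProduct.map_tmul, hπz _ hPI, TensorProduct.zero_tmul, TensorProduct.tmul_zero,
      sub_zero, sub_zero]
    exact map_mk_comul_eq_zero hB _ hPI
  set Vs := (Vd (k := k) t p.natDegree).subtype with hVs
  have hinj : Function.Injective (π.toLinearMap ∘ₗ Vs) := by
    rw [← LinearMap.ker_eq_bot, LinearMap.ker_eq_bot']
    intro v hv
    have hv1 : (v : A) ∈ augIdeal B := by
      have : π (v : A) = 0 := hv
      rw [hπ, Ideal.Quotient.mkₐ_eq_mk] at this
      exact Ideal.Quotient.eq_zero_iff_mem.1 this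
    rw [hI] at hv1
    exact Subtype.ext (eq_zero_of_mem_Vd_of_mem_span hbij p hp v v.2 hv1)
  have hinj2 := TensorProduct.map_injective_of_flat_flat _ _ hinj hinj
  have hw0 : w = 0 := by
    apply hinj2
    rw [map_zero, TensorProduct.map_comp]
    change Algebra.TensorProduct.map π π (TensorProduct.map Vs Vs w) = 0
    rw [hw, h0]
  rw [← hw, hw0, map_zero]


lemma augIdeal_adjoin_prim {P : A} (hP : IsPrim (k := k) P) :
    augIdeal (Algebra.adjoin k ({P} : Set A)) = Ideal.span {P} := by
  apply le_antisymm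
  · refine Ideal.span_le.2 ?_
    rintro b ⟨hb, hb0⟩
    rw [Algebra.adjoin_singleton_eq_range_aeval] at hb
    obtain ⟨q, rfl⟩ := hb
    have h1 : Bialgebra.counitAlgHom k A (Polynomial.aeval P q) = 0 := hb0
    rw [← Polynomial.aeval_algHom_apply] at h1
    have h2 : Bialgebra.counitAlgHom k A P = 0 := counit_of_isPrim hP
    rw [h2, ← Polynomial.coeff_zero_eq_aeval_zero] at h1
    obtain ⟨r, rfl⟩ := Polynomial.X_dvd_iff.2 h1
    rw [SetLike.mem_coe, Ideal.mem_span_singleton]
    refine ⟨Polynomial.aeval P r, ?_⟩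
    change Polynomial.aeval P (X * r) = _
    rw [map_mul, Polynomial.aeval_X]
  · refine Ideal.span_le.2 ?_
    rintro _ rfl
    exact Ideal.subset_span ⟨Algebra.subset_adjoin rfl, counit_of_isPrim hP⟩

variable {B} in
/-- **Hopf subalgebras of `k[t]`** (`t` primitive) are of the form `k[P]` with `P` primitive. -/
theorem exists_prim_of_isHopfSub {t : A} (ht : IsPrim (k := k) t)
    (hbij : Function.Bijective (Polynomial.aeval (R := k) t)) (hB : IsHopfSub B) :
    ∃ P : A, IsPrim (k := k) P ∧ B = Algebra.adjoin k ({P} : Set A) := by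
  have hpid : IsPrincipalIdealRing A :=
    IsPrincipalIdealRing.of_surjective (Polynomial.aeval (R := k) t).toRingHom hbij.2
  obtain ⟨P, hP⟩ := (IsPrincipalIdealRing.principal (augIdeal B)).principal
  obtain ⟨p, rfl⟩ := hbij.2 P
  have hI : augIdeal B = Ideal.span {Polynomial.aeval t p} := hP
  have hprim := isPrim_of_augIdeal_eq_span ht hbij hB p hI
  refine ⟨_, hprim, ?_⟩
  exact eq_of_augIdeal_eq hB (isHopfSub_adjoin_prim hprim) (hI.trans (augIdeal_adjoin_prim hprim).symm)

/-- two algebra maps out of `k[t]` agreeing on `t` are equal. -/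
lemma algHom_ext_of_aeval_surjective {t : A} (hsurj : Function.Surjective (Polynomial.aeval (R := k) t))
    {Z : Type*} [Semiring Z] [Algebra k Z] (f g : A →ₐ[k] Z) (h : f t = g t) : f = g := by
  have h1 : f.comp (Polynomial.aeval (R := k) t) = g.comp (Polynomial.aeval (R := k) t) := by
    apply Polynomial.algHom_ext
    simpa using h
  apply AlgHom.ext
  intro a
  obtain ⟨q, rfl⟩ := hsurj a
  exact AlgHom.congr_fun h1 q

/-- the algebra endomorphism `t ↦ P` of `k[t]`. -/
noncomputable def sigmaAlg {t : A} (hbij : Function.Bijective (Polynomial.aeval (R := k) t)) (P : A) :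
    A →ₐ[k] A :=
  (Polynomial.aeval (R := k) P).comp (AlgEquiv.ofBijective (Polynomial.aeval (R := k) t) hbij).symm

lemma sigmaAlg_aeval {t : A} (hbij : Function.Bijective (Polynomial.aeval (R := k) t)) (P : A)
    (q : k[X]) : sigmaAlg hbij P (Polynomial.aeval t q) = Polynomial.aeval P q := by
  change Polynomial.aeval P ((AlgEquiv.ofBijective (Polynomial.aeval (R := k) t) hbij).symm
    (Polynomial.aeval t q)) = _
  congr 1
  apply (AlgEquiv.ofBijective (Polynomial.aeval (R := k) t) hbij).injective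
  rw [AlgEquiv.apply_symm_apply]
  rfl

lemma sigmaAlg_t {t : A} (hbij : Function.Bijective (Polynomial.aeval (R := k) t)) (P : A) :
    sigmaAlg hbij P t = P := by
  have := sigmaAlg_aeval hbij P X
  rwa [Polynomial.aeval_X, Polynomial.aeval_X] at this

/-- the bialgebra endomorphism `t ↦ P` of `k[t]`, for `P` primitive. -/
noncomputable def sigma {t : A} (ht : IsPrim (k := k) t)
    (hbij : Function.Bijective (Polynomial.aeval (R := k) t)) {P : A} (hP : IsPrim (k := k) P) :
    A →ₐc[k] A :=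
  BialgHom.ofAlgHom (sigmaAlg hbij P)
    (by
      apply algHom_ext_of_aeval_surjective hbij.2
      change Coalgebra.counit (R := k) (sigmaAlg hbij P t) = Coalgebra.counit (R := k) t
      rw [sigmaAlg_t, counit_of_isPrim hP, counit_of_isPrim ht])
    (by
      apply algHom_ext_of_aeval_surjective hbij.2
      change Algebra.TensorProduct.map (sigmaAlg hbij P) (sigmaAlg hbij P)
        (Coalgebra.comul (R := k) t) = Coalgebra.comul (R := k) (sigmaAlg hbij P t)
      rw [sigmaAlg_t, ht, hP, map_add, Algebra.TensorProduct.map_tmul,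
        Algebra.TensorProduct.map_tmul, sigmaAlg_t, map_one])

lemma sigma_apply {t : A} (ht : IsPrim (k := k) t)
    (hbij : Function.Bijective (Polynomial.aeval (R := k) t)) {P : A} (hP : IsPrim (k := k) P)
    (a : A) : sigma ht hbij hP a = sigmaAlg hbij P a := rfl

lemma range_sigmaAlg {t : A} (hbij : Function.Bijective (Polynomial.aeval (R := k) t)) (P : A) :
    (sigmaAlg hbij P).range = Algebra.adjoin k ({P} : Set A) := by
  rw [Algebra.adjoin_singleton_eq_range_aeval]
  ext x
  constructor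
  · rintro ⟨a, rfl⟩
    obtain ⟨q, rfl⟩ := hbij.2 a
    exact ⟨q, (sigmaAlg_aeval hbij P q).symm⟩
  · rintro ⟨q, rfl⟩
    exact ⟨Polynomial.aeval t q, sigmaAlg_aeval hbij P q⟩

lemma sigmaAlg_injective {t : A} (ht : IsPrim (k := k) t)
    (hbij : Function.Bijective (Polynomial.aeval (R := k) t)) {P : A} (hP : IsPrim (k := k) P)
    (hP0 : P ≠ 0) : Function.Injective (sigmaAlg hbij P) := by
  rw [injective_iff_map_eq_zero]
  intro a ha
  obtain ⟨q, rfl⟩ := hbij.2 a
  obtain ⟨p, rfl⟩ := hbij.2 P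
  rw [sigmaAlg_aeval, ← Polynomial.aeval_comp] at ha
  have h1 : q.comp p = 0 := hbij.1 (by rw [ha, map_zero])
  rw [Polynomial.comp_eq_zero_iff] at h1
  rcases h1 with h1 | ⟨_, h2⟩
  · rw [h1, map_zero]
  · exfalso
    apply hP0
    have h3 : Bialgebra.counitAlgHom k A (Polynomial.aeval t p) = 0 := counit_of_isPrim hP
    rw [← Polynomial.aeval_algHom_apply] at h3
    have h4 : Bialgebra.counitAlgHom k A t = 0 := counit_of_isPrim ht
    rw [h4, ← Polynomial.coeff_zero_eq_aeval_zero] at h3
    rw [h2, h3, map_zero, map_zero]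

section Equiv

variable {B₁ B₂ : Type*} [Ring B₁] [Ring B₂] [Bialgebra k B₁] [Bialgebra k B₂]
  {C : Type*} [Ring C] [Bialgebra k C]

/-- two injective bialgebra maps with the same range have isomorphic sources. -/
theorem bialgEquiv_of_injective_of_range_eq (f : B₁ →ₐc[k] C) (g : B₂ →ₐc[k] C)
    (hf : Function.Injective f) (hg : Function.Injective g)
    (hr : (f : B₁ →ₐ[k] C).range = (g : B₂ →ₐ[k] C).range) :
    Nonempty (B₁ ≃ₐc[k] B₂) := by
  have hf' : Function.Injective (f : B₁ →ₐ[k] C) := hf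
  have hg' : Function.Injective (g : B₂ →ₐ[k] C) := hg
  let e1 : B₁ ≃ₐ[k] (f : B₁ →ₐ[k] C).range := AlgEquiv.ofInjective _ hf'
  let e2 : B₂ ≃ₐ[k] (g : B₂ →ₐ[k] C).range := AlgEquiv.ofInjective _ hg'
  let e12 : (f : B₁ →ₐ[k] C).range ≃ₐ[k] (g : B₂ →ₐ[k] C).range := Subalgebra.equivOfEq _ _ hr
  let e : B₁ ≃ₐ[k] B₂ := e1.trans (e12.trans e2.symm)
  have he : ∀ x : B₁, g (e x) = f x := by
    intro x
    change (g : B₂ →ₐ[k] C) (e2.symm (e12 (e1 x))) = f x
    have h1 : ((e2 (e2.symm (e12 (e1 x))) : (g : B₂ →ₐ[k] C).range) : C) = f x := by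
      rw [AlgEquiv.apply_symm_apply]
      rfl
    exact h1
  have hgg : Function.Injective (TensorProduct.map (g : B₂ →ₐ[k] C).toLinearMap
      (g : B₂ →ₐ[k] C).toLinearMap) :=
    TensorProduct.map_injective_of_flat_flat _ _ hg' hg'
  refine ⟨BialgEquiv.ofAlgEquiv e ?_ ?_⟩
  · apply AlgHom.ext
    intro x
    change Coalgebra.counit (R := k) (e x) = Coalgebra.counit (R := k) x
    rw [← CoalgHomClass.counit_comp_apply g (e x), he, CoalgHomClass.counit_comp_apply]
  · apply AlgHom.ext
    intro x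
    change TensorProduct.map (e : B₁ →ₗ[k] B₂) (e : B₁ →ₗ[k] B₂) (Coalgebra.comul (R := k) x) =
      Coalgebra.comul (R := k) (e x)
    apply hgg
    have h2 : TensorProduct.map (g : B₂ →ₐ[k] C).toLinearMap (g : B₂ →ₐ[k] C).toLinearMap
        (Coalgebra.comul (R := k) (e x)) = Coalgebra.comul (R := k) (g (e x)) :=
      CoalgHomClass.map_comp_comul_apply g (e x)
    rw [h2, he, ← CoalgHomClass.map_comp_comul_apply f x, ← LinearMap.comp_apply,
      ← TensorProduct.map_comp]
    congr 2 <;>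
    · apply LinearMap.ext
      intro z
      exact he z

end Equiv


section Main

open Groth.Agent.Lib.helper15.MultTypeMono

variable {B' : Type w} [CommRing B'] [HopfAlgebra k B']

/-- the range of a bialgebra map of Hopf algebras is a Hopf subalgebra. -/
lemma isHopfSub_range (ψ : B' →ₐc[k] A) : IsHopfSub (ψ : B' →ₐ[k] A).range := by
  constructor
  · rintro _ ⟨x, rfl⟩
    have h1 : TensorProduct.map (ψ : B' →ₐ[k] A).toLinearMap (ψ : B' →ₐ[k] A).toLinearMap
        (Coalgebra.comul (R := k) x) = Coalgebra.comul (R := k) (ψ x) :=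
      CoalgHomClass.map_comp_comul_apply ψ x
    have h2 : (ψ : B' →ₐ[k] A).toLinearMap =
        (ψ : B' →ₐ[k] A).range.val.toLinearMap ∘ₗ (ψ : B' →ₐ[k] A).rangeRestrict.toLinearMap := rfl
    refine ⟨TensorProduct.map (ψ : B' →ₐ[k] A).rangeRestrict.toLinearMap
      (ψ : B' →ₐ[k] A).rangeRestrict.toLinearMap (Coalgebra.comul (R := k) x), ?_⟩
    rw [← LinearMap.comp_apply, ← TensorProduct.map_comp, ← h2]
    exact h1
  · rintro _ ⟨x, rfl⟩
    refine ⟨HopfAlgebra.antipode k x, ?_⟩
    exact bialgHom_antipode ψ x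

/-- **isogenies from `𝔾_a`, algebraic form**: a Hopf algebra `B'` with an injective finite bialgebra
map to `A = k[t]` (`t` primitive) is isomorphic to `A`. -/
theorem nonempty_bialgEquiv_of_injective_of_finite {t : A} (ht : IsPrim (k := k) t)
    (hbij : Function.Bijective (Polynomial.aeval (R := k) t)) (ψ : B' →ₐc[k] A)
    (hψ : Function.Injective ψ) (hfin : ((ψ : B' →ₐ[k] A) : B' →+* A).Finite) :
    Nonempty (B' ≃ₐc[k] A) := by
  obtain ⟨P, hP, hBP⟩ := exists_prim_of_isHopfSub ht hbij (isHopfSub_range ψ)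
  have hP0 : P ≠ 0 := by
    rintro rfl
    have hbot : (ψ : B' →ₐ[k] A).range = ⊥ := by
      rw [hBP]
      apply le_antisymm
      · exact Algebra.adjoin_le (by rintro _ rfl; exact Subalgebra.zero_mem _)
      · exact bot_le
    -- `ψ = η ∘ ε`
    have h1 : ∀ b : B', ψ b = algebraMap k A (Coalgebra.counit (R := k) b) := by
      intro b
      have hb : ψ b ∈ (⊥ : Subalgebra k A) := hbot ▸ (⟨b, rfl⟩ : ψ b ∈ (ψ : B' →ₐ[k] A).range)
      obtain ⟨c, hc⟩ := Algebra.mem_bot.1 hb
      have h2 : Coalgebra.counit (R := k) (ψ b) = Coalgebra.counit (R := k) b :=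
        CoalgHomClass.counit_comp_apply ψ b
      rw [← hc, Bialgebra.counit_algebraMap] at h2
      rw [← hc, h2]
    have h3 : ((ψ : B' →ₐ[k] A) : B' →+* A) =
        (algebraMap k A).comp ((Bialgebra.counitAlgHom k B' : B' →ₐ[k] k) : B' →+* k) := by
      ext b
      exact h1 b
    rw [h3] at hfin
    have h4 : (algebraMap k A).Finite := RingHom.Finite.of_comp_finite hfin
    have h5 : Module.Finite k A := RingHom.finite_algebraMap.1 h4
    have h6 : IsIntegral k t := Algebra.IsIntegral.isIntegral t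
    obtain ⟨q, hq, hq0⟩ := h6
    have h7 : Polynomial.aeval t q = 0 := hq0
    have h8 : q = 0 := hbij.1 (by rw [h7, map_zero])
    exact hq.ne_zero h8
  have hr : (ψ : B' →ₐ[k] A).range = ((sigma ht hbij hP : A →ₐc[k] A) : A →ₐ[k] A).range := by
    rw [hBP]
    exact (range_sigmaAlg hbij P).symm
  exact bialgEquiv_of_injective_of_range_eq ψ (sigma ht hbij hP) hψ
    (sigmaAlg_injective ht hbij hP hP0) hr

end Main

end Groth.Agent.Lib.helper15.HopfSubPoly
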