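import Mathlib

/-!
# Geometric fibres of finite étale algebras and generators of Galois covers (helper15)

`B` a finite étale `A`-algebra, `Ω` an algebraically closed field with an `A`-algebra structure.

* `evΩ` : `Ω ⊗[A] B →ₐ[Ω] ((B →ₐ[A] Ω) → Ω)`, bijective (`evΩ_bijective`);
* `span_pow_top_pi` : Lagrange interpolation in `X → Ω`;
* `span_pow_eq_top` : if `T ∈ B` separates the geometric points of every fibre and the fibres have at
  most `m` points then `1, T, …, T^(m-1)` span `B`;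
* `prod_dvd_of_roots`, `eq_zero_of_roots` : polynomials over commutative rings with many roots whose
  pairwise differences are units.
-/

set_option autoImplicit false
set_option linter.style.haveILetI false
set_option linter.unusedSectionVars false

universe u

open TensorProduct Polynomial

namespace Groth.Agent.Lib.helper15.GalCover

section fibre

variable {A : Type u} [CommRing A] {B : Type u} [CommRing B] [Algebra A B]
  (Ω : Type u) [Field Ω] [Algebra A Ω]

/-- the `Ω`-algebra map `Ω ⊗ B → Ω` attached to a point -/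
noncomputable def ptLift (ψ : B →ₐ[A] Ω) : Ω ⊗[A] B →ₐ[Ω] Ω :=
  Algebra.TensorProduct.lift (Algebra.ofId Ω Ω) ψ fun _ _ => .all _ _

theorem ptLift_tmul (ψ : B →ₐ[A] Ω) (ω : Ω) (b : B) : ptLift Ω ψ (ω ⊗ₜ b) = ω * ψ b := by
  unfold ptLift
  rw [Algebra.TensorProduct.lift_tmul]
  rfl

/-- evaluation at all points -/
noncomputable def evΩ : Ω ⊗[A] B →ₐ[Ω] ((B →ₐ[A] Ω) → Ω) :=
  AlgHom.pi (fun ψ => ptLift Ω ψ)

theorem evΩ_apply (z : Ω ⊗[A] B) (ψ : B →ₐ[A] Ω) : evΩ Ω z ψ = ptLift Ω ψ z := rfl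

theorem evΩ_tmul (ω : Ω) (b : B) (ψ : B →ₐ[A] Ω) : evΩ Ω (ω ⊗ₜ[A] b) ψ = ω * ψ b := by
  rw [evΩ_apply, ptLift_tmul]

theorem evΩ_map (σ : B →ₐ[A] B) (z : Ω ⊗[A] B) (ψ : B →ₐ[A] Ω) :
    evΩ Ω (Algebra.TensorProduct.map (AlgHom.id Ω Ω) σ z) ψ = evΩ Ω z (ψ.comp σ) := by
  induction z using TensorProduct.induction_on with
  | zero => simp only [map_zero, Pi.zero_apply]
  | tmul ω b =>
    rw [Algebra.TensorProduct.map_tmul, evΩ_tmul, evΩ_tmul]
    rfl
  | add x y hx hy =>
    simp only [map_add, Pi.add_apply, hx, hy]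

variable [IsAlgClosed Ω] [Module.Finite A B] [Algebra.Etale A B]

/-- geometric points of the fibre as primes of the fibre algebra -/
noncomputable def ptEquiv : (B →ₐ[A] Ω) ≃ PrimeSpectrum (Ω ⊗[A] B) :=
  (Algebra.TensorProduct.liftEquivRight A Ω B Ω).trans
    (Algebra.IsFiniteSplit.algHomEquivPrimeSpectrum Ω (Ω ⊗[A] B))

theorem ptEquiv_asIdeal (ψ : B →ₐ[A] Ω) :
    (ptEquiv Ω ψ).asIdeal = RingHom.ker (ptLift Ω ψ) := rfl

instance finite_pts : Finite (B →ₐ[A] Ω) := by
  haveI : Module.Finite Ω (Ω ⊗[A] B) := inferInstance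
  haveI : IsArtinianRing (Ω ⊗[A] B) := isArtinian_of_tower Ω inferInstance
  exact Finite.of_equiv _ (ptEquiv Ω (A := A) (B := B)).symm

theorem equivPi_ptEquiv (z : Ω ⊗[A] B) (ψ : B →ₐ[A] Ω) :
    Algebra.FormallyEtale.equivPiOfIsSepClosed Ω (Ω ⊗[A] B) z (ptEquiv Ω ψ) = evΩ Ω z ψ := by
  let p₀ : PrimeSpectrum Ω := ⟨⊥, Ideal.isPrime_bot⟩
  have h1 : PrimeSpectrum.comap (ptLift Ω ψ).toRingHom p₀ = ptEquiv Ω ψ := by
    apply PrimeSpectrum.ext
    rw [ptEquiv_asIdeal]
    rfl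
  have h2 := Algebra.FormallyEtale.equivPiOfIsSepClosed_comap (K := Ω) (ptLift Ω ψ) z p₀
  rw [Algebra.FormallyEtale.equivPiOfIsSepClosed_self_apply] at h2
  rw [evΩ_apply, ← h2]
  congr 1

theorem evΩ_bijective : Function.Bijective (evΩ Ω (A := A) (B := B)) := by
  constructor
  · intro z z' h
    apply (Algebra.FormallyEtale.equivPiOfIsSepClosed Ω (Ω ⊗[A] B)).injective
    funext q
    obtain ⟨ψ, rfl⟩ := (ptEquiv Ω (A := A) (B := B)).surjective q
    rw [equivPi_ptEquiv, equivPi_ptEquiv, h]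
  · intro f
    refine ⟨(Algebra.FormallyEtale.equivPiOfIsSepClosed Ω (Ω ⊗[A] B)).symm
      (fun q => f ((ptEquiv Ω).symm q)), ?_⟩
    funext ψ
    rw [← equivPi_ptEquiv, AlgEquiv.apply_symm_apply, Equiv.symm_apply_apply]

end fibre

section lagrange

/-- Lagrange interpolation: powers of an injective function span the function algebra -/
theorem span_pow_top_pi {Y : Type*} [Fintype Y] {Ω : Type*} [Field Ω] (f : Y → Ω)
    (hf : Function.Injective f) (m : ℕ) (hm : Fintype.card Y ≤ m) :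
    Submodule.span Ω (Set.range fun i : Fin m => f ^ (i : ℕ)) = ⊤ := by
  classical
  rw [eq_top_iff]
  intro g _
  have hδ : ∀ x : Y, (Pi.single x (1 : Ω) : Y → Ω) ∈
      Submodule.span Ω (Set.range fun i : Fin m => f ^ (i : ℕ)) := by
    intro x
    set q : Polynomial Ω := Lagrange.basis Finset.univ f x with hq
    have hqdeg : q.natDegree < m := by
      have h1 : q.degree = ((Finset.univ : Finset Y).card - 1 : ℕ) :=
        Lagrange.degree_basis (hf.injOn) (Finset.mem_univ x)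
      have h2 : q.natDegree = (Finset.univ : Finset Y).card - 1 := natDegree_eq_of_degree_eq_some h1
      rw [h2, Finset.card_univ]
      have : 0 < Fintype.card Y := Fintype.card_pos_iff.mpr ⟨x⟩
      omega
    have heval : aeval f q = (Pi.single x (1 : Ω) : Y → Ω) := by
      funext y
      have h1 : (aeval f q) y = aeval (f y) q := by
        have := Polynomial.aeval_algHom_apply (Pi.evalAlgHom Ω (fun _ : Y => Ω) y) f q
        exact this.symm
      rw [h1, coe_aeval_eq_eval]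
      by_cases hxy : y = x
      · subst hxy
        rw [Pi.single_eq_same, hq, Lagrange.eval_basis_self hf.injOn (Finset.mem_univ y)]
      · rw [Pi.single_eq_of_ne hxy, hq,
          Lagrange.eval_basis_of_ne (Ne.symm hxy) (Finset.mem_univ y)]
    rw [← heval, Polynomial.aeval_eq_sum_range' hqdeg]
    refine Submodule.sum_mem _ fun i hi => Submodule.smul_mem _ _ ?_
    exact Submodule.subset_span ⟨⟨i, Finset.mem_range.mp hi⟩, rfl⟩
  have : g = ∑ x, g x • (Pi.single x (1 : Ω) : Y → Ω) := by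
    funext y
    rw [Finset.sum_apply, Finset.sum_eq_single y]
    · rw [Pi.smul_apply, Pi.single_eq_same, smul_eq_mul, mul_one]
    · intro b _ hb
      rw [Pi.smul_apply, Pi.single_eq_of_ne (Ne.symm hb), smul_zero]
    · intro h
      exact absurd (Finset.mem_univ y) h
  rw [this]
  exact Submodule.sum_mem _ fun x _ => Submodule.smul_mem _ _ (hδ x)

end lagrange

section roots

variable {R : Type*} [CommRing R] {ι : Type*} [DecidableEq ι]

/-- roots with pairwise unit differences give a product of linear factors -/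
theorem prod_dvd_of_roots (c : R[X]) (r : ι → R)
    (hr : ∀ i j, i ≠ j → IsUnit (r i - r j)) (s : Finset ι)
    (hroot : ∀ i ∈ s, c.eval (r i) = 0) : (∏ i ∈ s, (X - C (r i))) ∣ c := by
  induction s using Finset.induction_on with
  | empty => simp
  | insert a s has ih =>
    obtain ⟨q, hq⟩ := ih fun i hi => hroot i (Finset.mem_insert_of_mem hi)
    have h1 : c.eval (r a) = 0 := hroot a (Finset.mem_insert_self a s)
    rw [hq, eval_mul, eval_prod] at h1
    have hu : IsUnit (∏ i ∈ s, eval (r a) (X - C (r i))) := by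
      have : ∀ i ∈ s, IsUnit (eval (r a) (X - C (r i))) := by
        intro i hi
        rw [eval_sub, eval_X, eval_C]
        exact hr a i (fun h => has (h ▸ hi))
      exact (IsUnit.prod_iff).mpr this
    have h2 : q.eval (r a) = 0 := by
      obtain ⟨u, hu'⟩ := hu
      rw [← hu'] at h1
      exact (Units.mul_right_eq_zero u).mp h1
    obtain ⟨q', hq'⟩ := dvd_iff_isRoot.mpr h2
    rw [Finset.prod_insert has, hq, hq']
    exact ⟨q', by ring⟩

theorem eq_zero_of_roots [Fintype ι] [Nontrivial R] (c : R[X]) (r : ι → R)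
    (hr : ∀ i j, i ≠ j → IsUnit (r i - r j)) (hdeg : c.natDegree < Fintype.card ι)
    (hroot : ∀ i, c.eval (r i) = 0) : c = 0 := by
  have hdvd := prod_dvd_of_roots c r hr Finset.univ fun i _ => hroot i
  by_contra h0
  refine (monic_prod_of_monic _ _ fun i _ => monic_X_sub_C (r i)).not_dvd_of_natDegree_lt h0 ?_ hdvd
  rw [natDegree_finsetProd_X_sub_C_eq_card, Finset.card_univ]
  exact hdeg

end roots

section sep

variable {A : Type u} [CommRing A] {B : Type u} [CommRing B] [Algebra A B]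
  [Module.Finite A B] [Algebra.Etale A B]

/-- in a geometric fibre, the powers of an element separating the points span -/
theorem span_tmul_pow_eq_top (Ω : Type u) [Field Ω] [IsAlgClosed Ω] [Algebra A Ω] (T : B) (m : ℕ)
    (hinj : Function.Injective (fun ψ : B →ₐ[A] Ω => ψ T)) (hcard : Nat.card (B →ₐ[A] Ω) ≤ m) :
    Submodule.span Ω (Set.range fun i : Fin m => (1 : Ω) ⊗ₜ[A] (T ^ (i : ℕ))) = ⊤ := by
  classical
  haveI : Fintype (B →ₐ[A] Ω) := Fintype.ofFinite _
  set f : (B →ₐ[A] Ω) → Ω := fun ψ => ψ T with hf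
  have hfT : evΩ Ω ((1 : Ω) ⊗ₜ[A] T) = f := by
    funext ψ
    rw [evΩ_tmul, one_mul]
  have h1 := span_pow_top_pi f hinj m (by rwa [← Nat.card_eq_fintype_card])
  have h2 : (Submodule.span Ω (Set.range fun i : Fin m => (1 : Ω) ⊗ₜ[A] (T ^ (i : ℕ)))).map
      (evΩ Ω (A := A) (B := B)).toLinearMap = ⊤ := by
    rw [Submodule.map_span, ← h1]
    congr 1
    ext g
    constructor
    · rintro ⟨_, ⟨i, rfl⟩, rfl⟩
      refine ⟨i, ?_⟩
      change f ^ (i : ℕ) = evΩ Ω ((1 : Ω) ⊗ₜ[A] (T ^ (i : ℕ)))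
      rw [← hfT, ← map_pow, Algebra.TensorProduct.tmul_pow, one_pow]
    · rintro ⟨i, rfl⟩
      refine ⟨_, ⟨i, rfl⟩, ?_⟩
      change evΩ Ω ((1 : Ω) ⊗ₜ[A] (T ^ (i : ℕ))) = f ^ (i : ℕ)
      rw [← hfT, ← map_pow, Algebra.TensorProduct.tmul_pow, one_pow]
  rw [eq_top_iff]
  intro z _
  have hz : (evΩ Ω (A := A) (B := B)).toLinearMap z ∈ (⊤ : Submodule Ω ((B →ₐ[A] Ω) → Ω)) :=
    Submodule.mem_top
  rw [← h2] at hz
  obtain ⟨z', hz', hzz⟩ := hz
  have : z' = z := (evΩ_bijective Ω).1 hzz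
  rw [← this]
  exact hz'

/-- if `T` separates the geometric points of every fibre and the fibres have at most `m` points
then `1, T, …, T^(m-1)` span `B` -/
theorem span_pow_eq_top (T : B) (m : ℕ)
    (h : ∀ (Ω : Type u) [Field Ω] [IsAlgClosed Ω] [Algebra A Ω],
      Function.Injective (fun ψ : B →ₐ[A] Ω => ψ T) ∧ Nat.card (B →ₐ[A] Ω) ≤ m) :
    Submodule.span A (Set.range fun i : Fin m => T ^ (i : ℕ)) = ⊤ := by
  by_contra hne
  obtain ⟨M', hM', hle⟩ := (eq_top_or_exists_le_coatom _).resolve_left hne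
  haveI : IsSimpleModule A (B ⧸ M') := isSimpleModule_iff_isCoatom.mpr hM'
  obtain ⟨𝔪, h𝔪, ⟨e⟩⟩ := isSimpleModule_iff_quot_maximal.mp ‹IsSimpleModule A (B ⧸ M')›
  haveI := h𝔪
  letI := Ideal.Quotient.field 𝔪
  let Ω := AlgebraicClosure (A ⧸ 𝔪)
  let lam : B →ₗ[A] (A ⧸ 𝔪) := e.toLinearMap ∘ₗ M'.mkQ
  have hlam : Function.Surjective lam := e.surjective.comp (Submodule.mkQ_surjective M')
  let μ : B →ₗ[A] Ω := (Algebra.linearMap (A ⧸ 𝔪) Ω).restrictScalars A ∘ₗ lam
  have hμ : ∀ b, μ b = algebraMap (A ⧸ 𝔪) Ω (lam b) := fun b => rfl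
  have hμT : ∀ i : Fin m, μ (T ^ (i : ℕ)) = 0 := by
    intro i
    have h1 : T ^ (i : ℕ) ∈ M' := hle (Submodule.subset_span ⟨i, rfl⟩)
    have h2 : lam (T ^ (i : ℕ)) = 0 := by
      change e (M'.mkQ (T ^ (i : ℕ))) = 0
      rw [Submodule.mkQ_apply, (Submodule.Quotient.mk_eq_zero M').mpr h1, map_zero]
    rw [hμ, h2, map_zero]
  let μbar : Ω ⊗[A] B →ₗ[Ω] Ω := LinearMap.liftBaseChange Ω μ
  have hμbar : ∀ (ω : Ω) (b : B), μbar (ω ⊗ₜ b) = ω • μ b := fun ω b =>
    LinearMap.liftBaseChange_tmul Ω μ ω b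
  obtain ⟨hinj, hcard⟩ := h Ω
  have hspan := span_tmul_pow_eq_top Ω T m hinj hcard
  have hzero : μbar = 0 := by
    apply LinearMap.ext_on_range hspan
    intro i
    rw [hμbar, hμT, smul_zero, LinearMap.zero_apply]
  obtain ⟨b, hb⟩ := hlam 1
  have h1 : μbar ((1 : Ω) ⊗ₜ b) = 1 := by
    rw [hμbar, hμ, hb, map_one, one_smul]
  rw [hzero, LinearMap.zero_apply] at h1
  exact zero_ne_one h1

end sep

end Groth.Agent.Lib.helper15.GalCover
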