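import Mathlib
import Groth.Prelude.Def_SGA1t
import Groth.Agent.Lib.Helper15.GalCover

/-!
# Principal `ℤ/p`-covers in characteristic `p` are Artin–Schreier (helper15), algebra side
-/

set_option autoImplicit false
set_option linter.style.haveILetI false
set_option linter.unusedSectionVars false

universe u

open TensorProduct Polynomial

namespace Groth.Agent.Lib.helper15.GalCover

section AS

variable {A : Type u} [CommRing A] {B : Type u} [CommRing B] [Algebra A B]
  [Module.Finite A B] [Algebra.Etale A B] (p : ℕ) [Fact p.Prime] [CharP A p]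
  (σ : Multiplicative (ZMod p) → (B →ₐ[A] B)) (h1 : σ 1 = AlgHom.id A B)
  (hmul : ∀ g h, σ (g * h) = (σ h).comp (σ g))
  (htr : ∀ (Ω : Type u) [Field Ω] [IsAlgClosed Ω] [Algebra A Ω] (ψ ψ' : B →ₐ[A] Ω),
    ∃! g, ψ.comp (σ g) = ψ')

/-- the image of `ℤ/p` in `B` -/
noncomputable def cB : ZMod p →+* B := (algebraMap A B).comp (ZMod.castHom (dvd_refl p) A)

include h1 in
theorem s_zero (b : B) : σ (Multiplicative.ofAdd (0 : ZMod p)) b = b := by
  rw [ofAdd_zero, h1]
  rfl

include hmul in
theorem s_add (j k : ZMod p) (b : B) :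
    σ (Multiplicative.ofAdd (j + k)) b =
      σ (Multiplicative.ofAdd k) (σ (Multiplicative.ofAdd j) b) := by
  rw [ofAdd_add, hmul]
  rfl

omit [Module.Finite A B] [Algebra.Etale A B] in
theorem s_cB (g : Multiplicative (ZMod p)) (j : ZMod p) :
    σ g (cB (A := A) (B := B) p j) = cB (A := A) (B := B) p j :=
  (σ g).commutes _

include hmul in
theorem trace_inv (k : ZMod p) (b : B) :
    σ (Multiplicative.ofAdd k) (∑ j : ZMod p, σ (Multiplicative.ofAdd j) b) =
      ∑ j : ZMod p, σ (Multiplicative.ofAdd j) b := by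
  rw [map_sum]
  have : ∀ j : ZMod p, σ (Multiplicative.ofAdd k) (σ (Multiplicative.ofAdd j) b) =
      σ (Multiplicative.ofAdd (j + k)) b := fun j => (s_add p σ hmul j k b).symm
  simp only [this]
  exact Fintype.sum_equiv (Equiv.addRight k) _ _ fun j => rfl

include h1 hmul htr in
/-- the trace `∑ σ_j` hits `1` -/
theorem exists_trace_eq_one : ∃ b : B, ∑ j : ZMod p, σ (Multiplicative.ofAdd j) b = 1 := by
  classical
  by_contra hne
  -- the invariants
  let B₀ : Subalgebra A B :=
    { carrier := {y | ∀ k : ZMod p, σ (Multiplicative.ofAdd k) y = y}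
      mul_mem' := fun {x y} hx hy k => by rw [map_mul, hx k, hy k]
      add_mem' := fun {x y} hx hy k => by rw [map_add, hx k, hy k]
      algebraMap_mem' := fun r k => (σ _).commutes r }
  have hB₀ : ∀ y : B, y ∈ B₀ ↔ ∀ k : ZMod p, σ (Multiplicative.ofAdd k) y = y := fun y => Iff.rfl
  let I : Ideal B₀ :=
    { carrier := {y | ∃ b : B, ∑ j : ZMod p, σ (Multiplicative.ofAdd j) b = (y : B)}
      add_mem' := by
        rintro x y ⟨b, hb⟩ ⟨b', hb'⟩
        refine ⟨b + b', ?_⟩
        simp only [map_add, Finset.sum_add_distrib, hb, hb']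
        rfl
      zero_mem' := ⟨0, by simp⟩
      smul_mem' := by
        rintro c x ⟨b, hb⟩
        refine ⟨(c : B) * b, ?_⟩
        have hc : ∀ j : ZMod p, σ (Multiplicative.ofAdd j) ((c : B) * b) =
            (c : B) * σ (Multiplicative.ofAdd j) b := fun j => by
          rw [map_mul, (hB₀ _).1 c.2 j]
        simp only [hc, ← Finset.mul_sum, hb]
        rfl }
  have hI : I ≠ ⊤ := by
    intro h
    have : (1 : B₀) ∈ I := h ▸ Submodule.mem_top
    obtain ⟨b, hb⟩ := this
    exact hne ⟨b, hb⟩
  obtain ⟨𝔫, h𝔫, hI𝔫⟩ := Ideal.exists_le_maximal I hI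
  haveI := h𝔫
  haveI : Module.Finite B₀ B := Module.Finite.of_restrictScalars_finite A B₀ B
  haveI : Algebra.IsIntegral B₀ B := Algebra.IsIntegral.of_finite B₀ B
  have hker : RingHom.ker (algebraMap B₀ B) ≤ 𝔫 := by
    have : RingHom.ker (algebraMap B₀ B) = ⊥ :=
      (RingHom.injective_iff_ker_eq_bot _).mp Subtype.val_injective
    rw [this]
    exact bot_le
  obtain ⟨𝔫', h𝔫', hcomap⟩ := Ideal.exists_ideal_over_maximal_of_isIntegral (S := B) 𝔫 hker
  haveI := h𝔫'
  letI : Field (B ⧸ 𝔫') := Ideal.Quotient.field 𝔫'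
  let Ω := AlgebraicClosure (B ⧸ 𝔫')
  let x₀r : B →+* Ω := (algebraMap (B ⧸ 𝔫') Ω).comp (Ideal.Quotient.mk 𝔫')
  letI : Algebra A Ω := (x₀r.comp (algebraMap A B)).toAlgebra
  let x₀ : B →ₐ[A] Ω := { x₀r with commutes' := fun r => rfl }
  have hx₀N : ∀ b : B, x₀ (∑ j : ZMod p, σ (Multiplicative.ofAdd j) b) = 0 := by
    intro b
    have hinv : (∑ j : ZMod p, σ (Multiplicative.ofAdd j) b) ∈ B₀ :=
      (hB₀ _).2 fun k => trace_inv p σ hmul k b
    have hmem : (⟨_, hinv⟩ : B₀) ∈ I := ⟨b, rfl⟩
    have h2 : (⟨_, hinv⟩ : B₀) ∈ 𝔫'.comap (algebraMap B₀ B) := hcomap ▸ hI𝔫 hmem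
    have h3 : (∑ j : ZMod p, σ (Multiplicative.ofAdd j) b) ∈ 𝔫' := h2
    change algebraMap (B ⧸ 𝔫') Ω (Ideal.Quotient.mk 𝔫' _) = 0
    rw [Ideal.Quotient.eq_zero_iff_mem.mpr h3, map_zero]
  -- the fibre over `x₀`
  obtain ⟨z, hz⟩ := (evΩ_bijective Ω (A := A) (B := B)).2 (Pi.single x₀ 1)
  have ha : evΩ Ω (∑ j : ZMod p,
      Algebra.TensorProduct.map (AlgHom.id Ω Ω) (σ (Multiplicative.ofAdd j)) z) x₀ = 1 := by
    rw [map_sum, Finset.sum_apply]
    simp only [evΩ_map, hz]
    rw [Finset.sum_eq_single (0 : ZMod p)]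
    · have : x₀.comp (σ (Multiplicative.ofAdd (0 : ZMod p))) = x₀ := by
        ext b
        exact congrArg x₀ (s_zero p σ h1 b)
      rw [this, Pi.single_eq_same]
    · intro j _ hj
      apply Pi.single_eq_of_ne
      intro hcomp
      obtain ⟨g, _, hg⟩ := htr Ω x₀ x₀
      have e1 := hg (Multiplicative.ofAdd j) hcomp
      have e2 := hg (Multiplicative.ofAdd (0 : ZMod p)) (by
        ext b
        exact congrArg x₀ (s_zero p σ h1 b))
      exact hj (Multiplicative.ofAdd.injective (e1.trans e2.symm))
    · intro h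
      exact absurd (Finset.mem_univ _) h
  have hb : ∀ z : Ω ⊗[A] B, evΩ Ω (∑ j : ZMod p,
      Algebra.TensorProduct.map (AlgHom.id Ω Ω) (σ (Multiplicative.ofAdd j)) z) x₀ = 0 := by
    intro z
    induction z using TensorProduct.induction_on with
    | zero => simp
    | tmul ω b =>
      simp only [Algebra.TensorProduct.map_tmul, AlgHom.coe_id, id_eq]
      rw [map_sum, Finset.sum_apply]
      simp only [evΩ_tmul]
      rw [← Finset.mul_sum, ← map_sum, hx₀N, mul_zero]
    | add x y hx hy =>
      simp only [map_add, Finset.sum_add_distrib, Pi.add_apply] at hx hy ⊢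
      rw [hx, hy, add_zero]
  rw [hb z] at ha
  exact zero_ne_one ha

include h1 hmul in
/-- the Artin–Schreier generator -/
theorem exists_generator (b : B) (hb : ∑ j : ZMod p, σ (Multiplicative.ofAdd j) b = 1) :
    ∃ T : B, ∀ j : ZMod p, σ (Multiplicative.ofAdd j) T = T + cB (A := A) (B := B) p j := by
  set T : B := -∑ j : ZMod p, cB (A := A) (B := B) p j * σ (Multiplicative.ofAdd j) b with hT
  have hs1 : σ (Multiplicative.ofAdd (1 : ZMod p)) T = T + 1 := by
    have e1 : σ (Multiplicative.ofAdd (1 : ZMod p)) T =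
        -∑ j : ZMod p, cB (A := A) (B := B) p j * σ (Multiplicative.ofAdd (j + 1)) b := by
      rw [hT, map_neg, map_sum]
      congr 1
      refine Finset.sum_congr rfl fun j _ => ?_
      rw [map_mul, s_cB, s_add p σ hmul]
    have e2 : ∑ j : ZMod p, cB (A := A) (B := B) p j * σ (Multiplicative.ofAdd (j + 1)) b =
        ∑ k : ZMod p, cB (A := A) (B := B) p (k - 1) * σ (Multiplicative.ofAdd k) b := by
      refine Fintype.sum_equiv (Equiv.addRight 1) _ _ fun j => ?_
      change _ = cB (A := A) (B := B) p (j + 1 - 1) * σ (Multiplicative.ofAdd (j + 1)) b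
      rw [add_sub_cancel_right]
    rw [e1, e2, hT]
    have e3 : ∀ k : ZMod p, cB (A := A) (B := B) p (k - 1) * σ (Multiplicative.ofAdd k) b =
        cB (A := A) (B := B) p k * σ (Multiplicative.ofAdd k) b - σ (Multiplicative.ofAdd k) b := by
      intro k
      rw [map_sub, map_one, sub_mul, one_mul]
    simp only [e3, Finset.sum_sub_distrib, hb]
    ring
  have hnat : ∀ n : ℕ, σ (Multiplicative.ofAdd ((n : ℕ) : ZMod p)) T =
      T + cB (A := A) (B := B) p n := by
    intro n
    induction n with
    | zero => rw [Nat.cast_zero, s_zero p σ h1, map_zero, add_zero]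
    | succ n ih =>
      rw [Nat.cast_succ, s_add p σ hmul, ih, map_add, hs1, s_cB, map_add, map_one]
      ring
  refine ⟨T, fun j => ?_⟩
  have := hnat j.val
  rwa [ZMod.natCast_zmod_val] at this

include h1 hmul htr in
theorem artinSchreier_model
    (hsurj : Function.Surjective (PrimeSpectrum.comap (algebraMap A B))) :
    ∃ (a : A) (ε : SGA1t.artinSchreier A p a ≃ₐ[A] B),
      ∀ (j : ZMod p) (x : SGA1t.artinSchreier A p a),
        σ (Multiplicative.ofAdd j) (ε x) = ε (SGA1t.artinSchreierShift A p a j x) := by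
  classical
  obtain ⟨b, hb⟩ := exists_trace_eq_one p σ h1 hmul htr
  obtain ⟨T, hT⟩ := exists_generator p σ h1 hmul b hb
  have hpp : p.Prime := Fact.out
  haveI : Nontrivial A := CharP.nontrivial_of_char_ne_one (R := A) hpp.ne_one
  haveI : Module.Flat A B := inferInstance
  haveI : Module.FaithfullyFlat A B := Module.FaithfullyFlat.of_comap_surjective hsurj
  have hinjAB : Function.Injective (algebraMap A B) := FaithfulSMul.algebraMap_injective A B
  haveI : Nontrivial B := hinjAB.nontrivial
  haveI : CharP B p := charP_of_injective_algebraMap hinjAB p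
  have hcard : Fintype.card (ZMod p) = p := ZMod.card p
  -- units
  have hunitB : ∀ i j : ZMod p, i ≠ j →
      IsUnit ((T + cB (A := A) (B := B) p i) - (T + cB (A := A) (B := B) p j)) := by
    intro i j hij
    have : (T + cB (A := A) (B := B) p i) - (T + cB (A := A) (B := B) p j) =
        cB (A := A) (B := B) p (i - j) := by
      rw [map_sub]; ring
    rw [this]
    exact (IsUnit.mk0 _ (sub_ne_zero.mpr hij)).map _
  -- Step 3: the powers of `T` span
  have hspan : Submodule.span A (Set.range fun i : Fin p => T ^ (i : ℕ)) = ⊤ := by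
    apply span_pow_eq_top T p
    intro Ω _ _ _
    constructor
    · intro ψ ψ' hψ
      obtain ⟨g, hg, _⟩ := htr Ω ψ ψ'
      have e1 : ψ' T = ψ T + ψ (cB (A := A) (B := B) p (Multiplicative.toAdd g)) := by
        rw [← hg, AlgHom.comp_apply]
        have := hT (Multiplicative.toAdd g)
        rw [ofAdd_toAdd] at this
        rw [this, map_add]
      have e2 : ψ (cB (A := A) (B := B) p (Multiplicative.toAdd g)) = 0 := by
        have hψ' : ψ T = ψ' T := hψ
        rw [e1] at hψ'
        exact (left_eq_add.mp hψ')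
      let cΩ : ZMod p →+* Ω := (ψ : B →+* Ω).comp (cB (A := A) (B := B) p)
      have e3 : cΩ (Multiplicative.toAdd g) = 0 := e2
      have e4 : Multiplicative.toAdd g = 0 := (map_eq_zero_iff cΩ cΩ.injective).mp e3
      have e5 : g = 1 := by
        rw [← ofAdd_toAdd g, e4, ofAdd_zero]
      rw [← hg, e5, h1]
      rfl
    · by_cases hne : Nonempty (B →ₐ[A] Ω)
      · obtain ⟨ψ₀⟩ := hne
        have hs : Function.Surjective (fun g : Multiplicative (ZMod p) => ψ₀.comp (σ g)) := by
          intro ψ
          obtain ⟨g, hg, _⟩ := htr Ω ψ₀ ψ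
          exact ⟨g, hg⟩
        have := Nat.card_le_card_of_surjective _ hs
        rwa [Nat.card_eq_fintype_card (α := Multiplicative (ZMod p)), Fintype.card_multiplicative,
          hcard] at this
      · haveI : IsEmpty (B →ₐ[A] Ω) := not_nonempty_iff.mp hne
        rw [Nat.card_of_isEmpty]
        exact Nat.zero_le _
  -- Step 4: independence
  have hindep : ∀ c : A[X], c.natDegree < p → aeval T c = 0 → c = 0 := by
    intro c hc hcT
    apply Polynomial.map_injective _ hinjAB
    rw [Polynomial.map_zero]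
    apply eq_zero_of_roots (c.map (algebraMap A B))
      (fun j : ZMod p => T + cB (A := A) (B := B) p j) hunitB
    · rw [hcard]
      exact lt_of_le_of_lt natDegree_map_le hc
    · intro j
      rw [eval_map_algebraMap, ← hT j, Polynomial.aeval_algHom_apply, hcT, map_zero]
  -- Step 5: `T^p - T ∈ A`
  obtain ⟨coef, hcoef⟩ := (Submodule.mem_span_range_iff_exists_fun A).mp
    (hspan ▸ (Submodule.mem_top : T ^ p - T ∈ (⊤ : Submodule A B)))
  set c : A[X] := ∑ i : Fin p, C (coef i) * X ^ (i : ℕ) with hc
  have hcdeg : c.natDegree < p := by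
    by_cases hc0 : c = 0
    · rw [hc0, natDegree_zero]; exact hpp.pos
    · exact (natDegree_lt_iff_degree_lt hc0).mpr (degree_sum_fin_lt coef)
  have hcT : aeval T c = T ^ p - T := by
    rw [hc, map_sum, ← hcoef]
    refine Finset.sum_congr rfl fun i _ => ?_
    rw [map_mul, aeval_C, map_pow, aeval_X, Algebra.smul_def]
  have hcTj : ∀ j : ZMod p, aeval (T + cB (A := A) (B := B) p j) c = T ^ p - T := by
    intro j
    rw [← hT j, Polynomial.aeval_algHom_apply, hcT, map_sub, map_pow, hT j, add_pow_char,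
      ← map_pow, ZMod.pow_card]
    ring
  have hcomp : c.comp (X + C 1) = c := by
    have hh : c.comp (X + C 1) - c = 0 := by
      apply hindep
      · refine lt_of_le_of_lt (natDegree_sub_le _ _) (max_lt ?_ hcdeg)
        refine lt_of_le_of_lt natDegree_comp_le ?_
        rw [natDegree_X_add_C, mul_one]
        exact hcdeg
      · rw [map_sub, aeval_comp, map_add, aeval_X, aeval_C, map_one, hcT]
        have := hcTj 1
        rw [map_one] at this
        rw [this, sub_self]
    exact sub_eq_zero.mp hh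
  have hevaln : ∀ n : ℕ, c.eval (n : A) = c.eval 0 := by
    intro n
    induction n with
    | zero => rw [Nat.cast_zero]
    | succ n ih =>
      rw [← ih]
      conv_rhs => rw [← hcomp]
      rw [eval_comp, eval_add, eval_X, eval_C, Nat.cast_succ]
  have hunitA : ∀ i j : ZMod p, i ≠ j →
      IsUnit (ZMod.castHom (dvd_refl p) A i - ZMod.castHom (dvd_refl p) A j) := by
    intro i j hij
    rw [← map_sub]
    exact (IsUnit.mk0 _ (sub_ne_zero.mpr hij)).map _
  have hconst : c = C (c.eval 0) := by
    have hd : c - C (c.eval 0) = 0 := by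
      apply eq_zero_of_roots (c - C (c.eval 0))
        (fun j : ZMod p => ZMod.castHom (dvd_refl p) A j) hunitA
      · rw [hcard]
        refine lt_of_le_of_lt (natDegree_sub_le _ _) (max_lt hcdeg ?_)
        rw [natDegree_C]
        exact hpp.pos
      · intro j
        rw [eval_sub, eval_C, ZMod.castHom_apply, ← ZMod.natCast_val, hevaln, sub_self]
    exact sub_eq_zero.mp hd
  set a : A := c.eval 0 with ha
  have hTa : T ^ p - T = algebraMap A B a := by
    rw [← hcT, hconst, aeval_C]
  -- Step 6: the isomorphism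
  set g : A[X] := X ^ p - X - C a with hg
  have hg' : g = X ^ p - (X + C a) := by rw [hg]; ring
  have hdeg1 : (X + C a : A[X]).degree < (p : WithBot ℕ) := by
    refine lt_of_le_of_lt (degree_X_add_C a).le ?_
    exact_mod_cast hpp.one_lt
  have hgmonic : g.Monic := by
    rw [hg']
    exact monic_X_pow_sub hdeg1
  have hgdeg : g.natDegree = p := by
    rw [hg', natDegree_sub_eq_left_of_natDegree_lt, natDegree_X_pow]
    rw [natDegree_X_pow, natDegree_X_add_C]
    exact hpp.one_lt
  let φ : A[X] →ₐ[A] B := aeval T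
  have hφg : φ g = 0 := by
    change aeval T g = 0
    rw [hg, map_sub, map_sub, map_pow, aeval_X, aeval_C, hTa, sub_self]
  have hker : RingHom.ker (φ : A[X] →+* B) = Ideal.span {g} := by
    apply le_antisymm
    · intro q hq
      have hq0 : aeval T q = 0 := hq
      have hr : q %ₘ g = 0 := by
        apply hindep
        · rw [← hgdeg]
          exact natDegree_modByMonic_lt q hgmonic (by
            intro h1'
            rw [h1', natDegree_one] at hgdeg
            exact hpp.ne_zero hgdeg.symm)
        · have := congrArg (aeval T) (modByMonic_add_div q g)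
          rw [map_add, map_mul, hq0] at this
          have hφg' : aeval T g = 0 := hφg
          rw [hφg', zero_mul, add_zero] at this
          exact this
      rw [Ideal.mem_span_singleton]
      exact (modByMonic_eq_zero_iff_dvd hgmonic).mp hr
    · rw [Ideal.span_le, Set.singleton_subset_iff]
      exact hφg
  have hsurjφ : Function.Surjective φ := by
    intro y
    have hy : y ∈ Submodule.span A (Set.range fun i : Fin p => T ^ (i : ℕ)) := hspan ▸ Submodule.mem_top
    induction hy using Submodule.span_induction with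
    | mem x hx =>
      obtain ⟨i, rfl⟩ := hx
      exact ⟨X ^ (i : ℕ), by change aeval T (X ^ (i : ℕ)) = _; rw [map_pow, aeval_X]⟩
    | zero => exact ⟨0, map_zero _⟩
    | add x y _ _ hx hy =>
      obtain ⟨x', rfl⟩ := hx
      obtain ⟨y', rfl⟩ := hy
      exact ⟨x' + y', map_add _ _ _⟩
    | smul r x _ hx =>
      obtain ⟨x', rfl⟩ := hx
      exact ⟨r • x', map_smul _ _ _⟩
  let ε : SGA1t.artinSchreier A p a ≃ₐ[A] B :=
    (Ideal.quotientEquivAlgOfEq A hker.symm).trans (Ideal.quotientKerAlgEquivOfSurjective hsurjφ)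
  have hε : ∀ q : A[X], ε (Ideal.Quotient.mk _ q) = aeval T q := fun q => rfl
  refine ⟨a, ε, fun j x => ?_⟩
  obtain ⟨q, rfl⟩ := Ideal.Quotient.mk_surjective x
  have hshift : SGA1t.artinSchreierShift A p a j (Ideal.Quotient.mk _ q) =
      Ideal.Quotient.mk _ (aeval (X + C ((ZMod.castHom (dvd_refl p) A) j)) q) := rfl
  have e1 : σ (Multiplicative.ofAdd j) (aeval T q) = aeval (T + cB (A := A) (B := B) p j) q := by
    rw [← hT j, Polynomial.aeval_algHom_apply]
  rw [hshift, hε, hε, e1, ← comp_eq_aeval, aeval_comp, map_add, aeval_X, aeval_C]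
  rfl

end AS

end Groth.Agent.Lib.helper15.GalCover
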