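import Mathlib

/-!
# `AdjoinRoot` commutes with localization (helper15, requested by helper24)
-/

set_option autoImplicit false
set_option linter.style.haveILetI false
universe u

namespace Groth.Agent.Lib.helper15.H24

open Polynomial in
/-- If `A = M⁻¹ B` then `A[X]/(P)` is the localization of `B[X]/(P)` at the image of `M`
(no monicity needed; the hypothesis `hP` is kept for signature compatibility). -/
theorem isLocalization_adjoinRoot_map {B A : Type u} [CommRing B] [CommRing A] [Algebra B A]
    (M : Submonoid B) [IsLocalization M A] (P : B[X]) (_hP : P.Monic) :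
    letI := (AdjoinRoot.map (algebraMap B A) P (P.map (algebraMap B A)) dvd_rfl).toAlgebra
    IsLocalization (M.map (AdjoinRoot.of P)) (AdjoinRoot (P.map (algebraMap B A))) := by
  letI := (AdjoinRoot.map (algebraMap B A) P (P.map (algebraMap B A)) dvd_rfl).toAlgebra
  letI : Algebra B[X] A[X] := Polynomial.algebra B A
  haveI : IsLocalization (M.map (C : B →+* B[X])) A[X] := Polynomial.isLocalization M A
  have key := IsLocalization.of_surjective (M := M.map (C : B →+* B[X])) (S := A[X])
    (AdjoinRoot.mk P) AdjoinRoot.mk_surjective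
    (AdjoinRoot.mk (P.map (algebraMap B A))) AdjoinRoot.mk_surjective ?_ ?_
  · have h : (M.map (C : B →+* B[X])).map (AdjoinRoot.mk P) = M.map (AdjoinRoot.of P) := by
      ext x
      simp only [Submonoid.mem_map]
      constructor
      · rintro ⟨_, ⟨b, hb, rfl⟩, rfl⟩
        exact ⟨b, hb, rfl⟩
      · rintro ⟨b, hb, rfl⟩
        exact ⟨C b, ⟨b, hb, rfl⟩, rfl⟩
    rw [← h]
    exact key
  · apply Polynomial.ringHom_ext
    · intro b
      change AdjoinRoot.mk (P.map (algebraMap B A)) (Polynomial.map (algebraMap B A) (C b)) =
        AdjoinRoot.map (algebraMap B A) P (P.map (algebraMap B A)) dvd_rfl (AdjoinRoot.mk P (C b))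
      rw [Polynomial.map_C]
      exact (AdjoinRoot.map_of (algebraMap B A) P (P.map (algebraMap B A)) dvd_rfl b).symm
    · change AdjoinRoot.mk (P.map (algebraMap B A)) (Polynomial.map (algebraMap B A) X) =
        AdjoinRoot.map (algebraMap B A) P (P.map (algebraMap B A)) dvd_rfl (AdjoinRoot.mk P X)
      rw [Polynomial.map_X]
      exact (AdjoinRoot.map_root (algebraMap B A) P (P.map (algebraMap B A)) dvd_rfl).symm
  · have h1 : RingHom.ker (AdjoinRoot.mk (P.map (algebraMap B A))) =
        Ideal.span {P.map (algebraMap B A)} := Ideal.mk_ker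
    have h2 : RingHom.ker (AdjoinRoot.mk P) = Ideal.span {P} := Ideal.mk_ker
    rw [h1, h2, Ideal.map_span, Set.image_singleton]
    rfl

end Groth.Agent.Lib.helper15.H24
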