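import Mathlib

/-!
# Integrals of finite free commutative Hopf algebras via traces (helper15)

For a commutative Hopf algebra `C`, finite free over `k`, and `g : C →ₗ[k] k` put
`hit g c = Σ c₁ g(c₂)` and `tg g x = Tr (hit g ∘ L_x)`.  Then
* `tg_integral`: `Σ x₁ tg g (x₂) = tg g x • 1` (each `tg g` is a left integral), and
* `sum_tg_antipode`: `Σ_i tg (e^i) (S(e_i) c) = ε(c)` for any basis `e` (Larson–Sweedler
  non-degeneracy), proved by cyclicity of the trace.
-/

set_option autoImplicit false
set_option linter.unusedSectionVars false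
universe u v
open TensorProduct

namespace Groth.Agent.Lib.helper15.TraceIntegral

section Hit
variable {k : Type u} [CommRing k] {C : Type v} [CommRing C] [HopfAlgebra k C]

/-- `hit g c = Σ c₁ g(c₂)`. -/
noncomputable def hit (g : C →ₗ[k] k) : C →ₗ[k] C :=
  (TensorProduct.rid k C).toLinearMap ∘ₗ g.lTensor C ∘ₗ Coalgebra.comul

theorem hit_apply (g : C →ₗ[k] k) (y : C) :
    hit g y = TensorProduct.rid k C (g.lTensor C (Coalgebra.comul (R := k) y)) := rfl

theorem aux_assoc (g : C →ₗ[k] k) (w : C ⊗[k] C) (z : C) :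
    (TensorProduct.rid k C).toLinearMap.lTensor C ((g.lTensor C).lTensor C
      (TensorProduct.assoc k C C C (w ⊗ₜ[k] z))) = g z • w := by
  induction w using TensorProduct.induction_on with
  | zero => simp
  | add a b ha hb => rw [add_tmul, map_add, map_add, map_add, ha, hb, smul_add]
  | tmul a b =>
    simp only [TensorProduct.assoc_tmul, LinearMap.lTensor_tmul, LinearEquiv.coe_coe,
      TensorProduct.rid_tmul, TensorProduct.tmul_smul]

/-- `hit g` is a map of left comodules. -/
theorem comul_hit (g : C →ₗ[k] k) (y : C) :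
    Coalgebra.comul (R := k) (hit g y) = (hit g).lTensor C (Coalgebra.comul (R := k) y) := by
  have key : ∀ T : C ⊗[k] C,
      Coalgebra.comul (R := k) (TensorProduct.rid k C (g.lTensor C T)) =
      (TensorProduct.rid k C).toLinearMap.lTensor C ((g.lTensor C).lTensor C
        (TensorProduct.assoc k C C C ((Coalgebra.comul (R := k) (A := C)).rTensor C T))) := by
    intro T
    induction T using TensorProduct.induction_on with
    | zero => simp
    | add a b ha hb => simp only [map_add, ha, hb]
    | tmul a b =>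
      rw [LinearMap.rTensor_tmul, aux_assoc, LinearMap.lTensor_tmul, TensorProduct.rid_tmul,
        map_smul]
  rw [hit_apply, key, Coalgebra.coassoc_apply]
  simp only [hit, LinearMap.lTensor_comp, LinearMap.comp_apply]

end Hit

section Gal
variable (k : Type u) [CommRing k] (C : Type v) [CommRing C] [HopfAlgebra k C]

/-- `x ⊗ y ↦ (x ⊗ 1) Δ(y)`, linear over the left factor. -/
noncomputable def gal : C ⊗[k] C →ₐ[C] C ⊗[k] C :=
  Algebra.TensorProduct.lift (Algebra.TensorProduct.includeLeft) (Bialgebra.comulAlgHom k C)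
    (fun _ _ => Commute.all _ _)

theorem gal_tmul (x y : C) :
    gal k C (x ⊗ₜ[k] y) = (x ⊗ₜ[k] (1 : C)) * Coalgebra.comul (R := k) y := rfl

open WithConv in
theorem gal_antipode_comul (y : C) :
    gal k C (Algebra.TensorProduct.map (HopfAlgebra.antipodeAlgHom k C) (AlgHom.id k C)
      (Coalgebra.comul (R := k) y)) = (1 : C) ⊗ₜ[k] y := by
  let i₁ : WithConv (C →ₐ[k] C ⊗[k] C) := toConv Algebra.TensorProduct.includeLeft
  let i₂ : WithConv (C →ₐ[k] C ⊗[k] C) := toConv Algebra.TensorProduct.includeRight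
  let d : WithConv (C →ₐ[k] C ⊗[k] C) := toConv (Bialgebra.comulAlgHom k C)
  have hd : d = i₁ * i₂ := by
    apply WithConv.ofConv_injective
    ext a
    change _ = (i₁ * i₂) a
    rw [AlgHom.convMul_apply]
    simp [i₁, i₂, d]
  have h2 : i₁⁻¹ * d = i₂ := by rw [hd]; exact inv_mul_cancel_left i₁ i₂
  have h3 : (i₁⁻¹ * d) y = i₂ y := by rw [h2]
  rw [AlgHom.convMul_apply] at h3
  have h4 : ∀ T : C ⊗[k] C,
      gal k C (Algebra.TensorProduct.map (HopfAlgebra.antipodeAlgHom k C) (AlgHom.id k C) T) =
      Algebra.TensorProduct.lift (i₁⁻¹).ofConv d.ofConv (fun _ _ => .all _ _) T := by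
    intro T
    induction T using TensorProduct.induction_on with
    | zero => simp
    | add a b ha hb => simp only [map_add, ha, hb]
    | tmul a b =>
      rw [Algebra.TensorProduct.map_tmul, gal_tmul, Algebra.TensorProduct.lift_tmul]
      rfl
  rw [h4]
  exact h3

theorem gal_surjective : Function.Surjective (gal k C) := by
  intro z
  induction z using TensorProduct.induction_on with
  | zero => exact ⟨0, map_zero _⟩
  | tmul x y =>
    refine ⟨(x ⊗ₜ[k] (1 : C)) * Algebra.TensorProduct.map (HopfAlgebra.antipodeAlgHom k C)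
      (AlgHom.id k C) (Coalgebra.comul (R := k) y), ?_⟩
    rw [map_mul, gal_antipode_comul, gal_tmul, Bialgebra.comul_one,
      Algebra.TensorProduct.one_def, Algebra.TensorProduct.tmul_mul_tmul,
      Algebra.TensorProduct.tmul_mul_tmul, mul_one, one_mul, mul_one, one_mul]
  | add z₁ z₂ h₁ h₂ =>
    obtain ⟨w₁, hw₁⟩ := h₁
    obtain ⟨w₂, hw₂⟩ := h₂
    exact ⟨w₁ + w₂, by rw [map_add, hw₁, hw₂]⟩

variable [Module.Finite k C]

theorem gal_bijective : Function.Bijective (gal k C) :=
  ⟨OrzechProperty.injective_of_surjective_endomorphism (gal k C).toLinearMap (gal_surjective k C),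
    gal_surjective k C⟩

/-- the Galois map as a `C`-linear equivalence. -/
noncomputable def galEquiv : (C ⊗[k] C) ≃ₗ[C] (C ⊗[k] C) :=
  LinearEquiv.ofBijective (gal k C).toLinearMap (gal_bijective k C)

theorem galEquiv_apply (w : C ⊗[k] C) : galEquiv k C w = gal k C w := rfl

end Gal

section Trace
variable (k : Type u) [CommRing k] (C : Type v) [CommRing C] [HopfAlgebra k C]
  [Module.Free k C] [Module.Finite k C]

/-- `b ↦ Tr (φ ∘ L_b)`. -/
noncomputable def trForm (φ : C →ₗ[k] C) : C →ₗ[k] k :=
  LinearMap.trace k C ∘ₗ (LinearMap.llcomp k C C C φ) ∘ₗ LinearMap.mul k C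

theorem trForm_apply (φ : C →ₗ[k] C) (b : C) :
    trForm k C φ b = LinearMap.trace k C (φ ∘ₗ LinearMap.mulLeft k b) := rfl

theorem trace_baseChange_mulLeft (φ : C →ₗ[k] C) (w : C ⊗[k] C) :
    LinearMap.trace C (C ⊗[k] C) (φ.baseChange C ∘ₗ LinearMap.mulLeft C w) =
      TensorProduct.rid k C ((trForm k C φ).lTensor C w) := by
  induction w using TensorProduct.induction_on with
  | zero => simp
  | add a b ha hb =>
    have h0 : LinearMap.mulLeft C (a + b) = LinearMap.mulLeft C a + LinearMap.mulLeft C b := by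
      ext z
      simp [add_mul]
    rw [h0, LinearMap.comp_add, map_add, ha, hb, map_add, map_add]
  | tmul a b =>
    have h1 : φ.baseChange C ∘ₗ LinearMap.mulLeft C (a ⊗ₜ[k] b) =
        a • (φ ∘ₗ LinearMap.mulLeft k b).baseChange C := by
      apply TensorProduct.AlgebraTensorModule.ext
      intro u v
      simp only [LinearMap.comp_apply, LinearMap.mulLeft_apply,
        Algebra.TensorProduct.tmul_mul_tmul, LinearMap.baseChange_tmul, LinearMap.smul_apply,
        TensorProduct.smul_tmul', smul_eq_mul]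
    rw [h1, map_smul, LinearMap.trace_baseChange, LinearMap.lTensor_tmul, TensorProduct.rid_tmul,
      trForm_apply, smul_eq_mul, Algebra.smul_def, mul_comm]

/-- `tg g x = Tr (hit g ∘ L_x)`. -/
noncomputable def tg (g : C →ₗ[k] k) : C →ₗ[k] k := trForm k C (hit g)

theorem tg_apply (g : C →ₗ[k] k) (x : C) :
    tg k C g x = LinearMap.trace k C (hit g ∘ₗ LinearMap.mulLeft k x) := rfl

/-- each `tg g` is a left integral: `Σ x₁ tg g (x₂) = tg g x • 1`. -/
theorem tg_integral (g : C →ₗ[k] k) (x : C) :
    TensorProduct.rid k C ((tg k C g).lTensor C (Coalgebra.comul (R := k) x)) =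
      tg k C g x • (1 : C) := by
  have h1 : (galEquiv k C : C ⊗[k] C →ₗ[C] C ⊗[k] C) ∘ₗ
        ((hit g ∘ₗ LinearMap.mulLeft k x).baseChange C) =
      ((hit g).baseChange C ∘ₗ LinearMap.mulLeft C (Coalgebra.comul (R := k) x)) ∘ₗ
        (galEquiv k C : C ⊗[k] C →ₗ[C] C ⊗[k] C) := by
    apply TensorProduct.AlgebraTensorModule.ext
    intro a b
    simp only [LinearMap.comp_apply, LinearEquiv.coe_coe, galEquiv_apply,
      LinearMap.baseChange_tmul, LinearMap.mulLeft_apply, gal_tmul]
    have e1 : Coalgebra.comul (R := k) x * (a ⊗ₜ[k] (1 : C) * Coalgebra.comul (R := k) b) =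
        a • Coalgebra.comul (R := k) (x * b) := by
      rw [Bialgebra.comul_mul, Algebra.smul_def]
      change _ = a ⊗ₜ[k] (1 : C) * _
      ring
    rw [e1, map_smul, comul_hit, Algebra.smul_def]
    rfl
  have hconj : (galEquiv k C).conj ((hit g ∘ₗ LinearMap.mulLeft k x).baseChange C) =
      (hit g).baseChange C ∘ₗ LinearMap.mulLeft C (Coalgebra.comul (R := k) x) := by
    rw [LinearEquiv.conj_apply, h1, LinearMap.comp_assoc, LinearEquiv.comp_coe,
      LinearEquiv.symm_trans_self, LinearEquiv.refl_toLinearMap, LinearMap.comp_id]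
  change TensorProduct.rid k C ((trForm k C (hit g)).lTensor C (Coalgebra.comul (R := k) x)) = _
  rw [← trace_baseChange_mulLeft, ← hconj, LinearMap.trace_conj', LinearMap.trace_baseChange,
    Algebra.algebraMap_eq_smul_one]
  rfl

end Trace

section Nondeg
variable {k : Type u} [CommRing k] {C : Type v} [CommRing C] [HopfAlgebra k C]
  {ι : Type*} [Fintype ι] [DecidableEq ι] (e : Module.Basis ι k C)

/-- `w ↦ (id ⊗ e^i) w`. -/
noncomputable def slice (i : ι) : C ⊗[k] C →ₗ[k] C :=
  (TensorProduct.rid k C).toLinearMap ∘ₗ (e.coord i).lTensor C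

theorem slice_tmul (i : ι) (a b : C) : slice e i (a ⊗ₜ[k] b) = e.repr b i • a := by
  simp [slice]

theorem repr_tensorProduct (w : C ⊗[k] C) (j i : ι) :
    (e.tensorProduct e).repr w (j, i) = e.repr (slice e i w) j := by
  induction w using TensorProduct.induction_on with
  | zero => simp
  | add a b ha hb => simp only [map_add, Finsupp.add_apply, ha, hb]
  | tmul a b =>
    rw [Module.Basis.tensorProduct_repr_tmul_apply, slice_tmul, map_smul, Finsupp.smul_apply]

theorem trace_tensor_eq_sum (G : C ⊗[k] C →ₗ[k] C ⊗[k] C) :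
    LinearMap.trace k (C ⊗[k] C) G =
      ∑ i, LinearMap.trace k C (slice e i ∘ₗ G ∘ₗ (TensorProduct.mk k C C).flip (e i)) := by
  rw [LinearMap.trace_eq_matrix_trace k (e.tensorProduct e)]
  simp only [Matrix.trace, Matrix.diag_apply, LinearMap.toMatrix_apply]
  rw [Fintype.sum_prod_type, Finset.sum_comm]
  refine Finset.sum_congr rfl fun i _ => ?_
  rw [LinearMap.trace_eq_matrix_trace k e]
  simp only [Matrix.trace, Matrix.diag_apply, LinearMap.toMatrix_apply]
  refine Finset.sum_congr rfl fun j _ => ?_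
  rw [Module.Basis.tensorProduct_apply, repr_tensorProduct]
  rfl

/-- Larson–Sweedler non-degeneracy in trace form. -/
theorem sum_tg_antipode (c : C) :
    haveI : Module.Free k C := .of_basis e
    haveI : Module.Finite k C := .of_basis e
    ∑ i, tg k C (e.coord i) (HopfAlgebra.antipode k (e i) * c) = Coalgebra.counit (R := k) c := by
  have : Module.Free k C := .of_basis e
  have : Module.Finite k C := .of_basis e
  let F : C ⊗[k] C →ₗ[k] C :=
    LinearMap.mulLeft k c ∘ₗ LinearMap.mul' k C ∘ₗ (HopfAlgebra.antipode k (A := C)).lTensor C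
  let G : C ⊗[k] C →ₗ[k] C ⊗[k] C := (Coalgebra.comul (R := k) (A := C)) ∘ₗ F
  have h1 : LinearMap.trace k _ G = Coalgebra.counit (R := k) c := by
    have h2 : F ∘ₗ (Coalgebra.comul (R := k) (A := C)) =
        (Coalgebra.counit (R := k) (A := C)).smulRight c := by
      ext y
      simp only [F, LinearMap.comp_apply, LinearMap.mulLeft_apply, LinearMap.smulRight_apply]
      rw [HopfAlgebra.mul_antipode_lTensor_comul_apply, Algebra.smul_def, mul_comm]
    rw [show G = (Coalgebra.comul (R := k) (A := C)) ∘ₗ F from rfl, LinearMap.trace_comp_comm', h2,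
      LinearMap.trace_smulRight]
  rw [← h1, trace_tensor_eq_sum e G]
  refine Finset.sum_congr rfl fun i _ => ?_
  rw [tg_apply]
  congr 1
  ext y
  simp only [G, F, slice, hit, LinearMap.comp_apply, LinearMap.flip_apply, TensorProduct.mk_apply,
    LinearMap.lTensor_tmul, LinearMap.mul'_apply, LinearMap.mulLeft_apply, LinearEquiv.coe_coe]
  have h3 : HopfAlgebra.antipode k (e i) * c * y = c * (y * HopfAlgebra.antipode k (e i)) := by
    ring
  rw [h3]

end Nondeg

end Groth.Agent.Lib.helper15.TraceIntegral
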