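import Mathlib

/-!
# Descent of vectors along a finite equalizer diagram of algebras over a field (helper15)

`K` a field which is the equalizer of a finite system of `K`-algebras `Kv i ⇉ Ke k`.  Then for every
`K`-vector space `M`, `M` is the equalizer of `Kv i ⊗ M ⇉ Ke k ⊗ M`:

* `eq_zero_of_forall_tmul_eq_zero` (joint injectivity);
* `exists_of_compatible` (descent of compatible families).
-/

set_option autoImplicit false
universe u
open TensorProduct

namespace Groth.Agent.Lib.helper15.EqDescent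

section Repr

variable {K : Type u} [Field K] {S T : Type u} [CommRing S] [Algebra K S] [CommRing T] [Algebra K T]
  {M : Type u} [AddCommGroup M] [Module K M]

/-- coordinates of `(ρ ⊗ id) y`. -/
lemma repr_rTensor {J : Type*} (b : Module.Basis J K M) (ρ : S →ₐ[K] T) (y : S ⊗[K] M) (j : J) :
    (Algebra.TensorProduct.basis T b).repr (ρ.toLinearMap.rTensor M y) j =
      ρ ((Algebra.TensorProduct.basis S b).repr y j) := by
  induction y with
  | zero => simp
  | add x y hx hy => simp only [map_add, Finsupp.add_apply, hx, hy]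
  | tmul c v =>
    rw [LinearMap.rTensor_tmul, Algebra.TensorProduct.basis_repr_tmul,
      Algebra.TensorProduct.basis_repr_tmul]
    simp

lemma repr_one_tmul {J : Type*} (b : Module.Basis J K M) (m : M) (j : J) :
    (Algebra.TensorProduct.basis S b).repr ((1 : S) ⊗ₜ[K] m) j = algebraMap K S (b.repr m j) := by
  rw [Algebra.TensorProduct.basis_repr_tmul]
  simp

end Repr

section Main

variable {K : Type u} [Field K] {ιv ιe : Type u} [Finite ιv]
  {Kv : ιv → Type u} [∀ i, CommRing (Kv i)] [∀ i, Algebra K (Kv i)]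
  {Ke : ιe → Type u} [∀ k, CommRing (Ke k)] [∀ k, Algebra K (Ke k)]
  {l r : ιe → ιv} {ρl : ∀ k, Kv (l k) →ₐ[K] Ke k} {ρr : ∀ k, Kv (r k) →ₐ[K] Ke k}
  (hlim : ∀ x : (∀ i, Kv i), (∀ k, ρl k (x (l k)) = ρr k (x (r k))) →
      ∃! a : K, ∀ i, algebraMap K (Kv i) a = x i)
  {M : Type u} [AddCommGroup M] [Module K M]

include hlim in
omit [Finite ιv] in
lemma eq_zero_of_forall_algebraMap_eq_zero (c : K) (hc : ∀ i, algebraMap K (Kv i) c = 0) :
    c = 0 := by
  obtain ⟨a, -, ha⟩ := hlim (fun _ => 0) (fun k => by simp)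
  rw [ha c hc, ha 0 (fun i => map_zero _)]

include hlim in
omit [Finite ιv] in
/-- joint injectivity of `M → Kv i ⊗ M`. -/
theorem eq_zero_of_forall_tmul_eq_zero (m : M) (hm : ∀ i, (1 : Kv i) ⊗ₜ[K] m = 0) : m = 0 := by
  classical
  let b := Module.Basis.ofVectorSpace K M
  apply b.repr.injective
  ext j
  rw [map_zero, Finsupp.zero_apply]
  apply eq_zero_of_forall_algebraMap_eq_zero hlim
  intro i
  rw [← repr_one_tmul (S := Kv i) b m j, hm i, map_zero, Finsupp.zero_apply]

include hlim in
omit [Finite ιv] in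
theorem eq_of_forall_tmul_eq (m m' : M) (hm : ∀ i, (1 : Kv i) ⊗ₜ[K] m = (1 : Kv i) ⊗ₜ[K] m') :
    m = m' := by
  rw [← sub_eq_zero]
  apply eq_zero_of_forall_tmul_eq_zero hlim
  intro i
  rw [TensorProduct.tmul_sub, hm i, sub_self]

include hlim in
/-- descent of compatible families. -/
theorem exists_of_compatible (y : ∀ i, Kv i ⊗[K] M)
    (hy : ∀ k, (ρl k).toLinearMap.rTensor M (y (l k)) = (ρr k).toLinearMap.rTensor M (y (r k))) :
    ∃ m : M, ∀ i, y i = (1 : Kv i) ⊗ₜ[K] m := by
  classical
  haveI := Fintype.ofFinite ιv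
  let b := Module.Basis.ofVectorSpace K M
  have hc : ∀ j, ∃ d : K, ∀ i, algebraMap K (Kv i) d =
      (Algebra.TensorProduct.basis (Kv i) b).repr (y i) j := by
    intro j
    obtain ⟨d, hd, -⟩ := hlim (fun i => (Algebra.TensorProduct.basis (Kv i) b).repr (y i) j)
      (fun k => by
        rw [← repr_rTensor b (ρl k), ← repr_rTensor b (ρr k), hy k])
    exact ⟨d, hd⟩
  choose d hd using hc
  set S : Finset _ := Finset.univ.biUnion
    (fun i : ιv => ((Algebra.TensorProduct.basis (Kv i) b).repr (y i)).support) with hS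
  refine ⟨∑ j ∈ S, d j • b j, fun i => ?_⟩
  rw [TensorProduct.tmul_sum]
  have hsub : ((Algebra.TensorProduct.basis (Kv i) b).repr (y i)).support ⊆ S := by
    intro j hj
    rw [hS, Finset.mem_biUnion]
    exact ⟨i, Finset.mem_univ i, hj⟩
  conv_lhs => rw [← (Algebra.TensorProduct.basis (Kv i) b).linearCombination_repr (y i),
    Finsupp.linearCombination_apply, Finsupp.sum]
  rw [Finset.sum_subset hsub (fun j _ hj => by
    rw [Finsupp.notMem_support_iff.1 hj, zero_smul])]
  refine Finset.sum_congr rfl fun j _ => ?_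
  rw [Algebra.TensorProduct.basis_apply, TensorProduct.tmul_smul, ← hd j i,
    TensorProduct.smul_tmul', algebraMap_smul]
  rw [TensorProduct.smul_tmul']

end Main

end Groth.Agent.Lib.helper15.EqDescent
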