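import Mathlib
import Groth.Agent.Lib.Helper15.EqDescent
import Groth.Agent.Lib.Helper15.Conilp

/-!
# Descent of bialgebra isomorphisms along a finite equalizer diagram (helper15)
-/

set_option autoImplicit false
set_option linter.unusedSectionVars false
universe u
open TensorProduct

namespace Groth.Agent.Lib.helper15.BialgDescent

open Groth.Agent.Lib.helper15.EqDescent Groth.Agent.Lib.helper15.Conilp

section Semi

variable {K : Type u} [Field K] {S T : Type u} [CommRing S] [Algebra K S] [CommRing T] [Algebra K T]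
  {M : Type u} [AddCommGroup M] [Module K M]

lemma rTensor_smul (ρ : S →ₐ[K] T) (c : S) (z : S ⊗[K] M) :
    ρ.toLinearMap.rTensor M (c • z) = ρ c • ρ.toLinearMap.rTensor M z := by
  induction z with
  | zero => simp
  | add x y hx hy => rw [smul_add, map_add, map_add, hx, hy, smul_add]
  | tmul c' a =>
    rw [TensorProduct.smul_tmul', LinearMap.rTensor_tmul, LinearMap.rTensor_tmul,
      TensorProduct.smul_tmul', smul_eq_mul, smul_eq_mul, AlgHom.toLinearMap_apply, map_mul]
    rfl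

variable {N : Type u} [AddCommGroup N] [Module K N]

/-- the base change along `ρ` of an `S`-linear map `S ⊗ M → S ⊗ N`. -/
noncomputable def bc (ρ : S →ₐ[K] T) (f : S ⊗[K] M →ₗ[S] S ⊗[K] N) : T ⊗[K] M →ₗ[T] T ⊗[K] N :=
  LinearMap.liftBaseChange T
    ((ρ.toLinearMap.rTensor N) ∘ₗ (f.restrictScalars K) ∘ₗ (TensorProduct.mk K S M 1))

lemma bc_tmul (ρ : S →ₐ[K] T) (f : S ⊗[K] M →ₗ[S] S ⊗[K] N) (t : T) (m : M) :
    bc ρ f (t ⊗ₜ[K] m) = t • ρ.toLinearMap.rTensor N (f ((1 : S) ⊗ₜ[K] m)) := by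
  rw [bc, LinearMap.liftBaseChange_tmul]
  rfl

lemma bc_rTensor (ρ : S →ₐ[K] T) (f : S ⊗[K] M →ₗ[S] S ⊗[K] N) (y : S ⊗[K] M) :
    bc ρ f (ρ.toLinearMap.rTensor M y) = ρ.toLinearMap.rTensor N (f y) := by
  induction y with
  | zero => simp
  | add x y hx hy => simp only [map_add, hx, hy]
  | tmul c m =>
    rw [LinearMap.rTensor_tmul, bc_tmul]
    have h1 : c ⊗ₜ[K] m = c • ((1 : S) ⊗ₜ[K] m) := by
      rw [TensorProduct.smul_tmul', smul_eq_mul, mul_one]
    rw [h1, map_smul, rTensor_smul]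
    rfl

end Semi

section Jmap

variable {K : Type u} [Field K] (S : Type u) [CommRing S] [Algebra K S]
  {A : Type u} [CommRing A] [Bialgebra K A]

lemma jmap_eq' (t : A ⊗[K] A) :
    jmap (R' := S) (Algebra.TensorProduct.includeRight : A →ₐ[K] S ⊗[K] A) t =
      TensorProduct.AlgebraTensorModule.distribBaseChange K S A A ((1 : S) ⊗ₜ[K] t) := by
  induction t with
  | zero => simp
  | add x y hx hy => rw [map_add, hx, hy, TensorProduct.tmul_add, map_add]
  | tmul x y =>
    rw [jmap_tmul, TensorProduct.AlgebraTensorModule.distribBaseChange_tmul]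
    rfl

lemma one_tmul_eq_of_jmap_eq {t t' : A ⊗[K] A}
    (h : jmap (R' := S) (Algebra.TensorProduct.includeRight : A →ₐ[K] S ⊗[K] A) t =
      jmap (R' := S) (Algebra.TensorProduct.includeRight : A →ₐ[K] S ⊗[K] A) t') :
    (1 : S) ⊗ₜ[K] t = (1 : S) ⊗ₜ[K] t' := by
  rw [jmap_eq', jmap_eq'] at h
  exact (TensorProduct.AlgebraTensorModule.distribBaseChange K S A A).injective h

lemma map_eq_rTensor {T : Type u} [CommRing T] [Algebra K T] (ρ : S →ₐ[K] T) (z : S ⊗[K] A) :
    Algebra.TensorProduct.map ρ (AlgHom.id K A) z = ρ.toLinearMap.rTensor A z := by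
  induction z with
  | zero => simp
  | add x y hx hy => rw [map_add, map_add, hx, hy]
  | tmul c a => rfl

end Jmap

section Main

variable (K : Type u) [Field K] (ιv ιe : Type u) [Finite ιv] [Finite ιe]
    (Kv : ιv → Type u) [∀ i, CommRing (Kv i)] [∀ i, Algebra K (Kv i)]
    (Ke : ιe → Type u) [∀ k, CommRing (Ke k)] [∀ k, Algebra K (Ke k)]
    (l r : ιe → ιv) (ρl : ∀ k, Kv (l k) →ₐ[K] Ke k) (ρr : ∀ k, Kv (r k) →ₐ[K] Ke k)
    (hlim : ∀ x : (∀ i, Kv i), (∀ k, ρl k (x (l k)) = ρr k (x (r k))) →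
      ∃! a : K, ∀ i, algebraMap K (Kv i) a = x i)
    (A B : Type u) [CommRing A] [CommRing B] [Bialgebra K A] [Bialgebra K B]
    (u : ∀ i, (Kv i ⊗[K] B) ≃ₐc[Kv i] (Kv i ⊗[K] A))
    (hu : ∀ (k : ιe) (b : B),
      Algebra.TensorProduct.map (ρl k) (AlgHom.id K A) (u (l k) (1 ⊗ₜ[K] b)) =
        Algebra.TensorProduct.map (ρr k) (AlgHom.id K A) (u (r k) (1 ⊗ₜ[K] b)))

include hlim hu in
theorem exists_hom : ∃ v : B →ₐc[K] A, ∀ (i : ιv) (b : B), u i (1 ⊗ₜ[K] b) = 1 ⊗ₜ[K] v b := by
  have hex : ∀ b : B, ∃ a : A, ∀ i, u i (1 ⊗ₜ[K] b) = (1 : Kv i) ⊗ₜ[K] a := by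
    intro b
    apply exists_of_compatible hlim (fun i => u i (1 ⊗ₜ[K] b))
    intro k
    rw [← map_eq_rTensor, ← map_eq_rTensor]
    exact hu k b
  choose vf hvf using hex
  have hsmul : ∀ (i : ιv) (c : K) (b : B), u i (1 ⊗ₜ[K] (c • b)) = c • u i (1 ⊗ₜ[K] b) := by
    intro i c b
    rw [TensorProduct.tmul_smul, ← algebraMap_smul (Kv i) c ((1 : Kv i) ⊗ₜ[K] b), map_smul,
      algebraMap_smul]
  let vlin : B →ₗ[K] A :=
    { toFun := vf
      map_add' := fun b b' => by
        apply eq_of_forall_tmul_eq hlim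
        intro i
        rw [← hvf, TensorProduct.tmul_add, map_add, hvf, hvf, TensorProduct.tmul_add]
      map_smul' := fun c b => by
        apply eq_of_forall_tmul_eq hlim
        intro i
        rw [RingHom.id_apply, ← hvf, hsmul, hvf, TensorProduct.tmul_smul] }
  have hvlin : ∀ b, vlin b = vf b := fun b => rfl
  let valg : B →ₐ[K] A := AlgHom.ofLinearMap vlin
    (by
      apply eq_of_forall_tmul_eq hlim
      intro i
      rw [hvlin, ← hvf, ← Algebra.TensorProduct.one_def, map_one, Algebra.TensorProduct.one_def])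
    (fun b b' => by
      apply eq_of_forall_tmul_eq hlim
      intro i
      rw [hvlin, hvlin, hvlin, ← hvf]
      have h1 : (1 : Kv i) ⊗ₜ[K] (b * b') = ((1 : Kv i) ⊗ₜ[K] b) * ((1 : Kv i) ⊗ₜ[K] b') := by
        rw [Algebra.TensorProduct.tmul_mul_tmul, mul_one]
      rw [h1, map_mul, hvf, hvf, Algebra.TensorProduct.tmul_mul_tmul, mul_one])
  have hvalg : ∀ b, valg b = vf b := fun b => rfl
  have hcounit : (Bialgebra.counitAlgHom K A).comp valg = Bialgebra.counitAlgHom K B := by
    ext b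
    change Coalgebra.counit (R := K) (valg b) = Coalgebra.counit (R := K) b
    rw [← sub_eq_zero]
    apply eq_zero_of_forall_algebraMap_eq_zero hlim
    intro i
    rw [map_sub, sub_eq_zero,
      ← (isSemiBialg_includeRight (R := K) (Kv i) (H := A)).counit,
      ← (isSemiBialg_includeRight (R := K) (Kv i) (H := B)).counit,
      Algebra.TensorProduct.includeRight_apply, Algebra.TensorProduct.includeRight_apply, hvalg,
      ← hvf]
    exact CoalgHomClass.counit_comp_apply (u i) _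
  have hjm : ∀ (i : ιv) (t : B ⊗[K] B),
      TensorProduct.map ((u i : Kv i ⊗[K] B →ₐc[Kv i] Kv i ⊗[K] A) : _ →ₗ[Kv i] _)
        ((u i : Kv i ⊗[K] B →ₐc[Kv i] Kv i ⊗[K] A) : _ →ₗ[Kv i] _)
        (jmap (R' := Kv i) (Algebra.TensorProduct.includeRight : B →ₐ[K] Kv i ⊗[K] B) t) =
      jmap (R' := Kv i) (Algebra.TensorProduct.includeRight : A →ₐ[K] Kv i ⊗[K] A)
        (TensorProduct.map valg.toLinearMap valg.toLinearMap t) := by
    intro i t
    induction t with
    | zero => simp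
    | add x y hx hy => simp only [map_add, hx, hy]
    | tmul x y =>
      rw [jmap_tmul, TensorProduct.map_tmul, TensorProduct.map_tmul, jmap_tmul]
      change u i ((1 : Kv i) ⊗ₜ[K] x) ⊗ₜ[Kv i] u i ((1 : Kv i) ⊗ₜ[K] y) =
        ((1 : Kv i) ⊗ₜ[K] valg x) ⊗ₜ[Kv i] ((1 : Kv i) ⊗ₜ[K] valg y)
      rw [hvf, hvf, hvalg, hvalg]
  have hcomul : (Algebra.TensorProduct.map valg valg).comp (Bialgebra.comulAlgHom K B) =
      (Bialgebra.comulAlgHom K A).comp valg := by
    ext b
    apply eq_of_forall_tmul_eq hlim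
    intro i
    apply one_tmul_eq_of_jmap_eq (Kv i)
    change jmap (R' := Kv i) (Algebra.TensorProduct.includeRight : A →ₐ[K] Kv i ⊗[K] A)
        (TensorProduct.map valg.toLinearMap valg.toLinearMap (Coalgebra.comul (R := K) b)) =
      jmap (R' := Kv i) (Algebra.TensorProduct.includeRight : A →ₐ[K] Kv i ⊗[K] A)
        (Coalgebra.comul (R := K) (valg b))
    rw [← hjm, ← (isSemiBialg_includeRight (R := K) (Kv i) (H := A)).comul,
      ← (isSemiBialg_includeRight (R := K) (Kv i) (H := B)).comul,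
      Algebra.TensorProduct.includeRight_apply, Algebra.TensorProduct.includeRight_apply, hvalg,
      ← hvf]
    exact CoalgHomClass.map_comp_comul_apply (u i) _
  exact ⟨BialgHom.ofAlgHom valg hcounit hcomul, fun i b => hvf b i⟩

include hlim hu in
theorem existsUnique_equiv :
    ∃! v : B ≃ₐc[K] A, ∀ (i : ιv) (b : B), u i (1 ⊗ₜ[K] b) = 1 ⊗ₜ[K] v b := by
  obtain ⟨v, hv⟩ := exists_hom K ιv ιe Kv Ke l r ρl ρr hlim A B u hu
  have hinj : Function.Injective v := by
    rw [injective_iff_map_eq_zero]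
    intro b hb
    apply eq_zero_of_forall_tmul_eq_zero hlim
    intro i
    have h1 : u i ((1 : Kv i) ⊗ₜ[K] b) = u i 0 := by
      rw [hv, hb, map_zero, TensorProduct.tmul_zero]
    exact (u i).injective h1
  -- the linear maps underlying `u i` and its inverse
  let f : ∀ i, Kv i ⊗[K] B →ₗ[Kv i] Kv i ⊗[K] A := fun i =>
    ((u i : Kv i ⊗[K] B →ₐc[Kv i] Kv i ⊗[K] A) : Kv i ⊗[K] B →ₐ[Kv i] Kv i ⊗[K] A).toLinearMap
  let g : ∀ i, Kv i ⊗[K] A →ₗ[Kv i] Kv i ⊗[K] B := fun i =>
    (((u i).symm : Kv i ⊗[K] A →ₐc[Kv i] Kv i ⊗[K] B) : Kv i ⊗[K] A →ₐ[Kv i] Kv i ⊗[K] B).toLinearMap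
  have hf : ∀ i z, f i z = u i z := fun i z => rfl
  have hg : ∀ i z, g i z = (u i).symm z := fun i z => rfl
  have hsurj : Function.Surjective v := by
    intro a
    have hcompat : ∀ k, (ρl k).toLinearMap.rTensor B ((u (l k)).symm (1 ⊗ₜ[K] a)) =
        (ρr k).toLinearMap.rTensor B ((u (r k)).symm (1 ⊗ₜ[K] a)) := by
      intro k
      have hUeq : bc (ρl k) (f (l k)) = bc (ρr k) (f (r k)) := by
        apply TensorProduct.AlgebraTensorModule.ext
        intro t b
        rw [bc_tmul, bc_tmul, hf, hf, ← map_eq_rTensor, ← map_eq_rTensor, hu k b]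
      have hleft : ∀ z, bc (ρl k) (g (l k)) (bc (ρl k) (f (l k)) z) = z := by
        intro z
        induction z with
        | zero => simp
        | add x y hx hy => simp only [map_add, hx, hy]
        | tmul t b =>
          rw [bc_tmul, map_smul, bc_rTensor, hf, hg, BialgEquiv.symm_apply_apply,
            LinearMap.rTensor_tmul, AlgHom.toLinearMap_apply, map_one, TensorProduct.smul_tmul',
            smul_eq_mul, mul_one]
      have hUinj : Function.Injective (bc (ρl k) (f (l k))) :=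
        Function.LeftInverse.injective hleft
      apply hUinj
      rw [bc_rTensor, hUeq, bc_rTensor, hf, hf, BialgEquiv.apply_symm_apply,
        BialgEquiv.apply_symm_apply, LinearMap.rTensor_tmul, LinearMap.rTensor_tmul,
        AlgHom.toLinearMap_apply, AlgHom.toLinearMap_apply, map_one, map_one]
    obtain ⟨b, hb⟩ := exists_of_compatible hlim (fun i => (u i).symm (1 ⊗ₜ[K] a)) hcompat
    refine ⟨b, ?_⟩
    apply eq_of_forall_tmul_eq hlim
    intro i
    rw [← hv, ← hb i, BialgEquiv.apply_symm_apply]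
  refine ⟨BialgEquiv.ofBijective v ⟨hinj, hsurj⟩, fun i b => hv i b, ?_⟩
  intro v' hv'
  apply BialgEquiv.ext
  intro b
  apply eq_of_forall_tmul_eq hlim
  intro i
  rw [← hv']
  exact hv i b

end Main

end Groth.Agent.Lib.helper15.BialgDescent
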