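import Mathlib

/-!
# Canonical ideals of one-dimensional local domains, part 1 (helper15)

* `length_hom_eq_add` : `Hom(-, E)` is additive on lengths for an injective module `E`.
* `length_hom_eq_mul` : over a local ring, `ℓ(Hom(T, E)) = ℓ(T) · ℓ(Hom(k, E))` for `T` of finite
  length and `E` injective.
* `injective_fractionField` : the fraction field of a domain is an injective module.
* `injective_quotient_of_hasInjectiveDimensionLT` : if `ω ⊆ K` has injective dimension `≤ 1`
  then `K ⧸ ω` is injective.
-/

set_option autoImplicit false
set_option linter.style.haveILetI false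

universe u v w

namespace Groth.Agent.Lib.helper15.CanDual

open CategoryTheory

section homcount

variable {O : Type u} [CommRing O] (E : Type v) [AddCommGroup E] [Module O E]
  [Small.{v} O] [Module.Injective O E]

/-- `Hom(-, E)` is additive on lengths of short exact sequences when `E` is injective -/
theorem length_hom_eq_add {A : Type*} {B : Type*} {C : Type*} [AddCommGroup A] [Module O A]
    [AddCommGroup B] [Module O B] [AddCommGroup C] [Module O C]
    (f : A →ₗ[O] B) (g : B →ₗ[O] C) (hf : Function.Injective f) (hg : Function.Surjective g)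
    (hfg : Function.Exact f g) :
    Module.length O (B →ₗ[O] E) =
      Module.length O (C →ₗ[O] E) + Module.length O (A →ₗ[O] E) := by
  refine Module.length_eq_add_of_exact (LinearMap.lcomp O E g) (LinearMap.lcomp O E f) ?_ ?_ ?_
  · intro φ ψ h
    ext c
    obtain ⟨b, rfl⟩ := hg c
    exact LinearMap.congr_fun h b
  · intro φ
    obtain ⟨h, hh⟩ := Module.Injective.extension_property O E A B f hf φ
    exact ⟨h, hh⟩
  · intro φ
    constructor
    · intro h
      have h0 : ∀ a : A, φ (f a) = 0 := fun a => LinearMap.congr_fun h a
      have hker : LinearMap.ker g ≤ LinearMap.ker φ := by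
        intro b hb
        obtain ⟨a, rfl⟩ := (hfg b).1 hb
        exact h0 a
      refine ⟨(LinearMap.ker g).liftQ φ hker ∘ₗ (g.quotKerEquivOfSurjective hg).symm.toLinearMap, ?_⟩
      ext b
      simp only [LinearMap.lcomp_apply, LinearMap.coe_comp, LinearEquiv.coe_coe, Function.comp_apply]
      have : (g.quotKerEquivOfSurjective hg).symm (g b) = (LinearMap.ker g).mkQ b := by
        rw [LinearEquiv.symm_apply_eq]
        rfl
      rw [this]
      rfl
    · rintro ⟨ψ, rfl⟩
      ext a
      simp only [LinearMap.lcomp_apply, LinearMap.zero_apply]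
      rw [hfg.apply_apply_eq_zero, map_zero]

variable [IsLocalRing O]

/-- one step of a composition series -/
theorem covBy_length_hom {M : Type*} [AddCommGroup M] [Module O M] {p q : Submodule O M}
    (h : p ⋖ q) :
    Module.length O (↥q →ₗ[O] E) = Module.length O (↥p →ₗ[O] E) +
      Module.length O (IsLocalRing.ResidueField O →ₗ[O] E) := by
  let f : p →ₗ[O] q := Submodule.inclusion h.le
  have key : IsSimpleModule O (q ⧸ LinearMap.range f) := by
    rwa [Submodule.range_inclusion, ← covBy_iff_quot_is_simple h.le]
  obtain ⟨m, hm, ⟨e⟩⟩ := isSimpleModule_iff_quot_maximal.mp key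
  rw [IsLocalRing.eq_maximalIdeal hm] at e
  let g : q →ₗ[O] IsLocalRing.ResidueField O := e.toLinearMap.comp (LinearMap.range f).mkQ
  have h1 : Function.Injective f := Submodule.inclusion_injective _
  have h2 : Function.Surjective g := e.surjective.comp (LinearMap.range f).mkQ_surjective
  have h3 : Function.Exact f g :=
    LinearMap.exact_iff.mpr ((e.ker_comp (LinearMap.range f).mkQ).trans (LinearMap.range f).ker_mkQ)
  rw [length_hom_eq_add E f g h1 h2 h3, add_comm]

/-- over a local ring, `ℓ(Hom(T, E)) = ℓ(T) · ℓ(Hom(k, E))` for `T` of finite length and `E`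
injective -/
theorem length_hom_eq_mul (T : Type*) [AddCommGroup T] [Module O T] (hT : IsFiniteLength O T) :
    Module.length O (T →ₗ[O] E) =
      Module.length O T * Module.length O (IsLocalRing.ResidueField O →ₗ[O] E) := by
  obtain ⟨s, hs_bot, hs_top⟩ := isFiniteLength_iff_exists_compositionSeries.mp hT
  rw [← Module.length_compositionSeries s hs_bot hs_top]
  suffices ∀ k, Module.length O (↥(s k) →ₗ[O] E) =
      k * Module.length O (IsLocalRing.ResidueField O →ₗ[O] E) by
    rw [← Fin.val_last s.length, ← this, ← RelSeries.last, hs_top]
    exact (LinearEquiv.congrLeft E O (Submodule.topEquiv (R := O) (M := T))).symm.length_eq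
  intro k
  induction k using Fin.induction with
  | zero =>
    rw [← RelSeries.head, hs_bot]
    simp only [Fin.val_zero, Nat.cast_zero, zero_mul, Module.length_eq_zero_iff]
    refine ⟨fun a b => ?_⟩
    ext x
    have : x = 0 := Subsingleton.elim _ _
    rw [this, map_zero, map_zero]
  | succ i hi =>
    rw [covBy_length_hom E (s.step i), hi]
    simp [add_one_mul]

end homcount

section inj

variable (O : Type u) [CommRing O] [IsDomain O] (K : Type v) [Field K] [Algebra O K]
  [IsFractionRing O K]

/-- the fraction field of a domain is an injective module -/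
theorem injective_fractionField : Module.Injective O K := by
  apply Module.Baer.injective
  intro I g
  by_cases hI : I = ⊥
  · subst hI
    refine ⟨0, fun x hx => ?_⟩
    have hx0 : x = 0 := by simpa using hx
    subst hx0
    have : (⟨0, hx⟩ : (⊥ : Ideal O)) = 0 := rfl
    rw [this, map_zero, map_zero]
  · obtain ⟨a, haI, ha0⟩ := Submodule.exists_mem_ne_zero_of_ne_bot hI
    have haK : algebraMap O K a ≠ 0 := by
      rw [Ne, ← map_zero (algebraMap O K)]
      exact fun h => ha0 (IsFractionRing.injective O K h)
    refine ⟨LinearMap.toSpanSingleton O K (g ⟨a, haI⟩ / algebraMap O K a), fun x hx => ?_⟩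
    rw [LinearMap.toSpanSingleton_apply]
    have h1 : a • g ⟨x, hx⟩ = x • g ⟨a, haI⟩ := by
      rw [← map_smul, ← map_smul]
      congr 1
      apply Subtype.ext
      change a * x = x * a
      ring
    rw [Algebra.smul_def, Algebra.smul_def] at h1
    rw [Algebra.smul_def]
    field_simp
    rw [h1, mul_comm]

end inj

section quot

variable (O : Type u) [CommRing O] [IsDomain O] (K : Type u) [Field K] [Algebra O K]
  [IsFractionRing O K]

/-- if `ω ⊆ K` has injective dimension at most one then `K ⧸ ω` is an injective module -/
theorem injective_quotient_of_hasInjectiveDimensionLT (ω : Submodule O K)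
    (h : HasInjectiveDimensionLT (ModuleCat.of O ↥ω) 2) : Module.Injective O (K ⧸ ω) := by
  let S : ShortComplex (ModuleCat.{u} O) :=
    ShortComplex.mk (ModuleCat.ofHom ω.subtype) (ModuleCat.ofHom ω.mkQ) (by
      ext m
      change ω.mkQ (ω.subtype m) = 0
      rw [Submodule.mkQ_apply, Submodule.Quotient.mk_eq_zero]
      exact m.2)
  have hS : S.ShortExact := by
    refine ShortComplex.ShortExact.mk' ?_ ?_ ?_
    · rw [ShortComplex.ShortExact.moduleCat_exact_iff_function_exact]
      intro y
      change ω.mkQ y = 0 ↔ y ∈ Set.range ω.subtype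
      rw [Submodule.mkQ_apply, Submodule.Quotient.mk_eq_zero]
      simp
    · exact (ModuleCat.mono_iff_injective _).2 ω.subtype_injective
    · exact (ModuleCat.epi_iff_surjective _).2 (Submodule.mkQ_surjective _)
  haveI : Module.Injective O K := injective_fractionField O K
  haveI : Injective S.X₂ := Module.injective_object_of_injective_module O K
  haveI h3 : HasInjectiveDimensionLT S.X₃ 1 := hS.hasInjectiveDimensionLT_X₃ 1 inferInstance h
  haveI : Injective S.X₃ := inferInstance
  exact Module.injective_module_of_injective_object O (K ⧸ ω)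

end quot

end Groth.Agent.Lib.helper15.CanDual
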