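import Mathlib

/-!
# Relative length `ℓ(P / (P ∩ Q))` of two submodules

A small calculus for relative lengths used for Herbrand quotients of 2-periodic complexes.
-/

set_option autoImplicit false
set_option linter.style.haveILetI false

namespace Groth.Agent.Lib.helper15.RelLen

open Submodule

variable {R : Type*} [Ring R] {M N : Type*} [AddCommGroup M] [Module R M] [AddCommGroup N]
  [Module R N]

/-- relative length `ℓ(P / (P ∩ Q))`. -/
noncomputable def rl (Q P : Submodule R M) : ℕ∞ := Module.length R (↥P ⧸ Q.submoduleOf P)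

theorem submoduleOf_congr {Q Q' P : Submodule R M} (h : Q ⊓ P = Q' ⊓ P) :
    Q.submoduleOf P = Q'.submoduleOf P := by
  ext x
  have h1 : (x : M) ∈ Q ↔ (x : M) ∈ Q ⊓ P := by simp [x.2]
  have h2 : (x : M) ∈ Q' ↔ (x : M) ∈ Q' ⊓ P := by simp [x.2]
  change (x : M) ∈ Q ↔ (x : M) ∈ Q'
  rw [h1, h2, h]

theorem rl_congr {Q Q' P : Submodule R M} (h : Q ⊓ P = Q' ⊓ P) : rl Q P = rl Q' P := by
  unfold rl
  rw [submoduleOf_congr h]

theorem rl_inf (Q P : Submodule R M) : rl (Q ⊓ P) P = rl Q P :=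
  rl_congr (by rw [inf_assoc, inf_idem])

/-- `ℓ(P/(P ∩ φ⁻¹Q')) = ℓ(φP/(φP ∩ Q'))`. -/
theorem rl_map (φ : M →ₗ[R] N) (Q' : Submodule R N) (P : Submodule R M) :
    rl (Q'.comap φ) P = rl Q' (P.map φ) := by
  unfold rl
  let g : ↥P →ₗ[R] (↥(P.map φ) ⧸ Q'.submoduleOf (P.map φ)) :=
    (Q'.submoduleOf (P.map φ)).mkQ ∘ₗ φ.submoduleMap P
  have hg : Function.Surjective g :=
    (Submodule.mkQ_surjective _).comp (φ.submoduleMap_surjective P)
  have hk : LinearMap.ker g = (Q'.comap φ).submoduleOf P := by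
    ext x
    rw [LinearMap.mem_ker]
    change (Q'.submoduleOf (P.map φ)).mkQ (φ.submoduleMap P x) = 0 ↔ _
    rw [Submodule.mkQ_apply, Submodule.Quotient.mk_eq_zero]
    rfl
  exact (((Submodule.quotEquivOfEq _ _ hk).symm.trans
    (g.quotKerEquivOfSurjective hg)).length_eq)

/-- `ℓ((P+Q)/Q) = ℓ(P/(P∩Q))`. -/
theorem rl_sup (Q P : Submodule R M) : rl Q (P ⊔ Q) = rl Q P := by
  unfold rl
  have e := LinearMap.quotientInfEquivSupQuotient P Q
  have h1 : comap P.subtype P ⊓ comap P.subtype Q = Q.submoduleOf P := by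
    ext x
    simp [Submodule.submoduleOf]
  exact ((Submodule.quotEquivOfEq _ _ h1).symm.trans e).length_eq.symm

theorem rl_sup' (Q P : Submodule R M) : rl Q (Q ⊔ P) = rl Q P := by
  rw [sup_comm, rl_sup]

/-- additivity along a chain `Q ≤ P ≤ S`. -/
theorem rl_add {Q P S : Submodule R M} (hQP : Q ≤ P) (hPS : P ≤ S) :
    rl Q S = rl P S + rl Q P := by
  unfold rl
  let f : (↥P ⧸ Q.submoduleOf P) →ₗ[R] (↥S ⧸ Q.submoduleOf S) :=
    Submodule.mapQ _ _ (Submodule.inclusion hPS) (by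
      intro x hx
      exact hx)
  let g : (↥S ⧸ Q.submoduleOf S) →ₗ[R] (↥S ⧸ P.submoduleOf S) :=
    Submodule.mapQ _ _ LinearMap.id (by
      intro x hx
      exact hQP hx)
  have hf : Function.Injective f := by
    rw [← LinearMap.ker_eq_bot, LinearMap.ker_eq_bot']
    intro x hx
    obtain ⟨x, rfl⟩ := Submodule.Quotient.mk_surjective _ x
    change Submodule.Quotient.mk (Submodule.inclusion hPS x) = 0 at hx
    rw [Submodule.Quotient.mk_eq_zero] at hx ⊢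
    exact hx
  have hg : Function.Surjective g := by
    intro y
    obtain ⟨y, rfl⟩ := Submodule.Quotient.mk_surjective _ y
    exact ⟨Submodule.Quotient.mk y, rfl⟩
  have hfg : Function.Exact f g := by
    intro y
    constructor
    · intro hy
      obtain ⟨y, rfl⟩ := Submodule.Quotient.mk_surjective _ y
      change Submodule.Quotient.mk y = 0 at hy
      rw [Submodule.Quotient.mk_eq_zero] at hy
      exact ⟨Submodule.Quotient.mk ⟨y.1, hy⟩, rfl⟩
    · rintro ⟨x, rfl⟩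
      obtain ⟨x, rfl⟩ := Submodule.Quotient.mk_surjective _ x
      change Submodule.Quotient.mk (Submodule.inclusion hPS x) = 0
      rw [Submodule.Quotient.mk_eq_zero]
      exact x.2
  rw [Module.length_eq_add_of_exact f g hf hg hfg, add_comm]

/-- the cross identity `ℓ(φ⁻¹N'/(ker φ + M')) = ℓ((im φ ∩ N')/φ M')`. -/
theorem rl_cross (φ : M →ₗ[R] N) (M' : Submodule R M) (N' : Submodule R N) :
    rl (LinearMap.ker φ ⊔ M') (N'.comap φ) = rl (M'.map φ) (LinearMap.range φ ⊓ N') := by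
  have := rl_map φ (M'.map φ) (N'.comap φ)
  rw [Submodule.comap_map_eq, Submodule.map_comap_eq, sup_comm] at this
  exact this

section half

variable {M₁ N₁ M₂ N₂ M₃ N₃ : Type*} [AddCommGroup M₁] [Module R M₁] [AddCommGroup N₁]
  [Module R N₁] [AddCommGroup M₂] [Module R M₂] [AddCommGroup N₂] [Module R N₂]
  [AddCommGroup M₃] [Module R M₃] [AddCommGroup N₃] [Module R N₃]

/-- Half of the lattice computation for the Herbrand quotient of a short exact sequence of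
2-periodic complexes: the three `H⁰` lengths expressed through `X, Y` and two explicit relative
lengths in the middle term. -/
theorem half (φ₁ : M₁ →ₗ[R] N₁) (ψ₁ : N₁ →ₗ[R] M₁) (φ₂ : M₂ →ₗ[R] N₂) (ψ₂ : N₂ →ₗ[R] M₂)
    (φ₃ : M₃ →ₗ[R] N₃) (ψ₃ : N₃ →ₗ[R] M₃) (h₂ : φ₂ ∘ₗ ψ₂ = 0)
    (f₁ : M₁ →ₗ[R] M₂) (g₁ : N₁ →ₗ[R] N₂) (f₂ : M₂ →ₗ[R] M₃) (g₂ : N₂ →ₗ[R] N₃)
    (cφ₁ : φ₂ ∘ₗ f₁ = g₁ ∘ₗ φ₁) (cψ₁ : ψ₂ ∘ₗ g₁ = f₁ ∘ₗ ψ₁) (cφ₂ : φ₃ ∘ₗ f₂ = g₂ ∘ₗ φ₂)
    (cψ₂ : ψ₃ ∘ₗ g₂ = f₂ ∘ₗ ψ₂) (hf₁ : Function.Injective f₁) (hg₁ : Function.Injective g₁)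
    (hf₂ : Function.Surjective f₂) (hg₂ : Function.Surjective g₂)
    (hM : LinearMap.range f₁ = LinearMap.ker f₂) (hN : LinearMap.range g₁ = LinearMap.ker g₂) :
    ∃ X Y : ℕ∞,
      rl (LinearMap.range ψ₁) (LinearMap.ker φ₁) =
        Y + rl ((LinearMap.range g₁).map ψ₂) (LinearMap.range ψ₂ ⊓ LinearMap.range f₁) ∧
      rl (LinearMap.range ψ₂) (LinearMap.ker φ₂) = X + Y ∧
      rl (LinearMap.range ψ₃) (LinearMap.ker φ₃) =
        rl (LinearMap.ker φ₂ ⊔ LinearMap.range f₁) ((LinearMap.range g₁).comap φ₂) + X := by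
  have hIK : LinearMap.range ψ₂ ≤ LinearMap.ker φ₂ := LinearMap.range_le_ker_iff.mpr h₂
  refine ⟨rl (LinearMap.range ψ₂ ⊔ LinearMap.range f₁) (LinearMap.ker φ₂ ⊔ LinearMap.range f₁),
    rl (LinearMap.range ψ₂ ⊓ LinearMap.range f₁) (LinearMap.ker φ₂ ⊓ LinearMap.range f₁),
    ?_, ?_, ?_⟩
  · -- H⁰ of the sub
    have e1 : (LinearMap.range ψ₁).map f₁ = (LinearMap.range g₁).map ψ₂ := by
      rw [← LinearMap.range_comp, ← LinearMap.range_comp, cψ₁]
    have e2 : (LinearMap.ker φ₁).map f₁ = LinearMap.ker φ₂ ⊓ LinearMap.range f₁ := by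
      ext x
      constructor
      · rintro ⟨y, hy, rfl⟩
        refine ⟨?_, y, rfl⟩
        have := LinearMap.congr_fun cφ₁ y
        simp only [LinearMap.comp_apply] at this
        have hy' : φ₁ y = 0 := hy
        change φ₂ (f₁ y) = 0
        rw [this, hy', map_zero]
      · rintro ⟨hx, y, rfl⟩
        refine ⟨y, ?_, rfl⟩
        have := LinearMap.congr_fun cφ₁ y
        simp only [LinearMap.comp_apply] at this
        have hx' : φ₂ (f₁ y) = 0 := hx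
        change φ₁ y = 0
        rw [this] at hx'
        exact hg₁ (by rw [hx', map_zero])
    have e0 : rl (LinearMap.range ψ₁) (LinearMap.ker φ₁) =
        rl ((LinearMap.range g₁).map ψ₂) (LinearMap.ker φ₂ ⊓ LinearMap.range f₁) := by
      rw [← e1, ← e2, ← rl_map, Submodule.comap_map_eq_of_injective hf₁]
    rw [e0]
    refine rl_add (le_inf (LinearMap.map_le_range) ?_) (inf_le_inf_right _ hIK)
    rw [← e1]
    exact LinearMap.map_le_range
  · -- H⁰ of the middle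
    have s1 : rl (LinearMap.range ψ₂) (LinearMap.ker φ₂) =
        rl (LinearMap.range ψ₂ ⊔ (LinearMap.ker φ₂ ⊓ LinearMap.range f₁)) (LinearMap.ker φ₂) +
        rl (LinearMap.range ψ₂)
          (LinearMap.range ψ₂ ⊔ (LinearMap.ker φ₂ ⊓ LinearMap.range f₁)) :=
      rl_add le_sup_left (sup_le hIK inf_le_left)
    have s2 : rl (LinearMap.range ψ₂)
          (LinearMap.range ψ₂ ⊔ (LinearMap.ker φ₂ ⊓ LinearMap.range f₁)) =
        rl (LinearMap.range ψ₂ ⊓ LinearMap.range f₁)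
          (LinearMap.ker φ₂ ⊓ LinearMap.range f₁) := by
      rw [rl_sup']
      apply rl_congr
      apply le_antisymm
      · exact le_inf (le_inf inf_le_left (inf_le_right.trans inf_le_right)) inf_le_right
      · exact le_inf (inf_le_left.trans inf_le_left) inf_le_right
    have s3 : rl (LinearMap.range ψ₂ ⊔ LinearMap.range f₁)
          (LinearMap.ker φ₂ ⊔ LinearMap.range f₁) =
        rl (LinearMap.range ψ₂ ⊔ (LinearMap.ker φ₂ ⊓ LinearMap.range f₁))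
          (LinearMap.ker φ₂) := by
      have : LinearMap.ker φ₂ ⊔ LinearMap.range f₁ =
          LinearMap.ker φ₂ ⊔ (LinearMap.range ψ₂ ⊔ LinearMap.range f₁) := by
        rw [← sup_assoc, sup_eq_left.mpr hIK]
      rw [this, rl_sup, ← rl_inf, sup_inf_assoc_of_le _ hIK, inf_comm (LinearMap.range f₁)]
    rw [s1, s2, s3]
  · -- H⁰ of the quotient
    have e3 : (LinearMap.ker φ₃).comap f₂ = (LinearMap.range g₁).comap φ₂ := by
      rw [← LinearMap.ker_comp, cφ₂, LinearMap.ker_comp, hN]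
    have e4 : (LinearMap.range ψ₃).comap f₂ = LinearMap.range ψ₂ ⊔ LinearMap.range f₁ := by
      ext x
      rw [Submodule.mem_comap, Submodule.mem_sup]
      constructor
      · rintro ⟨n₃, hn₃⟩
        obtain ⟨n₂, rfl⟩ := hg₂ n₃
        have := LinearMap.congr_fun cψ₂ n₂
        simp only [LinearMap.comp_apply] at this
        refine ⟨ψ₂ n₂, ⟨n₂, rfl⟩, x - ψ₂ n₂, ?_, by abel⟩
        rw [hM, LinearMap.mem_ker, map_sub, ← this, hn₃, sub_self]
      · rintro ⟨y, ⟨n₂, rfl⟩, z, hz, rfl⟩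
        rw [hM, LinearMap.mem_ker] at hz
        have := LinearMap.congr_fun cψ₂ n₂
        simp only [LinearMap.comp_apply] at this
        rw [map_add, hz, add_zero, ← this]
        exact ⟨_, rfl⟩
    have e0 : rl (LinearMap.range ψ₃) (LinearMap.ker φ₃) =
        rl (LinearMap.range ψ₂ ⊔ LinearMap.range f₁) ((LinearMap.range g₁).comap φ₂) := by
      rw [← e3, ← e4, rl_map, Submodule.map_comap_eq_of_surjective hf₂]
    rw [e0]
    refine rl_add (sup_le_sup_right hIK _) (sup_le ?_ ?_)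
    · intro x hx
      rw [Submodule.mem_comap, LinearMap.mem_ker.mp hx]
      exact zero_mem _
    · rintro x ⟨y, rfl⟩
      have := LinearMap.congr_fun cφ₁ y
      simp only [LinearMap.comp_apply] at this
      rw [Submodule.mem_comap, this]
      exact ⟨_, rfl⟩

/-- The arithmetic behind two-out-of-three and additivity. -/
theorem arith (X Y A X' Y' A' a0 a1 b0 b1 c0 c1 : ℕ∞)
    (e1 : a0 = Y + A) (e2 : b0 = X + Y) (e3 : c0 = A' + X)
    (e1' : a1 = Y' + A') (e2' : b1 = X' + Y') (e3' : c1 = A + X')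
    (htwo : ((a0 < ⊤ ∧ a1 < ⊤) ∧ (b0 < ⊤ ∧ b1 < ⊤)) ∨ ((a0 < ⊤ ∧ a1 < ⊤) ∧ (c0 < ⊤ ∧ c1 < ⊤)) ∨
      ((b0 < ⊤ ∧ b1 < ⊤) ∧ (c0 < ⊤ ∧ c1 < ⊤))) :
    (a0 < ⊤ ∧ a1 < ⊤) ∧ (b0 < ⊤ ∧ b1 < ⊤) ∧ (c0 < ⊤ ∧ c1 < ⊤) ∧
      ((b0.toNat : ℤ) - (b1.toNat : ℤ)) =
        ((a0.toNat : ℤ) - (a1.toNat : ℤ)) + ((c0.toNat : ℤ) - (c1.toNat : ℤ)) := by
  subst e1 e2 e3 e1' e2' e3'
  simp only [ENat.add_lt_top] at htwo ⊢
  have hall : X < ⊤ ∧ Y < ⊤ ∧ A < ⊤ ∧ X' < ⊤ ∧ Y' < ⊤ ∧ A' < ⊤ := by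
    rcases htwo with h | h | h <;> tauto
  obtain ⟨hX, hY, hA, hX', hY', hA'⟩ := hall
  lift X to ℕ using hX.ne
  lift Y to ℕ using hY.ne
  lift A to ℕ using hA.ne
  lift X' to ℕ using hX'.ne
  lift Y' to ℕ using hY'.ne
  lift A' to ℕ using hA'.ne
  refine ⟨⟨⟨?_, ?_⟩, ?_, ?_⟩, ⟨⟨?_, ?_⟩, ?_, ?_⟩, ⟨⟨?_, ?_⟩, ?_, ?_⟩, ?_⟩
  all_goals try exact ENat.natCast_lt_top _
  simp only [← Nat.cast_add, ENat.toNat_natCast]
  push_cast
  ring

end half

end Groth.Agent.Lib.helper15.RelLen
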