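import Groth.Agent.Lib.Helper15.RelLen

/-!
# Relative lengths along chains, and the Jordan-type double sum for a nilpotent-like endomorphism
-/

set_option autoImplicit false
set_option linter.style.haveILetI false

namespace Groth.Agent.Lib.helper15.RelLen

open Submodule

variable {R : Type*} [Ring R] {M : Type*} [AddCommGroup M] [Module R M]

theorem rl_of_le {Q P : Submodule R M} (h : P ≤ Q) : rl Q P = 0 := by
  unfold rl
  have : Q.submoduleOf P = ⊤ := Submodule.submoduleOf_eq_top.mpr h
  rw [this]
  exact Module.length_eq_zero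

theorem rl_self (P : Submodule R M) : rl P P = 0 := rl_of_le le_rfl

theorem rl_chain_up (S : ℕ → Submodule R M) (hS : Monotone S) (i : ℕ) :
    rl (S 0) (S i) = ∑ k ∈ Finset.range i, rl (S k) (S (k + 1)) := by
  induction i with
  | zero => simp [rl_self]
  | succ i ih =>
    rw [Finset.sum_range_succ, ← ih]
    exact (rl_add (hS (Nat.zero_le i)) (hS (Nat.le_succ i))).trans (add_comm _ _)

theorem rl_chain_down (T : ℕ → Submodule R M) (hT : Antitone T) (a c : ℕ) :
    rl (T (a + c)) (T a) = ∑ k ∈ Finset.range c, rl (T (a + k + 1)) (T (a + k)) := by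
  induction c with
  | zero => simp [rl_self]
  | succ c ih =>
    rw [Finset.sum_range_succ, ← ih]
    exact rl_add (hT (by omega)) (hT (by omega))

section endo

variable (t : Module.End R M)

theorem ker_pow_mono : Monotone fun i : ℕ => LinearMap.ker (t ^ i) := by
  apply monotone_nat_of_le_succ
  intro i x hx
  have hx' : (t ^ i) x = 0 := hx
  change (t ^ (i + 1)) x = 0
  rw [pow_succ', Module.End.mul_apply, hx', map_zero]

theorem range_pow_anti : Antitone fun i : ℕ => LinearMap.range (t ^ i) := by
  apply antitone_nat_of_succ_le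
  rintro i x ⟨y, rfl⟩
  refine ⟨t y, ?_⟩
  rw [pow_succ, Module.End.mul_apply]

/-- `ℓ(ker tⁱ / (ker tⁱ ∩ im tᶜ))` as a double sum of the "Jordan block multiplicities"
`d_j = ℓ((ker t ∩ im tʲ)/(ker t ∩ im tʲ⁺¹))`. -/
theorem rl_range_pow_ker_pow (i c : ℕ) :
    rl (LinearMap.range (t ^ c)) (LinearMap.ker (t ^ i)) =
      ∑ i' ∈ Finset.range i, ∑ k ∈ Finset.range c,
        rl (LinearMap.ker t ⊓ LinearMap.range (t ^ (i' + k + 1)))
          (LinearMap.ker t ⊓ LinearMap.range (t ^ (i' + k))) := by
  set S : ℕ → Submodule R M := fun i' => LinearMap.ker (t ^ i') ⊔ LinearMap.range (t ^ c) with hS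
  have hSm : Monotone S := fun a b hab => sup_le_sup_right (ker_pow_mono t hab) _
  have hS0 : S 0 = LinearMap.range (t ^ c) := by
    simp only [hS, pow_zero]
    rw [Module.End.one_eq_id, LinearMap.ker_id, bot_sup_eq]
  have h1 : rl (LinearMap.range (t ^ c)) (LinearMap.ker (t ^ i)) = rl (S 0) (S i) := by
    rw [hS0]
    exact (rl_sup _ _).symm
  rw [h1, rl_chain_up S hSm]
  refine Finset.sum_congr rfl fun i' _ => ?_
  -- one step of the chain
  have hk : LinearMap.ker (t ^ (i' + 1)) = (LinearMap.ker t).comap (t ^ i') := by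
    rw [pow_succ', Module.End.mul_eq_comp, LinearMap.ker_comp]
  have hSi : S i' = (LinearMap.range (t ^ (i' + c))).comap (t ^ i') := by
    have : LinearMap.range (t ^ (i' + c)) = (LinearMap.range (t ^ c)).map (t ^ i') := by
      rw [pow_add, Module.End.mul_eq_comp, LinearMap.range_comp]
    rw [this, Submodule.comap_map_eq, sup_comm]
  have hS1 : S (i' + 1) = LinearMap.ker (t ^ (i' + 1)) ⊔ S i' := by
    simp only [hS]
    rw [← sup_assoc, sup_eq_left.mpr (ker_pow_mono t (Nat.le_succ i'))]
  have h2 : rl (S i') (S (i' + 1)) =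
      rl (LinearMap.range (t ^ (i' + c))) (LinearMap.range (t ^ i') ⊓ LinearMap.ker t) := by
    rw [hS1, rl_sup, hSi, rl_map, hk, Submodule.map_comap_eq]
  set T : ℕ → Submodule R M := fun k => LinearMap.ker t ⊓ LinearMap.range (t ^ k) with hT
  have hTa : Antitone T := fun a b hab => inf_le_inf_left _ (range_pow_anti t hab)
  have h3 : rl (LinearMap.range (t ^ (i' + c))) (LinearMap.range (t ^ i') ⊓ LinearMap.ker t) =
      rl (T (i' + c)) (T i') := by
    have e : LinearMap.range (t ^ i') ⊓ LinearMap.ker t = T i' := inf_comm _ _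
    rw [e]
    apply rl_congr
    have hle : LinearMap.range (t ^ (i' + c)) ≤ LinearMap.range (t ^ i') :=
      range_pow_anti t (Nat.le_add_right i' c)
    apply le_antisymm
    · exact le_inf (le_inf (inf_le_right.trans inf_le_left) inf_le_left) inf_le_right
    · exact le_inf (inf_le_left.trans inf_le_right) inf_le_right
  rw [h2, h3, rl_chain_down T hTa]

end endo

end Groth.Agent.Lib.helper15.RelLen
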