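import Groth.Agent.Lib.Helper15.RelLen2
import Groth.Agent.Lib.Helper8.StalkLenAlg

/-!
# Relative lengths: comparison with honest lengths, multiplication of one differential by a scalar
-/

set_option autoImplicit false
set_option linter.style.haveILetI false

namespace Groth.Agent.Lib.helper15.RelLen

open Submodule

section basic

variable {R : Type*} [Ring R] {M : Type*} [AddCommGroup M] [Module R M]

theorem rl_bot (P : Submodule R M) : rl ⊥ P = Module.length R ↥P := by
  unfold rl
  have : (⊥ : Submodule R M).submoduleOf P = ⊥ := by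
    ext x
    change (x : M) ∈ (⊥ : Submodule R M) ↔ x ∈ (⊥ : Submodule R ↥P)
    rw [Submodule.mem_bot, Submodule.mem_bot]
    exact ⟨fun h => Subtype.ext h, fun h => by rw [h]; rfl⟩
  exact (Submodule.quotEquivOfEqBot _ this).length_eq

theorem rl_top (Q : Submodule R M) : rl Q ⊤ = Module.length R (M ⧸ Q) := by
  unfold rl
  refine (Submodule.Quotient.equiv _ _ (Submodule.topEquiv : (⊤ : Submodule R M) ≃ₗ[R] M)
    ?_).length_eq
  ext y
  constructor
  · rintro ⟨z, hz, rfl⟩
    exact hz
  · intro hy
    exact ⟨⟨y, trivial⟩, hy, rfl⟩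

theorem rl_subtype (I : Submodule R M) (Q' P' : Submodule R ↥I) :
    rl Q' P' = rl (Q'.map I.subtype) (P'.map I.subtype) := by
  have := rl_map I.subtype (Q'.map I.subtype) P'
  rwa [Submodule.comap_map_eq_of_injective (Submodule.subtype_injective I)] at this

end basic

section smul

variable {R : Type*} [CommRing R] {M : Type*} [AddCommGroup M] [Module R M]

theorem smul_left_rl (φ ψ : M →ₗ[R] M) (h1 : φ ∘ₗ ψ = 0) (h2 : ψ ∘ₗ φ = 0) (x : R) :
    rl (LinearMap.range ψ) (LinearMap.ker (x • φ)) =
        rl ⊥ (LinearMap.range φ ⊓ LinearMap.ker (x • (LinearMap.id : M →ₗ[R] M))) +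
          rl (LinearMap.range ψ) (LinearMap.ker φ) ∧
      rl (LinearMap.range (x • φ)) (LinearMap.ker ψ) =
        rl (LinearMap.range φ) (LinearMap.ker ψ) +
          rl (LinearMap.range (x • φ)) (LinearMap.range φ) := by
  have hIK : LinearMap.range ψ ≤ LinearMap.ker φ := LinearMap.range_le_ker_iff.mpr h1
  have hIK' : LinearMap.range φ ≤ LinearMap.ker ψ := LinearMap.range_le_ker_iff.mpr h2
  have hker : LinearMap.ker (x • φ) =
      (LinearMap.ker (x • (LinearMap.id : M →ₗ[R] M))).comap φ := by
    ext m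
    simp only [LinearMap.mem_ker, Submodule.mem_comap, LinearMap.smul_apply, LinearMap.id_apply]
  have hrange : LinearMap.range (x • φ) ≤ LinearMap.range φ := by
    rintro y ⟨m, rfl⟩
    exact ⟨x • m, by simp⟩
  constructor
  · have hKle : LinearMap.ker φ ≤ LinearMap.ker (x • φ) := by
      intro m hm
      have hm' : φ m = 0 := hm
      change (x • φ) m = 0
      rw [LinearMap.smul_apply, hm', smul_zero]
    rw [rl_add hIK hKle]
    congr 1
    have : LinearMap.ker φ = (⊥ : Submodule R M).comap φ := by
      rw [Submodule.comap_bot]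
    rw [this, hker, rl_map, Submodule.map_comap_eq]
  · rw [rl_add hrange hIK']

/-- `H⁰` and `H¹` of `(im φ, 0, x)` in terms of relative lengths inside `M`. -/
theorem rl_range_aux (φ : M →ₗ[R] M) (x : R) :
    rl (LinearMap.range (x • (LinearMap.id : ↥(LinearMap.range φ) →ₗ[R] ↥(LinearMap.range φ))))
        (LinearMap.ker (0 : ↥(LinearMap.range φ) →ₗ[R] ↥(LinearMap.range φ))) =
      rl (LinearMap.range (x • φ)) (LinearMap.range φ) ∧
    rl (LinearMap.range (0 : ↥(LinearMap.range φ) →ₗ[R] ↥(LinearMap.range φ)))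
        (LinearMap.ker (x • (LinearMap.id : ↥(LinearMap.range φ) →ₗ[R] ↥(LinearMap.range φ)))) =
      rl ⊥ (LinearMap.range φ ⊓ LinearMap.ker (x • (LinearMap.id : M →ₗ[R] M))) := by
  constructor
  · rw [rl_subtype, LinearMap.ker_zero, Submodule.map_subtype_top]
    congr 1
    ext y
    constructor
    · rintro ⟨z, ⟨w, rfl⟩, rfl⟩
      obtain ⟨m, hm⟩ := w.2
      refine ⟨m, ?_⟩
      simp [hm]
    · rintro ⟨m, rfl⟩
      exact ⟨x • ⟨φ m, m, rfl⟩, ⟨⟨φ m, m, rfl⟩, rfl⟩, by simp⟩
  · rw [rl_subtype, LinearMap.range_zero, Submodule.map_bot]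
    congr 1
    ext y
    constructor
    · rintro ⟨z, hz, rfl⟩
      refine ⟨z.2, ?_⟩
      have hz' : x • z = 0 := hz
      change x • (z : M) = 0
      rw [← Submodule.coe_smul, hz']
      rfl
    · rintro ⟨hy, hxy⟩
      have hxy' : x • y = 0 := hxy
      refine ⟨⟨y, hy⟩, ?_, rfl⟩
      change x • (⟨y, hy⟩ : ↥(LinearMap.range φ)) = 0
      exact Subtype.ext hxy'

end smul

section finiteness

variable {R : Type*} [CommRing R] [IsNoetherianRing R]

omit [IsNoetherianRing R] in
theorem isMaximal_of_supportDim_le_zero {N : Type*} [AddCommGroup N] [Module R N]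
    (h : Module.supportDim R N ≤ 0) (Q : PrimeSpectrum R) (hQ : Q ∈ Module.support R N) :
    Q.asIdeal.IsMaximal := by
  by_contra hmax
  obtain ⟨m, hm, hQm⟩ := Ideal.exists_le_maximal Q.asIdeal Q.2.ne_top
  have hlt : Q < ⟨m, hm.isPrime⟩ :=
    lt_of_le_of_ne hQm (fun h => hmax (by rw [h]; exact hm))
  have : 0 < Module.supportDim R N := by
    simp only [Module.supportDim, Order.krullDim_pos_iff, Subtype.exists, Subtype.mk_lt_mk,
      exists_prop]
    exact ⟨Q, hQ, ⟨m, hm.isPrime⟩, Module.mem_support_mono hQm hQ, hlt⟩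
  exact absurd h (not_le.2 this)

open scoped Pointwise in
/-- If `M/xM` is supported in dimension `≤ 0`, then for every submodule `J` of `M` both
`J/xJ` and `J[x]` have finite length. -/
theorem length_lt_top_of_supportDim_quot {M : Type*} [AddCommGroup M] [Module R M]
    [Module.Finite R M] (x : R) (hx : Module.supportDim R (M ⧸ x • (⊤ : Submodule R M)) ≤ 0)
    (J : Submodule R M) :
    Module.length R (↥J ⧸ LinearMap.range (x • (LinearMap.id : ↥J →ₗ[R] ↥J))) < ⊤ ∧
      Module.length R ↥(LinearMap.ker (x • (LinearMap.id : ↥J →ₗ[R] ↥J))) < ⊤ := by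
  have hmax : ∀ Q ∈ Module.support R M, x ∈ Q.asIdeal → Q.asIdeal.IsMaximal := by
    intro Q hQ hxQ
    apply isMaximal_of_supportDim_le_zero hx Q
    have := Module.support_quotSMulTop (R := R) (M := M) x
    change Module.support R (M ⧸ x • (⊤ : Submodule R M)) = _ at this
    rw [this]
    refine ⟨hQ, ?_⟩
    rw [PrimeSpectrum.mem_zeroLocus, Set.singleton_subset_iff]
    exact hxQ
  have hJM : Module.support R ↥J ⊆ Module.support R M :=
    Module.support_subset_of_injective J.subtype (Submodule.subtype_injective J)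
  constructor
  · rw [lt_top_iff_ne_top, Module.length_ne_top_iff]
    apply Groth.Agent.Lib.helper8.StalkLen.isFiniteLength_of_support_isMaximal
    intro Q hQ
    have hQJ : Q ∈ Module.support R ↥J :=
      Module.support_subset_of_surjective _ (Submodule.mkQ_surjective _) hQ
    refine hmax Q (hJM hQJ) ?_
    apply Module.annihilator_le_of_mem_support hQ
    rw [Module.mem_annihilator]
    intro y
    obtain ⟨y, rfl⟩ := Submodule.Quotient.mk_surjective _ y
    rw [← Submodule.Quotient.mk_smul, Submodule.Quotient.mk_eq_zero]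
    exact ⟨y, rfl⟩
  · rw [lt_top_iff_ne_top, Module.length_ne_top_iff]
    apply Groth.Agent.Lib.helper8.StalkLen.isFiniteLength_of_support_isMaximal
    intro Q hQ
    have hQJ : Q ∈ Module.support R ↥J :=
      Module.support_subset_of_injective _ (Submodule.subtype_injective _) hQ
    refine hmax Q (hJM hQJ) ?_
    apply Module.annihilator_le_of_mem_support hQ
    rw [Module.mem_annihilator]
    intro y
    apply Subtype.ext
    exact y.2

end finiteness

end Groth.Agent.Lib.helper15.RelLen
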