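import Mathlib

/-!
# Lengths and numbers of generators over one-dimensional local domains (helper15)

* `length_coker_comp`: `ℓ(C / gh A) = ℓ(B / h A) + ℓ(C / g B)` for injective `g`.
* `length_quot_smul_eq`: for `f : M → N` injective with cokernel of finite length and `x` regular on
  `N`: `ℓ(M / x M) = ℓ(N / x N)`.
* `exists_finset_card_le_length`: a module of finite length `ℓ` is generated by `≤ ℓ` elements.
* `spanFinrank_le_length_quot`: Nakayama, `μ(M) ≤ ℓ(M / 𝔪 M)`.
* `exists_notMem_of_finset`: over a local ring with infinite residue field, a module is not a finite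
  union of proper submodules containing `𝔪 M`.
-/

set_option autoImplicit false
set_option linter.style.haveILetI false
universe u v w

namespace Groth.Agent.Lib.helper15.TFCurv

open Module

section coker

variable {O : Type u} [CommRing O] {A : Type v} {B : Type w} {C : Type*}
  [AddCommGroup A] [Module O A] [AddCommGroup B] [Module O B] [AddCommGroup C] [Module O C]

theorem length_coker_comp (h : A →ₗ[O] B) (g : B →ₗ[O] C) (hg : Function.Injective g) :
    Module.length O (C ⧸ LinearMap.range (g ∘ₗ h)) =
      Module.length O (B ⧸ LinearMap.range h) + Module.length O (C ⧸ LinearMap.range g) := by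
  have hle : LinearMap.range (g ∘ₗ h) ≤ LinearMap.range g := LinearMap.range_comp_le_range h g
  have hle' : LinearMap.range h ≤ (LinearMap.range (g ∘ₗ h)).comap g := by
    rintro _ ⟨a, rfl⟩
    exact ⟨a, rfl⟩
  let φ : (B ⧸ LinearMap.range h) →ₗ[O] (C ⧸ LinearMap.range (g ∘ₗ h)) :=
    Submodule.mapQ _ _ g hle'
  let ψ : (C ⧸ LinearMap.range (g ∘ₗ h)) →ₗ[O] (C ⧸ LinearMap.range g) := Submodule.factor hle
  refine Module.length_eq_add_of_exact φ ψ ?_ ?_ ?_
  · rw [← LinearMap.ker_eq_bot, LinearMap.ker_eq_bot']
    intro b hb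
    obtain ⟨b, rfl⟩ := Submodule.mkQ_surjective _ b
    have h1 : g b ∈ LinearMap.range (g ∘ₗ h) := by
      have : φ (Submodule.Quotient.mk b) = Submodule.Quotient.mk (g b) := rfl
      rw [Submodule.mkQ_apply, this] at hb
      exact (Submodule.Quotient.mk_eq_zero _).mp hb
    obtain ⟨a, ha⟩ := h1
    have : h a = b := hg ha
    rw [Submodule.mkQ_apply, Submodule.Quotient.mk_eq_zero]
    exact ⟨a, this⟩
  · exact Submodule.factor_surjective hle
  · intro c
    obtain ⟨c, rfl⟩ := Submodule.mkQ_surjective _ c
    constructor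
    · intro hc
      have h1 : c ∈ LinearMap.range g := by
        have : ψ (Submodule.Quotient.mk c) = Submodule.Quotient.mk c := rfl
        rw [Submodule.mkQ_apply, this] at hc
        exact (Submodule.Quotient.mk_eq_zero _).mp hc
      obtain ⟨b, rfl⟩ := h1
      exact ⟨Submodule.Quotient.mk b, rfl⟩
    · rintro ⟨b, hb⟩
      obtain ⟨b, rfl⟩ := Submodule.mkQ_surjective _ b
      rw [← hb]
      have : ψ (φ (Submodule.Quotient.mk b)) = Submodule.Quotient.mk (g b) := rfl
      rw [Submodule.mkQ_apply, this, Submodule.Quotient.mk_eq_zero]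
      exact ⟨b, rfl⟩

/-- `ℓ(M / x M) = ℓ(N / x N)` when `M ⊆ N` has finite colength and `x` is regular on `N` -/
theorem length_quot_smul_eq {M : Type v} {N : Type w} [AddCommGroup M] [Module O M]
    [AddCommGroup N] [Module O N] (f : M →ₗ[O] N) (hf : Function.Injective f) (x : O)
    (hx : Function.Injective (LinearMap.lsmul O N x))
    (hfin : Module.length O (N ⧸ LinearMap.range f) ≠ ⊤) :
    Module.length O (M ⧸ LinearMap.range (LinearMap.lsmul O M x)) =
      Module.length O (N ⧸ LinearMap.range (LinearMap.lsmul O N x)) := by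
  have h1 := length_coker_comp (LinearMap.lsmul O M x) f hf
  have h2 := length_coker_comp f (LinearMap.lsmul O N x) hx
  have h3 : f ∘ₗ LinearMap.lsmul O M x = LinearMap.lsmul O N x ∘ₗ f := by
    ext a
    simp
  rw [h3, h2, add_comm] at h1
  exact (ENat.add_left_injective_of_ne_top hfin h1).symm

end coker

section gens

variable {O : Type u} [CommRing O]

/-- a module of finite length `ℓ` is generated by at most `ℓ` elements -/
theorem exists_finset_card_le_length :
    ∀ (l : ℕ) (Q : Type v) [AddCommGroup Q] [Module O Q], Module.length O Q = l →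
      ∃ s : Finset Q, s.card ≤ l ∧ Submodule.span O (s : Set Q) = ⊤ := by
  intro l
  induction l using Nat.strong_induction_on with
  | _ l ih =>
    intro Q _ _ hQ
    classical
    by_cases hsub : Subsingleton Q
    · refine ⟨∅, Nat.zero_le _, ?_⟩
      exact Subsingleton.elim _ _
    · rw [not_subsingleton_iff_nontrivial] at hsub
      obtain ⟨q, hq⟩ := exists_ne (0 : Q)
      have hfl : IsFiniteLength O Q := by
        rw [← Module.length_ne_top_iff, hQ]
        exact ENat.natCast_ne_top l
      obtain ⟨_, _⟩ := isFiniteLength_iff_isNoetherian_isArtinian.mp hfl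
      have hN : Submodule.span O {q} ≠ ⊥ := by
        rw [Ne, Submodule.span_singleton_eq_bot]
        exact hq
      have hlt := Submodule.length_quotient_lt (Submodule.span O {q}) hN
      rw [hQ] at hlt
      obtain ⟨l', hl'⟩ := ENat.ne_top_iff_exists.mp (ne_top_of_lt hlt)
      rw [← hl'] at hlt
      have hl'l : l' < l := by exact_mod_cast hlt
      obtain ⟨s', hs'c, hs'⟩ := ih l' hl'l (Q ⧸ Submodule.span O {q}) hl'.symm
      let σ : Q ⧸ Submodule.span O {q} → Q := Function.surjInv (Submodule.mkQ_surjective _)
      have hσ : ∀ y, (Submodule.span O {q}).mkQ (σ y) = y :=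
        Function.surjInv_eq (Submodule.mkQ_surjective _)
      refine ⟨insert q (s'.image σ), ?_, ?_⟩
      · calc (insert q (s'.image σ)).card ≤ (s'.image σ).card + 1 := Finset.card_insert_le _ _
          _ ≤ s'.card + 1 := Nat.add_le_add_right Finset.card_image_le 1
          _ ≤ l' + 1 := Nat.add_le_add_right hs'c 1
          _ ≤ l := hl'l
      · have h1 : (Submodule.span O ((s'.image σ : Finset Q) : Set Q)).map
            (Submodule.span O {q}).mkQ = ⊤ := by
          rw [Submodule.map_span, ← hs']
          congr 1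
          ext y
          simp only [Finset.coe_image, Set.mem_image, Finset.mem_coe]
          constructor
          · rintro ⟨_, ⟨z, hz, rfl⟩, rfl⟩
            rw [hσ]
            exact hz
          · intro hy
            exact ⟨σ y, ⟨y, hy, rfl⟩, hσ y⟩
        rw [Submodule.map_mkQ_eq_top] at h1
        rw [Finset.coe_insert, Submodule.span_insert]
        exact h1

/-- Nakayama: the minimal number of generators is at most the length of `M / 𝔪 M` -/
theorem spanFinrank_le_length_quot [IsLocalRing O] (M : Type v) [AddCommGroup M] [Module O M]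
    [Module.Finite O M] :
    ((⊤ : Submodule O M).spanFinrank : ℕ∞) ≤
      Module.length O (M ⧸ (IsLocalRing.maximalIdeal O • (⊤ : Submodule O M))) := by
  classical
  by_cases htop : Module.length O (M ⧸ (IsLocalRing.maximalIdeal O • (⊤ : Submodule O M))) = ⊤
  · rw [htop]
    exact le_top
  obtain ⟨l, hl⟩ := ENat.ne_top_iff_exists.mp htop
  obtain ⟨s, hsc, hs⟩ := exists_finset_card_le_length (O := O) l _ hl.symm
  let σ : M ⧸ (IsLocalRing.maximalIdeal O • (⊤ : Submodule O M)) → M :=
    Function.surjInv (Submodule.mkQ_surjective _)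
  have hσ : ∀ y, (IsLocalRing.maximalIdeal O • (⊤ : Submodule O M)).mkQ (σ y) = y :=
    Function.surjInv_eq (Submodule.mkQ_surjective _)
  have h1 : (Submodule.span O ((s.image σ : Finset M) : Set M)).map
      (IsLocalRing.maximalIdeal O • (⊤ : Submodule O M)).mkQ = ⊤ := by
    rw [Submodule.map_span, ← hs]
    congr 1
    ext y
    simp only [Finset.coe_image, Set.mem_image, Finset.mem_coe]
    constructor
    · rintro ⟨_, ⟨z, hz, rfl⟩, rfl⟩
      rw [hσ]
      exact hz
    · intro hy
      exact ⟨σ y, ⟨y, hy, rfl⟩, hσ y⟩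
  rw [IsLocalRing.map_mkQ_eq_top] at h1
  rw [← hl, ← h1]
  have h2 := Submodule.spanFinrank_span_le_ncard_of_finite (R := O)
    (Finset.finite_toSet (s.image σ))
  rw [Set.ncard_coe_finset] at h2
  exact_mod_cast h2.trans (Finset.card_image_le.trans hsc)

/-- over a local ring with infinite residue field, a module is not the union of finitely many
proper submodules containing `𝔪 V` -/
theorem exists_notMem_of_finset [IsLocalRing O] [Infinite (IsLocalRing.ResidueField O)]
    {V : Type v} [AddCommGroup V] [Module O V] (s : Finset (Submodule O V))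
    (h1 : ∀ N ∈ s, N ≠ ⊤)
    (h2 : ∀ N ∈ s, IsLocalRing.maximalIdeal O • (⊤ : Submodule O V) ≤ N) :
    ∃ v : V, ∀ N ∈ s, v ∉ N := by
  by_contra hcon
  push Not at hcon
  have hcov : ⋃ N ∈ s, ((id N : Submodule O V) : Set V) = Set.univ := by
    ext v
    simp only [Set.mem_iUnion, Set.mem_univ, iff_true]
    obtain ⟨N, hN, hv⟩ := hcon v
    exact ⟨N, hN, hv⟩
  obtain ⟨N, hNs, hfi⟩ := Submodule.exists_finiteIndex_of_cover (p := id) hcov
  have hfi' : N.toAddSubgroup.FiniteIndex := hfi
  have hfin : Finite (V ⧸ N) := AddSubgroup.finite_quotient_of_finiteIndex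
  obtain ⟨v, hv⟩ : ∃ v, v ∉ N := by
    by_contra hall
    push Not at hall
    exact h1 N hNs (eq_top_iff.mpr fun v _ => hall v)
  let φ : O →ₗ[O] V ⧸ N := LinearMap.toSpanSingleton O (V ⧸ N) (N.mkQ v)
  have hle : IsLocalRing.maximalIdeal O ≤ LinearMap.ker φ := by
    intro a ha
    rw [LinearMap.mem_ker]
    change a • N.mkQ v = 0
    rw [← map_smul, Submodule.mkQ_apply, Submodule.Quotient.mk_eq_zero]
    exact h2 N hNs (Submodule.smul_mem_smul ha Submodule.mem_top)
  have hne : LinearMap.ker φ ≠ ⊤ := by
    intro htop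
    have : (1 : O) ∈ LinearMap.ker φ := htop ▸ Submodule.mem_top
    rw [LinearMap.mem_ker] at this
    change (1 : O) • N.mkQ v = 0 at this
    rw [one_smul, Submodule.mkQ_apply, Submodule.Quotient.mk_eq_zero] at this
    exact hv this
  have hker : LinearMap.ker φ = IsLocalRing.maximalIdeal O :=
    ((IsLocalRing.maximalIdeal.isMaximal O).eq_of_le hne hle).symm
  let ψ : (O ⧸ IsLocalRing.maximalIdeal O) →ₗ[O] V ⧸ N :=
    Submodule.liftQ (IsLocalRing.maximalIdeal O) φ hle
  have hψ : Function.Injective ψ := by
    rw [← LinearMap.ker_eq_bot]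
    exact Submodule.ker_liftQ_eq_bot _ _ _ hker.le
  have hinf : Infinite (O ⧸ IsLocalRing.maximalIdeal O) :=
    inferInstanceAs (Infinite (IsLocalRing.ResidueField O))
  have : Infinite (V ⧸ N) := Infinite.of_injective ψ hψ
  exact not_finite (V ⧸ N)

/-- a finitely generated module killed by a nonzerodivisor over a Noetherian ring of dimension
at most one has finite length -/
theorem isFiniteLength_of_smul_eq_zero [IsNoetherianRing O] [Ring.KrullDimLE 1 O]
    (Q : Type v) [AddCommGroup Q] [Module O Q] [Module.Finite O Q] (c : O)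
    (hc : c ∈ nonZeroDivisors O) (h : ∀ q : Q, c • q = 0) : IsFiniteLength O Q := by
  rw [isFiniteLength_iff_isNoetherian_isArtinian]
  refine ⟨inferInstance, ?_⟩
  have hart : IsArtinianRing (O ⧸ Ideal.span {c}) := by
    rw [isArtinianRing_iff_krullDimLE_zero, Ring.KrullDimLE, Order.krullDimLE_iff,
      ← ENat.WithBot.add_le_add_one_right_iff, Nat.cast_zero, zero_add]
    exact (ringKrullDim_quotient_succ_le_of_nonZeroDivisor hc).trans
      (Order.KrullDimLE.krullDim_le)
  have htors : Module.IsTorsionBySet O Q (Ideal.span {c} : Ideal O) := by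
    rw [Module.isTorsionBySet_span_singleton_iff]
    exact h
  letI : Module (O ⧸ Ideal.span {c}) Q := htors.module
  haveI : IsScalarTower O (O ⧸ Ideal.span {c}) Q := htors.isScalarTower
  haveI : Module.Finite (O ⧸ Ideal.span {c}) Q := Module.Finite.of_restrictScalars_finite O _ Q
  exact isArtinian_of_surjective_algebraMap (R := O ⧸ Ideal.span {c})
    (Ideal.Quotient.mk_surjective (I := Ideal.span {c}))

/-- a finitely generated torsion module over a domain is killed by a single nonzero element -/
theorem exists_smul_eq_zero_of_torsion [IsDomain O] (Q : Type v) [AddCommGroup Q] [Module O Q]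
    [Module.Finite O Q] (h : ∀ q : Q, ∃ a : O, a ≠ 0 ∧ a • q = 0) :
    ∃ c : O, c ≠ 0 ∧ ∀ q : Q, c • q = 0 := by
  classical
  obtain ⟨s, hs⟩ := (Module.Finite.fg_top : (⊤ : Submodule O Q).FG)
  choose a ha0 ha using h
  refine ⟨∏ q ∈ s, a q, Finset.prod_ne_zero_iff.mpr fun q _ => ha0 q, fun q => ?_⟩
  have hq : q ∈ Submodule.span O (s : Set Q) := hs ▸ Submodule.mem_top
  induction hq using Submodule.span_induction with
  | mem q0 hq0 =>
    obtain ⟨d, hd⟩ := Finset.dvd_prod_of_mem a hq0
    rw [hd, mul_comm, mul_smul, ha, smul_zero]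
  | zero => exact smul_zero _
  | add x y _ _ hx hy => rw [smul_add, hx, hy, add_zero]
  | smul r x _ hx => rw [smul_comm, hx, smul_zero]

/-- a finitely generated torsion module over a Noetherian domain of dimension at most one has
finite length -/
theorem length_ne_top_of_torsion [IsDomain O] [IsNoetherianRing O] [Ring.KrullDimLE 1 O]
    (Q : Type v) [AddCommGroup Q] [Module O Q] [Module.Finite O Q]
    (h : ∀ q : Q, ∃ a : O, a ≠ 0 ∧ a • q = 0) : Module.length O Q ≠ ⊤ := by
  obtain ⟨c, hc0, hc⟩ := exists_smul_eq_zero_of_torsion Q h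
  rw [Module.length_ne_top_iff]
  exact isFiniteLength_of_smul_eq_zero Q c (mem_nonZeroDivisors_of_ne_zero hc0) hc

end gens

end Groth.Agent.Lib.helper15.TFCurv
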