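import Mathlib
import Groth.Agent.Lib.Helper15.RelLen
import Groth.Agent.Lib.Helper15.RelLen2
import Groth.Agent.Lib.Helper15.RelLen3
import Groth.Agent.Lib.Helper15.TFCurv1
import Groth.Agent.Lib.Helper15.CanDual1

/-!
# Canonical ideals of one-dimensional local domains, part 2 (helper15)

`O` a one-dimensional Noetherian local domain with fraction field `K`, `ω ⊆ K` a nonzero finitely
generated submodule with `K ⧸ ω` injective.

* `rl_div_iK` : `ℓ((ω : I) / ω) = ℓ(Hom(O/I, K/ω))`.
* `length_hom_residueField_eq_one` : `ℓ(Hom(k, K/ω)) = 1` (type one).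
-/

set_option autoImplicit false
set_option linter.style.haveILetI false

universe u

namespace Groth.Agent.Lib.helper15.CanDual

open Groth.Agent.Lib.helper15.RelLen Groth.Agent.Lib.helper15.TFCurv

section basic

variable {O : Type u} [CommRing O] {K : Type u} [Field K] [Algebra O K]

/-- the image of an ideal of `O` in `K` -/
abbrev iK (I : Ideal O) : Submodule O K := Submodule.map (Algebra.linearMap O K) I

theorem mem_div_iK (ω : Submodule O K) (I : Ideal O) (y : K) :
    y ∈ ω / iK I ↔ ∀ r ∈ I, r • y ∈ ω := by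
  rw [Submodule.mem_div_iff_forall_mul_mem]
  constructor
  · intro h r hr
    have := h (algebraMap O K r) ⟨r, hr, rfl⟩
    rwa [mul_comm, ← Algebra.smul_def] at this
  · rintro h _ ⟨r, hr, rfl⟩
    have := h r hr
    rwa [Algebra.smul_def, mul_comm] at this

theorem le_div_iK (ω : Submodule O K) (I : Ideal O) : ω ≤ ω / iK I := by
  intro y hy
  rw [mem_div_iK]
  exact fun r _ => ω.smul_mem r hy

/-- the map `(ω : I) → Hom(O/I, K/ω)` -/
noncomputable def Psi (ω : Submodule O K) (I : Ideal O) :
    ↥(ω / iK I : Submodule O K) →ₗ[O] ((O ⧸ I) →ₗ[O] (K ⧸ ω)) where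
  toFun y := Submodule.liftQ I (LinearMap.toSpanSingleton O (K ⧸ ω) (ω.mkQ (y : K))) (by
    intro r hr
    rw [LinearMap.mem_ker, LinearMap.toSpanSingleton_apply, ← map_smul, Submodule.mkQ_apply,
      Submodule.Quotient.mk_eq_zero]
    exact (mem_div_iK ω I y).1 y.2 r hr)
  map_add' y z := by
    apply Submodule.linearMap_qext
    apply LinearMap.ext_ring
    simp only [LinearMap.comp_apply, LinearMap.add_apply, Submodule.mkQ_apply,
      Submodule.liftQ_apply, LinearMap.toSpanSingleton_apply, one_smul, Submodule.coe_add,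
      Submodule.Quotient.mk_add]
  map_smul' c y := by
    apply Submodule.linearMap_qext
    apply LinearMap.ext_ring
    simp only [LinearMap.comp_apply, LinearMap.smul_apply, Submodule.mkQ_apply,
      Submodule.liftQ_apply, LinearMap.toSpanSingleton_apply, one_smul, Submodule.coe_smul,
      Submodule.Quotient.mk_smul, RingHom.id_apply]

theorem Psi_apply_one (ω : Submodule O K) (I : Ideal O) (y : ↥(ω / iK I : Submodule O K)) :
    Psi ω I y (Submodule.Quotient.mk 1) = ω.mkQ (y : K) := by
  change Submodule.liftQ I _ _ (Submodule.Quotient.mk 1) = _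
  rw [Submodule.liftQ_apply, LinearMap.toSpanSingleton_apply, one_smul]

theorem ker_Psi (ω : Submodule O K) (I : Ideal O) :
    LinearMap.ker (Psi ω I) = ω.submoduleOf (ω / iK I) := by
  ext y
  rw [LinearMap.mem_ker]
  change _ ↔ (y : K) ∈ ω
  constructor
  · intro h
    have := Psi_apply_one ω I y
    rw [h, LinearMap.zero_apply] at this
    rw [← Submodule.Quotient.mk_eq_zero, ← Submodule.mkQ_apply]
    exact this.symm
  · intro h
    apply Submodule.linearMap_qext
    apply LinearMap.ext_ring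
    change Psi ω I y (Submodule.Quotient.mk 1) = 0
    rw [Psi_apply_one, Submodule.mkQ_apply, Submodule.Quotient.mk_eq_zero]
    exact h

theorem Psi_surjective (ω : Submodule O K) (I : Ideal O) : Function.Surjective (Psi ω I) := by
  intro φ
  obtain ⟨y₀, hy₀⟩ := Submodule.mkQ_surjective ω (φ (Submodule.Quotient.mk 1))
  have hmem : y₀ ∈ ω / iK I := by
    rw [mem_div_iK]
    intro r hr
    rw [← Submodule.Quotient.mk_eq_zero, ← Submodule.mkQ_apply, map_smul, hy₀, ← map_smul]
    have : r • (Submodule.Quotient.mk 1 : O ⧸ I) = 0 := by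
      rw [← Submodule.Quotient.mk_smul, Submodule.Quotient.mk_eq_zero]
      simpa using hr
    rw [this, map_zero]
  refine ⟨⟨y₀, hmem⟩, ?_⟩
  apply Submodule.linearMap_qext
  apply LinearMap.ext_ring
  change Psi ω I ⟨y₀, hmem⟩ (Submodule.Quotient.mk 1) = φ (Submodule.Quotient.mk 1)
  rw [Psi_apply_one, hy₀]

/-- `ℓ((ω : I) / ω) = ℓ(Hom(O/I, K/ω))` -/
theorem rl_div_iK (ω : Submodule O K) (I : Ideal O) :
    rl ω (ω / iK I) = Module.length O ((O ⧸ I) →ₗ[O] (K ⧸ ω)) := by
  unfold rl
  rw [← ker_Psi]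
  exact ((Psi ω I).quotKerEquivOfSurjective (Psi_surjective ω I)).length_eq

end basic

section main

variable {O : Type u} [CommRing O] [IsDomain O] [IsNoetherianRing O] [IsLocalRing O]
  {K : Type u} [Field K] [Algebra O K] [IsFractionRing O K]

omit [IsDomain O] [IsNoetherianRing O] [IsLocalRing O] in
theorem algebraMap_ne_zero {x : O} (hx : x ≠ 0) : algebraMap O K x ≠ 0 := by
  rw [Ne, ← map_zero (algebraMap O K)]
  exact fun h => hx (IsFractionRing.injective O K h)

omit [IsDomain O] [IsNoetherianRing O] [IsLocalRing O] in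
theorem lsmul_injective {x : O} (hx : x ≠ 0) : Function.Injective (LinearMap.lsmul O K x) := by
  intro a b hab
  have h1 : x • a = x • b := hab
  rw [Algebra.smul_def, Algebra.smul_def] at h1
  exact mul_left_cancel₀ (algebraMap_ne_zero hx) h1

omit [IsDomain O] [IsNoetherianRing O] [IsLocalRing O] in
/-- `ℓ((ω : x) / ω) = ℓ(ω / x ω)` -/
theorem rl_div_span (ω : Submodule O K) {x : O} (hx : x ≠ 0) :
    rl ω (ω / iK (Ideal.span {x})) =
      Module.length O (↥ω ⧸ LinearMap.range (LinearMap.lsmul O ↥ω x)) := by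
  set φ : K →ₗ[O] K := LinearMap.lsmul O K x with hφ
  have hinj : Function.Injective φ := lsmul_injective hx
  have h1 : (ω.map φ).comap φ = ω := Submodule.comap_map_eq_of_injective hinj ω
  have h2 : (ω / iK (Ideal.span {x}) : Submodule O K).map φ = ω := by
    apply le_antisymm
    · rintro _ ⟨y, hy, rfl⟩
      have := (mem_div_iK ω _ y).1 hy x (Ideal.subset_span rfl)
      exact this
    · intro w hw
      refine ⟨(algebraMap O K x)⁻¹ * w, ?_, ?_⟩
      · rw [SetLike.mem_coe, mem_div_iK]
        intro r hr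
        obtain ⟨s, rfl⟩ := Ideal.mem_span_singleton'.1 hr
        have : (s * x) • ((algebraMap O K x)⁻¹ * w) = s • w := by
          rw [Algebra.smul_def, Algebra.smul_def, map_mul]
          field_simp [algebraMap_ne_zero hx]
        rw [this]
        exact ω.smul_mem s hw
      · change x • ((algebraMap O K x)⁻¹ * w) = w
        rw [Algebra.smul_def, ← mul_assoc, mul_inv_cancel₀ (algebraMap_ne_zero hx), one_mul]
  have h3 : (ω.map φ).submoduleOf ω = LinearMap.range (LinearMap.lsmul O ↥ω x) := by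
    ext y
    change (y : K) ∈ ω.map φ ↔ _
    constructor
    · rintro ⟨w, hw, hwy⟩
      exact ⟨⟨w, hw⟩, Subtype.ext hwy⟩
    · rintro ⟨w, rfl⟩
      exact ⟨w, w.2, rfl⟩
  calc rl ω (ω / iK (Ideal.span {x})) = rl ((ω.map φ).comap φ) (ω / iK (Ideal.span {x})) := by
        rw [h1]
    _ = rl (ω.map φ) ((ω / iK (Ideal.span {x}) : Submodule O K).map φ) := rl_map φ _ _
    _ = rl (ω.map φ) ω := by rw [h2]
    _ = _ := by unfold rl; rw [h3]

omit [IsLocalRing O] in
/-- `ℓ(ω / x ω) = ℓ(O / x O)` for a nonzero finitely generated `ω ⊆ K` -/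
theorem length_quot_smul_submodule [Ring.KrullDimLE 1 O] (ω : Submodule O K) (hω0 : ω ≠ ⊥)
    (hωfg : ω.FG) {x : O} (hx : x ≠ 0) :
    Module.length O (↥ω ⧸ LinearMap.range (LinearMap.lsmul O ↥ω x)) =
      Module.length O (O ⧸ LinearMap.range (LinearMap.lsmul O O x)) := by
  obtain ⟨w₀, hw₀, hw₀0⟩ := Submodule.exists_mem_ne_zero_of_ne_bot hω0
  haveI : Module.Finite O ↥ω := Module.Finite.iff_fg.mpr hωfg
  let f : O →ₗ[O] ↥ω := LinearMap.toSpanSingleton O ↥ω ⟨w₀, hw₀⟩
  have hf : Function.Injective f := by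
    intro a b hab
    have h1 : a • w₀ = b • w₀ := congrArg Subtype.val hab
    rw [Algebra.smul_def, Algebra.smul_def] at h1
    exact IsFractionRing.injective O K (mul_right_cancel₀ hw₀0 h1)
  have hxω : Function.Injective (LinearMap.lsmul O ↥ω x) := by
    intro a b hab
    apply Subtype.ext
    exact lsmul_injective hx (congrArg Subtype.val hab)
  have htors : ∀ q : ↥ω ⧸ LinearMap.range f, ∃ a : O, a ≠ 0 ∧ a • q = 0 := by
    intro q
    obtain ⟨w, rfl⟩ := Submodule.mkQ_surjective _ q
    obtain ⟨a, b, hb, hab⟩ := IsFractionRing.div_surjective (A := O) ((w : K) / w₀)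
    have hb0 : b ≠ 0 := nonZeroDivisors.ne_zero hb
    refine ⟨b, hb0, ?_⟩
    rw [← map_smul, Submodule.mkQ_apply, Submodule.Quotient.mk_eq_zero]
    refine ⟨a, ?_⟩
    apply Subtype.ext
    change a • w₀ = b • (w : K)
    rw [Algebra.smul_def, Algebra.smul_def]
    have hbK := algebraMap_ne_zero (K := K) hb0
    field_simp at hab
    exact hab
  exact (length_quot_smul_eq f hf x hxω (length_ne_top_of_torsion _ htors)).symm

/-- type one: `ℓ(Hom(k, K/ω)) = 1` -/
theorem length_hom_residueField_eq_one (hdim : ringKrullDim O = 1) (ω : Submodule O K)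
    (hω0 : ω ≠ ⊥) (hωfg : ω.FG) [Module.Injective O (K ⧸ ω)] :
    Module.length O (IsLocalRing.ResidueField O →ₗ[O] (K ⧸ ω)) = 1 := by
  haveI : Ring.KrullDimLE 1 O := Ring.krullDimLE_iff.mpr hdim.le
  have hm : IsLocalRing.maximalIdeal O ≠ ⊥ := by
    intro h
    have hf : IsField O := IsLocalRing.isField_iff_maximalIdeal_eq.mpr h
    rw [ringKrullDim_eq_zero_of_isField hf] at hdim
    exact zero_ne_one hdim
  obtain ⟨x, hxm, hx0⟩ := Submodule.exists_mem_ne_zero_of_ne_bot hm
  have hspan : (Ideal.span {x} : Ideal O) = LinearMap.range (LinearMap.lsmul O O x) := by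
    ext y
    rw [Ideal.mem_span_singleton']
    constructor
    · rintro ⟨a, rfl⟩
      exact ⟨a, mul_comm _ _⟩
    · rintro ⟨a, rfl⟩
      exact ⟨a, mul_comm _ _⟩
  have hfl : IsFiniteLength O (O ⧸ Ideal.span {x}) := by
    apply isFiniteLength_of_smul_eq_zero _ x (mem_nonZeroDivisors_of_ne_zero hx0)
    intro q
    obtain ⟨r, rfl⟩ := Submodule.mkQ_surjective _ q
    rw [← map_smul, Submodule.mkQ_apply, Submodule.Quotient.mk_eq_zero]
    exact Ideal.mul_mem_right _ _ (Ideal.subset_span rfl)
  have h1 := length_hom_eq_mul (K ⧸ ω) (O ⧸ Ideal.span {x}) hfl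
  rw [← rl_div_iK, rl_div_span ω hx0, length_quot_smul_submodule ω hω0 hωfg hx0, ← hspan] at h1
  set c := Module.length O (O ⧸ Ideal.span {x}) with hc
  set μ := Module.length O (IsLocalRing.ResidueField O →ₗ[O] (K ⧸ ω)) with hμ
  have hctop : c ≠ ⊤ := Module.length_ne_top_iff.mpr hfl
  have hc0 : c ≠ 0 := by
    rw [hc, Ne, Module.length_eq_zero_iff, Submodule.Quotient.subsingleton_iff]
    intro h
    have : (1 : O) ∈ Ideal.span {x} := h ▸ Submodule.mem_top
    have h1m : (1 : O) ∈ IsLocalRing.maximalIdeal O :=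
      (Ideal.span_le.mpr (by simpa using hxm)) this
    exact (Ideal.ne_top_iff_one _).1 (IsLocalRing.maximalIdeal.isMaximal O).ne_top h1m
  lift c to ℕ using hctop with n
  have hn0 : n ≠ 0 := by exact_mod_cast hc0
  rcases eq_or_ne μ ⊤ with hμt | hμt
  · rw [hμt, ENat.mul_top (by exact_mod_cast hn0)] at h1
    exact absurd h1 (ENat.natCast_ne_top n)
  · lift μ to ℕ using hμt with m
    have : n = n * m := by exact_mod_cast h1
    have hm1 : m = 1 := by
      have := Nat.eq_of_mul_eq_mul_left (Nat.pos_of_ne_zero hn0) (by rw [mul_one]; exact this : n * 1 = n * m)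
      exact this.symm
    rw [hm1]
    rfl

end main

end Groth.Agent.Lib.helper15.CanDual
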