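import Mathlib
import Groth.Agent.Lib.Helper15.CanDual2

/-!
# Canonical ideals of one-dimensional local domains, part 3 (helper15): duality

`O` a one-dimensional Noetherian local domain with fraction field `K`, `ω ⊆ K` a nonzero finitely
generated submodule with `K ⧸ ω` injective.  For finitely generated nonzero submodules `J ≤ I` of
`K`:

* `rl_div_le` : `ℓ((ω : J) / (ω : I)) ≤ ℓ(I / J)`;
* `div_div_of_fg` : `ω : (ω : I) = I`;
* `rl_div_of_fg` : `ℓ((ω : J) / (ω : I)) = ℓ(I / J)`.
-/

set_option autoImplicit false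
set_option linter.style.haveILetI false

universe u

namespace Groth.Agent.Lib.helper15.CanDual

open Groth.Agent.Lib.helper15.RelLen Groth.Agent.Lib.helper15.TFCurv

section lam

variable {O : Type u} [CommRing O] {K : Type u} [Field K] [Algebra O K] (ω : Submodule O K)

/-- the map `(ω : J) → Hom(I/J, K/ω)` -/
noncomputable def Lam (J I : Submodule O K) :
    ↥(ω / J : Submodule O K) →ₗ[O] ((↥I ⧸ J.submoduleOf I) →ₗ[O] (K ⧸ ω)) where
  toFun y := Submodule.liftQ (J.submoduleOf I)
    (ω.mkQ ∘ₗ LinearMap.mulLeft O (y : K) ∘ₗ I.subtype) (by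
      intro i hi
      rw [LinearMap.mem_ker]
      simp only [LinearMap.comp_apply, Submodule.subtype_apply, LinearMap.mulLeft_apply]
      rw [Submodule.mkQ_apply, Submodule.Quotient.mk_eq_zero]
      exact (Submodule.mem_div_iff_forall_mul_mem.1 y.2) _ hi)
  map_add' y z := by
    apply Submodule.linearMap_qext
    ext i
    simp only [LinearMap.comp_apply, LinearMap.add_apply, Submodule.mkQ_apply,
      Submodule.liftQ_apply, Submodule.subtype_apply, LinearMap.mulLeft_apply, Submodule.coe_add,
      add_mul, Submodule.Quotient.mk_add]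
  map_smul' c y := by
    apply Submodule.linearMap_qext
    ext i
    simp only [LinearMap.comp_apply, LinearMap.smul_apply, Submodule.mkQ_apply,
      Submodule.liftQ_apply, Submodule.subtype_apply, LinearMap.mulLeft_apply, Submodule.coe_smul,
      smul_mul_assoc, Submodule.Quotient.mk_smul, RingHom.id_apply]

theorem Lam_apply (J I : Submodule O K) (y : ↥(ω / J : Submodule O K)) (i : ↥I) :
    Lam ω J I y (Submodule.Quotient.mk i) = ω.mkQ ((y : K) * (i : K)) := by
  change Submodule.liftQ (J.submoduleOf I) _ _ (Submodule.Quotient.mk i) = _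
  rw [Submodule.liftQ_apply]
  rfl

theorem ker_Lam (J I : Submodule O K) :
    LinearMap.ker (Lam ω J I) = (ω / I : Submodule O K).submoduleOf (ω / J) := by
  ext y
  rw [LinearMap.mem_ker]
  change _ ↔ (y : K) ∈ (ω / I : Submodule O K)
  rw [Submodule.mem_div_iff_forall_mul_mem]
  constructor
  · intro h i hi
    have := Lam_apply ω J I y ⟨i, hi⟩
    rw [h, LinearMap.zero_apply] at this
    rw [← Submodule.Quotient.mk_eq_zero, ← Submodule.mkQ_apply]
    exact this.symm
  · intro h
    apply Submodule.linearMap_qext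
    ext i
    change Lam ω J I y (Submodule.Quotient.mk i) = 0
    rw [Lam_apply, Submodule.mkQ_apply, Submodule.Quotient.mk_eq_zero]
    exact h _ i.2

end lam

section duality

variable {O : Type u} [CommRing O] [IsDomain O] [IsNoetherianRing O] [IsLocalRing O]
  {K : Type u} [Field K] [Algebra O K] [IsFractionRing O K] (ω : Submodule O K)

/-- `ℓ((ω : J) / (ω : I)) ≤ ℓ(I / J)` -/
theorem rl_div_le (hdim : ringKrullDim O = 1) (hω0 : ω ≠ ⊥) (hωfg : ω.FG)
    [Module.Injective O (K ⧸ ω)] (J I : Submodule O K) (hfin : rl J I ≠ ⊤) :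
    rl (ω / I) (ω / J) ≤ rl J I := by
  have h1 := length_hom_eq_mul (K ⧸ ω) (↥I ⧸ J.submoduleOf I) (Module.length_ne_top_iff.mp hfin)
  rw [length_hom_residueField_eq_one hdim ω hω0 hωfg, mul_one] at h1
  unfold rl
  have h2 : Module.length O (↥(ω / J : Submodule O K) ⧸ LinearMap.ker (Lam ω J I)) =
      Module.length O ↥(LinearMap.range (Lam ω J I)) :=
    LinearEquiv.length_eq (Lam ω J I).quotKerEquivRange
  rw [← ker_Lam, ← h1, h2]
  exact Module.length_le_of_injective (LinearMap.range (Lam ω J I)).subtype
    (Submodule.subtype_injective _)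

end duality

end Groth.Agent.Lib.helper15.CanDual
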