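import Mathlib
import Groth.Agent.Lib.Helper15.CanDual3

/-!
# Canonical ideals of one-dimensional local domains, part 4 (helper15): reflexivity and duality

`O` a one-dimensional Noetherian local domain with fraction field `K`, `ω ⊆ K` a nonzero finitely
generated submodule with `K ⧸ ω` injective.  For finitely generated nonzero submodules `J, I` of
`K`:

* `div_div_of_fg` : `ω : (ω : I) = I`;
* `rl_div_of_fg` : `ℓ((ω : J) / (ω : I)) = ℓ(I / J)`;
* `div_self_eq_one` : `ω : ω = O`.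
-/

set_option autoImplicit false
set_option linter.style.haveILetI false

universe u

namespace Groth.Agent.Lib.helper15.CanDual

open Groth.Agent.Lib.helper15.RelLen Groth.Agent.Lib.helper15.TFCurv

section sc

variable {O : Type u} [CommRing O] {K : Type u} [Field K] [Algebra O K]

/-- scaling of a submodule of `K` by `c ∈ K` -/
noncomputable def sc (c : K) (I : Submodule O K) : Submodule O K := I.map (LinearMap.mulLeft O c)

theorem mul_mem_sc (c : K) (I : Submodule O K) {x : K} (hx : x ∈ I) : c * x ∈ sc c I :=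
  ⟨x, hx, rfl⟩

theorem mem_sc {c : K} (hc : c ≠ 0) (I : Submodule O K) (x : K) : x ∈ sc c I ↔ c⁻¹ * x ∈ I := by
  constructor
  · rintro ⟨y, hy, rfl⟩
    rw [LinearMap.mulLeft_apply, ← mul_assoc, inv_mul_cancel₀ hc, one_mul]
    exact hy
  · intro h
    refine ⟨c⁻¹ * x, h, ?_⟩
    rw [LinearMap.mulLeft_apply, ← mul_assoc, mul_inv_cancel₀ hc, one_mul]

theorem sc_mono (c : K) {I J : Submodule O K} (h : I ≤ J) : sc c I ≤ sc c J :=
  Submodule.map_mono h

theorem sc_fg (c : K) {I : Submodule O K} (h : I.FG) : (sc c I).FG := h.map _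

theorem sc_ne_bot {c : K} (hc : c ≠ 0) {I : Submodule O K} (h : I ≠ ⊥) : sc c I ≠ ⊥ := by
  obtain ⟨x, hx, hx0⟩ := Submodule.exists_mem_ne_zero_of_ne_bot h
  intro hb
  have : c * x ∈ sc c I := mul_mem_sc c I hx
  rw [hb, Submodule.mem_bot] at this
  exact (mul_ne_zero hc hx0) this

theorem div_anti (ω : Submodule O K) {I J : Submodule O K} (h : I ≤ J) : ω / J ≤ ω / I := by
  intro x hx
  rw [Submodule.mem_div_iff_forall_mul_mem] at hx ⊢
  exact fun y hy => hx y (h hy)

theorem le_div_div (ω I : Submodule O K) : I ≤ ω / (ω / I) := by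
  intro x hx
  rw [Submodule.mem_div_iff_forall_mul_mem]
  intro y hy
  rw [mul_comm]
  exact (Submodule.mem_div_iff_forall_mul_mem.1 hy) x hx

theorem div_div_div (ω I : Submodule O K) : ω / (ω / (ω / I)) = ω / I :=
  le_antisymm (div_anti ω (le_div_div ω I)) (le_div_div ω (ω / I))

theorem one_mem_div_self (ω : Submodule O K) : (1 : K) ∈ ω / ω := by
  rw [Submodule.mem_div_iff_forall_mul_mem]
  intro y hy
  rwa [one_mul]

theorem div_div_self (ω : Submodule O K) : ω / (ω / ω) = ω := by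
  apply le_antisymm _ (le_div_div ω ω)
  intro x hx
  have := (Submodule.mem_div_iff_forall_mul_mem.1 hx) 1 (one_mem_div_self ω)
  rwa [mul_one] at this

theorem div_one' (ω : Submodule O K) : ω / 1 = ω := by
  apply le_antisymm
  · intro x hx
    have := (Submodule.mem_div_iff_forall_mul_mem.1 hx) 1 (Submodule.one_le.mp le_rfl)
    rwa [mul_one] at this
  · intro x hx
    rw [Submodule.mem_div_iff_forall_mul_mem]
    intro y hy
    obtain ⟨r, rfl⟩ := Submodule.mem_one.1 hy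
    rw [mul_comm, ← Algebra.smul_def]
    exact ω.smul_mem r hx

theorem div_sc {c : K} (hc : c ≠ 0) (ω I : Submodule O K) : ω / sc c I = sc c⁻¹ (ω / I) := by
  ext x
  rw [mem_sc (inv_ne_zero hc), inv_inv, Submodule.mem_div_iff_forall_mul_mem,
    Submodule.mem_div_iff_forall_mul_mem]
  constructor
  · intro h i hi
    have := h (c * i) (mul_mem_sc c I hi)
    have e : c * x * i = x * (c * i) := by ring
    rw [e]
    exact this
  · intro h y hy
    rw [mem_sc hc] at hy
    have := h _ hy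
    have e : c * x * (c⁻¹ * y) = x * y := by
      field_simp
    rw [e] at this
    exact this

theorem div_div_sc_self {c : K} (hc : c ≠ 0) (ω : Submodule O K) : ω / (ω / sc c ω) = sc c ω := by
  rw [div_sc hc, div_sc (inv_ne_zero hc), inv_inv, div_div_self]

end sc

section fin

variable {O : Type u} [CommRing O] [IsDomain O] {K : Type u} [Field K] [Algebra O K]
  [IsFractionRing O K]

/-- every element of `K` is scaled into a given nonzero submodule by some nonzero `b ∈ O` -/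
theorem exists_smul_mem {J : Submodule O K} (hJ : J ≠ ⊥) (x : K) :
    ∃ b : O, b ≠ 0 ∧ b • x ∈ J := by
  obtain ⟨j, hj, hj0⟩ := Submodule.exists_mem_ne_zero_of_ne_bot hJ
  obtain ⟨a, b, hb, hab⟩ := IsFractionRing.div_surjective (A := O) (x / j)
  have hb0 : b ≠ 0 := nonZeroDivisors.ne_zero hb
  refine ⟨b, hb0, ?_⟩
  have hbK := algebraMap_ne_zero (K := K) hb0
  have : b • x = a • j := by
    rw [Algebra.smul_def, Algebra.smul_def]
    field_simp at hab
    exact hab.symm
  rw [this]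
  exact J.smul_mem a hj

theorem exists_smul_le {N J : Submodule O K} (hN : N.FG) (hJ : J ≠ ⊥) :
    ∃ a : O, a ≠ 0 ∧ ∀ x ∈ N, a • x ∈ J := by
  classical
  obtain ⟨s, hs⟩ := hN
  choose b hb0 hb using exists_smul_mem (O := O) hJ
  refine ⟨∏ x ∈ s, b x, Finset.prod_ne_zero_iff.mpr fun x _ => hb0 x, fun x hx => ?_⟩
  rw [← hs] at hx
  induction hx using Submodule.span_induction with
  | mem x0 hx0 =>
    obtain ⟨d, hd⟩ := Finset.dvd_prod_of_mem b hx0
    rw [hd, mul_comm, mul_smul]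
    exact J.smul_mem d (hb x0)
  | zero => rw [smul_zero]; exact J.zero_mem
  | add x y _ _ hx hy => rw [smul_add]; exact J.add_mem hx hy
  | smul r x _ hx => rw [smul_comm]; exact J.smul_mem r hx

theorem exists_sc_le {ω I : Submodule O K} (hω : ω.FG) (hI : I ≠ ⊥) :
    ∃ c : K, c ≠ 0 ∧ sc c ω ≤ I := by
  obtain ⟨a, ha0, ha⟩ := exists_smul_le hω hI
  refine ⟨algebraMap O K a, algebraMap_ne_zero ha0, ?_⟩
  rintro _ ⟨w, hw, rfl⟩
  rw [LinearMap.mulLeft_apply, ← Algebra.smul_def]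
  exact ha w hw

theorem exists_le_sc {ω I : Submodule O K} (hI : I.FG) (hω : ω ≠ ⊥) :
    ∃ c : K, c ≠ 0 ∧ I ≤ sc c ω := by
  obtain ⟨a, ha0, ha⟩ := exists_smul_le hI hω
  refine ⟨(algebraMap O K a)⁻¹, inv_ne_zero (algebraMap_ne_zero ha0), ?_⟩
  intro x hx
  rw [mem_sc (inv_ne_zero (algebraMap_ne_zero ha0)), inv_inv, ← Algebra.smul_def]
  exact ha x hx

theorem rl_ne_top [IsNoetherianRing O] [Ring.KrullDimLE 1 O] {J I : Submodule O K} (hJ : J ≠ ⊥)
    (hI : I.FG) : rl J I ≠ ⊤ := by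
  haveI : Module.Finite O ↥I := Module.Finite.iff_fg.mpr hI
  unfold rl
  apply length_ne_top_of_torsion
  intro q
  obtain ⟨i, rfl⟩ := Submodule.mkQ_surjective _ q
  obtain ⟨b, hb0, hb⟩ := exists_smul_mem (O := O) hJ (i : K)
  refine ⟨b, hb0, ?_⟩
  rw [← map_smul, Submodule.mkQ_apply, Submodule.Quotient.mk_eq_zero]
  exact hb

end fin

section rlzero

variable {R : Type*} [Ring R] {M : Type*} [AddCommGroup M] [Module R M]

theorem rl_eq_zero_iff (Q P : Submodule R M) : rl Q P = 0 ↔ P ≤ Q := by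
  unfold rl
  rw [Module.length_eq_zero_iff, Submodule.Quotient.subsingleton_iff]
  constructor
  · intro h x hx
    have : (⟨x, hx⟩ : ↥P) ∈ Q.submoduleOf P := h ▸ Submodule.mem_top
    exact this
  · intro h
    rw [eq_top_iff]
    intro x _
    exact h x.2

end rlzero

theorem enat_aux {a b a' b' : ℕ∞} (ha : a ≠ ⊤) (hb : b ≠ ⊤) (l1 : a' ≤ a) (l2 : b' ≤ b)
    (e : b + a = a' + b') : a' = a := by
  have g1 := ne_top_of_le_ne_top ha l1
  have g2 := ne_top_of_le_ne_top hb l2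
  lift a to ℕ using ha
  lift b to ℕ using hb
  lift a' to ℕ using g1
  lift b' to ℕ using g2
  have e2' : b + a = a' + b' := by exact_mod_cast e
  have l1' : a' ≤ a := by exact_mod_cast l1
  have l2' : b' ≤ b := by exact_mod_cast l2
  have : a' = a := by omega
  rw [this]

theorem enat_aux2 {a b : ℕ∞} (ha : a ≠ ⊤) (e : a = b + a) : b = 0 := by
  lift a to ℕ using ha
  rcases eq_or_ne b ⊤ with hb | hb
  · rw [hb, top_add] at e
    exact absurd e (ENat.natCast_ne_top a)
  · lift b to ℕ using hb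
    have : a = b + a := by exact_mod_cast e
    have : b = 0 := by omega
    rw [this]
    rfl

section duality

variable {O : Type u} [CommRing O] [IsDomain O] [IsNoetherianRing O] [IsLocalRing O]
  {K : Type u} [Field K] [Algebra O K] [IsFractionRing O K] (ω : Submodule O K)

theorem rl_div_sc (hdim : ringKrullDim O = 1) (hω0 : ω ≠ ⊥) (hωfg : ω.FG)
    [Module.Injective O (K ⧸ ω)] {c c' : K} (hc : c ≠ 0) (hc' : c' ≠ 0) :
    rl (ω / sc c' ω) (ω / sc c ω) = rl (sc c ω) (sc c' ω) := by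
  haveI : Ring.KrullDimLE 1 O := Ring.krullDimLE_iff.mpr hdim.le
  have hfin : rl (sc c ω) (sc c' ω) ≠ ⊤ := rl_ne_top (sc_ne_bot hc hω0) (sc_fg c' hωfg)
  have h1 := rl_div_le ω hdim hω0 hωfg (sc c ω) (sc c' ω) hfin
  have h2 := rl_div_le ω hdim hω0 hωfg (ω / sc c' ω) (ω / sc c ω) (ne_top_of_le_ne_top hfin h1)
  rw [div_div_sc_self hc, div_div_sc_self hc'] at h2
  exact le_antisymm h1 h2

theorem rl_div_between (hdim : ringKrullDim O = 1) (hω0 : ω ≠ ⊥) (hωfg : ω.FG)
    [Module.Injective O (K ⧸ ω)] {c c' : K} (hc : c ≠ 0) (hc' : c' ≠ 0) {I : Submodule O K}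
    (h1 : sc c ω ≤ I) (h2 : I ≤ sc c' ω) :
    rl (ω / I) (ω / sc c ω) = rl (sc c ω) I := by
  haveI : Ring.KrullDimLE 1 O := Ring.krullDimLE_iff.mpr hdim.le
  have hfin : rl (sc c ω) (sc c' ω) ≠ ⊤ := rl_ne_top (sc_ne_bot hc hω0) (sc_fg c' hωfg)
  have e0 := rl_div_sc ω hdim hω0 hωfg hc hc'
  have e1 := rl_add h1 h2
  have e2 := rl_add (div_anti ω h2) (div_anti ω h1)
  have f1 : rl (sc c ω) I ≠ ⊤ := by
    intro h
    rw [h, add_top] at e1
    exact hfin e1
  have f2 : rl I (sc c' ω) ≠ ⊤ := by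
    intro h
    rw [h, top_add] at e1
    exact hfin e1
  have l1 := rl_div_le ω hdim hω0 hωfg (sc c ω) I f1
  have l2 := rl_div_le ω hdim hω0 hωfg I (sc c' ω) f2
  rw [e0, e1] at e2
  exact enat_aux f1 f2 l1 l2 e2

theorem div_div_between (hdim : ringKrullDim O = 1) (hω0 : ω ≠ ⊥) (hωfg : ω.FG)
    [Module.Injective O (K ⧸ ω)] {c c' : K} (hc : c ≠ 0) (hc' : c' ≠ 0) {I : Submodule O K}
    (h1 : sc c ω ≤ I) (h2 : I ≤ sc c' ω) : ω / (ω / I) = I := by
  haveI : Ring.KrullDimLE 1 O := Ring.krullDimLE_iff.mpr hdim.le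
  apply le_antisymm _ (le_div_div ω I)
  have h3 : ω / (ω / I) ≤ sc c' ω := by
    rw [← div_div_sc_self hc' ω]
    exact div_anti ω (div_anti ω h2)
  have e1 := rl_div_between ω hdim hω0 hωfg hc hc' h1 h2
  have e2 := rl_div_between ω hdim hω0 hωfg hc hc' (h1.trans (le_div_div ω I)) h3
  rw [div_div_div, e1] at e2
  have e3 := rl_add h1 (le_div_div ω I)
  rw [← e2] at e3
  have hfin : rl (sc c ω) I ≠ ⊤ := by
    have hfin : rl (sc c ω) (sc c' ω) ≠ ⊤ := rl_ne_top (sc_ne_bot hc hω0) (sc_fg c' hωfg)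
    have e1 := rl_add h1 h2
    intro h
    rw [h, add_top] at e1
    exact hfin e1
  have h0 : rl I (ω / (ω / I)) = 0 := enat_aux2 hfin e3
  exact (rl_eq_zero_iff _ _).1 h0

/-- reflexivity: `ω : (ω : I) = I` for finitely generated nonzero `I ⊆ K` -/
theorem div_div_of_fg (hdim : ringKrullDim O = 1) (hω0 : ω ≠ ⊥) (hωfg : ω.FG)
    [Module.Injective O (K ⧸ ω)] {I : Submodule O K} (hI0 : I ≠ ⊥) (hI : I.FG) :
    ω / (ω / I) = I := by
  obtain ⟨c, hc, h1⟩ := exists_sc_le hωfg hI0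
  obtain ⟨c', hc', h2⟩ := exists_le_sc hI hω0
  exact div_div_between ω hdim hω0 hωfg hc hc' h1 h2

/-- duality of lengths: `ℓ((ω : J) / (ω : I)) = ℓ(I / J)` -/
theorem rl_div_of_fg (hdim : ringKrullDim O = 1) (hω0 : ω ≠ ⊥) (hωfg : ω.FG)
    [Module.Injective O (K ⧸ ω)] {J I : Submodule O K} (hJ0 : J ≠ ⊥) (hJ : J.FG) (hI0 : I ≠ ⊥)
    (hI : I.FG) : rl (ω / I) (ω / J) = rl J I := by
  haveI : Ring.KrullDimLE 1 O := Ring.krullDimLE_iff.mpr hdim.le
  have hfin : rl J I ≠ ⊤ := rl_ne_top hJ0 hI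
  have h1 := rl_div_le ω hdim hω0 hωfg J I hfin
  have h2 := rl_div_le ω hdim hω0 hωfg (ω / I) (ω / J) (ne_top_of_le_ne_top hfin h1)
  rw [div_div_of_fg ω hdim hω0 hωfg hJ0 hJ, div_div_of_fg ω hdim hω0 hωfg hI0 hI] at h2
  exact le_antisymm h1 h2

omit [IsDomain O] [IsFractionRing O K] [IsNoetherianRing O] [IsLocalRing O] in
theorem one_fg' : (1 : Submodule O K).FG := by
  rw [Submodule.one_eq_span]
  exact Submodule.fg_span_singleton _

omit [IsDomain O] [IsFractionRing O K] [IsNoetherianRing O] [IsLocalRing O] in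
theorem one_ne_bot : (1 : Submodule O K) ≠ ⊥ := by
  intro h
  have : (1 : K) ∈ (1 : Submodule O K) := Submodule.one_le.mp le_rfl
  rw [h, Submodule.mem_bot] at this
  exact one_ne_zero this

/-- `ω : ω = O` -/
theorem div_self_eq_one (hdim : ringKrullDim O = 1) (hω0 : ω ≠ ⊥) (hωfg : ω.FG)
    [Module.Injective O (K ⧸ ω)] : ω / ω = 1 := by
  have := div_div_of_fg ω hdim hω0 hωfg (I := 1) one_ne_bot one_fg'
  rwa [div_one'] at this

end duality

end Groth.Agent.Lib.helper15.CanDual
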