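import Mathlib
import Groth.Prelude.Def_SGA3b
import Groth.Prelude.Def_CartDual2
import Groth.Agent.Lib.Helper15.MultFinite
import Groth.Agent.Lib.Helper15.CartBC
import Groth.Agent.Lib.Helper15.RigidDiag
import Groth.Agent.Lib.Helper26.SmoothHensLift
import Groth.Agent.Lib.Helper26.HenselPairIdem

/-!
# Preliminaries for lifting homomorphisms of finite groups of multiplicative type over a henselian
pair (helper15)

* `mem_smul_top_of_dual`: an element of a projective module all of whose coordinates lie in `𝔪` lies in `𝔪 N`.
* `bcDual'`: base change of the dual algebra of a finite projective bialgebra (no flatness).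
* `evalEquiv`: the double dual, as a bialgebra isomorphism.
-/

set_option autoImplicit false
set_option linter.style.haveILetI false
set_option linter.unusedSectionVars false
universe u
open TensorProduct WithConv

namespace Groth.Agent.Lib.helper15.HensHom

open Groth.Agent.Lib.helper15.DualBC Groth.Agent.Lib.helper15.CartBC
  Groth.Agent.Lib.helper15.MultType Groth.Agent.Lib.helper15.Rigid

section LemmaM

variable {A : Type*} [CommRing A] (𝔪 : Ideal A) {N : Type*} [AddCommGroup N] [Module A N]

theorem mem_smul_top_of_dual [Module.Projective A N] (n : N)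
    (h : ∀ x : Module.Dual A N, x n ∈ 𝔪) : n ∈ 𝔪 • (⊤ : Submodule A N) := by
  obtain ⟨s, hs⟩ := Module.projective_def'.mp ‹Module.Projective A N›
  have h1 : n = Finsupp.linearCombination A id (s n) := (LinearMap.congr_fun hs n).symm
  rw [h1, Finsupp.linearCombination_apply]
  refine Submodule.sum_mem _ fun p _ => ?_
  exact Submodule.smul_mem_smul (h (Finsupp.lapply p ∘ₗ s)) Submodule.mem_top

end LemmaM

section BcDual

variable (R : Type u) [CommRing R] (A : Type u) [CommRing A] [Bialgebra R A]
  (S : Type u) [CommRing S] [Algebra R S]

theorem bcDualLin_bijective_of_projective [Module.Finite R A] [Module.Projective R A] :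
    Function.Bijective (bcDualLin R A S) := by
  constructor
  · rw [injective_iff_map_eq_zero]
    intro z hz
    have h1 : dualTensorHom R A S (swapEquiv R A S z) = 0 := by
      apply LinearMap.ext
      intro a
      rw [← bcDualLin_apply_one_tmul', hz]
      rfl
    have h2 := (dualTensorHom_bijective (R := R) (M := A) (N := S)).1 (h1.trans (map_zero _).symm)
    exact (swapEquiv R A S).injective (h2.trans (map_zero _).symm)
  · intro u
    let μ : A →ₗ[R] S :=
      { toFun := fun a => u ((1 : S) ⊗ₜ[R] a)
        map_add' := fun a b => by
          change u.ofConv ((1 : S) ⊗ₜ[R] (a + b)) = _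
          rw [TensorProduct.tmul_add, map_add]
        map_smul' := fun r a => by
          change u.ofConv ((1 : S) ⊗ₜ[R] (r • a)) = _
          rw [TensorProduct.tmul_smul, ← algebraMap_smul S r, map_smul, algebraMap_smul]
          rfl }
    obtain ⟨w, hw⟩ := (dualTensorHom_bijective (R := R) (M := A) (N := S)).2 μ
    refine ⟨(swapEquiv R A S).symm w, ?_⟩
    apply ext_one_tmul
    intro a
    rw [bcDualLin_apply_one_tmul', LinearEquiv.apply_symm_apply, hw]
    rfl

/-- base change of the dual algebra of a finite projective bialgebra. -/
noncomputable def bcDual' [Module.Finite R A] [Module.Projective R A] :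
    S ⊗[R] CartDual.D R A ≃ₐ[S] CartDual.D S (S ⊗[R] A) :=
  AlgEquiv.ofBijective
    (AlgHom.ofLinearMap (bcDualLin R A S) (bcDualLin_one R A S) (bcDualLin_mul R A S))
    (bcDualLin_bijective_of_projective R A S)

theorem bcDual'_one_tmul [Module.Finite R A] [Module.Projective R A] (x : CartDual.D R A) :
    bcDual' R A S ((1 : S) ⊗ₜ[R] x) = beta R A S x := by
  change bcDualLin R A S ((1 : S) ⊗ₜ[R] x) = _
  rw [bcDualLin_tmul, one_smul]

end BcDual

section Eval

variable (R : Type u) [CommRing R] (A : Type u) [CommRing A] [Bialgebra R A]
  [Module.Finite R A] [Module.Projective R A]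

theorem eval_bijective : Function.Bijective (CartDual.eval R A) := by
  have h := Module.bijective_dual_eval R A
  constructor
  · intro a b hab
    apply h.1
    apply LinearMap.ext
    intro x
    have := congrArg (fun z : CartDual.D R (CartDual.D R A) => z (toConv x)) hab
    exact this
  · intro z
    obtain ⟨a, ha⟩ := h.2 (z.ofConv ∘ₗ (CartDual.toDual R A).symm.toLinearMap)
    refine ⟨a, ?_⟩
    apply WithConv.ofConv_injective
    apply LinearMap.ext
    intro x
    have := LinearMap.congr_fun ha (CartDual.toDual R A x)
    simpa using this

noncomputable def evalEquiv : A ≃ₐc[R] CartDual.D R (CartDual.D R A) :=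
  @BialgEquiv.ofBijective R A (CartDual.D R (CartDual.D R A)) _ _ _ _
    (CartDual.instBialgebra R (CartDual.D R A)) (CartDual.eval R A) (eval_bijective R A)

theorem evalEquiv_apply (a : A) (x : CartDual.D R A) : evalEquiv R A a x = x a := rfl

end Eval

end Groth.Agent.Lib.helper15.HensHom
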