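import Mathlib
import Groth.Prelude.Def_SGA3b
import Groth.Prelude.Def_CartDual2
import Groth.Agent.Lib.Helper15.HensHom0

/-!
# Base change of the Cartier dual as a bialgebra isomorphism (helper15)

* `bcDualBialg R A S : S ⊗[R] D R A ≃ₐc[S] D S (S ⊗[R] A)` for a finite projective bialgebra `A`.
* `transposeBialgEquiv E : D T B' ≃ₐc[T] D T B` for a bialgebra isomorphism `E : B ≃ₐc[T] B'`.
-/

set_option autoImplicit false
set_option linter.style.haveILetI false
set_option linter.unusedSectionVars false
universe u
open TensorProduct WithConv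

namespace Groth.Agent.Lib.helper15.CartBCBialg

open Groth.Agent.Lib.helper15.DualBC Groth.Agent.Lib.helper15.CartBC
  Groth.Agent.Lib.helper15.HensHom

section BC

variable (R : Type u) [CommRing R] (A : Type u) [CommRing A] [Bialgebra R A]
  (S : Type u) [CommRing S] [Algebra R S] [Module.Finite R A] [Module.Projective R A]

theorem bcDualLin_counit (z : S ⊗[R] CartDual.D R A) :
    Coalgebra.counit (R := S) (bcDualLin R A S z) = Coalgebra.counit (R := S) z := by
  induction z using TensorProduct.induction_on with
  | zero => rw [map_zero, map_zero, map_zero]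
  | tmul s x =>
    rw [bcDualLin_tmul, TensorProduct.counit_tmul, CartDual.coalgebra_counit_apply,
      CommSemiring.counit_apply, CartDual.coalgebra_counit_apply]
    change s • (beta R A S x).ofConv ((1 : S) ⊗ₜ[R] (1 : A)) = _
    rw [beta_apply_tmul, smul_eq_mul, Algebra.smul_def, Algebra.smul_def, mul_one, mul_comm]
  | add x y hx hy => rw [map_add, map_add, map_add, hx, hy]

theorem ev₂_map_bc (s : S) (t : CartDual.D R A ⊗[R] CartDual.D R A) (s₁ s₂ : S) (a₁ a₂ : A) :
    CartDual.ev₂ S (S ⊗[R] A) (TensorProduct.map (bcDualLin R A S) (bcDualLin R A S)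
      (TensorProduct.AlgebraTensorModule.tensorTensorTensorComm R S R S S S
        (CartDual.D R A) (CartDual.D R A) (((1 : S) ⊗ₜ[S] s) ⊗ₜ[R] t)))
      ((s₁ ⊗ₜ[R] a₁) ⊗ₜ[S] (s₂ ⊗ₜ[R] a₂)) =
      CartDual.ev₂ R A t (a₁ ⊗ₜ[R] a₂) • (s * s₁ * s₂) := by
  induction t using TensorProduct.induction_on with
  | zero =>
    rw [TensorProduct.tmul_zero, LinearEquiv.map_zero, map_zero, map_zero, map_zero,
      LinearMap.zero_apply, LinearMap.zero_apply, zero_smul]
  | tmul x y =>
    rw [TensorProduct.AlgebraTensorModule.tensorTensorTensorComm_tmul, TensorProduct.map_tmul,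
      CartDual.ev₂_tmul, CartDual.ev₂_tmul, bcDualLin_tmul, bcDualLin_tmul, one_smul]
    change (beta R A S x).ofConv (s₁ ⊗ₜ[R] a₁) * (s • (beta R A S y).ofConv (s₂ ⊗ₜ[R] a₂)) = _
    rw [beta_apply_tmul, beta_apply_tmul, smul_eq_mul, Algebra.smul_def, Algebra.smul_def,
      Algebra.smul_def, map_mul]
    ring
  | add x y hx hy =>
    rw [TensorProduct.tmul_add, LinearEquiv.map_add, map_add, map_add, LinearMap.add_apply, hx, hy,
      map_add, LinearMap.add_apply, add_smul]

theorem bcDualLin_comul (z : S ⊗[R] CartDual.D R A) :
    TensorProduct.map (bcDualLin R A S) (bcDualLin R A S) (Coalgebra.comul (R := S) z) =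
      Coalgebra.comul (R := S) (bcDualLin R A S z) := by
  induction z using TensorProduct.induction_on with
  | zero => rw [map_zero, map_zero, map_zero, map_zero]
  | add x y hx hy => rw [map_add, map_add, map_add, hx, hy, map_add]
  | tmul s x =>
    apply (CartDual.ev₂ S (S ⊗[R] A)).injective
    apply TensorProduct.ext'
    intro u v
    induction u using TensorProduct.induction_on with
    | zero => rw [TensorProduct.zero_tmul, map_zero, map_zero]
    | add u u' hu hu' => rw [TensorProduct.add_tmul, map_add, map_add, hu, hu']
    | tmul s₁ a₁ =>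
      induction v using TensorProduct.induction_on with
      | zero => rw [TensorProduct.tmul_zero, map_zero, map_zero]
      | add v v' hv hv' => rw [TensorProduct.tmul_add, map_add, map_add, hv, hv']
      | tmul s₂ a₂ =>
        rw [TensorProduct.comul_tmul, CommSemiring.comul_apply, ev₂_map_bc,
          CartDual.ev₂_coalgebra_comul_tmul, CartDual.ev₂_coalgebra_comul_tmul,
          Algebra.TensorProduct.tmul_mul_tmul, bcDualLin_tmul]
        change _ = s • (beta R A S x).ofConv ((s₁ * s₂) ⊗ₜ[R] (a₁ * a₂))
        rw [beta_apply_tmul, smul_eq_mul, Algebra.smul_def, Algebra.smul_def]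
        ring

/-- base change of the dual bialgebra of a finite projective bialgebra. -/
noncomputable def bcDualBialg : S ⊗[R] CartDual.D R A ≃ₐc[S] CartDual.D S (S ⊗[R] A) :=
  { bcDual' R A S with
    map_smul' := map_smul (bcDual' R A S)
    counit_comp := LinearMap.ext (bcDualLin_counit R A S)
    map_comp_comul := LinearMap.ext (bcDualLin_comul R A S) }

end BC

section Transpose

variable (T : Type u) [CommRing T] {B B' : Type u} [Ring B] [Bialgebra T B] [Ring B'] [Bialgebra T B']
  [Module.Finite T B] [Module.Projective T B] [Module.Finite T B'] [Module.Projective T B']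

/-- the transpose of a bialgebra isomorphism, as a bialgebra isomorphism of the duals. -/
noncomputable def transposeBialgEquiv (E : B ≃ₐc[T] B') : CartDual.D T B' ≃ₐc[T] CartDual.D T B :=
  BialgEquiv.ofBialgHom (CartDual.transpose T (E : B →ₐc[T] B'))
    (CartDual.transpose T (E.symm : B' →ₐc[T] B))
    (by
      apply BialgHom.ext
      intro x
      apply WithConv.ofConv_injective
      apply LinearMap.ext
      intro a
      change x.ofConv (E.symm (E a)) = x.ofConv a
      rw [E.symm_apply_apply])
    (by
      apply BialgHom.ext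
      intro x
      apply WithConv.ofConv_injective
      apply LinearMap.ext
      intro a
      change x.ofConv (E (E.symm a)) = x.ofConv a
      rw [E.apply_symm_apply])

end Transpose

end Groth.Agent.Lib.helper15.CartBCBialg
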