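import Mathlib
import Groth.Prelude.Def_CartDual
import Groth.Prelude.Def_CartDual2
import Groth.Agent.Lib.Helper15.KTGaloisProj
import Groth.Agent.Lib.Helper13.FibreProductFlat

/-!
# Exactness of Cartier duality for finite locally free commutative group schemes (helper15)

`f : A'' → A` faithfully flat, `g : A → A'` surjective with `ker g = A f(I_{A''})`, all finite
projective commutative cocommutative Hopf algebras over a Noetherian ring.  Then `g^T` is
faithfully flat, `f^T` is surjective and `ker f^T = D(A) g^T(I_{D(A')})`.
-/

set_option autoImplicit false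
set_option linter.unusedSectionVars false
set_option linter.style.haveILetI false
universe u
open TensorProduct

namespace Groth.Agent.Lib.helper15.CartDualExact

open Groth.Agent.Lib.helper15.KTGalois Groth.Agent.Lib.helper15.KTGaloisProj

section Split

variable {R : Type u} [CommRing R] [IsNoetherianRing R]
  {A A'' : Type u} [CommRing A] [Algebra R A] [Module.Finite R A]
  [CommRing A''] [Algebra R A''] [Module.Flat R A'']

/-- a faithfully flat algebra map into a finite algebra over a Noetherian ring has a linear
retraction -/
theorem exists_retraction (f : A'' →ₐ[R] A) (hf : f.toRingHom.FaithfullyFlat) :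
    ∃ r : A →ₗ[R] A'', ∀ x, r (f x) = x := by
  letI : Algebra A'' A := f.toRingHom.toAlgebra
  have hff : Module.FaithfullyFlat A'' A := hf
  haveI : IsScalarTower R A'' A := IsScalarTower.of_algebraMap_eq fun r => (f.commutes r).symm
  have hflat := Groth.Agent.Lib.helper13.flat_coker_of_faithfullyFlat A'' A
  set P : Submodule A'' A := LinearMap.range (Algebra.linearMap A'' A) with hP
  haveI : Module.Flat A'' (A ⧸ P) := hflat
  haveI : Module.Flat R (A ⧸ P) := Module.Flat.trans R A'' (A ⧸ P)
  let q : A →ₗ[R] A ⧸ P := P.mkQ.restrictScalars R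
  have hq : Function.Surjective q := P.mkQ_surjective
  haveI : Module.Finite R (A ⧸ P) := Module.Finite.of_surjective q hq
  haveI : Module.FinitePresentation R (A ⧸ P) := Module.finitePresentation_of_finite R _
  haveI : Module.Projective R (A ⧸ P) := Module.Flat.projective_of_finitePresentation
  obtain ⟨s, hs⟩ := Module.projective_lifting_property q LinearMap.id hq
  have hinj : Function.Injective f := hf.injective
  -- the projection onto the range of `f`
  have hmem : ∀ a : A, a - s (q a) ∈ LinearMap.range f.toLinearMap := by
    intro a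
    have h1 : q (a - s (q a)) = 0 := by
      rw [map_sub]
      have := LinearMap.congr_fun hs (q a)
      rw [LinearMap.comp_apply, LinearMap.id_apply] at this
      rw [this, sub_self]
    have h2 : a - s (q a) ∈ P := by
      have : P.mkQ (a - s (q a)) = 0 := h1
      rwa [Submodule.mkQ_apply, Submodule.Quotient.mk_eq_zero] at this
    obtain ⟨x, hx⟩ := h2
    exact ⟨x, hx⟩
  let e := LinearEquiv.ofInjective f.toLinearMap hinj
  let p : A →ₗ[R] LinearMap.range f.toLinearMap :=
    (LinearMap.id - s ∘ₗ q).codRestrict _ hmem
  refine ⟨e.symm.toLinearMap ∘ₗ p, fun x => ?_⟩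
  rw [LinearMap.comp_apply, LinearEquiv.coe_coe]
  apply e.injective
  rw [LinearEquiv.apply_symm_apply]
  apply Subtype.ext
  change f x - s (q (f x)) = f x
  have h3 : q (f x) = 0 := by
    change P.mkQ (f x) = 0
    rw [Submodule.mkQ_apply, Submodule.Quotient.mk_eq_zero]
    exact ⟨x, rfl⟩
  rw [h3, map_zero, sub_zero]

end Split

section Main

variable {R : Type u} [CommRing R] [IsNoetherianRing R]
  {A' A A'' : Type u} [CommRing A'] [HopfAlgebra R A'] [Coalgebra.IsCocomm R A']
  [Module.Finite R A'] [Module.Projective R A']
  [CommRing A] [HopfAlgebra R A] [Coalgebra.IsCocomm R A] [Module.Finite R A]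
  [Module.Projective R A]
  [CommRing A''] [HopfAlgebra R A''] [Coalgebra.IsCocomm R A''] [Module.Finite R A'']
  [Module.Projective R A'']
  (f : A'' →ₐc[R] A) (hf : (f : A'' →ₐ[R] A).toRingHom.FaithfullyFlat)
  (g : A →ₐc[R] A') (hg : Function.Surjective g)
  (hker : RingHom.ker (g : A →ₐ[R] A') =
    Ideal.map (f : A'' →ₐ[R] A) (RingHom.ker (Bialgebra.counitAlgHom R A'')))

include hf in
theorem transpose_f_surjective : Function.Surjective (CartDual.transpose R f) := by
  obtain ⟨r, hr⟩ := exists_retraction (f : A'' →ₐ[R] A) hf
  intro ψ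
  refine ⟨WithConv.toConv (ψ.ofConv ∘ₗ r), ?_⟩
  apply WithConv.ext
  apply LinearMap.ext
  intro a
  change ψ.ofConv (r (f a)) = ψ.ofConv a
  exact congrArg ψ.ofConv (hr a)

include hker in
theorem g_f (x : A'') : g (f x) = algebraMap R A' (Coalgebra.counit (R := R) x) := by
  have h1 : f (x - algebraMap R A'' (Coalgebra.counit (R := R) x)) ∈
      RingHom.ker (g : A →ₐ[R] A') := by
    rw [hker]
    apply Ideal.mem_map_of_mem
    rw [RingHom.mem_ker, map_sub]
    change Coalgebra.counit (R := R) x - Bialgebra.counitAlgHom R A'' (algebraMap R A'' _) = 0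
    rw [AlgHom.commutes]
    exact sub_self _
  rw [RingHom.mem_ker] at h1
  have h2 : g (f (x - algebraMap R A'' (Coalgebra.counit (R := R) x))) = 0 := h1
  rw [map_sub, map_sub, sub_eq_zero] at h2
  rw [h2]
  have h3 : f (algebraMap R A'' (Coalgebra.counit (R := R) x)) =
      algebraMap R A (Coalgebra.counit (R := R) x) := (f : A'' →ₐ[R] A).commutes _
  have h4 : g (algebraMap R A (Coalgebra.counit (R := R) x)) =
      algebraMap R A' (Coalgebra.counit (R := R) x) := (g : A →ₐ[R] A').commutes _
  rw [h3, h4]

/-- the pairing `D(A) ⊗ D(A'') ≃ (A ⊗ A'')^*` -/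
noncomputable def pairM : CartDual.D R A ⊗[R] CartDual.D R A'' ≃ₗ[R] Module.Dual R (A ⊗[R] A'') :=
  TensorProduct.congr (CartDual.toDual R A) (CartDual.toDual R A'') ≪≫ₗ
    CartDual.dualTensorEquiv R A A''

theorem pairM_tmul (x : CartDual.D R A) (y : CartDual.D R A'') (a : A) (a'' : A'') :
    pairM (x ⊗ₜ[R] y) (a ⊗ₜ[R] a'') = x.ofConv a * y.ofConv a'' := by
  simp [pairM]

theorem pairM_map (T : CartDual.D R A ⊗[R] CartDual.D R A) (a : A) (a'' : A'') :
    pairM (Algebra.TensorProduct.map (AlgHom.id R (CartDual.D R A))
      (CartDual.transpose R f : CartDual.D R A →ₐ[R] CartDual.D R A'') T) (a ⊗ₜ[R] a'') =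
      CartDual.ev₂ R A T (a ⊗ₜ[R] f a'') := by
  induction T using TensorProduct.induction_on with
  | zero => simp only [map_zero, LinearMap.zero_apply]
  | add x y hx hy => simp only [map_add, LinearMap.add_apply, hx, hy]
  | tmul x y =>
    rw [Algebra.TensorProduct.map_tmul, pairM_tmul, CartDual.ev₂_tmul]
    rfl

/-- membership in the coinvariants of `f^T` -/
theorem mem_coinv_iff (φ : CartDual.D R A) :
    φ ∈ coinv (CartDual.transpose R f) ↔
      ∀ (a : A) (a'' : A''), φ.ofConv (a * f a'') = φ.ofConv a * Coalgebra.counit (R := R) a'' := by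
  rw [mem_coinv]
  constructor
  · intro h a a''
    have h1 : pairM (rho (CartDual.transpose R f) φ) (a ⊗ₜ[R] a'') =
        pairM (φ ⊗ₜ[R] (1 : CartDual.D R A'')) (a ⊗ₜ[R] a'') := by rw [h]
    have h2 : rho (CartDual.transpose R f) φ =
        Algebra.TensorProduct.map (AlgHom.id R (CartDual.D R A))
          (CartDual.transpose R f : CartDual.D R A →ₐ[R] CartDual.D R A'')
          (Coalgebra.comul (R := R) φ) := rfl
    rw [h2, pairM_map, CartDual.ev₂_coalgebra_comul_tmul, pairM_tmul] at h1
    rw [CartDual.coe_apply] at h1
    rw [h1]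
    rfl
  · intro h
    apply pairM.injective
    apply TensorProduct.ext'
    intro a a''
    have h2 : rho (CartDual.transpose R f) φ =
        Algebra.TensorProduct.map (AlgHom.id R (CartDual.D R A))
          (CartDual.transpose R f : CartDual.D R A →ₐ[R] CartDual.D R A'')
          (Coalgebra.comul (R := R) φ) := rfl
    rw [h2, pairM_map, CartDual.ev₂_coalgebra_comul_tmul, pairM_tmul, CartDual.coe_apply, h a a'']
    rfl

include hker in
theorem transpose_g_mem_coinv (β : CartDual.D R A') :
    CartDual.transpose R g β ∈ coinv (CartDual.transpose R f) := by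
  rw [mem_coinv_iff]
  intro a a''
  change β.ofConv (g (a * f a'')) = β.ofConv (g a) * _
  rw [map_mul, g_f f g hker, mul_comm, ← Algebra.smul_def, map_smul, smul_eq_mul, mul_comm]

include hg hker in
theorem exists_of_mem_coinv (φ : CartDual.D R A) (hφ : φ ∈ coinv (CartDual.transpose R f)) :
    ∃ β : CartDual.D R A', CartDual.transpose R g β = φ := by
  rw [mem_coinv_iff] at hφ
  -- `φ` kills `ker g`
  have h1 : ∀ x ∈ RingHom.ker (g : A →ₐ[R] A'), ∀ a : A, φ.ofConv (a * x) = 0 := by
    intro x hx
    rw [hker, Ideal.map, ] at hx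
    refine Submodule.span_induction (p := fun x _ => ∀ a : A, φ.ofConv (a * x) = 0)
      ?_ ?_ ?_ ?_ hx
    · rintro _ ⟨i, hi, rfl⟩ a
      rw [SetLike.mem_coe, RingHom.mem_ker] at hi
      have hi' : Coalgebra.counit (R := R) i = 0 := hi
      have := hφ a i
      rw [hi', mul_zero] at this
      exact this
    · intro a
      rw [mul_zero, map_zero]
    · intro x y _ _ hx hy a
      rw [mul_add, map_add, hx, hy, add_zero]
    · intro c x _ hx a
      rw [smul_eq_mul, ← mul_assoc]
      exact hx (a * c)
  have h2 : ∀ x y : A, g x = g y → φ.ofConv x = φ.ofConv y := by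
    intro x y hxy
    have h3 : x - y ∈ RingHom.ker (g : A →ₐ[R] A') := by
      rw [RingHom.mem_ker, map_sub]
      exact sub_eq_zero.2 hxy
    have h4 := h1 _ h3 1
    rw [one_mul, map_sub, sub_eq_zero] at h4
    exact h4
  let β : A' →ₗ[R] R :=
    { toFun := fun a' => φ.ofConv (Function.surjInv hg a')
      map_add' := fun x y => by
        rw [← map_add]
        apply h2
        rw [map_add, Function.surjInv_eq hg, Function.surjInv_eq hg, Function.surjInv_eq hg]
      map_smul' := fun c x => by
        rw [RingHom.id_apply, ← map_smul]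
        apply h2
        rw [map_smul, Function.surjInv_eq hg, Function.surjInv_eq hg] }
  refine ⟨WithConv.toConv β, ?_⟩
  apply WithConv.ext
  apply LinearMap.ext
  intro a
  change φ.ofConv (Function.surjInv hg (g a)) = φ.ofConv a
  apply h2
  rw [Function.surjInv_eq hg]

theorem transpose_g_injective (hg : Function.Surjective g) :
    Function.Injective (CartDual.transpose R g) := by
  intro β β' h
  apply WithConv.ext
  apply LinearMap.ext
  intro a'
  obtain ⟨a, rfl⟩ := hg a'
  have := congrArg (fun φ : CartDual.D R A => φ.ofConv a) h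
  exact this

include hf hg hker in
/-- **Exactness of Cartier duality.** -/
theorem main :
    (CartDual.transpose R g : CartDual.D R A' →ₐ[R] CartDual.D R A).toRingHom.FaithfullyFlat ∧
      Function.Surjective (CartDual.transpose R f) ∧
      RingHom.ker (CartDual.transpose R f : CartDual.D R A →ₐ[R] CartDual.D R A'') =
        Ideal.map (CartDual.transpose R g : CartDual.D R A' →ₐ[R] CartDual.D R A)
          (RingHom.ker (Bialgebra.counitAlgHom R (CartDual.D R A'))) := by
  have hπ := transpose_f_surjective f hf
  obtain ⟨n, t, S, ht, hS⟩ := exists_data' (CartDual.transpose R f) hπ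
  have hproj : Module.Projective (coinv (CartDual.transpose R f)) (CartDual.D R A) :=
    projective_of_data _ t S ht hS
  refine ⟨?_, hπ, ?_⟩
  · -- faithful flatness
    set B := coinv (CartDual.transpose R f) with hB
    let e : CartDual.D R A' →ₐ[R] B :=
      (CartDual.transpose R g : CartDual.D R A' →ₐ[R] CartDual.D R A).codRestrict B
        (fun β => transpose_g_mem_coinv f g hker β)
    have he : Function.Bijective e := by
      constructor
      · intro β β' h
        apply transpose_g_injective g hg
        exact congrArg Subtype.val h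
      · intro b
        obtain ⟨β, hβ⟩ := exists_of_mem_coinv f g hg hker (b : CartDual.D R A) b.2
        exact ⟨β, Subtype.ext hβ⟩
    have h1 : (CartDual.transpose R g : CartDual.D R A' →ₐ[R] CartDual.D R A).toRingHom =
        (algebraMap B (CartDual.D R A)).comp e.toRingHom := by
      ext β
      rfl
    rw [h1]
    apply RingHom.FaithfullyFlat.stableUnderComposition
    · exact RingHom.FaithfullyFlat.of_bijective he
    · rw [RingHom.faithfullyFlat_algebraMap_iff]
      haveI : Module.Finite B (CartDual.D R A) := Module.Finite.of_restrictScalars_finite R B _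
      haveI : Module.Flat B (CartDual.D R A) := @Module.Flat.of_projective _ _ _ _ _ hproj
      exact Groth.Agent.Lib.helper13.faithfullyFlat_of_finite_flat_injective B (CartDual.D R A)
        Subtype.val_injective
  · -- the kernel
    apply le_antisymm
    · intro y hy
      have hy' : CartDual.transpose R f y = 0 := hy
      have h2 := mem_augIdeal_of_pi_eq_zero _ t S ht hS y hy'
      have h3 : augIdeal (CartDual.transpose R f) ≤
          Ideal.map (CartDual.transpose R g : CartDual.D R A' →ₐ[R] CartDual.D R A)
            (RingHom.ker (Bialgebra.counitAlgHom R (CartDual.D R A'))) := by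
        unfold augIdeal
        rw [Ideal.span_le]
        rintro b ⟨hb, hb0⟩
        obtain ⟨β, rfl⟩ := exists_of_mem_coinv f g hg hker b hb
        apply Ideal.mem_map_of_mem
        rw [RingHom.mem_ker]
        change β.ofConv 1 = 0
        have h4 : β.ofConv (g 1) = 0 := hb0
        rwa [map_one] at h4
      exact h3 h2
    · rw [Ideal.map_le_iff_le_comap]
      intro β hβ
      rw [Ideal.mem_comap, RingHom.mem_ker]
      have hβ' : β.ofConv 1 = 0 := hβ
      apply WithConv.ext
      apply LinearMap.ext
      intro a''
      change β.ofConv (g (f a'')) = 0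
      rw [g_f f g hker, Algebra.algebraMap_eq_smul_one, map_smul, hβ', smul_zero]

end Main

end Groth.Agent.Lib.helper15.CartDualExact
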