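import Mathlib
import Groth.Agent.Lib.Helper15.HopfSub
import Groth.Agent.Lib.Helper15.MatCoef

/-!
# Characters of an affine group restricting to a power on a central diagonalizable subgroup (helper15)

`A` a commutative Hopf algebra over a field, `π : A → k[M]` a bialgebra map which is central (left and
right `k[M]`-coactions on `A` agree) and hits the group-like `g₀`.  Then there is a group-like `χ ∈ A`
with `π χ = g₀ ^ n`, `n ≥ 1`: the determinant of a finite-dimensional right coideal inside the
weight-`g₀` part of `A`.
-/

set_option autoImplicit false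
set_option linter.unusedSectionVars false
universe u v
open TensorProduct

namespace Groth.Agent.Lib.helper15.CentralChar

open Groth.Agent.Lib.helper15.HopfSub Groth.Agent.Lib.helper15.MatCoef

section Coalg
variable {k A : Type*} [Field k] [AddCommGroup A] [Module k A] [Coalgebra k A]

local notation "Δ" => Coalgebra.comul (R := k) (A := A)
local notation "ε" => Coalgebra.counit (R := k) (A := A)

/-- convolution of functionals: `x ↦ ∑ f x₁ * g x₂`. -/
noncomputable def cv (f g : Module.Dual k A) : Module.Dual k A := f ∘ₗ slR g ∘ₗ Δ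

lemma slR_slR_aux (f g : Module.Dual k A) (s : A ⊗[k] A) :
    slR f (slR₂ g ((TensorProduct.assoc k A A A).symm ((Δ).lTensor A s))) = slR (cv f g) s := by
  induction s with
  | zero => simp
  | tmul y z =>
    rw [LinearMap.lTensor_tmul, slR₂_assoc_symm, slR_tmul, slR_tmul]
    rfl
  | add x y hx hy => simp only [map_add, hx, hy]

/-- right translations compose by convolution. -/
lemma slR_comul_slR (f g : Module.Dual k A) (x : A) :
    slR f (Δ (slR g (Δ x))) = slR (cv f g) (Δ x) := by
  rw [comul_slR, coassoc_symm', slR_slR_aux]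

lemma slL_slR_aux (f g : Module.Dual k A) (u : A ⊗[k] (A ⊗[k] A)) :
    slL f (slR₂ g ((TensorProduct.assoc k A A A).symm u)) = slR g (slL₂ f u) := by
  induction u with
  | zero => simp
  | tmul a t =>
    induction t with
    | zero => simp
    | tmul b c =>
      rw [TensorProduct.assoc_symm_tmul, slR₂_tmul, slL₂_tmul, map_smul, map_smul, slL_tmul,
        slR_tmul, smul_comm]
    | add x y hx hy => simp only [TensorProduct.tmul_add, map_add, hx, hy]
  | add x y hx hy => simp only [map_add, hx, hy]

/-- left and right translations commute. -/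
lemma slL_comul_slR (f g : Module.Dual k A) (x : A) :
    slL f (Δ (slR g (Δ x))) = slR g (Δ (slL f (Δ x))) := by
  rw [comul_slR, coassoc_symm', slL_slR_aux, comul_slL]

lemma counit_slR (φ : Module.Dual k A) (t : A ⊗[k] A) :
    ε (slR φ t) = φ (slL ε t) := by
  induction t with
  | zero => simp
  | tmul x y => simp [mul_comm]
  | add x y hx hy => simp only [map_add, hx, hy]

end Coalg

section Main

variable {k : Type u} [Field k] {A : Type u} [CommRing A] [HopfAlgebra k A]
  {M : Type v} [CommGroup M] [DecidableEq M] (π : A →ₐc[k] MonoidAlgebra k M)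

local notation "Δ" => Coalgebra.comul (R := k) (A := A)
local notation "ε" => Coalgebra.counit (R := k) (A := A)

/-- coefficient functional on `k[M]`. -/
noncomputable def pc (m : M) : Module.Dual k (MonoidAlgebra k M) :=
  (Finsupp.lapply m) ∘ₗ (MonoidAlgebra.coeffLinearEquiv (S := k) (M := M) k).toLinearMap

lemma pc_apply (m : M) (y : MonoidAlgebra k M) : pc (k := k) m y = y.coeff m := rfl

/-- the functional `x ↦ (π x)_m`. -/
noncomputable def phi (m : M) : Module.Dual k A :=
  pc (k := k) m ∘ₗ ((π : A →ₐ[k] MonoidAlgebra k M) : A →ₗ[k] MonoidAlgebra k M)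

lemma phi_apply (m : M) (x : A) : phi π m x = (π x).coeff m := rfl

lemma pc_pc_comul (n m : M) (y : MonoidAlgebra k M) :
    TensorProduct.lid k k (TensorProduct.map (pc (k := k) n) (pc (k := k) m)
      (Coalgebra.comul (R := k) y)) = if n = m then y.coeff m else 0 := by
  classical
  induction y using MonoidAlgebra.induction_linear with
  | zero => simp
  | add x y hx hy =>
    rw [map_add, map_add, map_add, hx, hy, MonoidAlgebra.coeff_add, Finsupp.add_apply]
    split_ifs <;> simp
  | single g c =>
    rw [MonoidAlgebra.comul_single, CommSemiring.comul_apply, TensorProduct.map_tmul,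
      TensorProduct.map_tmul, TensorProduct.lid_tmul, pc_apply,
      pc_apply, MonoidAlgebra.lsingle_apply, MonoidAlgebra.lsingle_apply,
      MonoidAlgebra.coeff_single, MonoidAlgebra.coeff_single, Finsupp.single_apply,
      Finsupp.single_apply, smul_eq_mul]
    by_cases h1 : g = n
    · by_cases h2 : g = m
      · subst h1; subst h2; simp
      · subst h1; simp [h2]
    · by_cases h2 : g = m
      · subst h2
        have : ¬ n = g := fun h => h1 h.symm
        simp [h1, this]
      · simp [h1, h2]

lemma phi_slR (n m : M) (t : A ⊗[k] A) :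
    phi π n (slR (phi π m) t) =
      TensorProduct.lid k k (TensorProduct.map (pc (k := k) n) (pc (k := k) m)
        (TensorProduct.map ((π : A →ₐ[k] MonoidAlgebra k M) : A →ₗ[k] MonoidAlgebra k M)
          ((π : A →ₐ[k] MonoidAlgebra k M) : A →ₗ[k] MonoidAlgebra k M) t)) := by
  induction t with
  | zero => simp
  | tmul x y =>
    rw [slR_tmul, map_smul, TensorProduct.map_tmul, TensorProduct.map_tmul,
      TensorProduct.lid_tmul, smul_eq_mul, smul_eq_mul, mul_comm]
    rfl
  | add x y hx hy => simp only [map_add, hx, hy]

lemma cv_phi (n m : M) : cv (phi π n) (phi π m) = if n = m then phi π m else 0 := by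
  apply LinearMap.ext
  intro z
  change phi π n (slR (phi π m) (Δ z)) = _
  rw [phi_slR]
  have h : TensorProduct.map ((π : A →ₐ[k] MonoidAlgebra k M) : A →ₗ[k] MonoidAlgebra k M)
      ((π : A →ₐ[k] MonoidAlgebra k M) : A →ₗ[k] MonoidAlgebra k M) (Δ z) =
      Coalgebra.comul (R := k) (π z) := CoalgHomClass.map_comp_comul_apply π z
  rw [h, pc_pc_comul]
  split_ifs <;> rfl

/-- the weight projections are orthogonal idempotents. -/
lemma proj_proj (n m : M) (x : A) :
    slR (phi π n) (Δ (slR (phi π m) (Δ x))) = if n = m then slR (phi π m) (Δ x) else 0 := by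
  rw [slR_comul_slR, cv_phi]
  split_ifs
  · rfl
  · simp [slR]

theorem exists_grouplike (g₀ : M)
    (hg : MonoidAlgebra.single g₀ (1 : k) ∈ Set.range π)
    (hcent : ∀ (m : M) (x : A), slL (phi π m) (Δ x) = slR (phi π m) (Δ x)) :
    ∃ (χ : A) (n : ℕ), IsGroupLikeElem k χ ∧ 0 < n ∧ π χ = MonoidAlgebra.single (g₀ ^ n) (1 : k) := by
  classical
  obtain ⟨a, ha⟩ := hg
  set a₁ : A := slR (phi π g₀) (Δ a) with ha₁
  have hε : ε a₁ = 1 := by
    rw [ha₁, counit_slR, slL_counit_comul, phi_apply, ha, MonoidAlgebra.coeff_single,
      Finsupp.single_eq_same]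
  have ha₁0 : a₁ ≠ 0 := by
    intro h
    rw [h, map_zero] at hε
    exact zero_ne_one hε
  set W : Submodule k A := RC (k := k) a₁ with hW
  have hcoid := RC_coideal (k := k) a₁
  -- every element of `W` has weight `g₀`
  have hW1 : ∀ w ∈ W, ∀ m : M, slR (phi π m) (Δ w) = if m = g₀ then w else 0 := by
    intro w hw m
    induction hw using Submodule.span_induction with
    | mem w hw =>
      obtain ⟨g, rfl⟩ := hw
      change slR (phi π m) (Δ (slR g (Δ a₁))) = _
      rw [← hcent, slL_comul_slR, hcent, ha₁, proj_proj]
      split_ifs with h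
      · subst h; rfl
      · simp
    | zero => simp
    | add x y _ _ hx hy =>
      rw [map_add, map_add, hx, hy]
      split_ifs <;> simp
    | smul c x _ hx =>
      rw [map_smul, map_smul, hx]
      split_ifs <;> simp
  have : Module.Finite k W := Module.Finite.iff_fg.mpr (RC_fg a₁)
  set n := Module.finrank k W with hn
  have hnpos : 0 < n := by
    rw [hn, Module.finrank_pos_iff]
    exact ⟨⟨⟨a₁, mem_RC a₁⟩, 0, fun h => ha₁0 (congrArg Subtype.val h)⟩⟩
  let b : Module.Basis (Fin n) k W := Module.finBasis k W
  obtain ⟨c, hc1, hc2, hc3, -⟩ := exists_matrix_coeff W hcoid b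
  have hli : LinearIndependent k (fun i => (b i : A)) :=
    b.linearIndependent.map' W.subtype W.ker_subtype
  -- `π (c i j)` is the scalar matrix `g₀`
  have hπc : ∀ i j, π (c i j) = if i = j then MonoidAlgebra.single g₀ (1 : k) else 0 := by
    intro i j
    have key : ∀ m : M, phi π m (c i j) = if m = g₀ then (if i = j then (1 : k) else 0) else 0 := by
      intro m
      have h1 := hW1 (b j : A) (b j).2 m
      rw [hc1 j, map_sum] at h1
      simp only [slR_tmul] at h1
      by_cases hm : m = g₀
      · rw [if_pos hm] at h1 ⊢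
        have h2 : ∑ x, (phi π m (c x j) - if x = j then (1 : k) else 0) • (b x : A) = 0 := by
          simp only [sub_smul, Finset.sum_sub_distrib, h1, ite_smul, one_smul, zero_smul,
            Finset.sum_ite_eq', Finset.mem_univ, if_true, sub_self]
        have h3 := (Fintype.linearIndependent_iff.mp hli) _ h2 i
        exact sub_eq_zero.mp h3
      · rw [if_neg hm] at h1 ⊢
        exact (Fintype.linearIndependent_iff.mp hli) _ h1 i
    apply MonoidAlgebra.ext
    apply Finsupp.ext
    intro m
    have := key m
    rw [phi_apply] at this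
    rw [this]
    split_ifs with h1 h2 h2
    · subst h1; simp [MonoidAlgebra.coeff_single]
    · simp
    · rw [MonoidAlgebra.coeff_single, Finsupp.single_apply, if_neg (fun h => h1 h.symm)]
    · simp
  refine ⟨c.det, n, ⟨counit_det c hc3, comul_det c hc2⟩, hnpos, ?_⟩
  have h1 : π c.det = ((π : A →ₐ[k] MonoidAlgebra k M).mapMatrix c).det :=
    AlgHom.map_det (π : A →ₐ[k] MonoidAlgebra k M) c
  have h2 : (π : A →ₐ[k] MonoidAlgebra k M).mapMatrix c =
      Matrix.diagonal (fun _ : Fin n => MonoidAlgebra.single g₀ (1 : k)) := by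
    apply Matrix.ext
    intro i j
    rw [AlgHom.mapMatrix_apply, Matrix.map_apply, Matrix.diagonal_apply]
    exact hπc i j
  rw [h1, h2, Matrix.det_diagonal, Finset.prod_const, Finset.card_univ, Fintype.card_fin,
    MonoidAlgebra.single_pow, one_pow]

end Main

end Groth.Agent.Lib.helper15.CentralChar
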