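import Mathlib
import Groth.Prelude.Def_Red2
import Groth.Agent.Lib.Helper15.CentralChar
import Groth.Agent.Lib.Helper15.GmBridge
import Groth.Agent.Lib.Helper15.BTExactSch
import Groth.Agent.Lib.Helper15.DSMap

/-!
# Characters of an affine group scheme restricting to a power on a central `𝔾_m` (helper15)

* `exists_iso_LZ`: `Red.Gm (Spec k) ≅ Spec k[ℤ]` as group schemes.
* `chiHom`: the bialgebra map `k[ℤ] → A` attached to a group-like element.
* `specMap_theta`: `Spec` of `T ↦ T ^ n` is the `n`-th power of the identity.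
* `main`: `E` affine over a field, `i : 𝔾_m → E` a central closed immersion (homomorphism); then there are a
  character `χ : E → 𝔾_m` and `n ≥ 1` with `χ ∘ i = (·) ^ n`.
-/

set_option autoImplicit false
set_option linter.unusedSectionVars false
set_option linter.style.haveILetI false
universe u
open CategoryTheory CategoryTheory.Limits MonoidalCategory CartesianMonoidalCategory MonObj GrpObj
  AlgebraicGeometry
open scoped TensorProduct

namespace Groth.Agent.Lib.helper15.CentralCharSch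

open Groth.Agent.Lib.helper15.HopfDict Groth.Agent.Lib.helper15.HopfSub
  Groth.Agent.Lib.helper15.CentralChar Groth.Agent.Lib.helper15.BTExactSch WithConv

variable {k : Type u} [Field k]

/-- the group algebra `k[ℤ]`. -/
abbrev LZ (k : Type u) [Field k] : Type u := MonoidAlgebra k (Multiplicative ℤ)

theorem exists_iso_LZ :
    ∃ e : Red.Gm (Spec (CommRingCat.of k)) ≅ GA k (LZ k), IsMonHom e.hom ∧ IsMonHom e.inv := by
  haveI : IsAffine (Red.Gm (Spec (CommRingCat.of k))).left := by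
    change IsAffine (Limits.pullback _ _)
    infer_instance
  obtain ⟨A, _, _, ⟨ε⟩⟩ := exists_hopf_of_affine k (Red.Gm (Spec (CommRingCat.of k)))
  obtain ⟨e, he1, he2⟩ := exists_iso_of_grpIso ε
  haveI := he2
  exact exists_iso_of_grpIso (ε ≪≫ grpIso_of_bialgEquiv (GmBridge.tauEquiv e))

section Chi

variable {A : Type u} [CommRing A] [HopfAlgebra k A] (χ₀ : A) (h : IsGroupLikeElem k χ₀)

/-- `k[ℤ] → A`, `T ↦ χ₀`. -/
noncomputable def chiHom : LZ k →ₐc[k] A :=
  (MonoidAlgebra.liftGroupLikeBialgHom (R := k) (A := A)).comp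
    (MonoidAlgebra.mapDomainBialgHom k (zpowersHom (GroupLike k A) ⟨χ₀, h⟩))

lemma chiHom_single (g : Multiplicative ℤ) :
    chiHom χ₀ h (MonoidAlgebra.single g (1 : k)) =
      ((zpowersHom (GroupLike k A) ⟨χ₀, h⟩ g : GroupLike k A) : A) := by
  unfold chiHom
  rw [BialgHom.comp_apply, MonoidAlgebra.mapDomainBialgHom_single]
  simp

lemma chiHom_gen :
    chiHom χ₀ h (MonoidAlgebra.single (Multiplicative.ofAdd (1 : ℤ)) (1 : k)) = χ₀ := by
  rw [chiHom_single]
  simp

end Chi

/-- `T ↦ T ^ n` on `k[ℤ]`. -/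
noncomputable def theta (n : ℕ) : LZ k →ₐ[k] LZ k :=
  MonoidAlgebra.lift k (LZ k) (Multiplicative ℤ) ((MonoidAlgebra.of k (Multiplicative ℤ)) ^ n)

lemma theta_single (n : ℕ) (g : Multiplicative ℤ) :
    theta (k := k) n (MonoidAlgebra.single g (1 : k)) = MonoidAlgebra.single (g ^ n) (1 : k) := by
  unfold theta
  rw [MonoidAlgebra.lift_single, one_smul, MonoidHom.pow_apply, MonoidAlgebra.of_apply,
    MonoidAlgebra.single_pow, one_pow]

lemma comp_chiHom {A : Type u} [CommRing A] [HopfAlgebra k A] (π : A →ₐc[k] LZ k) (χ₀ : A)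
    (h : IsGroupLikeElem k χ₀) (n : ℕ)
    (hπ : π χ₀ = MonoidAlgebra.single ((Multiplicative.ofAdd (1 : ℤ)) ^ n) (1 : k)) :
    (π : A →ₐ[k] LZ k).comp (chiHom χ₀ h : LZ k →ₐ[k] A) = theta n := by
  refine MonoidAlgebra.algHom_ext ?_ (Subsingleton.elim _ _)
  intro g
  have h3 : (((π : A →ₐ[k] LZ k).comp (chiHom χ₀ h : LZ k →ₐ[k] A) : LZ k →ₐ[k] LZ k) :
      LZ k →* LZ k).comp (MonoidAlgebra.of k (Multiplicative ℤ)) =
      ((theta n : LZ k →ₐ[k] LZ k) : LZ k →* LZ k).comp (MonoidAlgebra.of k (Multiplicative ℤ)) := by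
    apply MonoidHom.ext_mint
    change π (chiHom χ₀ h (MonoidAlgebra.single (Multiplicative.ofAdd (1 : ℤ)) (1 : k))) =
      theta n (MonoidAlgebra.single (Multiplicative.ofAdd (1 : ℤ)) (1 : k))
    rw [chiHom_gen, hπ, theta_single]
  exact DFunLike.congr_fun h3 g

lemma specMap_theta (n : ℕ) : specMap (theta (k := k) n) = (𝟙 (GA k (LZ k))) ^ n := by
  have h1 : toConv (theta (k := k) n) =
      (MonoidAlgebra.liftMulEquiv k (LZ k) (Multiplicative ℤ))
        ((MonoidAlgebra.of k (Multiplicative ℤ)) ^ n) := rfl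
  have h2 : (MonoidAlgebra.liftMulEquiv k (LZ k) (Multiplicative ℤ))
      (MonoidAlgebra.of k (Multiplicative ℤ)) = toConv (AlgHom.id k (LZ k)) := by
    change toConv (MonoidAlgebra.lift k (LZ k) (Multiplicative ℤ)
      (MonoidAlgebra.of k (Multiplicative ℤ))) = _
    congr 1
    refine MonoidAlgebra.algHom_ext ?_ (Subsingleton.elim _ _)
    intro g
    rw [MonoidAlgebra.lift_single, one_smul]
    rfl
  rw [specMap_eq_mapMulEquiv, h1, map_pow, h2, map_pow, ← specMap_eq_mapMulEquiv, specMap_id]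

section Cent

variable {A : Type u} [CommRing A] [HopfAlgebra k A] (π : A →ₐc[k] LZ k)

/-- `p_m ⊗ id : k[ℤ] ⊗ A → A`. -/
noncomputable def qm (m : Multiplicative ℤ) : (LZ k) ⊗[k] A →ₗ[k] A :=
  (TensorProduct.lid k A).toLinearMap ∘ₗ (pc (k := k) m).rTensor A

lemma qm_tmul (m : Multiplicative ℤ) (y : LZ k) (a : A) :
    qm (k := k) (A := A) m (y ⊗ₜ[k] a) = y.coeff m • a := by
  simp [qm, pc_apply]

lemma qm_lift_left (m : Multiplicative ℤ) (t : A ⊗[k] A) :
    qm (k := k) (A := A) m (Algebra.TensorProduct.lift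
      ((Algebra.TensorProduct.includeLeft : LZ k →ₐ[k] (LZ k) ⊗[k] A).comp (π : A →ₐ[k] LZ k))
      (Algebra.TensorProduct.includeRight : A →ₐ[k] (LZ k) ⊗[k] A) (fun _ _ => .all ..) t) =
      slL (phi π m) t := by
  induction t with
  | zero => simp
  | tmul x y =>
    rw [Algebra.TensorProduct.lift_tmul, AlgHom.comp_apply,
      Algebra.TensorProduct.includeLeft_apply, Algebra.TensorProduct.includeRight_apply,
      Algebra.TensorProduct.tmul_mul_tmul, _root_.mul_one, _root_.one_mul, qm_tmul, slL_tmul]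
    rfl
  | add x y hx hy => simp only [map_add, hx, hy]

lemma qm_lift_right (m : Multiplicative ℤ) (t : A ⊗[k] A) :
    qm (k := k) (A := A) m (Algebra.TensorProduct.lift
      (Algebra.TensorProduct.includeRight : A →ₐ[k] (LZ k) ⊗[k] A)
      ((Algebra.TensorProduct.includeLeft : LZ k →ₐ[k] (LZ k) ⊗[k] A).comp (π : A →ₐ[k] LZ k))
      (fun _ _ => .all ..) t) =
      slR (phi π m) t := by
  induction t with
  | zero => simp
  | tmul x y =>
    rw [Algebra.TensorProduct.lift_tmul, AlgHom.comp_apply,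
      Algebra.TensorProduct.includeLeft_apply, Algebra.TensorProduct.includeRight_apply,
      Algebra.TensorProduct.tmul_mul_tmul, _root_.one_mul, _root_.mul_one, qm_tmul, slR_tmul]
    rfl
  | add x y hx hy => simp only [map_add, hx, hy]

end Cent

theorem main (E : Over (Spec (CommRingCat.of k))) [GrpObj E] [IsAffine E.left]
    (i : Red.Gm (Spec (CommRingCat.of k)) ⟶ E) [IsMonHom i] [IsClosedImmersion i.left]
    (hcent : ∀ (T : Over (Spec (CommRingCat.of k))) (t : T ⟶ Red.Gm (Spec (CommRingCat.of k)))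
      (g : T ⟶ E), (t ≫ i) * g = g * (t ≫ i)) :
    ∃ (χ : E ⟶ Red.Gm (Spec (CommRingCat.of k))) (n : ℕ), IsMonHom χ ∧ 1 ≤ n ∧
      ∀ (T : Over (Spec (CommRingCat.of k))) (t : T ⟶ Red.Gm (Spec (CommRingCat.of k))),
        (t ≫ i) ≫ χ = t ^ n := by
  obtain ⟨A, _, _, eE, hE1, hE2⟩ := exists_hopf_of_affine' k E
  obtain ⟨eG, hG1, hG2⟩ := exists_iso_LZ (k := k)
  haveI := hE1
  haveI := hE2
  haveI := hG1
  haveI := hG2
  let i' : GA k (LZ k) ⟶ GA k A := eG.inv ≫ i ≫ eE.hom
  haveI : IsMonHom i' := inferInstance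
  obtain ⟨π, hπ⟩ := exists_bialgHom_of_isMonHom i'
  -- `π` is surjective
  have hsurj : Function.Surjective π := by
    haveI : IsIso eG.inv.left := (Over.forget _).map_isIso eG.inv
    haveI : IsIso eE.hom.left := (Over.forget _).map_isIso eE.hom
    have hci : IsClosedImmersion i'.left := by
      change IsClosedImmersion (eG.inv.left ≫ i.left ≫ eE.hom.left)
      infer_instance
    rw [hπ] at hci
    have hci' : IsClosedImmersion (Spec.map (CommRingCat.ofHom (π : A →ₐ[k] LZ k).toRingHom)) := hci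
    have h := (IsClosedImmersion.isAffine_surjective_of_isAffine
      (Spec.map (CommRingCat.ofHom (π : A →ₐ[k] LZ k).toRingHom))).2
    have e : CommRingCat.ofHom (π : A →ₐ[k] LZ k).toRingHom =
        (Scheme.ΓSpecIso (CommRingCat.of A)).inv ≫
          (Spec.map (CommRingCat.ofHom (π : A →ₐ[k] LZ k).toRingHom)).appTop ≫
          (Scheme.ΓSpecIso (CommRingCat.of (LZ k))).hom := by
      rw [Scheme.ΓSpecIso_naturality, Iso.inv_hom_id_assoc]
    have h2 : Function.Surjective (CommRingCat.ofHom (π : A →ₐ[k] LZ k).toRingHom).hom := by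
      rw [e]
      simp only [CommRingCat.hom_comp, RingHom.coe_comp]
      exact ((ConcreteCategory.bijective_of_isIso
        (Scheme.ΓSpecIso (CommRingCat.of (LZ k))).hom).2.comp h).comp
        (ConcreteCategory.bijective_of_isIso (Scheme.ΓSpecIso (CommRingCat.of A)).inv).2
    exact h2
  -- centrality at the Hopf algebra level
  have hc : ∀ (m : Multiplicative ℤ) (x : A),
      slL (phi π m) (Coalgebra.comul (R := k) x) = slR (phi π m) (Coalgebra.comul (R := k) x) := by
    intro m x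
    let f1 : A →ₐ[k] (LZ k) ⊗[k] A :=
      (Algebra.TensorProduct.includeLeft : LZ k →ₐ[k] (LZ k) ⊗[k] A).comp (π : A →ₐ[k] LZ k)
    let f2 : A →ₐ[k] (LZ k) ⊗[k] A := Algebra.TensorProduct.includeRight
    let t : GA k ((LZ k) ⊗[k] A) ⟶ Red.Gm (Spec (CommRingCat.of k)) :=
      specMap (Algebra.TensorProduct.includeLeft : LZ k →ₐ[k] (LZ k) ⊗[k] A) ≫ eG.inv
    let g : GA k ((LZ k) ⊗[k] A) ⟶ E := specMap f2 ≫ eE.inv
    have h0 : ((t ≫ i) * g) ≫ eE.hom = (g * (t ≫ i)) ≫ eE.hom := by rw [hcent]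
    rw [MonObj.mul_comp, MonObj.mul_comp] at h0
    have e1 : (t ≫ i) ≫ eE.hom = specMap f1 := by
      change ((specMap (Algebra.TensorProduct.includeLeft : LZ k →ₐ[k] (LZ k) ⊗[k] A) ≫ eG.inv) ≫ i) ≫
        eE.hom = _
      rw [Category.assoc, Category.assoc]
      change specMap (Algebra.TensorProduct.includeLeft : LZ k →ₐ[k] (LZ k) ⊗[k] A) ≫ i' = _
      rw [hπ, ← specMap_comp]
    have e2 : g ≫ eE.hom = specMap f2 := by
      change (specMap f2 ≫ eE.inv) ≫ eE.hom = _
      rw [Category.assoc, eE.inv_hom_id, Category.comp_id]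
    rw [e1, e2, specMap_eq_mapMulEquiv, specMap_eq_mapMulEquiv, ← map_mul, ← map_mul] at h0
    have h1 := (Spec.mapMulEquiv (R := k) (S := A) (T := (LZ k) ⊗[k] A)).injective h0
    have h2 : (toConv f1 * toConv f2) x = (toConv f2 * toConv f1) x := by rw [h1]
    rw [AlgHom.convMul_apply, AlgHom.convMul_apply] at h2
    have h3 := congrArg (qm (k := k) (A := A) m) h2
    rw [← qm_lift_left π m, ← qm_lift_right π m]
    exact h3
  obtain ⟨χ₀, n, hχ, hn, hπχ⟩ := exists_grouplike π (Multiplicative.ofAdd (1 : ℤ))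
    (hsurj _) hc
  haveI : IsMonHom (specMap (chiHom χ₀ hχ : LZ k →ₐ[k] A)) :=
    Groth.Agent.Lib.helper15.DSMap.isMonHom_specMap (chiHom χ₀ hχ)
  refine ⟨eE.hom ≫ specMap (chiHom χ₀ hχ : LZ k →ₐ[k] A) ≫ eG.inv, n, inferInstance, hn, ?_⟩
  intro T t
  have e3 : i ≫ eE.hom = eG.hom ≫ specMap (π : A →ₐ[k] LZ k) := by
    rw [← hπ]
    simp [i']
  have e4 : i ≫ eE.hom ≫ specMap (chiHom χ₀ hχ : LZ k →ₐ[k] A) ≫ eG.inv =
      (𝟙 (Red.Gm (Spec (CommRingCat.of k)))) ^ n := by
    rw [← Category.assoc, e3, Category.assoc, ← Category.assoc (specMap (π : A →ₐ[k] LZ k)),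
      ← specMap_comp, comp_chiHom π χ₀ hχ n hπχ, specMap_theta]
    rw [MonObj.pow_comp (𝟙 (GA k (LZ k))) n eG.inv, MonObj.comp_pow,
      Category.id_comp, eG.hom_inv_id]
  rw [Category.assoc, e4, MonObj.comp_pow, Category.comp_id]

end Groth.Agent.Lib.helper15.CentralCharSch
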