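import Mathlib

/-!
# Fibrewise characteristic polynomials of an endomorphism of a projective module (helper15)

* `charpoly_comp_comm`: `X^(dim V) · χ(u ∘ v) = X^(dim W) · χ(v ∘ u)` for `u : V → W`, `v : W → V`.
* `exists_coeff_charpoly_fibre`: for `φ` an endomorphism of a f.g. projective `A`-module `L`, a
  prime `p₀` and `n : ℕ`, there are `g ∉ p₀` and `c : A` such that for all primes `q ∌ g` the
  `n`-th coefficient of the characteristic polynomial of `κ(q) ⊗ φ` is nonzero iff `c ∉ q`.
-/

set_option autoImplicit false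
set_option linter.style.haveILetI false
set_option linter.unusedSectionVars false
universe u v w

namespace Groth.Agent.Lib.helper15.CharpolyFibre

open Polynomial Module TensorProduct

theorem charpoly_comp_comm {κ : Type u} [Field κ] {V : Type v} {W : Type w}
    [AddCommGroup V] [Module κ V] [FiniteDimensional κ V]
    [AddCommGroup W] [Module κ W] [FiniteDimensional κ W]
    (f : V →ₗ[κ] W) (g : W →ₗ[κ] V) :
    (X : κ[X]) ^ finrank κ V * (f ∘ₗ g).charpoly = X ^ finrank κ W * (g ∘ₗ f).charpoly := by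
  classical
  let bV := Module.finBasis κ V
  let bW := Module.finBasis κ W
  have h := Matrix.charpoly_mul_comm' (LinearMap.toMatrix bV bW f) (LinearMap.toMatrix bW bV g)
  rw [← LinearMap.toMatrix_comp, ← LinearMap.toMatrix_comp, LinearMap.charpoly_toMatrix,
    LinearMap.charpoly_toMatrix, Fintype.card_fin, Fintype.card_fin] at h
  exact h

theorem coeff_charpoly_baseChange_eq {A : Type u} [CommRing A] {L : Type v} [AddCommGroup L]
    [Module A L] [Module.Finite A L]
    {N : ℕ} (π : (Fin N → A) →ₗ[A] L) (i : L →ₗ[A] (Fin N → A)) (hπi : π ∘ₗ i = LinearMap.id)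
    (φ : L →ₗ[A] L) (κ : Type w) [Field κ] [Algebra A κ] (n : ℕ) :
    (φ.baseChange κ).charpoly.coeff n =
      algebraMap A κ ((i ∘ₗ φ ∘ₗ π).charpoly.coeff (n + N - finrank κ (κ ⊗[A] L))) := by
  haveI : Nontrivial A := (algebraMap A κ).domain_nontrivial
  let f : κ ⊗[A] L →ₗ[κ] κ ⊗[A] (Fin N → A) := i.baseChange κ
  let g : κ ⊗[A] (Fin N → A) →ₗ[κ] κ ⊗[A] L := (φ ∘ₗ π).baseChange κ
  have hfg : f ∘ₗ g = (i ∘ₗ φ ∘ₗ π).baseChange κ := by
    rw [LinearMap.baseChange_comp]
  have hgf : g ∘ₗ f = φ.baseChange κ := by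
    change (φ ∘ₗ π).baseChange κ ∘ₗ i.baseChange κ = _
    rw [← LinearMap.baseChange_comp, LinearMap.comp_assoc, hπi, LinearMap.comp_id]
  have hN : finrank κ (κ ⊗[A] (Fin N → A)) = N := by
    rw [Module.finrank_baseChange, Module.finrank_fin_fun]
  have hinj : Function.Injective f := by
    have h1 : (π.baseChange κ) ∘ₗ f = LinearMap.id := by
      change π.baseChange κ ∘ₗ i.baseChange κ = _
      rw [← LinearMap.baseChange_comp, hπi, LinearMap.baseChange_id]
    exact LinearMap.injective_of_comp_eq_id _ _ h1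
  have hd : finrank κ (κ ⊗[A] L) ≤ N := by
    rw [← hN]
    exact LinearMap.finrank_le_finrank_of_injective hinj
  have h := charpoly_comp_comm f g
  rw [hfg, hgf, hN, LinearMap.charpoly_baseChange] at h
  have h2 : (X ^ finrank κ (κ ⊗[A] L) * Polynomial.map (algebraMap A κ) (i ∘ₗ φ ∘ₗ π).charpoly).coeff (n + N) =
      (X ^ N * (φ.baseChange κ).charpoly).coeff (n + N) := by rw [h]
  rw [Polynomial.coeff_X_pow_mul, Polynomial.coeff_X_pow_mul', if_pos (by omega),
    Polynomial.coeff_map] at h2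
  exact h2.symm

theorem exists_coeff_charpoly_fibre {A : Type u} [CommRing A] {L : Type v} [AddCommGroup L]
    [Module A L] [Module.Finite A L] [Module.Projective A L] (φ : L →ₗ[A] L) (n : ℕ)
    (p₀ : PrimeSpectrum A) :
    ∃ g c : A, g ∉ p₀.asIdeal ∧ ∀ q : PrimeSpectrum A, g ∉ q.asIdeal →
      ((φ.baseChange q.asIdeal.ResidueField).charpoly.coeff n ≠ 0 ↔ c ∉ q.asIdeal) := by
  obtain ⟨N, π, i, -, -, hπi⟩ := Module.Finite.exists_comp_eq_id_of_projective A L
  haveI : Module.FinitePresentation A L := Module.finitePresentation_of_projective A L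
  have hlc := Module.isLocallyConstant_rankAtStalk (R := A) (M := L)
  have hopen : IsOpen {q | Module.rankAtStalk L q = Module.rankAtStalk L p₀} :=
    hlc.isOpen_fiber _
  obtain ⟨_, ⟨g, rfl⟩, hg1, hg2⟩ :=
    PrimeSpectrum.isTopologicalBasis_basic_opens.exists_subset_of_mem_open
      (show p₀ ∈ {q | Module.rankAtStalk L q = Module.rankAtStalk L p₀} from rfl) hopen
  refine ⟨g, (i ∘ₗ φ ∘ₗ π).charpoly.coeff (n + N - Module.rankAtStalk L p₀), hg1, fun q hq => ?_⟩
  rw [coeff_charpoly_baseChange_eq π i hπi φ q.asIdeal.ResidueField n]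
  have hd : finrank q.asIdeal.ResidueField (q.asIdeal.ResidueField ⊗[A] L) =
      Module.rankAtStalk L p₀ := by
    rw [← hg2 (show q ∈ (PrimeSpectrum.basicOpen g : Set (PrimeSpectrum A)) from hq)]
    exact Ideal.finrank_fiber_eq_rankAtStalk q.asIdeal
  rw [hd, Ne, Ideal.algebraMap_residueField_eq_zero]

end Groth.Agent.Lib.helper15.CharpolyFibre
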