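import Mathlib

/-!
# A `p`-th power criterion in finite extensions (helper15, requested by helper24)

`K ⊇ K_i ⊇ K^p` a decreasing directed family of subfields with `⋂ K_i = K^p`, `E/K` finite.
If `u ∈ K_i[E^p]` for all `i` then `u ∈ E^p`.
-/

set_option autoImplicit false
set_option linter.style.haveILetI false
universe u

namespace Groth.Agent.Lib.helper15.H24

open Finset in
theorem exists_pow_eq_of_forall_mem_closure {K E : Type u} [Field K] [Field E] [Algebra K E]
    [FiniteDimensional K E]
    (p : ℕ) [Fact p.Prime] [CharP K p] {ι : Type*} [Preorder ι] [IsDirected ι (· ≤ ·)] [Nonempty ι]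
    (Kf : ι → Subfield K) (hanti : Antitone Kf) (hpow : ∀ i (a : K), a ^ p ∈ Kf i)
    (hinter : ∀ a : K, (∀ i, a ∈ Kf i) → ∃ c : K, c ^ p = a) (u : E)
    (hu : ∀ i, u ∈ Subring.closure ((algebraMap K E '' (Kf i : Set K)) ∪
      Set.range (fun e : E => e ^ p))) :
    ∃ e : E, e ^ p = u := by
  classical
  haveI : CharP E p := charP_of_injective_algebraMap (algebraMap K E).injective p
  set r := Module.finrank K E with hr
  let b : Module.Basis (Fin r) K E := Module.finBasis K E
  let v : Fin r → E := fun j => b j ^ p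
  -- the `K_i`-span of the `v j`
  let W : ι → Set E := fun i => {x | ∃ c : Fin r → K, (∀ j, c j ∈ Kf i) ∧ x = ∑ j, c j • v j}
  have hW_zero : ∀ i, (0 : E) ∈ W i := fun i =>
    ⟨fun _ => 0, fun _ => (Kf i).zero_mem, by simp⟩
  have hW_add : ∀ i x y, x ∈ W i → y ∈ W i → x + y ∈ W i := by
    rintro i x y ⟨c, hc, rfl⟩ ⟨c', hc', rfl⟩
    refine ⟨fun j => c j + c' j, fun j => (Kf i).add_mem (hc j) (hc' j), ?_⟩
    simp only [add_smul, Finset.sum_add_distrib]
  have hW_smul : ∀ i (a : K) x, a ∈ Kf i → x ∈ W i → a • x ∈ W i := by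
    rintro i a x ha ⟨c, hc, rfl⟩
    refine ⟨fun j => a * c j, fun j => (Kf i).mul_mem ha (hc j), ?_⟩
    simp only [Finset.smul_sum, mul_smul]
  have hW_sum : ∀ i {α : Type} (s : Finset α) (f : α → E), (∀ a ∈ s, f a ∈ W i) →
      ∑ a ∈ s, f a ∈ W i := by
    intro i α s f hf
    induction s using Finset.induction_on with
    | empty => simpa using hW_zero i
    | insert a s ha ih =>
      rw [Finset.sum_insert ha]
      exact hW_add i _ _ (hf a (Finset.mem_insert_self a s))
        (ih fun a' ha' => hf a' (Finset.mem_insert_of_mem ha'))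
  have hpowsum : ∀ c : Fin r → K, (∑ j, c j • b j) ^ p = ∑ j, (c j) ^ p • v j := by
    intro c
    rw [sum_pow_char]
    refine Finset.sum_congr rfl fun j _ => ?_
    rw [smul_pow]
  have hW_pow : ∀ i (e : E), e ^ p ∈ W i := by
    intro i e
    refine ⟨fun j => (b.repr e j) ^ p, fun j => hpow i _, ?_⟩
    rw [← hpowsum]
    congr 1
    exact (b.sum_repr e).symm
  have hW_mul : ∀ i x y, x ∈ W i → y ∈ W i → x * y ∈ W i := by
    rintro i x y ⟨c, hc, rfl⟩ ⟨c', hc', rfl⟩
    rw [Finset.sum_mul_sum]
    refine hW_sum i _ _ fun j _ => hW_sum i _ _ fun l _ => ?_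
    have h1 : c j • v j * c' l • v l = (c j * c' l) • ((b j * b l) ^ p) := by
      simp only [v, mul_pow, smul_mul_smul_comm]
    rw [h1]
    exact hW_smul i _ _ ((Kf i).mul_mem (hc j) (hc' l)) (hW_pow i _)
  have hW_one : ∀ i, (1 : E) ∈ W i := fun i => by
    have := hW_pow i 1
    rwa [one_pow] at this
  have hW_neg : ∀ i x, x ∈ W i → -x ∈ W i := by
    intro i x hx
    have := hW_smul i (-1) x ((Kf i).neg_mem (Kf i).one_mem) hx
    rwa [neg_smul, one_smul] at this
  have hcl : ∀ i, u ∈ W i := by
    intro i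
    let Wr : Subring E :=
      { carrier := W i
        mul_mem' := fun {x y} hx hy => hW_mul i x y hx hy
        one_mem' := hW_one i
        add_mem' := fun {x y} hx hy => hW_add i x y hx hy
        zero_mem' := hW_zero i
        neg_mem' := fun {x} hx => hW_neg i x hx }
    have hle : Subring.closure ((algebraMap K E '' (Kf i : Set K)) ∪
        Set.range (fun e : E => e ^ p)) ≤ Wr := by
      rw [Subring.closure_le]
      rintro x (⟨a, ha, rfl⟩ | ⟨e, rfl⟩)
      · have := hW_smul i a 1 ha (hW_one i)
        rwa [Algebra.smul_def, mul_one] at this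
      · exact hW_pow i e
    exact hle (hu i)
  -- independence of a subfamily over `K_i`
  let Ind : ι → Finset (Fin r) → Prop := fun i I =>
    ∀ c : Fin r → K, (∀ j, c j ∈ Kf i) → (∀ j, j ∉ I → c j = 0) → ∑ j, c j • v j = 0 → ∀ j, c j = 0
  have hInd_mono : ∀ i i' I, i ≤ i' → Ind i I → Ind i' I := by
    intro i i' I hii' h c hc hsupp hsum
    exact h c (fun j => hanti hii' (hc j)) hsupp hsum
  have hne : (Finset.univ.filter (fun I : Finset (Fin r) => ∃ i, Ind i I)).Nonempty := by
    refine ⟨∅, ?_⟩
    simp only [Finset.mem_filter, Finset.mem_univ, true_and]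
    obtain ⟨i⟩ := ‹Nonempty ι›
    exact ⟨i, fun c _ hsupp _ j => hsupp j (Finset.notMem_empty j)⟩
  obtain ⟨I, hI, hImax⟩ := Finset.exists_max_image _ Finset.card hne
  simp only [Finset.mem_filter, Finset.mem_univ, true_and] at hI hImax
  obtain ⟨i0, hi0⟩ := hI
  -- every `v l` is a `K_i`-combination of the `v j`, `j ∈ I`, for `i ≥ i0`
  have hspan : ∀ i, i0 ≤ i → ∀ l, ∃ c : Fin r → K, (∀ j, c j ∈ Kf i) ∧ (∀ j, j ∉ I → c j = 0) ∧
      v l = ∑ j, c j • v j := by
    intro i hi l
    by_cases hl : l ∈ I
    · refine ⟨fun j => if j = l then 1 else 0, fun j => ?_, fun j hj => ?_, ?_⟩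
      · dsimp only
        split_ifs
        · exact (Kf i).one_mem
        · exact (Kf i).zero_mem
      · dsimp only
        rw [if_neg]
        rintro rfl
        exact hj hl
      · simp
    · have hnot : ¬ Ind i (insert l I) := by
        intro h
        have := hImax (insert l I) ⟨i, h⟩
        rw [Finset.card_insert_of_notMem hl] at this
        omega
      simp only [Ind] at hnot
      push Not at hnot
      obtain ⟨c, hc, hsupp, hsum, j0, hj0⟩ := hnot
      have hcl0 : c l ≠ 0 := by
        intro h0
        have hsupp' : ∀ j, j ∉ I → c j = 0 := by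
          intro j hj
          by_cases hjl : j = l
          · rw [hjl]; exact h0
          · exact hsupp j (by simp [hjl, hj])
        exact hj0 (hInd_mono i0 i I hi hi0 c hc hsupp' hsum j0)
      refine ⟨fun j => if j = l then 0 else -(c j / c l), fun j => ?_, fun j hj => ?_, ?_⟩
      · dsimp only
        split_ifs
        · exact (Kf i).zero_mem
        · exact (Kf i).neg_mem ((Kf i).div_mem (hc j) (hc l))
      · dsimp only
        by_cases hjl : j = l
        · simp [hjl]
        · simp only [hjl, if_false]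
          rw [hsupp j (by simp [hjl, hj]), zero_div, neg_zero]
      · have h1 : ∑ j, (if j = l then 0 else -(c j / c l)) • v j =
            ∑ j ∈ Finset.univ.erase l, (if j = l then 0 else -(c j / c l)) • v j := by
          rw [Finset.sum_erase]
          simp
        have h2 : ∑ j ∈ Finset.univ.erase l, (if j = l then 0 else -(c j / c l)) • v j =
            -(1 / c l) • ∑ j ∈ Finset.univ.erase l, c j • v j := by
          rw [Finset.smul_sum]
          refine Finset.sum_congr rfl fun j hj => ?_
          have hjl : j ≠ l := Finset.ne_of_mem_erase hj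
          simp only [hjl, if_false]
          rw [smul_smul]
          congr 1
          field_simp
        have h3 : ∑ j ∈ Finset.univ.erase l, c j • v j = -(c l • v l) := by
          rw [Finset.sum_erase_eq_sub (Finset.mem_univ l), hsum, zero_sub]
        rw [h1, h2, h3, smul_neg, neg_smul, neg_neg, smul_smul, one_div,
          inv_mul_cancel₀ hcl0, one_smul]
  -- elements of `W i` are combinations supported in `I`, for `i ≥ i0`
  have hWI : ∀ i, i0 ≤ i → ∀ x ∈ W i, ∃ c : Fin r → K, (∀ j, c j ∈ Kf i) ∧
      (∀ j, j ∉ I → c j = 0) ∧ x = ∑ j, c j • v j := by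
    rintro i hi x ⟨a, ha, rfl⟩
    choose cc hcc hcsupp hcv using hspan i hi
    refine ⟨fun j => ∑ l, a l * cc l j, fun j => ?_, fun j hj => ?_, ?_⟩
    · exact (Kf i).sum_mem fun l _ => (Kf i).mul_mem (ha l) (hcc l j)
    · exact Finset.sum_eq_zero fun l _ => by rw [hcsupp l j hj, mul_zero]
    · calc ∑ l, a l • v l = ∑ l, a l • ∑ j, cc l j • v j := by
            refine Finset.sum_congr rfl fun l _ => ?_
            rw [← hcv l]
        _ = ∑ l, ∑ j, (a l * cc l j) • v j := by
            refine Finset.sum_congr rfl fun l _ => ?_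
            rw [Finset.smul_sum]
            refine Finset.sum_congr rfl fun j _ => ?_
            rw [mul_smul]
        _ = ∑ j, ∑ l, (a l * cc l j) • v j := Finset.sum_comm
        _ = ∑ j, (∑ l, a l * cc l j) • v j := by
            refine Finset.sum_congr rfl fun j _ => ?_
            rw [Finset.sum_smul]
  obtain ⟨c, hc, hcsupp, hcu⟩ := hWI i0 le_rfl u (hcl i0)
  have hcall : ∀ i j, c j ∈ Kf i := by
    intro i j
    obtain ⟨i1, h01, hi1⟩ := exists_ge_ge i0 i
    obtain ⟨c', hc', hc'supp, hc'u⟩ := hWI i1 h01 u (hcl i1)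
    have hdiff : ∀ j, c j - c' j = 0 := by
      apply hi0 (fun j => c j - c' j)
      · intro j
        exact (Kf i0).sub_mem (hc j) (hanti h01 (hc' j))
      · intro j hj
        rw [hcsupp j hj, hc'supp j hj, sub_zero]
      · simp only [sub_smul, Finset.sum_sub_distrib]
        rw [← hcu, ← hc'u, sub_self]
    have : c j = c' j := sub_eq_zero.mp (hdiff j)
    rw [this]
    exact hanti hi1 (hc' j)
  choose d hd using fun j => hinter (c j) (fun i => hcall i j)
  refine ⟨∑ j, d j • b j, ?_⟩
  rw [hpowsum, hcu]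
  refine Finset.sum_congr rfl fun j _ => ?_
  rw [hd j]

end Groth.Agent.Lib.helper15.H24
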