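import Mathlib

/-!
# Cokernel of a unimodular vector in a free module of rank two, localized (helper15)

`free_rank_one_of_coords`: `B` free with coordinates `(c₁, c₂)` over `A`, `b₀ ∈ B` with
`c₁ b₀ ∉ p` for a prime `p`; `Q = B / A b₀`. Then the localization of `Q` at `p` is free of rank one.
`free_rank_one`: the same assuming only that one of `c₁ b₀`, `c₂ b₀` is not in `p`.
`coord_mem_of_mem_smul_top`: linear functionals map `p • ⊤` into `p`.
-/

set_option autoImplicit false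

namespace Groth.Agent.Lib.helper15.CokerUnit

theorem free_rank_one_of_coords {A : Type*} [CommRing A] (p : Ideal A) [p.IsPrime]
    {Ap : Type*} [CommRing Ap] [Algebra A Ap] [IsLocalization.AtPrime Ap p]
    {B Q Qp : Type*} [AddCommGroup B] [Module A B] [AddCommGroup Q] [Module A Q]
    [AddCommGroup Qp] [Module A Qp] [Module Ap Qp] [IsScalarTower A Ap Qp]
    (g : Q →ₗ[A] Qp) [IsLocalizedModule p.primeCompl g]
    (π : B →ₗ[A] Q) (hπ : Function.Surjective π) (b₀ : B)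
    (hker : LinearMap.ker π = Submodule.span A {b₀})
    (ε₁ ε₂ : B) (c₁ c₂ : B →ₗ[A] A) (hexp : ∀ b, b = c₁ b • ε₁ + c₂ b • ε₂)
    (h12 : c₁ ε₂ = 0) (h22 : c₂ ε₂ = 1)
    (ha : c₁ b₀ ∉ p) :
    Module.Free Ap Qp ∧ Module.finrank Ap Qp = 1 := by
  classical
  have : IsLocalRing Ap := IsLocalization.AtPrime.isLocalRing Ap p
  let lam : B →ₗ[A] A := c₁ b₀ • c₂ - c₂ b₀ • c₁
  have hlam : ∀ b, lam b = c₁ b₀ * c₂ b - c₂ b₀ * c₁ b := fun b => rfl
  have hkey : ∀ b : B, c₁ b₀ • b = c₁ b • b₀ + lam b • ε₂ := by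
    intro b
    have e1 : c₁ b₀ • (c₁ b • ε₁ + c₂ b • ε₂) =
        c₁ b • (c₁ b₀ • ε₁ + c₂ b₀ • ε₂) + (c₁ b₀ * c₂ b - c₂ b₀ * c₁ b) • ε₂ := by
      module
    have hb := hexp b
    have hb0 := hexp b₀
    calc c₁ b₀ • b = c₁ b₀ • (c₁ b • ε₁ + c₂ b • ε₂) := by rw [← hb]
      _ = c₁ b • (c₁ b₀ • ε₁ + c₂ b₀ • ε₂) + (c₁ b₀ * c₂ b - c₂ b₀ * c₁ b) • ε₂ := e1
      _ = c₁ b • b₀ + lam b • ε₂ := by rw [← hb0, hlam]
  have hb₀ : π b₀ = 0 := by
    have : b₀ ∈ LinearMap.ker π := by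
      rw [hker]
      exact Submodule.mem_span_singleton_self b₀
    exact this
  set v : Qp := g (π ε₂) with hv
  have hS1 : ∀ b : B, c₁ b₀ • g (π b) = lam b • v := by
    intro b
    rw [← map_smul, ← map_smul, hkey b, map_add, map_smul, map_smul, hb₀, smul_zero, zero_add,
      map_smul]
  let T : Ap →ₗ[Ap] Qp := LinearMap.toSpanSingleton Ap Qp v
  have hT : ∀ r : Ap, T r = r • v := fun r => rfl
  have hsurj : Function.Surjective T := by
    intro z
    obtain ⟨⟨q, s⟩, hz⟩ := IsLocalizedModule.surj p.primeCompl g z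
    obtain ⟨b, rfl⟩ := hπ q
    have hmem : c₁ b₀ * (s : A) ∈ p.primeCompl :=
      Submonoid.mul_mem _ ha s.2
    refine ⟨IsLocalization.mk' Ap (lam b) (⟨c₁ b₀ * (s : A), hmem⟩ : p.primeCompl), ?_⟩
    apply IsLocalizedModule.smul_injective g (⟨c₁ b₀ * (s : A), hmem⟩ : p.primeCompl)
    change (c₁ b₀ * (s : A)) • T _ = (c₁ b₀ * (s : A)) • z
    have hz' : (s : A) • z = g (π b) := hz
    have hR : (c₁ b₀ * (s : A)) • z = lam b • v := by
      rw [mul_smul, hz', hS1 b]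
    have hL : (c₁ b₀ * (s : A)) • T (IsLocalization.mk' Ap (lam b)
        (⟨c₁ b₀ * (s : A), hmem⟩ : p.primeCompl)) = lam b • v := by
      rw [hT, ← algebraMap_smul Ap (c₁ b₀ * (s : A)), smul_smul]
      have h9 : algebraMap A Ap (c₁ b₀ * (s : A)) * IsLocalization.mk' Ap (lam b)
          (⟨c₁ b₀ * (s : A), hmem⟩ : p.primeCompl) = algebraMap A Ap (lam b) :=
        IsLocalization.mk'_spec' Ap (lam b) ⟨c₁ b₀ * (s : A), hmem⟩
      rw [h9, algebraMap_smul]
    exact hL.trans hR.symm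
  have hinj : Function.Injective T := by
    rw [injective_iff_map_eq_zero]
    intro r hr
    obtain ⟨x, s, rfl⟩ := IsLocalization.exists_mk'_eq p.primeCompl r
    rw [hT] at hr
    have h1 : x • v = 0 := by
      have h2 : algebraMap A Ap (s : A) • (IsLocalization.mk' Ap x s • v) = 0 := by
        rw [hr, smul_zero]
      rw [smul_smul, IsLocalization.mk'_spec', algebraMap_smul] at h2
      exact h2
    have h3 : g (π (x • ε₂)) = 0 := by
      rw [map_smul, map_smul]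
      exact h1
    obtain ⟨t, ht⟩ := (IsLocalizedModule.eq_zero_iff p.primeCompl g).1 h3
    have h4 : ((t : A) * x) • ε₂ ∈ LinearMap.ker π := by
      rw [LinearMap.mem_ker, mul_smul, map_smul]
      exact ht
    rw [hker, Submodule.mem_span_singleton] at h4
    obtain ⟨w, hw⟩ := h4
    have h5 := congrArg c₁ hw
    have h6 := congrArg c₂ hw
    rw [map_smul, map_smul, h12, smul_zero, smul_eq_mul] at h5
    rw [map_smul, map_smul, h22, smul_eq_mul, smul_eq_mul, mul_one] at h6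
    rw [IsLocalization.mk'_eq_zero_iff]
    refine ⟨⟨c₁ b₀ * (t : A), Submonoid.mul_mem _ ha t.2⟩, ?_⟩
    change c₁ b₀ * (t : A) * x = 0
    calc c₁ b₀ * (t : A) * x = c₁ b₀ * ((t : A) * x) := by ring
      _ = c₁ b₀ * (w * c₂ b₀) := by rw [h6]
      _ = (w * c₁ b₀) * c₂ b₀ := by ring
      _ = 0 := by rw [h5, zero_mul]
  let e : Ap ≃ₗ[Ap] Qp := LinearEquiv.ofBijective T ⟨hinj, hsurj⟩
  refine ⟨Module.Free.of_equiv e, ?_⟩
  rw [← e.finrank_eq, Module.finrank_self]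

theorem free_rank_one {A : Type*} [CommRing A] (p : Ideal A) [p.IsPrime]
    {Ap : Type*} [CommRing Ap] [Algebra A Ap] [IsLocalization.AtPrime Ap p]
    {B Q Qp : Type*} [AddCommGroup B] [Module A B] [AddCommGroup Q] [Module A Q]
    [AddCommGroup Qp] [Module A Qp] [Module Ap Qp] [IsScalarTower A Ap Qp]
    (g : Q →ₗ[A] Qp) [IsLocalizedModule p.primeCompl g]
    (π : B →ₗ[A] Q) (hπ : Function.Surjective π) (b₀ : B)
    (hker : LinearMap.ker π = Submodule.span A {b₀})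
    (ε₁ ε₂ : B) (c₁ c₂ : B →ₗ[A] A) (hexp : ∀ b, b = c₁ b • ε₁ + c₂ b • ε₂)
    (h11 : c₁ ε₁ = 1) (h12 : c₁ ε₂ = 0) (h21 : c₂ ε₁ = 0) (h22 : c₂ ε₂ = 1)
    (ha : c₁ b₀ ∉ p ∨ c₂ b₀ ∉ p) :
    Module.Free Ap Qp ∧ Module.finrank Ap Qp = 1 := by
  rcases ha with ha | ha
  · exact free_rank_one_of_coords p g π hπ b₀ hker ε₁ ε₂ c₁ c₂ hexp h12 h22 ha
  · exact free_rank_one_of_coords p g π hπ b₀ hker ε₂ ε₁ c₂ c₁
      (fun b => by rw [add_comm]; exact hexp b) h21 h11 ha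

/-- linear functionals map `p • ⊤` into `p` -/
theorem coord_mem_of_mem_smul_top {A : Type*} [CommRing A] (p : Ideal A)
    {B : Type*} [AddCommGroup B] [Module A B] (c : B →ₗ[A] A) (x : B)
    (hx : x ∈ p • (⊤ : Submodule A B)) : c x ∈ p := by
  refine Submodule.smul_induction_on hx ?_ ?_
  · intro r hr b _
    rw [map_smul, smul_eq_mul]
    exact Ideal.mul_mem_right _ _ hr
  · intro x y hx hy
    rw [map_add]
    exact Ideal.add_mem _ hx hy

/-- for an algebra `B` free with coordinates `(c₁, c₂)` over `A`, the coordinates of `1` are not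
both in a prime `p`. -/
theorem coord_one_notMem {A : Type*} [CommRing A] (p : Ideal A) [p.IsPrime]
    {B : Type*} [CommRing B] [Algebra A B] (ε₁ ε₂ : B) (c₁ c₂ : B →ₗ[A] A)
    (hexp : ∀ b, b = c₁ b • ε₁ + c₂ b • ε₂) (h11 : c₁ ε₁ = 1) :
    c₁ 1 ∉ p ∨ c₂ 1 ∉ p := by
  by_contra hcon
  push Not at hcon
  obtain ⟨h1, h2⟩ := hcon
  have hone : (1 : B) ∈ p • (⊤ : Submodule A B) := by
    rw [hexp 1]
    exact Submodule.add_mem _ (Submodule.smul_mem_smul h1 Submodule.mem_top)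
      (Submodule.smul_mem_smul h2 Submodule.mem_top)
  have hε : ε₁ ∈ p • (⊤ : Submodule A B) := by
    have h3 : ε₁ = c₁ 1 • (ε₁ * ε₁) + c₂ 1 • (ε₁ * ε₂) := by
      conv_lhs => rw [← mul_one ε₁, hexp 1]
      rw [mul_add, mul_smul_comm, mul_smul_comm]
    rw [h3]
    exact Submodule.add_mem _ (Submodule.smul_mem_smul h1 Submodule.mem_top)
      (Submodule.smul_mem_smul h2 Submodule.mem_top)
  have := coord_mem_of_mem_smul_top p c₁ ε₁ hε
  rw [h11] at this
  exact (Ideal.ne_top_iff_one p).1 (Ideal.IsPrime.ne_top inferInstance) this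

end Groth.Agent.Lib.helper15.CokerUnit
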