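import Mathlib
import Groth.Prelude.Def_Coh
import Groth.Prelude.Def_FinCov
import Groth.Prelude.Def_CurvBase
import Groth.Agent.Lib.Helper16.FLF3
import Groth.Agent.Lib.Helper16.QCohAffinePush
import Groth.Agent.Lib.Helper16.QCohEpi
import Groth.Agent.Lib.Helper16.CohFinite
import Groth.Agent.Lib.Helper7.CohKer
import Groth.Agent.Lib.Helper11.InvMod
import Groth.Agent.Lib.Helper18.PullEuler
import Groth.Agent.Lib.Lead.ProperEuler
import Groth.Agent.Lib.Lead.CurveEuler
import Groth.Agent.Lib.Lead.CurveInv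

/-!
# The trace of a finite flat cover (helper15)

For `h : X ⟶ Y` finite and flat with `Y` locally Noetherian:
* `exists_free_sections`: every point of `Y` has an affine open neighbourhood `W` over which
  `h_* O_X` is free of finite rank;
* `finrank_eq_of_free`: that rank is `h.finrank y`;
* `epi_trace`: a trace `τ : h_* O_X ⟶ O_Y` (in the sense of `FinCov.IsTraceHom`) is an epimorphism
  when the degree `d` of `h` is invertible on `Y`;
* `euler_kernel_trace`: over a field `k` with `Y` proper, `χ(ker τ) = χ(O_X) − χ(O_Y)`.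
-/

set_option autoImplicit false
set_option linter.style.haveILetI false
universe u
open CategoryTheory CategoryTheory.Limits AlgebraicGeometry TopologicalSpace Opposite

namespace Groth.Agent.Lib.helper15.TraceCover

open Scheme.Modules Groth.Agent.Lib.helper16.CohStalk

variable {X Y : Scheme.{u}} (h : X ⟶ Y)

/-- the pushforward `h_* O_X` of the structure sheaf -/
noncomputable abbrev pushO : Y.Modules :=
  (Scheme.Modules.pushforward h).obj (Coh.structureModule X)

theorem isQuasicoherent_pushO [IsAffineHom h] : (pushO h).IsQuasicoherent :=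
  Groth.Agent.Lib.helper16.QCohAffinePush.isQuasicoherent_push h (Coh.structureModule X)

theorem finite_sections [IsFinite h] {U : Y.Opens} (hU : IsAffineOpen U) :
    Module.Finite Γ(Y, U) Γ(pushO h, U) := h.finite_app U hU

theorem flat_sections [IsAffineHom h] [Flat h] {U : Y.Opens} (hU : IsAffineOpen U) :
    Module.Flat Γ(Y, U) Γ(pushO h, U) := by
  have := h.flat_appLE hU (hU.preimage h) le_rfl
  rw [← Scheme.Hom.app_eq_appLE] at this
  exact this

/-- local freeness of `h_* O_X` for `h` finite flat over a locally Noetherian base -/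
theorem exists_free_sections [IsLocallyNoetherian Y] [IsFinite h] [Flat h] (y : Y) :
    ∃ (W : Y.Opens) (n : ℕ), IsAffineOpen W ∧ y ∈ W ∧
      Nonempty (Γ(pushO h, W) ≃ₗ[Γ(Y, W)] (Fin n → Γ(Y, W))) := by
  haveI := isQuasicoherent_pushO h
  obtain ⟨U, hU, hy, -⟩ := Opens.isBasis_iff_nbhd.mp Y.isBasis_affineOpens
    (show y ∈ (⊤ : Y.Opens) from trivial)
  haveI : IsNoetherianRing Γ(Y, U) := IsLocallyNoetherian.component_noetherian ⟨U, hU⟩
  haveI hfin : Module.Finite Γ(Y, U) Γ(pushO h, U) := finite_sections h hU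
  haveI hflat : Module.Flat Γ(Y, U) Γ(pushO h, U) := flat_sections h hU
  haveI : Module.FinitePresentation Γ(Y, U) Γ(pushO h, U) :=
    Module.finitePresentation_of_finite _ _
  have hfree : Module.Free (Y.presheaf.stalk y) ((pushO h).presheaf.stalk y) := by
    letI := TopCat.Presheaf.algebra_section_stalk Y.presheaf (⟨y, hy⟩ : U)
    letI := modStalk (pushO h) y hy
    haveI := isScalarTower_stalk (pushO h) y hy
    haveI : IsLocalization.AtPrime (Y.presheaf.stalk y) (hU.primeIdealOf ⟨y, hy⟩).asIdeal :=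
      hU.isLocalization_stalk ⟨y, hy⟩
    haveI := isLocalizedModule_stalk (pushO h) hU y hy
    haveI : Module.Flat (Y.presheaf.stalk y) ((pushO h).presheaf.stalk y) :=
      Module.Flat.of_isLocalizedModule (Y.presheaf.stalk y)
        (hU.primeIdealOf ⟨y, hy⟩).asIdeal.primeCompl (germLin (pushO h) y hy)
    haveI : Module.Finite (Y.presheaf.stalk y) ((pushO h).presheaf.stalk y) :=
      Module.Finite.of_isLocalizedModule (hU.primeIdealOf ⟨y, hy⟩).asIdeal.primeCompl
        (germLin (pushO h) y hy)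
    exact Module.free_of_flat_of_isLocalRing
  obtain ⟨f, n, hyf, he⟩ :=
    Groth.Agent.Lib.helper16.FLF.exists_basicOpen_free_sections (pushO h) hU y hy hfree
  exact ⟨Y.basicOpen f, n, hU.basicOpen f, hyf, he⟩

/-- the rank of a free module of sections of `h_* O_X` is the degree of `h` -/
theorem finrank_eq_of_free [IsFinite h] [Flat h] {W : Y.Opens} (hW : IsAffineOpen W) (y : Y)
    (hy : y ∈ W) (n : ℕ) (e : Γ(pushO h, W) ≃ₗ[Γ(Y, W)] (Fin n → Γ(Y, W))) :
    h.finrank y = n := by
  have hV : IsAffineOpen (h ⁻¹ᵁ W) := hW.preimage h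
  have hsq : hV.fromSpec ≫ h = Spec.map (h.app W) ≫ hW.fromSpec := by
    rw [Scheme.Hom.app_eq_appLE]
    exact (hW.SpecMap_appLE_fromSpec h hV le_rfl).symm
  have hpb : IsPullback hV.fromSpec (Spec.map (h.app W)) h hW.fromSpec :=
    (IsOpenImmersion.isPullback (Spec.map (h.app W)) hV.fromSpec hW.fromSpec h hsq
      (by rw [hW.opensRange_fromSpec, hV.opensRange_fromSpec])).flip
  obtain ⟨t, ht⟩ : ∃ t, hW.fromSpec t = y := by
    have : y ∈ hW.fromSpec.opensRange := by rw [hW.opensRange_fromSpec]; exact hy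
    exact this
  have h1 := Scheme.Hom.finrank_of_isPullback _ _ _ _ hpb t
  rw [ht] at h1
  rw [← h1]
  have hfin : (h.app W).hom.Finite := h.finite_app W hW
  have hflat : (h.app W).hom.Flat := by
    have := h.flat_appLE hW hV le_rfl
    rwa [← Scheme.Hom.app_eq_appLE] at this
  rw [Scheme.Hom.finrank_SpecMap_eq_finrank hfin hflat]
  letI : Algebra Γ(Y, W) Γ(X, h ⁻¹ᵁ W) := (h.app W).hom.toAlgebra
  change Module.rankAtStalk (R := Γ(Y, W)) Γ(X, h ⁻¹ᵁ W) t = n
  haveI : Module.Free Γ(Y, W) Γ(X, h ⁻¹ᵁ W) := Module.Free.of_equiv e.symm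
  haveI : Nonempty W := ⟨⟨y, hy⟩⟩
  haveI : Nontrivial Γ(Y, W) := Scheme.component_nontrivial Y W
  rw [Module.rankAtStalk_eq_finrank_of_free]
  exact e.finrank_eq.trans (Module.finrank_fin_fun _)

/-- a trace of a finite flat cover of degree `d` invertible on the base is an epimorphism -/
theorem epi_trace [IsLocallyNoetherian Y] [IsFinite h] [Flat h]
    (τ : pushO h ⟶ Coh.structureModule Y) (hτ : FinCov.IsTraceHom h τ) (d : ℕ)
    (hr : ∀ y : Y, h.finrank y = d) (hd : ∀ W : Y.Opens, IsUnit ((d : ℕ) : Γ(Y, W))) :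
    Epi τ := by
  choose W n hW hyW he using exists_free_sections h
  haveI : (Coh.structureModule Y).IsQuasicoherent := inferInstance
  refine Groth.Agent.Lib.helper16.QCohEpi.epi_of_surjective_on_affine_cover τ W hW
    (fun y => ⟨y, hyW y⟩) (fun y => ?_)
  obtain ⟨e⟩ := he y
  have hn : n y = d := by
    rw [← hr y]; exact (finrank_eq_of_free h (hW y) y (hyW y) (n y) e).symm
  intro s
  letI : Algebra Γ(Y, W y) Γ(X, h ⁻¹ᵁ W y) := (h.app (W y)).hom.toAlgebra
  haveI : Module.Free Γ(Y, W y) Γ(X, h ⁻¹ᵁ W y) := Module.Free.of_equiv e.symm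
  haveI : Module.Finite Γ(Y, W y) Γ(X, h ⁻¹ᵁ W y) := Module.Finite.equiv e.symm
  haveI : Nonempty (W y) := ⟨⟨y, hyW y⟩⟩
  haveI : Nontrivial Γ(Y, W y) := Scheme.component_nontrivial Y (W y)
  have hfr : Module.finrank Γ(Y, W y) Γ(X, h ⁻¹ᵁ W y) = d := by
    rw [← hn]; exact e.finrank_eq.trans (Module.finrank_fin_fun _)
  obtain ⟨u, hu⟩ := hd (W y)
  let s' : Γ(Y, W y) := s
  refine ⟨algebraMap Γ(Y, W y) Γ(X, h ⁻¹ᵁ W y) (↑u⁻¹ * s'), ?_⟩
  have h1 := hτ (W y) (hW y) inferInstance inferInstance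
    (algebraMap Γ(Y, W y) Γ(X, h ⁻¹ᵁ W y) (↑u⁻¹ * s'))
  change (τ.val.app (op (W y))).hom _ = s'
  rw [h1, Algebra.trace_algebraMap, hfr, nsmul_eq_mul, ← hu, ← mul_assoc, Units.mul_inv, one_mul]

section field

variable (k : Type u) [Field k] [X.Over (Spec (CommRingCat.of k))]
  [Y.Over (Spec (CommRingCat.of k))] [IsProper (Y ↘ Spec (CommRingCat.of k))]

/-- `χ(ker τ) = χ(O_X) − χ(O_Y)` for the trace `τ` of a finite flat cover `h : X ⟶ Y` of degree
invertible in `k`, `Y` proper over `k` -/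
theorem euler_kernel_trace (hh : h ≫ (Y ↘ Spec (CommRingCat.of k)) = X ↘ Spec (CommRingCat.of k))
    [IsFinite h] [Flat h]
    (τ : pushO h ⟶ Coh.structureModule Y) (hτ : FinCov.IsTraceHom h τ) (d : ℕ)
    (hr : ∀ y : Y, h.finrank y = d) (hd : (d : k) ≠ 0) :
    Curv2.euler k Y (kernel τ) =
      Curv2.euler k X (Coh.structureModule X) - Curv2.euler k Y (Coh.structureModule Y) := by
  haveI := Groth.Agent.Lib.Lead.CurveEuler.isNoetherian k Y
  haveI hqc := isQuasicoherent_pushO h
  have hunit : ∀ W : Y.Opens, IsUnit ((d : ℕ) : Γ(Y, W)) := by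
    intro W
    let φ : k →+* Γ(Y, W) := ((Scheme.ΓSpecIso (CommRingCat.of k)).inv ≫
      (Y ↘ Spec (CommRingCat.of k)).appTop ≫ Y.presheaf.map (homOfLE le_top).op).hom
    have := (IsUnit.mk0 (d : k) hd).map φ
    rwa [map_natCast] at this
  haveI := epi_trace h τ hτ d hr hunit
  have hS : (ShortComplex.mk (kernel.ι τ) τ (kernel.condition τ)).ShortExact :=
    { exact := ShortComplex.exact_kernel τ
      mono_f := inferInstanceAs (Mono (kernel.ι τ))
      epi_g := inferInstanceAs (Epi τ) }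
  have hOc : Coh.IsCoh (Coh.structureModule Y) :=
    Groth.Agent.Lib.Lead.CurveInv.isCoh_of_isInvertible Y
      (Groth.Agent.Lib.helper11.InvMod.isInvertible_structureModule Y)
  have hPc : Coh.IsCoh (pushO h) :=
    Groth.Agent.Lib.helper16.CohFinite.isCoh_of_finite_sections (pushO h)
      (fun U : Y.affineOpens => U.1) (fun U => U.2) (iSup_affineOpens_eq_top Y)
      (fun U => finite_sections h U.2)
  have hKc : Coh.IsCoh (kernel τ) := Groth.Agent.Lib.helper7.CohKer.isCoh_kernel hPc hOc τ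
  have h1 := Groth.Agent.Lib.Lead.ProperEuler.euler_additive k hS hKc hOc
  have h2 := Groth.Agent.Lib.Helper18.PullEuler.euler_push k h hh (Coh.structureModule X)
  simp only at h1
  rw [h2] at h1
  linarith

end field

end Groth.Agent.Lib.helper15.TraceCover
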