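import Mathlib
import Groth.Agent.Lib.Helper15.TraceCover
import Groth.Agent.Lib.Helper15.CokerUnit1
import Groth.Agent.Lib.Helper11.InvPullback
import Groth.Agent.Lib.Helper7.KerSections
import Groth.Agent.Lib.Helper7.QCohExt
import Groth.Agent.Lib.Helper16.FLF4
import Groth.Agent.Lib.Helper16.FLF5
import Groth.Agent.Lib.Helper25.FLFCycles

/-!
# The cokernel of `O_Y → h_* O_X` for a finite flat double cover (helper15)

`h : X ⟶ Y` finite flat of constant rank 2, `Y` locally Noetherian.
* `mono_unit`: `unitToPush h : O_Y ⟶ h_* O_X` is a monomorphism.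
* `isFinLocFree_pushO`: `h_* O_X` is finite locally free.
* `stalk_cokernel`: the stalks of the cokernel are free of rank one.
* `isFinLocFreeOfRank_one_cokernel`, `isInvertible_cokernel`: the cokernel is invertible.
-/

set_option autoImplicit false
set_option linter.style.haveILetI false
universe u
open CategoryTheory CategoryTheory.Limits AlgebraicGeometry TopologicalSpace Opposite

namespace Groth.Agent.Lib.helper15.CokerUnit

open Scheme.Modules Groth.Agent.Lib.helper16.CohStalk Groth.Agent.Lib.helper15.TraceCover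
open Groth.Agent.Lib.helper11.InvPullback Groth.Agent.Lib.helper16.FLF

variable {X Y : Scheme.{u}} (h : X ⟶ Y)

section Local

variable {W : Y.Opens} (e : Γ(pushO h, W) ≃ₗ[Γ(Y, W)] (Fin 2 → Γ(Y, W)))

/-- the basis vectors -/
noncomputable def eps (i : Fin 2) : Γ(pushO h, W) := e.symm (Pi.single i 1)

/-- the coordinate functionals -/
noncomputable def coord (i : Fin 2) : Γ(pushO h, W) →ₗ[Γ(Y, W)] Γ(Y, W) :=
  LinearMap.proj i ∘ₗ e.toLinearMap

theorem coord_apply (i : Fin 2) (b : Γ(pushO h, W)) : coord h e i b = e b i := rfl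

theorem coord_eps (i j : Fin 2) : coord h e i (eps h e j) = if i = j then 1 else 0 := by
  rw [coord_apply, eps, e.apply_symm_apply, Pi.single_apply]

theorem hexp (b : Γ(pushO h, W)) :
    b = coord h e 0 b • eps h e 0 + coord h e 1 b • eps h e 1 := by
  apply e.injective
  have h0 : e (eps h e 0) = Pi.single 0 1 := e.apply_symm_apply _
  have h1 : e (eps h e 1) = Pi.single 1 1 := e.apply_symm_apply _
  rw [LinearEquiv.map_add, LinearEquiv.map_smul, LinearEquiv.map_smul, h0, h1]
  funext i
  fin_cases i <;> simp <;> exact (coord_apply h e _ b).symm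

end Local

/-- `h_* O_X` is finite locally free -/
theorem isFinLocFree_pushO [IsLocallyNoetherian Y] [IsFinite h] [Flat h] :
    FlatMod.IsFinLocFree (pushO h) := by
  haveI := isQuasicoherent_pushO h
  rw [isFinLocFree_iff_sections]
  intro y
  obtain ⟨W, n, hW, hyW, he⟩ := exists_free_sections h y
  exact ⟨W, n, hW, hyW, he⟩

/-- the value of the unit on sections -/
theorem unit_app_eq {W : Y.Opens} (a : Γ(Y, W)) :
    ((unitToPush h).app W).hom (a : Γ(Coh.structureModule Y, W)) = h.app W a := rfl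

theorem mono_unit [IsLocallyNoetherian Y] [IsFinite h] [Flat h]
    (hr : ∀ y : Y, h.finrank y = 2) : Mono (unitToPush h) := by
  haveI := isQuasicoherent_pushO h
  haveI : (Coh.structureModule Y).IsQuasicoherent := inferInstance
  choose W n hW hyW he using exists_free_sections h
  refine Groth.Agent.Lib.helper7.KerSections.mono_of_injective_cover (unitToPush h) W hW
    (fun y => ⟨y, hyW y⟩) (fun y => ?_)
  obtain ⟨e0⟩ := he y
  have hn : n y = 2 := by
    rw [← hr y]; exact (finrank_eq_of_free h (hW y) y (hyW y) (n y) e0).symm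
  rw [injective_iff_map_eq_zero]
  intro a ha
  have ha' : h.app (W y) a = 0 := ha
  letI : Algebra Γ(Y, W y) Γ(X, h ⁻¹ᵁ W y) := (h.app (W y)).hom.toAlgebra
  let e1 : Γ(X, h ⁻¹ᵁ W y) ≃ₗ[Γ(Y, W y)] (Fin (n y) → Γ(Y, W y)) := e0
  have hpos : 0 < n y := by omega
  let i0 : Fin (n y) := ⟨0, hpos⟩
  let ε : Γ(X, h ⁻¹ᵁ W y) := e1.symm (Pi.single i0 1)
  let a' : Γ(Y, W y) := a
  have h1 : a' • ε = 0 := by
    rw [Algebra.smul_def]
    change h.app (W y) a * ε = 0
    rw [ha', zero_mul]
  have h2 : e1 (a' • ε) i0 = 0 := by rw [h1, map_zero]; rfl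
  have h3 : e1 ε = Pi.single i0 1 := e1.apply_symm_apply _
  rw [LinearEquiv.map_smul, h3] at h2
  have h4 : a' = 0 := by simpa using h2
  exact h4

/-- the stalks of the cokernel of the unit are free of rank one -/
theorem stalk_cokernel [IsLocallyNoetherian Y] [IsFinite h] [Flat h]
    (hr : ∀ y : Y, h.finrank y = 2) (y : Y) :
    Module.Free (Y.presheaf.stalk y) ((cokernel (unitToPush h)).presheaf.stalk y) ∧
      Module.finrank (Y.presheaf.stalk y) ((cokernel (unitToPush h)).presheaf.stalk y) = 1 := by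
  haveI := isQuasicoherent_pushO h
  haveI : (Coh.structureModule Y).IsQuasicoherent := inferInstance
  haveI hmono := mono_unit h hr
  haveI : (cokernel (unitToPush h)).IsQuasicoherent :=
    Groth.Agent.Lib.helper7.CohKer.isQuasicoherent_cokernel (unitToPush h)
  obtain ⟨W, n, hW, hyW, ⟨e0⟩⟩ := exists_free_sections h y
  have hn : n = 2 := by
    rw [← hr y]; exact (finrank_eq_of_free h hW y hyW n e0).symm
  subst hn
  set N' := cokernel (unitToPush h) with hN'
  -- the short exact sequence
  have hS : (ShortComplex.mk (unitToPush h) (cokernel.π (unitToPush h))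
      (cokernel.condition (unitToPush h))).ShortExact :=
    { exact := ShortComplex.exact_cokernel (unitToPush h)
      mono_f := hmono
      epi_g := inferInstanceAs (Epi (cokernel.π (unitToPush h))) }
  let π : Γ(pushO h, W) →ₗ[Γ(Y, W)] Γ(N', W) := sectionsLin (cokernel.π (unitToPush h)) W
  have hπ : Function.Surjective π :=
    Groth.Agent.Lib.helper7.QCohExt.surjective_app_of_shortExact _ hS W hW
  have hex := (Groth.Agent.Lib.helper7.KerSections.sections_leftExact _ hS.exact W).2
  letI algB : Algebra Γ(Y, W) Γ(X, h ⁻¹ᵁ W) := (h.app W).hom.toAlgebra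
  let b₀ : Γ(pushO h, W) := (1 : Γ(X, h ⁻¹ᵁ W))
  have hunit : ∀ a : Γ(Y, W), ((unitToPush h).app W).hom (a : Γ(Coh.structureModule Y, W)) =
      a • b₀ := by
    intro a
    rw [unit_app_eq]
    change h.app W a = a • (1 : Γ(X, h ⁻¹ᵁ W))
    rw [Algebra.smul_def, mul_one]
    rfl
  have hker : LinearMap.ker π = Submodule.span Γ(Y, W) {b₀} := by
    apply le_antisymm
    · intro b hb
      obtain ⟨a, ha⟩ := hex b hb
      rw [Submodule.mem_span_singleton]
      exact ⟨a, (hunit a).symm.trans ha⟩
    · rw [Submodule.span_le]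
      rintro _ rfl
      rw [SetLike.mem_coe, LinearMap.mem_ker]
      have h1 := hunit 1
      rw [one_smul] at h1
      have h2 := cokernel.condition (unitToPush h)
      have h3 := congrArg (fun ψ : Coh.structureModule Y ⟶ cokernel (unitToPush h) =>
        (Scheme.Modules.Hom.app ψ W).hom ((1 : Γ(Y, W)) : Γ(Coh.structureModule Y, W))) h2
      change π (((unitToPush h).app W).hom ((1 : Γ(Y, W)) : Γ(Coh.structureModule Y, W))) = 0
        at h3
      rw [h1] at h3
      exact h3
  have h11 : coord h e0 0 (eps h e0 0) = 1 := by rw [coord_eps]; simp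
  have h12 : coord h e0 0 (eps h e0 1) = 0 := by rw [coord_eps]; simp
  have h21 : coord h e0 1 (eps h e0 0) = 0 := by rw [coord_eps]; simp
  have h22 : coord h e0 1 (eps h e0 1) = 1 := by rw [coord_eps]; simp
  have hnot : coord h e0 0 b₀ ∉ (hW.primeIdealOf ⟨y, hyW⟩).asIdeal ∨
      coord h e0 1 b₀ ∉ (hW.primeIdealOf ⟨y, hyW⟩).asIdeal :=
    coord_one_notMem (A := Γ(Y, W)) (B := Γ(X, h ⁻¹ᵁ W)) (hW.primeIdealOf ⟨y, hyW⟩).asIdeal
      (eps h e0 0) (eps h e0 1) (coord h e0 0) (coord h e0 1) (hexp h e0) h11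
  letI := TopCat.Presheaf.algebra_section_stalk Y.presheaf (⟨y, hyW⟩ : W)
  letI := modStalk N' y hyW
  haveI := isScalarTower_stalk N' y hyW
  haveI : IsLocalization.AtPrime (Y.presheaf.stalk y) (hW.primeIdealOf ⟨y, hyW⟩).asIdeal :=
    hW.isLocalization_stalk ⟨y, hyW⟩
  haveI := isLocalizedModule_stalk N' hW y hyW
  exact free_rank_one (hW.primeIdealOf ⟨y, hyW⟩).asIdeal (germLin N' y hyW) π hπ b₀ hker
    (eps h e0 0) (eps h e0 1) (coord h e0 0) (coord h e0 1) (hexp h e0)
    h11 h12 h21 h22 hnot

theorem isFinLocFreeOfRank_one_cokernel [IsLocallyNoetherian Y] [IsFinite h] [Flat h]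
    (hr : ∀ y : Y, h.finrank y = 2) :
    FlatMod.IsFinLocFreeOfRank 1 (cokernel (unitToPush h)) := by
  haveI := isQuasicoherent_pushO h
  haveI : (Coh.structureModule Y).IsQuasicoherent := inferInstance
  haveI : (cokernel (unitToPush h)).IsQuasicoherent :=
    Groth.Agent.Lib.helper7.CohKer.isQuasicoherent_cokernel (unitToPush h)
  have hfp : CohB1.IsFP (cokernel (unitToPush h)) :=
    Groth.Agent.Lib.helper25.FLFCycles.isFP_cokernel_of_isFinLocFree (unitToPush h)
      (isFinLocFree_structureModule Y) (isFinLocFree_pushO h)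
  have hflf : FlatMod.IsFinLocFree (cokernel (unitToPush h)) :=
    isFinLocFree_of_fp_of_free_stalks _ hfp (fun y => (stalk_cokernel h hr y).1)
  exact (isFinLocFreeOfRank_iff_finrank_stalk _ hflf).2 (fun y => (stalk_cokernel h hr y).2)

theorem isInvertible_cokernel [IsLocallyNoetherian Y] [IsFinite h] [Flat h]
    (hr : ∀ y : Y, h.finrank y = 2) : PicF.IsInvertible (cokernel (unitToPush h)) :=
  (isInvertible_iff_isFinLocFreeOfRank_one _).mpr (isFinLocFreeOfRank_one_cokernel h hr)

end Groth.Agent.Lib.helper15.CokerUnit
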