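import Mathlib
import Groth.Agent.Lib.Helper15.CokerUnit2
import Groth.Agent.Lib.Lead.VBCurve14
import Groth.Agent.Lib.Lead.VBCurve18
import Groth.Agent.Lib.Lead.RankAdd
import Groth.Agent.Lib.Helper7.Growth10
import Groth.Agent.Lib.Helper18.DegCalc
import Groth.Agent.Lib.Lead.CurveSec
import Groth.Agent.Lib.Lead.CurveInv
import Groth.Agent.Lib.Helper18.PullEuler
import Groth.Agent.Lib.Lead.ProperEuler
import Groth.Agent.Lib.Helper9.CurveTwist

/-!
# Sections of pullbacks along a finite flat double cover of a curve (helper15)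

`h : X ⟶ Y` finite flat of constant rank 2 over a field `k`, `Y` an integral proper curve,
`N' = coker (O_Y → h_* O_X)` (invertible by `CokerUnit2`).
* `shortExact_unit`: `0 → O_Y → h_* O_X → N' → 0`.
* `deg_cokernel`: `deg N' = χ(O_X) − 2 χ(O_Y)`.
* `finrank_H0_pullback`: for `M` invertible on `Y` with `deg M + deg N' < 0`,
  `h⁰(X, h^* M) = h⁰(Y, M)`.
-/

set_option autoImplicit false
set_option linter.style.haveILetI false
universe u
open CategoryTheory CategoryTheory.Limits AlgebraicGeometry TopologicalSpace Opposite Module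

namespace Groth.Agent.Lib.helper15.CokerUnit

open Scheme.Modules Groth.Agent.Lib.helper15.TraceCover
open Groth.Agent.Lib.helper11.InvPullback Groth.Agent.Lib.helper16.FLF
open Groth.Agent.Lib.Lead.ModTensor

variable {X Y : Scheme.{u}} (h : X ⟶ Y)

theorem shortExact_unit [IsLocallyNoetherian Y] [IsFinite h] [Flat h]
    (hr : ∀ y : Y, h.finrank y = 2) :
    (ShortComplex.mk (unitToPush h) (cokernel.π (unitToPush h))
      (cokernel.condition (unitToPush h))).ShortExact :=
  { exact := ShortComplex.exact_cokernel (unitToPush h)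
    mono_f := mono_unit h hr
    epi_g := inferInstanceAs (Epi (cokernel.π (unitToPush h))) }

theorem isFinLocFreeOfRank_pushO [IsLocallyNoetherian Y] [IsFinite h] [Flat h]
    (hr : ∀ y : Y, h.finrank y = 2) : FlatMod.IsFinLocFreeOfRank 2 (pushO h) := by
  haveI := isQuasicoherent_pushO h
  rw [isFinLocFreeOfRank_iff_sections]
  intro y
  obtain ⟨W, n, hW, hyW, ⟨e0⟩⟩ := exists_free_sections h y
  have hn : n = 2 := by
    rw [← hr y]; exact (finrank_eq_of_free h hW y hyW n e0).symm
  subst hn
  exact ⟨W, hW, hyW, ⟨e0⟩⟩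

section field

variable (k : Type u) [Field k] [X.Over (Spec (CommRingCat.of k))]
  [Y.Over (Spec (CommRingCat.of k))] [IsProper (Y ↘ Spec (CommRingCat.of k))]

theorem deg_cokernel (hh : h ≫ (Y ↘ Spec (CommRingCat.of k)) = X ↘ Spec (CommRingCat.of k))
    [IsFinite h] [Flat h] (hr : ∀ y : Y, h.finrank y = 2) :
    Curv2.deg k Y (cokernel (unitToPush h)) 1 =
      Curv2.euler k X (Coh.structureModule X) - 2 * Curv2.euler k Y (Coh.structureModule Y) := by
  haveI := Groth.Agent.Lib.Lead.CurveEuler.isNoetherian k Y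
  have hS := shortExact_unit h hr
  have hN' := isInvertible_cokernel h hr
  have hOc : Coh.IsCoh (Coh.structureModule Y) :=
    Groth.Agent.Lib.Lead.CurveInv.isCoh_of_isInvertible Y
      (Groth.Agent.Lib.helper11.InvMod.isInvertible_structureModule Y)
  have hNc : Coh.IsCoh (cokernel (unitToPush h)) :=
    Groth.Agent.Lib.Lead.CurveInv.isCoh_of_isInvertible Y hN'
  have h1 := Groth.Agent.Lib.Lead.ProperEuler.euler_additive k hS hOc hNc
  have h2 : Curv2.euler k Y (pushO h) = Curv2.euler k X (Coh.structureModule X) :=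
    Groth.Agent.Lib.Helper18.PullEuler.euler_push k h hh (Coh.structureModule X)
  change Curv2.euler k Y (pushO h) = Curv2.euler k Y (Coh.structureModule Y) +
    Curv2.euler k Y (cokernel (unitToPush h)) at h1
  change Curv2.euler k Y (cokernel (unitToPush h)) -
    ((1 : ℕ) : ℤ) * Curv2.euler k Y (Coh.structureModule Y) = _
  rw [← h2, h1]
  push_cast
  ring

theorem finrank_H0_pullback [IsIntegral Y]
    (hh : h ≫ (Y ↘ Spec (CommRingCat.of k)) = X ↘ Spec (CommRingCat.of k))
    [IsFinite h] [Flat h] (hdim : topologicalKrullDim Y ≤ 1) (hr : ∀ y : Y, h.finrank y = 2)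
    (M : Y.Modules) (hM : PicF.IsInvertible M)
    (hneg : Curv2.deg k Y M 1 + Curv2.deg k Y (cokernel (unitToPush h)) 1 < 0) :
    finrank k (Coh.HH X ((Scheme.Modules.pullback h).obj M) 0) = finrank k (Coh.HH Y M 0) := by
  haveI := Groth.Agent.Lib.Lead.CurveEuler.isNoetherian k Y
  haveI : h.IsOver (Spec (CommRingCat.of k)) := ⟨hh⟩
  have hM1 : FlatMod.IsFinLocFreeOfRank 1 M := (isInvertible_iff_isFinLocFreeOfRank_one M).mp hM
  have hMf : FlatMod.IsFinLocFree M := isFinLocFree_of_isFinLocFreeOfRank hM1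
  have hS := shortExact_unit h hr
  have hN' := isInvertible_cokernel h hr
  have hN'1 := isFinLocFreeOfRank_one_cokernel h hr
  have hO : PicF.IsInvertible (Coh.structureModule Y) :=
    Groth.Agent.Lib.helper11.InvMod.isInvertible_structureModule Y
  have hOc : Coh.IsCoh (Coh.structureModule Y) :=
    Groth.Agent.Lib.Lead.CurveInv.isCoh_of_isInvertible Y hO
  have hNc : Coh.IsCoh (cokernel (unitToPush h)) :=
    Groth.Agent.Lib.Lead.CurveInv.isCoh_of_isInvertible Y hN'
  have hEc : Coh.IsCoh (pushO h) :=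
    Groth.Agent.Lib.Lead.RankAdd.isCoh_of_isFinLocFreeOfRank (isFinLocFreeOfRank_pushO h hr)
  have hMc : Coh.IsCoh M := Groth.Agent.Lib.Lead.CurveInv.isCoh_of_isInvertible Y hM
  -- step 1: push forward and projection formula
  haveI hq : ((Scheme.Modules.pullback h).obj M).IsQuasicoherent :=
    isQuasicoherent_of_isFinLocFree _ (isFinLocFree_pullback h hMf)
  have e1 : finrank k (Coh.HH X ((Scheme.Modules.pullback h).obj M) 0) =
      finrank k (Coh.HH Y (CohB1.tensorMod (pushO h) M) 0) := by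
    rw [← Groth.Agent.Lib.Helper18.HH.finrank_push h ((Scheme.Modules.pullback h).obj M) k 0]
    exact Groth.Agent.Lib.helper9.CurveTwist.finrank_HH_eq_of_iso k
      ((Scheme.Modules.pushforward h).mapIso (leftUnitor _).symm ≪≫
        (Groth.Agent.Lib.Helper18.ProjFormulaLF.projIso h (Coh.structureModule X) M hMf).symm) 0
  -- step 2: the tensored sequence
  obtain ⟨w, hS'⟩ := Groth.Agent.Lib.Helper18.DegCalc.shortExact_tensor _ hS hM1
  have hc1 : Coh.IsCoh (CohB1.tensorMod (Coh.structureModule Y) M) :=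
    Groth.Agent.Lib.Helper18.DegCalc.isCoh_tensorMod hOc hMc
  have hc2 : Coh.IsCoh (CohB1.tensorMod (pushO h) M) :=
    Groth.Agent.Lib.Helper18.DegCalc.isCoh_tensorMod hEc hMc
  have hc3 : Coh.IsCoh (CohB1.tensorMod (cokernel (unitToPush h)) M) :=
    Groth.Agent.Lib.Helper18.DegCalc.isCoh_tensorMod hNc hMc
  have hle := Groth.Agent.Lib.Lead.VBCurve.finrank_H0_le_add k Y hS' hc1 hc2 hc3
  haveI : Mono (tensorMap (unitToPush h) (𝟙 M)) := hS'.mono_f
  have hge := Groth.Agent.Lib.helper7.Growth.finrank_H0_le_of_mono k Y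
    (tensorMap (unitToPush h) (𝟙 M)) hc2
  -- step 3: vanishing
  have hvan : finrank k (Coh.HH Y (CohB1.tensorMod (cokernel (unitToPush h)) M) 0) = 0 := by
    by_contra hne
    have hpos : 0 < finrank k (Coh.HH Y (CohB1.tensorMod (cokernel (unitToPush h)) M) 0) :=
      Nat.pos_of_ne_zero hne
    obtain ⟨s, hs⟩ := Groth.Agent.Lib.Lead.CurveSec.exists_hom_ne_zero_of_finrank_pos k Y _ hpos
    obtain ⟨hNM1, hdeg⟩ := Groth.Agent.Lib.Lead.VBCurve.deg_tensor_invertible k Y hdim hN'1 hM
    have hNM : PicF.IsInvertible (CohB1.tensorMod (cokernel (unitToPush h)) M) :=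
      (isInvertible_iff_isFinLocFreeOfRank_one _).mpr hNM1
    have hd := Groth.Agent.Lib.Lead.CurveInv.deg_le k Y hdim hO hNM s hs
    have h0 : Curv2.deg k Y (Coh.structureModule Y) 1 = 0 := by
      change Curv2.euler k Y (Coh.structureModule Y) -
        ((1 : ℕ) : ℤ) * Curv2.euler k Y (Coh.structureModule Y) = 0
      push_cast
      ring
    rw [h0, hdeg] at hd
    push_cast at hd
    linarith
  -- step 4: unit
  have e2 : finrank k (Coh.HH Y (CohB1.tensorMod (Coh.structureModule Y) M) 0) =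
      finrank k (Coh.HH Y M 0) :=
    Groth.Agent.Lib.helper9.CurveTwist.finrank_HH_eq_of_iso k (leftUnitor M) 0
  change finrank k (Coh.HH Y (CohB1.tensorMod (pushO h) M) 0) ≤
    finrank k (Coh.HH Y (CohB1.tensorMod (Coh.structureModule Y) M) 0) +
      finrank k (Coh.HH Y (CohB1.tensorMod (cokernel (unitToPush h)) M) 0) at hle
  change finrank k (Coh.HH Y (CohB1.tensorMod (Coh.structureModule Y) M) 0) ≤
    finrank k (Coh.HH Y (CohB1.tensorMod (pushO h) M) 0) at hge
  rw [e1]
  omega

end field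

end Groth.Agent.Lib.helper15.CokerUnit
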