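import Mathlib
import Groth.Prelude.Def_SGA3b

/-!
# The power maps `powConv` and the torsion ideals `torsionIdeal` (helper15)

Base change (semilinear) compatibility, transport along bialgebra maps, and the group algebra case.
-/

set_option autoImplicit false
universe u v
open TensorProduct WithConv

namespace Groth.Agent.Lib.helper15.TorsIdeal

open SGA3b

section Basic

variable {R : Type u} [CommRing R] {A : Type u} [CommRing A] [HopfAlgebra R A]

lemma powConv_zero_apply (a : A) : powConv R A 0 a = algebraMap R A (Coalgebra.counit a) := by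
  rw [powConv, pow_zero]
  rfl

lemma powConv_succ_apply {ι : Type*} (n : ℕ) (a : A) (𝓡 : Coalgebra.Repr R a ι) :
    powConv R A (n + 1) a = ∑ i ∈ 𝓡.index, powConv R A n (𝓡.left i) * 𝓡.right i := by
  rw [powConv, pow_succ]
  change ((toConv (AlgHom.id R A)) ^ n * toConv (AlgHom.id R A)) a = _
  rw [AlgHom.convMul_apply, ← 𝓡.eq, map_sum]
  refine Finset.sum_congr rfl fun i _ => ?_
  rw [Algebra.TensorProduct.lift_tmul]
  rfl

end Basic

section Semilinear

variable {R : Type u} [CommRing R] {A : Type u} [CommRing A] [HopfAlgebra R A]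
  {S : Type u} [CommRing S] [Algebra R S] {B : Type u} [CommRing B] [HopfAlgebra S B]
  [Algebra R B] [IsScalarTower R S B]

/-- a semilinear coalgebra map commutes with the power maps. -/
lemma powConv_semilinear (ι : A →ₐ[R] B)
    (hΔ : ∀ (a : A), Coalgebra.comul (R := S) (ι a) =
      ∑ i ∈ (Coalgebra.Repr.arbitrary R a).index,
        ι ((Coalgebra.Repr.arbitrary R a).left i) ⊗ₜ[S] ι ((Coalgebra.Repr.arbitrary R a).right i))
    (hε : ∀ a, Coalgebra.counit (R := S) (ι a) = algebraMap R S (Coalgebra.counit (R := R) a))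
    (n : ℕ) (a : A) : ι (powConv R A n a) = powConv S B n (ι a) := by
  induction n generalizing a with
  | zero =>
    rw [powConv_zero_apply, powConv_zero_apply, hε, AlgHom.commutes,
      IsScalarTower.algebraMap_apply R S B]
  | succ n ih =>
    let 𝓡' : Coalgebra.Repr S (ι a) (A × A) :=
      ⟨(Coalgebra.Repr.arbitrary R a).index, fun i => ι ((Coalgebra.Repr.arbitrary R a).left i),
        fun i => ι ((Coalgebra.Repr.arbitrary R a).right i), (hΔ a).symm⟩
    rw [powConv_succ_apply n a (Coalgebra.Repr.arbitrary R a), powConv_succ_apply n (ι a) 𝓡', map_sum]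
    refine Finset.sum_congr rfl fun i _ => ?_
    rw [map_mul, ih]

/-- the torsion ideals are compatible with semilinear coalgebra maps. -/
lemma map_torsionIdeal_le_semilinear (ι : A →ₐ[R] B)
    (hΔ : ∀ (a : A), Coalgebra.comul (R := S) (ι a) =
      ∑ i ∈ (Coalgebra.Repr.arbitrary R a).index,
        ι ((Coalgebra.Repr.arbitrary R a).left i) ⊗ₜ[S] ι ((Coalgebra.Repr.arbitrary R a).right i))
    (hε : ∀ a, Coalgebra.counit (R := S) (ι a) = algebraMap R S (Coalgebra.counit (R := R) a))
    (n : ℕ) : Ideal.map ι (torsionIdeal R A n) ≤ torsionIdeal S B n := by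
  rw [torsionIdeal, Ideal.map_le_iff_le_comap, Ideal.map_le_iff_le_comap]
  intro a ha
  rw [Ideal.mem_comap, Ideal.mem_comap]
  rw [powConv_semilinear ι hΔ hε]
  apply Ideal.mem_map_of_mem
  rw [RingHom.mem_ker] at ha ⊢
  change Coalgebra.counit (R := S) (ι a) = 0
  rw [hε]
  change Coalgebra.counit (R := R) a = 0 at ha
  rw [ha, map_zero]

end Semilinear

section BaseChange

variable {R : Type u} [CommRing R] (A : Type u) [CommRing A] [HopfAlgebra R A]
  (S : Type u) [CommRing S] [Algebra R S]

lemma comul_includeRight (a : A) : Coalgebra.comul (R := S) ((1 : S) ⊗ₜ[R] a) =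
      ∑ i ∈ (Coalgebra.Repr.arbitrary R a).index,
        ((1 : S) ⊗ₜ[R] (Coalgebra.Repr.arbitrary R a).left i) ⊗ₜ[S]
          ((1 : S) ⊗ₜ[R] (Coalgebra.Repr.arbitrary R a).right i) := by
  rw [TensorProduct.comul_tmul, ← (Coalgebra.Repr.arbitrary R a).eq, CommSemiring.comul_apply,
    tmul_sum, map_sum]
  rfl

lemma counit_includeRight (a : A) : Coalgebra.counit (R := S) ((1 : S) ⊗ₜ[R] a) =
    algebraMap R S (Coalgebra.counit (R := R) a) := by
  rw [TensorProduct.counit_tmul, CommSemiring.counit_apply, Algebra.smul_def, mul_one]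

/-- the torsion ideals are compatible with base change. -/
lemma map_torsionIdeal_le_baseChange (n : ℕ) :
    Ideal.map (Algebra.TensorProduct.includeRight : A →ₐ[R] S ⊗[R] A) (torsionIdeal R A n) ≤
      torsionIdeal S (S ⊗[R] A) n :=
  map_torsionIdeal_le_semilinear _ (comul_includeRight A S) (counit_includeRight A S) n

end BaseChange

section Bialg

variable {R : Type u} [CommRing R] {A B : Type u} [CommRing A] [HopfAlgebra R A] [CommRing B]
  [HopfAlgebra R B]

lemma map_torsionIdeal_le_bialgHom (φ : A →ₐc[R] B) (n : ℕ) :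
    Ideal.map (φ : A →ₐ[R] B) (torsionIdeal R A n) ≤ torsionIdeal R B n := by
  refine map_torsionIdeal_le_semilinear (φ : A →ₐ[R] B) ?_ ?_ n
  · intro a
    have h1 : Coalgebra.comul (R := R) (φ a) = TensorProduct.map (φ : A →ₗ[R] B) (φ : A →ₗ[R] B)
        (Coalgebra.comul (R := R) a) := (CoalgHomClass.map_comp_comul_apply φ a).symm
    change Coalgebra.comul (R := R) (φ a) = _
    rw [h1, ← (Coalgebra.Repr.arbitrary R a).eq, map_sum]
    rfl
  · intro a
    exact CoalgHomClass.counit_comp_apply φ a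

end Bialg

section GroupAlg

variable {R : Type u} [CommRing R] {M : Type u} [CommGroup M]

lemma powConv_single (n : ℕ) (m : M) (r : R) :
    powConv R (MonoidAlgebra R M) n (MonoidAlgebra.single m r) = MonoidAlgebra.single (m ^ n) r := by
  induction n generalizing r with
  | zero =>
    rw [powConv_zero_apply, MonoidAlgebra.counit_single, CommSemiring.counit_apply, pow_zero]
    rfl
  | succ n ih =>
    let 𝓡 : Coalgebra.Repr R (MonoidAlgebra.single m r) Unit :=
      ⟨{()}, fun _ => MonoidAlgebra.single m 1, fun _ => MonoidAlgebra.single m r, by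
        rw [MonoidAlgebra.comul_single, CommSemiring.comul_apply]
        simp⟩
    rw [powConv_succ_apply n _ 𝓡]
    change ∑ i ∈ ({()} : Finset Unit), powConv R (MonoidAlgebra R M) n (MonoidAlgebra.single m 1) *
      MonoidAlgebra.single m r = _
    rw [Finset.sum_singleton, ih, MonoidAlgebra.single_mul_single, one_mul, pow_succ]

/-- the quotient of `M` by the `n`-th powers. -/
abbrev powRange (M : Type u) [CommGroup M] (n : ℕ) : Subgroup M := (powMonoidHom n : M →* M).range

/-- the projection `R[M] → R[M/Mⁿ]`. -/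
noncomputable abbrev projPow (R : Type u) [CommRing R] (M : Type u) [CommGroup M] (n : ℕ) :
    MonoidAlgebra R M →ₐ[R] MonoidAlgebra R (M ⧸ powRange M n) :=
  MonoidAlgebra.mapDomainAlgHom R R (QuotientGroup.mk' (powRange M n))

lemma projPow_powConv (n : ℕ) (x : MonoidAlgebra R M) :
    projPow R M n (powConv R (MonoidAlgebra R M) n x) =
      algebraMap R _ (Coalgebra.counit (R := R) x) := by
  induction x using MonoidAlgebra.induction_linear with
  | zero => simp
  | add x y hx hy => rw [map_add, map_add, hx, hy, map_add, map_add]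
  | single m r =>
    rw [powConv_single, MonoidAlgebra.counit_single, CommSemiring.counit_apply,
      MonoidAlgebra.mapDomainAlgHom_apply, MonoidAlgebra.mapDomain_single]
    have h1 : QuotientGroup.mk' (powRange M n) (m ^ n) = 1 := by
      rw [QuotientGroup.mk'_apply, QuotientGroup.eq_one_iff]
      exact ⟨m, rfl⟩
    rw [h1]
    rfl

lemma torsionIdeal_le_ker_projPow (n : ℕ) :
    torsionIdeal R (MonoidAlgebra R M) n ≤ RingHom.ker (projPow R M n) := by
  rw [torsionIdeal, Ideal.map_le_iff_le_comap]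
  intro x hx
  rw [Ideal.mem_comap, RingHom.mem_ker, projPow_powConv]
  rw [RingHom.mem_ker] at hx
  change Coalgebra.counit (R := R) x = 0 at hx
  rw [hx, map_zero]

lemma eq_zero_of_mapDomain_eq_zero {M' : Type u} [CommGroup M'] (q : M →* M')
    (x : MonoidAlgebra R M) (hinj : Set.InjOn q (x.coeff.support : Set M))
    (hx : MonoidAlgebra.mapDomainAlgHom R R q x = 0) : x = 0 := by
  rw [MonoidAlgebra.mapDomainAlgHom_apply] at hx
  have h1 : Finsupp.mapDomain q x.coeff = 0 := by
    have := congrArg MonoidAlgebra.coeff hx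
    exact this
  have h2 := Finsupp.mapDomain_injOn (M := R) (x.coeff.support : Set M) hinj
  have h3 : x.coeff = 0 := by
    apply h2
    · exact Set.Subset.refl _
    · simp
    · rw [h1, Finsupp.mapDomain_zero]
  exact MonoidAlgebra.coeff_eq_zero.mp h3

end GroupAlg

section AbGroup

variable (N : Type u) [AddCommGroup N] [Module.Finite ℤ N]

theorem exists_nsmul_separating (p : ℕ) (hp : p = 0 ∨ (p.Prime ∧ ∀ x : N, p • x = 0 → x = 0)) :
    ∃ t : ℕ, 0 < t ∧ ¬ p ∣ t ∧ ∀ d : N, d ≠ 0 → ∃ B : ℕ, ∀ n : ℕ, t ∣ n → B < n →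
      ∀ y : N, n • y ≠ d := by
  classical
  let T := Submodule.torsion ℤ N
  have hfinT : Module.Finite ℤ T := Module.Finite.of_fg (IsNoetherian.noetherian T)
  have hT : Module.IsTorsion ℤ T := Submodule.torsion_isTorsion
  have hfin : Finite T := Module.finite_of_fg_torsion T hT
  have htors : ∀ y : N, y ∈ T → Nat.card T • y = 0 := by
    intro y hy
    have h1 : Nat.card T • (⟨y, hy⟩ : T) = 0 := card_nsmul_eq_zero'
    exact congrArg Subtype.val h1
  refine ⟨Nat.card T, Nat.card_pos, ?_, ?_⟩
  · rcases hp with rfl | ⟨hpp, hpt⟩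
    · rw [zero_dvd_iff]
      exact Nat.card_pos.ne'
    · intro hdvd
      have : Fact p.Prime := ⟨hpp⟩
      obtain ⟨x, hx⟩ := exists_prime_addOrderOf_dvd_card' (G := T) p hdvd
      have h1 : p • x = 0 := by rw [← hx]; exact addOrderOf_nsmul_eq_zero x
      have h2 : (x : N) = 0 := hpt _ (by
        have := congrArg Subtype.val h1
        simpa using this)
      have h3 : x = 0 := Subtype.ext h2
      rw [h3, addOrderOf_zero] at hx
      exact hpp.one_lt.ne hx
  · intro d hd
    by_cases hdT : d ∈ T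
    · refine ⟨0, fun n htn hn y hy => hd ?_⟩
      obtain ⟨q, rfl⟩ := htn
      have hyT : y ∈ T := by
        obtain ⟨a, ha⟩ := (Submodule.mem_torsion_iff d).mp hdT
        rw [Submodule.mem_torsion_iff]
        refine ⟨⟨(a : ℤ) * ((Nat.card T * q : ℕ) : ℤ), ?_⟩, ?_⟩
        · rw [mem_nonZeroDivisors_iff_ne_zero]
          apply mul_ne_zero (nonZeroDivisors.ne_zero a.2)
          exact_mod_cast hn.ne'
        · change ((a : ℤ) * ((Nat.card T * q : ℕ) : ℤ)) • y = 0
          rw [mul_smul, natCast_zsmul, hy]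
          exact ha
      rw [← hy, mul_comm, mul_smul, htors y hyT, smul_zero]
    · have hfree : Module.Free ℤ (N ⧸ T) := Module.free_of_finite_type_torsion_free'
      let b := Module.Free.chooseBasis ℤ (N ⧸ T)
      have hd' : (Submodule.Quotient.mk d : N ⧸ T) ≠ 0 := by
        rw [Ne, Submodule.Quotient.mk_eq_zero]
        exact hdT
      have hrepr : b.repr (Submodule.Quotient.mk d) ≠ 0 := by
        intro h0
        exact hd' (b.repr.map_eq_zero_iff.mp h0)
      obtain ⟨i, hi⟩ := Finsupp.ne_iff.mp hrepr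
      rw [Finsupp.zero_apply] at hi
      refine ⟨(b.repr (Submodule.Quotient.mk d) i).natAbs, fun n _ hn y hy => ?_⟩
      have h1 : (Submodule.Quotient.mk d : N ⧸ T) = n • Submodule.Quotient.mk y := by
        rw [← hy]; rfl
      have h2 : b.repr (Submodule.Quotient.mk d) i = (n : ℤ) * b.repr (Submodule.Quotient.mk y) i := by
        rw [h1, map_nsmul, Finsupp.smul_apply, nsmul_eq_mul]
      have h3 : (n : ℤ) ∣ b.repr (Submodule.Quotient.mk d) i := ⟨_, h2⟩
      have h4 := Int.natAbs_le_of_dvd_ne_zero h3 hi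
      rw [Int.natAbs_natCast] at h4
      omega

end AbGroup

theorem exists_pow_injOn (M : Type u) [CommGroup M] [Group.FG M] (p : ℕ)
    (hp : p = 0 ∨ (p.Prime ∧ ∀ m : M, m ^ p = 1 → m = 1)) (S : Finset M) :
    ∃ n : ℕ, 0 < n ∧ ¬ p ∣ n ∧ Set.InjOn (QuotientGroup.mk' (powRange M n)) (S : Set M) := by
  classical
  have hfin : Module.Finite ℤ (Additive M) := Module.Finite.iff_addGroup_fg.mpr inferInstance
  have hp' : p = 0 ∨ (p.Prime ∧ ∀ x : Additive M, p • x = 0 → x = 0) := by
    rcases hp with h0 | ⟨h1, h2⟩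
    · exact Or.inl h0
    · refine Or.inr ⟨h1, fun x hx => ?_⟩
      have := h2 (Additive.toMul x) (by
        have h3 := congrArg Additive.toMul hx
        simpa using h3)
      exact Additive.toMul.injective this
  obtain ⟨t, ht0, htp, hsep⟩ := exists_nsmul_separating (Additive M) p hp'
  let f : M × M → ℕ := fun ss =>
    if h : Additive.ofMul (ss.1⁻¹ * ss.2) ≠ 0 then (hsep _ h).choose else 0
  let B := (S ×ˢ S).sup f
  obtain ⟨q, hqB, hqp⟩ : ∃ q : ℕ, B < q ∧ ¬ p ∣ q := by
    rcases hp with h0 | ⟨h1, -⟩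
    · exact ⟨B + 1, Nat.lt_succ_self B, by rw [h0, zero_dvd_iff]; omega⟩
    · refine ⟨p * B + 1, ?_, ?_⟩
      · have := h1.one_lt
        nlinarith
      · intro hd
        have h2 : p ∣ 1 := (Nat.dvd_add_right (Dvd.intro B rfl)).mp hd
        exact h1.one_lt.ne' (Nat.dvd_one.mp h2)
  have hq0 : 0 < q := lt_of_le_of_lt (Nat.zero_le _) hqB
  refine ⟨t * q, Nat.mul_pos ht0 hq0, ?_, ?_⟩
  · rcases hp with h0 | ⟨h1, -⟩
    · rw [h0, zero_dvd_iff]
      exact (Nat.mul_pos ht0 hq0).ne'
    · intro hd
      rcases (h1.dvd_mul).mp hd with h | h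
      · exact htp h
      · exact hqp h
  · intro s hs s' hs' hss
    by_contra hne
    rw [QuotientGroup.mk'_apply, QuotientGroup.mk'_apply, QuotientGroup.eq] at hss
    obtain ⟨y, hy⟩ := hss
    have hd : Additive.ofMul (s⁻¹ * s') ≠ 0 := by
      intro h0
      apply hne
      have h1 : s⁻¹ * s' = 1 := Additive.ofMul.injective h0
      exact (inv_mul_eq_one.mp h1)
    have hB : f (s, s') ≤ B := Finset.le_sup (f := f) (Finset.mk_mem_product hs hs')
    have hf : f (s, s') = (hsep _ hd).choose := dif_pos hd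
    have h2 := (hsep _ hd).choose_spec (t * q) (Dvd.intro q rfl) (by
      have : q ≤ t * q := Nat.le_mul_of_pos_left q ht0
      omega) (Additive.ofMul y)
    apply h2
    rw [← ofMul_pow]
    exact congrArg Additive.ofMul hy


/-- density of the (prime-to-`p`) torsion in a diagonalisable group of finite type whose character
group has no `p`-torsion. -/
theorem iInf_torsionIdeal_groupAlg (R : Type u) [CommRing R] (M : Type u) [CommGroup M] [Group.FG M]
    (p : ℕ) (hp : p = 0 ∨ (p.Prime ∧ ∀ m : M, m ^ p = 1 → m = 1)) :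
    ⨅ n : {n : ℕ // 0 < n ∧ ¬ p ∣ n}, SGA3b.torsionIdeal R (MonoidAlgebra R M) n.1 = ⊥ := by
  classical
  rw [eq_bot_iff]
  intro x hx
  rw [Ideal.mem_iInf] at hx
  obtain ⟨n, hn0, hnp, hinj⟩ := exists_pow_injOn M p hp x.coeff.support
  have h1 := torsionIdeal_le_ker_projPow (R := R) (M := M) n (hx ⟨n, hn0, hnp⟩)
  rw [RingHom.mem_ker] at h1
  rw [Ideal.mem_bot]
  exact eq_zero_of_mapDomain_eq_zero _ x hinj h1

end Groth.Agent.Lib.helper15.TorsIdeal
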