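import Mathlib
import Groth.Agent.Lib.Helper15.TraceIntegral
import Groth.Agent.Lib.Helper15.TorsIdeal

/-!
# Deligne's theorem: a finite free commutative group scheme is killed by its order (helper15)

`A` a commutative and cocommutative Hopf algebra, finite free over `R` of rank `n`.  Then the `n`-th
convolution power of the identity of `A` is the neutral element.  Proof (Deligne): in the convolution ring
`E = Hom_R(A, A ⊗ A)`, a free algebra of rank `n` over `H = Hom_R(A, A)`, the unit `δ = (x ↦ 1 ⊗ x)`
satisfies `T δ = u • δ` for the automorphism `T` (composition with the shear map) and `u = id ∈ H`;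
take norms.
-/

set_option autoImplicit false
set_option linter.unusedSectionVars false

universe u

open TensorProduct WithConv

namespace Groth.Agent.Lib.helper15.Deligne

section PostComp

variable {R : Type u} [CommRing R] {C : Type u} [AddCommGroup C] [Module R C] [Coalgebra R C]
  {B B' : Type u} [CommRing B] [Algebra R B] [CommRing B'] [Algebra R B']

/-- composition with an algebra map, as a ring map of convolution rings. -/
noncomputable def postComp (φ : B →ₐ[R] B') : WithConv (C →ₗ[R] B) →+* WithConv (C →ₗ[R] B') where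
  toFun h := toConv (φ.toLinearMap ∘ₗ h.ofConv)
  map_one' := by
    apply WithConv.ofConv_injective
    ext c
    change φ (algebraMap R B (Coalgebra.counit (R := R) c)) = algebraMap R B' _
    rw [AlgHom.commutes]
  map_mul' f g := by
    apply WithConv.ofConv_injective
    exact LinearMap.algHom_comp_convMul_distrib φ f g
  map_zero' := by
    apply WithConv.ofConv_injective
    ext c
    simp
  map_add' f g := by
    apply WithConv.ofConv_injective
    ext c
    simp

lemma postComp_apply (φ : B →ₐ[R] B') (h : WithConv (C →ₗ[R] B)) (c : C) :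
    (postComp φ h).ofConv c = φ (h.ofConv c) := rfl

end PostComp

variable (R : Type u) [CommRing R] (A : Type u) [CommRing A] [HopfAlgebra R A]
  [Coalgebra.IsCocomm R A]

/-- `H = Hom_R(A, A)` with convolution. -/
abbrev H := WithConv (A →ₗ[R] A)

/-- `E = Hom_R(A, A ⊗ A)` with convolution. -/
abbrev E := WithConv (A →ₗ[R] A ⊗[R] A)

/-- the structure map `H → E`. -/
noncomputable def iotaH : H R A →+* E R A :=
  postComp (Algebra.TensorProduct.includeLeft : A →ₐ[R] A ⊗[R] A)

/-- `E` as an `H`-algebra. -/
@[instance_reducible]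
noncomputable def algHE : Algebra (H R A) (E R A) := (iotaH R A).toAlgebra

attribute [local instance] algHE

lemma algebraMap_HE (h : H R A) : algebraMap (H R A) (E R A) h = iotaH R A h := rfl

lemma smul_HE (h : H R A) (φ : E R A) : h • φ = iotaH R A h * φ := rfl

section Basis

variable {R A} {ι : Type} [Fintype ι] [DecidableEq ι] (b : Module.Basis ι R A)

/-- the `i`-th coordinate of the second factor. -/
noncomputable def projI (i : ι) : A ⊗[R] A →ₗ[R] A :=
  (TensorProduct.rid R A).toLinearMap ∘ₗ (LinearMap.lTensor A (b.coord i))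

lemma projI_tmul (i : ι) (x y : A) : projI b i (x ⊗ₜ[R] y) = b.coord i y • x := by
  simp [projI]

lemma projI_mul (i : ι) (a : A) (z : A ⊗[R] A) :
    projI b i ((a ⊗ₜ[R] (1 : A)) * z) = a * projI b i z := by
  induction z using TensorProduct.induction_on with
  | zero => simp
  | add x y hx hy => rw [mul_add, map_add, map_add, hx, hy, mul_add]
  | tmul x y =>
    rw [Algebra.TensorProduct.tmul_mul_tmul, one_mul, projI_tmul, projI_tmul, mul_smul_comm]

lemma sum_projI (z : A ⊗[R] A) : ∑ i, projI b i z ⊗ₜ[R] b i = z := by
  induction z using TensorProduct.induction_on with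
  | zero => simp
  | add x y hx hy =>
    simp_rw [map_add, TensorProduct.add_tmul]
    rw [Finset.sum_add_distrib, hx, hy]
  | tmul x y =>
    simp_rw [projI_tmul, TensorProduct.smul_tmul]
    rw [← TensorProduct.tmul_sum]
    congr 1
    exact b.sum_repr y

lemma projI_sum (j : ι) (f : ι → A) : projI b j (∑ i, f i ⊗ₜ[R] b i) = f j := by
  rw [map_sum]
  simp_rw [projI_tmul]
  rw [Finset.sum_eq_single j]
  · simp
  · intro i _ hij
    rw [Module.Basis.coord_apply, Module.Basis.repr_self, Finsupp.single_eq_of_ne hij.symm, zero_smul]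
  · intro h
    exact absurd (Finset.mem_univ _) h

/-- coordinates of `E` over `H`. -/
noncomputable def coordsE : E R A ≃ₗ[H R A] (ι → H R A) where
  toFun φ := fun i => toConv (projI b i ∘ₗ φ.ofConv)
  map_add' φ ψ := by
    funext i
    apply WithConv.ofConv_injective
    ext x
    simp
  map_smul' h φ := by
    funext i
    apply WithConv.ofConv_injective
    ext x
    change projI b i ((iotaH R A h * φ).ofConv x) =
      (h * toConv (projI b i ∘ₗ φ.ofConv)).ofConv x
    have h1 := (Coalgebra.Repr.arbitrary R x).convMul_apply (iotaH R A h) φ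
    have h2 := (Coalgebra.Repr.arbitrary R x).convMul_apply h (toConv (projI b i ∘ₗ φ.ofConv))
    change (iotaH R A h * φ).ofConv x = _ at h1
    change (h * toConv (projI b i ∘ₗ φ.ofConv)).ofConv x = _ at h2
    rw [h1, h2, map_sum]
    refine Finset.sum_congr rfl fun k _ => ?_
    change projI b i ((h.ofConv _ ⊗ₜ[R] (1 : A)) * φ.ofConv _) = _
    rw [projI_mul]
    rfl
  invFun f := toConv (∑ i, (TensorProduct.mk R A A).flip (b i) ∘ₗ (f i).ofConv)
  left_inv φ := by
    apply WithConv.ofConv_injective
    ext x
    simp only [LinearMap.sum_apply, LinearMap.comp_apply,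
      LinearMap.flip_apply, TensorProduct.mk_apply]
    exact sum_projI b (φ.ofConv x)
  right_inv f := by
    funext j
    apply WithConv.ofConv_injective
    ext x
    simp only [LinearMap.sum_apply, LinearMap.comp_apply,
      LinearMap.flip_apply, TensorProduct.mk_apply]
    exact projI_sum b j (fun i => (f i).ofConv x)

/-- `E` is free over `H`. -/
noncomputable def basisE : Module.Basis ι (H R A) (E R A) := Module.Basis.ofEquivFun (coordsE b)

end Basis

section Main

variable [Module.Finite R A]

/-- the shear automorphism `x ⊗ y ↦ (x ⊗ 1) Δ(y)` of `A ⊗ A`. -/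
noncomputable def shear : (A ⊗[R] A) ≃ₐ[R] (A ⊗[R] A) :=
  AlgEquiv.ofBijective ((TraceIntegral.gal R A).restrictScalars R) (TraceIntegral.gal_bijective R A)

lemma shear_tmul (x y : A) :
    shear R A (x ⊗ₜ[R] y) = (x ⊗ₜ[R] (1 : A)) * Coalgebra.comul (R := R) y := rfl

/-- composition with the shear map, an automorphism of the `H`-algebra `E`. -/
noncomputable def T : E R A ≃ₐ[H R A] E R A :=
  { toFun := postComp (shear R A : (A ⊗[R] A) →ₐ[R] (A ⊗[R] A))
    invFun := postComp ((shear R A).symm : (A ⊗[R] A) →ₐ[R] (A ⊗[R] A))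
    left_inv := fun φ => by
      apply WithConv.ofConv_injective
      ext x
      simp [postComp_apply]
    right_inv := fun φ => by
      apply WithConv.ofConv_injective
      ext x
      simp [postComp_apply]
    map_mul' := map_mul _
    map_add' := map_add _
    commutes' := fun h => by
      apply WithConv.ofConv_injective
      ext x
      change shear R A ((h.ofConv x) ⊗ₜ[R] (1 : A)) = (h.ofConv x) ⊗ₜ[R] (1 : A)
      rw [shear_tmul, Bialgebra.comul_one, mul_one] }

lemma T_apply (φ : E R A) (x : A) : (T R A φ).ofConv x = shear R A (φ.ofConv x) := rfl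

/-- the universal point. -/
noncomputable def δ : E R A :=
  toConv (Algebra.TensorProduct.includeRight : A →ₐ[R] A ⊗[R] A).toLinearMap

lemma isUnit_δ : IsUnit (δ R A) := by
  let jR : WithConv (A →ₐ[R] A ⊗[R] A) := toConv Algebra.TensorProduct.includeRight
  have h1 : jR * jR⁻¹ = 1 := mul_inv_cancel jR
  have h2 := AlgHom.toLinearMap_convMul jR jR⁻¹
  rw [h1, AlgHom.toLinearMap_convOne] at h2
  exact IsUnit.of_mul_eq_one _ h2.symm

/-- the identity of `A`, as an element of `H`. -/
noncomputable def uH : H R A := toConv LinearMap.id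

lemma T_δ : T R A (δ R A) = uH R A • δ R A := by
  apply WithConv.ofConv_injective
  ext x
  rw [T_apply, smul_HE]
  have h1 := (Coalgebra.Repr.arbitrary R x).convMul_apply (iotaH R A (uH R A)) (δ R A)
  change (iotaH R A (uH R A) * δ R A).ofConv x = _ at h1
  rw [h1]
  change shear R A ((1 : A) ⊗ₜ[R] x) = ∑ i ∈ (Coalgebra.Repr.arbitrary R x).index,
    ((Coalgebra.Repr.arbitrary R x).left i ⊗ₜ[R] (1 : A)) *
      ((1 : A) ⊗ₜ[R] (Coalgebra.Repr.arbitrary R x).right i)
  rw [shear_tmul, ← Algebra.TensorProduct.one_def, one_mul]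
  simp_rw [Algebra.TensorProduct.tmul_mul_tmul, one_mul, mul_one]
  exact ((Coalgebra.Repr.arbitrary R x).eq).symm

variable {R A} in
/-- Deligne's theorem, linear form. -/
theorem uH_pow {ι : Type} [Fintype ι] [DecidableEq ι] (b : Module.Basis ι R A) :
    uH R A ^ Fintype.card ι = 1 := by
  have h1 : Algebra.norm (H R A) (T R A (δ R A)) = Algebra.norm (H R A) (δ R A) :=
    Algebra.norm_eq_of_algEquiv (T R A) (δ R A)
  rw [T_δ, Algebra.smul_def, map_mul, Algebra.norm_algebraMap_of_basis (basisE b)] at h1
  have h2 : IsUnit (Algebra.norm (H R A) (δ R A)) := (isUnit_δ R A).map _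
  exact h2.mul_left_injective (by
    change uH R A ^ Fintype.card ι * _ = 1 * _
    rw [h1, one_mul])

variable {R A} in
/-- Deligne's theorem for finite free commutative group schemes. -/
theorem pow_card_eq_one {ι : Type} [Fintype ι] [DecidableEq ι] (b : Module.Basis ι R A) :
    (toConv (AlgHom.id R A)) ^ Fintype.card ι = 1 := by
  have h1 := AlgHom.toLinearMap_convPow (toConv (AlgHom.id R A)) (Fintype.card ι)
  have h2 : toConv (toConv (AlgHom.id R A)).ofConv.toLinearMap = uH R A := rfl
  rw [h2, uH_pow b] at h1
  apply WithConv.ofConv_injective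
  apply AlgHom.toLinearMap_injective
  have h3 := congrArg WithConv.ofConv h1
  exact h3

end Main

section Projective

variable {R A} [Module.Finite R A] [Module.Projective R A]

/-- Deligne's theorem for finite locally free commutative group schemes of constant rank. -/
theorem pow_rank_eq_one (n : ℕ) (hn : ∀ q : PrimeSpectrum R, Module.rankAtStalk A q = n) :
    (toConv (AlgHom.id R A)) ^ n = 1 := by
  apply WithConv.ofConv_injective
  apply AlgHom.ext
  intro a
  change SGA3b.powConv R A n a = algebraMap R A (Coalgebra.counit (R := R) a)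
  rw [← sub_eq_zero]
  refine Module.eq_zero_of_localization_maximal
    (fun P _ => Localization.AtPrime P ⊗[R] A)
    (fun P _ => TensorProduct.mk R (Localization.AtPrime P) A 1) _ ?_
  intro P hP
  let S := Localization.AtPrime P
  have hfree : Module.Free S (S ⊗[R] A) := Module.free_of_flat_of_isLocalRing
  have hrk : Module.finrank S (S ⊗[R] A) = n := by
    rw [← hn ⟨P, hP.isPrime⟩, Module.rankAtStalk_eq_finrank_tensorProduct]
  let b := Module.finBasis S (S ⊗[R] A)
  have h1 := pow_card_eq_one b
  rw [Fintype.card_fin, hrk] at h1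
  have h2 : SGA3b.powConv S (S ⊗[R] A) n ((1 : S) ⊗ₜ[R] a) =
      algebraMap S (S ⊗[R] A) (Coalgebra.counit (R := S) ((1 : S) ⊗ₜ[R] a)) := by
    unfold SGA3b.powConv
    rw [h1]
    rfl
  have h3 := TorsIdeal.powConv_semilinear
    (Algebra.TensorProduct.includeRight : A →ₐ[R] S ⊗[R] A)
    (TorsIdeal.comul_includeRight A S) (TorsIdeal.counit_includeRight A S) n a
  change (1 : S) ⊗ₜ[R] (SGA3b.powConv R A n a - algebraMap R A (Coalgebra.counit (R := R) a)) = 0
  rw [TensorProduct.tmul_sub, sub_eq_zero]
  change (Algebra.TensorProduct.includeRight : A →ₐ[R] S ⊗[R] A) (SGA3b.powConv R A n a) = _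
  rw [h3, Algebra.TensorProduct.includeRight_apply, h2, TorsIdeal.counit_includeRight,
    Algebra.algebraMap_eq_smul_one, Algebra.algebraMap_eq_smul_one, Algebra.algebraMap_eq_smul_one,
    TensorProduct.tmul_smul, smul_assoc, one_smul, Algebra.TensorProduct.one_def]

end Projective

end Groth.Agent.Lib.helper15.Deligne
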