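import Mathlib
import Groth.Agent.Lib.Helper15.PfiltOps

/-!
# Points of a finite group scheme over an algebraically closed field (helper15)

`A` a finite-dimensional commutative Hopf algebra over an algebraically closed field `K`.

* `isNilpotent_of_forall_point`, `eq_zero_of_idem`, `eq_of_idem`: points detect nilpotents and
  idempotents (for any finite-dimensional commutative `K`-algebra).
* `tau γ`: translation by a point; `tauEquiv`.
* `idE`: the idempotent of the identity component; `eγ γ` its translates, a complete orthogonal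
  family; `finrank_eq_card_mul`.
-/

set_option autoImplicit false
set_option linter.style.haveILetI false
universe u v
open TensorProduct WithConv

namespace Groth.Agent.Lib.helper15.FinGrpPts

open Groth.Agent.Lib.helper15.HopfSub Groth.Agent.Lib.helper15.PfiltOps

section Points

variable {K : Type u} [Field K] [IsAlgClosed K] {B : Type v} [CommRing B] [Algebra K B]
  [Module.Finite K B]

/-- an element killed by all points is nilpotent. -/
theorem isNilpotent_of_forall_point {a : B} (h : ∀ γ : B →ₐ[K] K, γ a = 0) : IsNilpotent a := by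
  haveI : IsArtinianRing B := isArtinian_of_tower K (inferInstance : IsArtinian K B)
  rw [← mem_nilradical, nilradical_eq_sInf, Ideal.mem_sInf]
  intro P hP
  haveI : P.IsPrime := hP
  haveI : P.IsMaximal := IsArtinianRing.isMaximal_of_isPrime P
  letI : Field (B ⧸ P) := Ideal.Quotient.field P
  have hbij : Function.Bijective (algebraMap K (B ⧸ P)) :=
    IsAlgClosed.algebraMap_bijective_of_isIntegral
  let e : K ≃ₐ[K] (B ⧸ P) := AlgEquiv.ofBijective (Algebra.ofId K (B ⧸ P)) hbij
  let γ : B →ₐ[K] K := (e.symm : (B ⧸ P) →ₐ[K] K).comp (Ideal.Quotient.mkₐ K P)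
  have h1 : e.symm (Ideal.Quotient.mk P a) = 0 := h γ
  have h2 : Ideal.Quotient.mk P a = 0 := by
    have := congrArg e h1
    rwa [AlgEquiv.apply_symm_apply, map_zero] at this
  exact Ideal.Quotient.eq_zero_iff_mem.1 h2

/-- an idempotent killed by all points is zero. -/
theorem eq_zero_of_idem {f : B} (hf : IsIdempotentElem f) (h : ∀ γ : B →ₐ[K] K, γ f = 0) :
    f = 0 := by
  obtain ⟨n, hn⟩ := isNilpotent_of_forall_point h
  cases n with
  | zero =>
    rw [pow_zero] at hn
    rw [← mul_one f, hn, mul_zero]
  | succ n => rw [← hf.pow_succ_eq n, hn]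

/-- idempotents are determined by their values at points. -/
theorem eq_of_idem {e f : B} (he : IsIdempotentElem e) (hf : IsIdempotentElem f)
    (h : ∀ γ : B →ₐ[K] K, γ e = γ f) : e = f := by
  have key : ∀ {e f : B}, IsIdempotentElem e → IsIdempotentElem f →
      (∀ γ : B →ₐ[K] K, γ e = γ f) → e = e * f := by
    intro e f he hf h
    have h1 : e * (1 - f) = 0 := by
      apply eq_zero_of_idem (K := K) (he.mul hf.one_sub)
      intro γ
      have h2 : γ f * γ f = γ f := by rw [← map_mul, hf.eq]
      rw [map_mul, map_sub, map_one, h γ, mul_sub, mul_one, h2, sub_self]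
    rw [mul_sub, mul_one, sub_eq_zero] at h1
    exact h1
  rw [key he hf h, mul_comm, ← key hf he fun γ => (h γ).symm]

end Points

section Hopf

variable (K : Type u) [Field K] (A : Type v) [CommRing A] [HopfAlgebra K A]

/-- the group of points. -/
abbrev Pt := WithConv (A →ₐ[K] K)

variable {K A}

/-- right translation by a point. -/
noncomputable def tau (γ : A →ₐ[K] K) : A →ₐ[K] A :=
  (Algebra.TensorProduct.rid K K A).toAlgHom.comp
    ((Algebra.TensorProduct.map (AlgHom.id K A) γ).comp (Bialgebra.comulAlgHom K A))

lemma tau_apply (γ : A →ₐ[K] K) (a : A) : tau γ a = Rf γ.toLinearMap a := by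
  have h : ∀ t : A ⊗[K] A, Algebra.TensorProduct.rid K K A
      (Algebra.TensorProduct.map (AlgHom.id K A) γ t) = slR γ.toLinearMap t := by
    intro t
    induction t with
    | zero => simp
    | add x y hx hy => simp only [map_add, hx, hy]
    | tmul x y => simp
  exact h _

lemma point_tau (δ γ : A →ₐ[K] K) (a : A) :
    δ (tau γ a) = (toConv δ * toConv γ : Pt K A) a := by
  rw [AlgHom.convMul_apply, tau_apply, Rf_apply]
  generalize Coalgebra.comul (R := K) a = t
  induction t with
  | zero => simp
  | add x y hx hy => simp only [map_add, hx, hy]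
  | tmul x y => simp [mul_comm]

lemma tau_tau (γ γ' : A →ₐ[K] K) (a : A) :
    tau γ (tau γ' a) = tau (toConv γ * toConv γ' : Pt K A).ofConv a := by
  have hh : γ.toLinearMap ∘ₗ Rf γ'.toLinearMap =
      (toConv γ * toConv γ' : Pt K A).ofConv.toLinearMap := by
    ext x
    rw [LinearMap.comp_apply, ← tau_apply]
    exact point_tau γ γ' x
  rw [tau_apply, tau_apply, tau_apply, Rf_Rf, hh]

lemma tau_one (a : A) : tau (1 : Pt K A).ofConv a = a := by
  rw [tau_apply, Rf_apply]
  have h : ((1 : Pt K A).ofConv).toLinearMap = Coalgebra.counit (R := K) (A := A) := by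
    ext x
    rfl
  rw [h, slR, LinearMap.comp_apply, Coalgebra.lTensor_counit_comul]
  simp

/-- translation as an algebra automorphism. -/
noncomputable def tauEquiv (γ : Pt K A) : A ≃ₐ[K] A :=
  AlgEquiv.ofAlgHom (tau γ.ofConv) (tau (γ⁻¹).ofConv)
    (by
      ext a
      rw [AlgHom.comp_apply, tau_tau]
      have : (toConv γ.ofConv * toConv (γ⁻¹).ofConv : Pt K A) = 1 := mul_inv_cancel γ
      rw [this, tau_one]
      rfl)
    (by
      ext a
      rw [AlgHom.comp_apply, tau_tau]
      have : (toConv (γ⁻¹).ofConv * toConv γ.ofConv : Pt K A) = 1 := inv_mul_cancel γ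
      rw [this, tau_one]
      rfl)

lemma tauEquiv_apply (γ : Pt K A) (a : A) : tauEquiv γ a = tau γ.ofConv a := rfl

end Hopf

section Idem

variable {K : Type u} [Field K] [IsAlgClosed K] {A : Type v} [CommRing A] [HopfAlgebra K A]
  [Module.Finite K A]

instance : Finite (Pt K A) :=
  Finite.of_injective (fun γ : Pt K A => γ.ofConv) WithConv.ofConv_injective

noncomputable instance : Fintype (Pt K A) := Fintype.ofFinite _

variable (K A) in
/-- existence of the idempotent of the identity component. -/
theorem exists_idE : ∃ e : A, IsIdempotentElem e ∧ Coalgebra.counit (R := K) e = 1 ∧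
    ∀ γ : A →ₐ[K] K, γ ≠ Bialgebra.counitAlgHom K A → γ e = 0 := by
  haveI : IsArtinianRing A := isArtinian_of_tower K (inferInstance : IsArtinian K A)
  have hsurj : Function.Surjective (Bialgebra.counitAlgHom K A) :=
    fun c => ⟨algebraMap K A c, by simp⟩
  haveI hmax : (RingHom.ker (Bialgebra.counitAlgHom K A)).IsMaximal :=
    RingHom.ker_isMaximal_of_surjective _ hsurj
  obtain ⟨r, hr, hidem, hq⟩ :=
    IsArtinianRing.exists_not_mem_forall_mem_of_ne (RingHom.ker (Bialgebra.counitAlgHom K A))
  refine ⟨r, hidem, ?_, ?_⟩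
  · have h1 : IsIdempotentElem (Coalgebra.counit (R := K) r) := by
      have := hidem.map (Bialgebra.counitAlgHom K A)
      exact this
    rcases IsIdempotentElem.iff_eq_zero_or_one.1 h1 with h | h
    · exact absurd h hr
    · exact h
  · intro γ hγ
    have hsurjγ : Function.Surjective γ := fun c => ⟨algebraMap K A c, by simp⟩
    haveI : (RingHom.ker γ).IsMaximal := RingHom.ker_isMaximal_of_surjective _ hsurjγ
    apply hq (RingHom.ker γ) inferInstance
    intro heq
    apply hγ
    ext a
    have h1 : a - algebraMap K A (Bialgebra.counitAlgHom K A a) ∈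
        RingHom.ker (Bialgebra.counitAlgHom K A) := by
      rw [RingHom.mem_ker, map_sub, AlgHom.commutes]
      simp
    rw [← heq, RingHom.mem_ker, map_sub, AlgHom.commutes, sub_eq_zero] at h1
    rw [h1]
    rfl

variable (K A) in
/-- the idempotent of the identity component. -/
noncomputable def idE : A := (exists_idE K A).choose

lemma idE_idem : IsIdempotentElem (idE K A) := (exists_idE K A).choose_spec.1

lemma counit_idE : Coalgebra.counit (R := K) (idE K A) = 1 := (exists_idE K A).choose_spec.2.1

open scoped Classical in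
lemma point_idE (γ : Pt K A) : γ.ofConv (idE K A) = if γ = 1 then 1 else 0 := by
  split_ifs with h
  · rw [h]
    exact counit_idE
  · apply (exists_idE K A).choose_spec.2.2
    intro h2
    apply h
    apply WithConv.ofConv_injective
    rw [h2]
    ext a
    change _ = algebraMap K K _
    rfl

/-- the translates of the identity idempotent. -/
noncomputable def eγ (γ : Pt K A) : A := tau γ.ofConv (idE K A)

lemma eγ_idem (γ : Pt K A) : IsIdempotentElem (eγ γ) := idE_idem.map (tau γ.ofConv)

open scoped Classical in
lemma point_eγ (δ γ : Pt K A) : δ.ofConv (eγ γ) = if δ * γ = 1 then 1 else 0 := by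
  rw [eγ, point_tau]
  exact point_idE (δ * γ)

theorem completeOrthogonalIdempotents_eγ :
    CompleteOrthogonalIdempotents (fun γ : Pt K A => eγ γ) := by
  classical
  have hortho : OrthogonalIdempotents (fun γ : Pt K A => eγ γ) := by
    refine ⟨eγ_idem, ?_⟩
    intro γ γ' hne
    apply eq_zero_of_idem (K := K) ((eγ_idem γ).mul (eγ_idem γ'))
    intro δ
    have h1 := point_eγ (toConv δ) γ
    have h2 := point_eγ (toConv δ) γ'
    rw [map_mul]
    change (toConv δ : Pt K A).ofConv (eγ γ) * (toConv δ : Pt K A).ofConv (eγ γ') = 0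
    rw [h1, h2]
    by_cases h3 : (toConv δ : Pt K A) * γ = 1
    · have h4 : ¬ ((toConv δ : Pt K A) * γ' = 1) := by
        intro h4
        apply hne
        exact mul_left_cancel (h3.trans h4.symm)
      rw [if_neg h4, mul_zero]
    · rw [if_neg h3, zero_mul]
  refine ⟨hortho, ?_⟩
  have hid : IsIdempotentElem (∑ γ : Pt K A, eγ γ) := hortho.isIdempotentElem_sum
  apply eq_of_idem (K := K) hid IsIdempotentElem.one
  intro δ
  rw [map_one, map_sum]
  have h1 : ∀ γ : Pt K A, δ (eγ γ) = if γ = (toConv δ : Pt K A)⁻¹ then 1 else 0 := by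
    intro γ
    have := point_eγ (toConv δ) γ
    rw [show δ (eγ γ) = (toConv δ : Pt K A).ofConv (eγ γ) from rfl, this]
    congr 1
    rw [eq_iff_iff]
    constructor
    · intro h
      exact eq_inv_of_mul_eq_one_right h
    · intro h
      rw [h, mul_inv_cancel]
  simp_rw [h1]
  rw [Finset.sum_ite_eq' Finset.univ]
  simp

variable (K A) in
/-- the ideal of the identity component. -/
def J0 : Ideal A := Ideal.span {1 - idE K A}

/-- the order of a finite group scheme is the number of points times the order of the identity
component. -/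
theorem finrank_eq_card_mul :
    Module.finrank K A = Fintype.card (Pt K A) * Module.finrank K (A ⧸ J0 K A) := by
  classical
  have hbij := (completeOrthogonalIdempotents_eγ (K := K) (A := A)).bijective_pi
  let L : A →ₗ[K] ((γ : Pt K A) → A ⧸ Ideal.span {1 - eγ γ}) :=
    LinearMap.pi fun γ => (Ideal.Quotient.mkₐ K (Ideal.span {1 - eγ γ})).toLinearMap
  have hL : Function.Bijective L := hbij
  have e := LinearEquiv.ofBijective L hL
  rw [e.finrank_eq, Module.finrank_pi_fintype]
  have h1 : ∀ γ : Pt K A, Module.finrank K (A ⧸ Ideal.span {1 - eγ γ}) =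
      Module.finrank K (A ⧸ J0 K A) := by
    intro γ
    have hmap : Ideal.span {1 - eγ γ} = (J0 K A).map (tauEquiv γ : A →+* A) := by
      rw [J0, Ideal.map_span, Set.image_singleton]
      congr 2
      change _ = tauEquiv γ (1 - idE K A)
      rw [map_sub, map_one]
      rfl
    exact (Ideal.quotientEquivAlg (J0 K A) (Ideal.span {1 - eγ γ}) (tauEquiv γ)
      hmap).toLinearEquiv.finrank_eq.symm
  rw [Finset.sum_congr rfl fun γ _ => h1 γ, Finset.sum_const, Finset.card_univ, smul_eq_mul]

end Idem

end Groth.Agent.Lib.helper15.FinGrpPts
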