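import Mathlib

/-!
# Power maps of a commutative bialgebra (helper15)

`cp n : A →ₐ[k] A` is the `n`-th convolution power of the identity (the comorphism of `g ↦ g ^ n`).

* `toConv_pow_eq`: `(toConv f) ^ n = toConv (f.comp (cp n))` for an algebra map `f : A → B`;
* `cp_mul`: `cp (m * n) = (cp m).comp (cp n)`;
* `map_cp`: naturality for bialgebra maps;
* `cp_pow_char_sub_mem`: in characteristic `p`, `cp (p ^ m) a - ε a ∈ (ker ε) ^ (p ^ m)`.
-/

set_option autoImplicit false
universe u v w
open TensorProduct WithConv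

namespace Groth.Agent.Lib.helper15.ConvPow

section Basic

variable {k : Type u} [CommRing k] {A : Type v} [CommRing A] [Bialgebra k A]

/-- the `n`-th power map. -/
noncomputable def cp (n : ℕ) : A →ₐ[k] A := ((toConv (AlgHom.id k A)) ^ n).ofConv

lemma toConv_cp (n : ℕ) : toConv (cp (k := k) (A := A) n) = (toConv (AlgHom.id k A)) ^ n := rfl

lemma cp_zero_apply (a : A) : cp (k := k) 0 a = algebraMap k A (Coalgebra.counit (R := k) a) := by
  rw [cp, pow_zero]
  rfl

lemma cp_one : cp (k := k) (A := A) 1 = AlgHom.id k A := by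
  rw [cp, pow_one]

/-- powers of an algebra map in the convolution monoid. -/
theorem toConv_pow_eq {B : Type w} [CommRing B] [Algebra k B] (f : A →ₐ[k] B) (n : ℕ) :
    (toConv f) ^ n = toConv (f.comp (cp n)) := by
  induction n with
  | zero =>
    rw [pow_zero]
    apply WithConv.ofConv_injective
    ext a
    change algebraMap k B (Coalgebra.counit (R := k) a) = f (cp 0 a)
    rw [cp_zero_apply, AlgHom.commutes]
  | succ n ih =>
    rw [pow_succ, ih]
    apply WithConv.ofConv_injective
    have h := AlgHom.comp_convMul_distrib f ((toConv (AlgHom.id k A)) ^ n) (toConv (AlgHom.id k A))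
    change _ = f.comp ((toConv (AlgHom.id k A)) ^ (n + 1)).ofConv
    rw [pow_succ, h]
    rfl

theorem cp_mul (m n : ℕ) : cp (k := k) (A := A) (m * n) = (cp m).comp (cp n) := by
  apply WithConv.toConv_injective
  rw [toConv_cp, pow_mul, ← toConv_cp, toConv_pow_eq]

lemma pow_comp_bialgHom {C : Type*} [CommRing C] [Bialgebra k C] {B : Type w} [CommRing B]
    [Algebra k B] (f : WithConv (C →ₐ[k] B)) (h : A →ₐc[k] C) (n : ℕ) :
    (f ^ n).ofConv.comp (h : A →ₐ[k] C) = ((toConv (f.ofConv.comp (h : A →ₐ[k] C))) ^ n).ofConv := by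
  induction n with
  | zero =>
    rw [pow_zero, pow_zero]
    ext a
    change algebraMap k B (Coalgebra.counit (R := k) (h a)) =
      algebraMap k B (Coalgebra.counit (R := k) a)
    rw [CoalgHomClass.counit_comp_apply]
  | succ n ih =>
    rw [pow_succ, pow_succ, AlgHom.convMul_comp_bialgHom_distrib, ih]

/-- naturality of the power maps. -/
theorem map_cp {C : Type*} [CommRing C] [Bialgebra k C] (h : A →ₐc[k] C) (n : ℕ) (a : A) :
    h (cp (k := k) n a) = cp (k := k) n (h a) := by
  have h1 : toConv ((h : A →ₐ[k] C).comp (cp n)) = (toConv (h : A →ₐ[k] C)) ^ n :=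
    (toConv_pow_eq _ n).symm
  have h2 := pow_comp_bialgHom (toConv (AlgHom.id k C)) h n
  have h3 : (cp n).comp (h : A →ₐ[k] C) = (h : A →ₐ[k] C).comp (cp n) := by
    apply WithConv.toConv_injective
    rw [h1]
    change toConv (((toConv (AlgHom.id k C)) ^ n).ofConv.comp (h : A →ₐ[k] C)) = _
    rw [h2]
    rfl
  exact (congr($h3 a)).symm

/-- the linear map underlying `cp n` is the `n`-th convolution power of the identity. -/
lemma toLinearMap_cp (n : ℕ) :
    toConv (cp (k := k) (A := A) n).toLinearMap = (toConv (LinearMap.id : A →ₗ[k] A)) ^ n :=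
  AlgHom.toLinearMap_convPow (toConv (AlgHom.id k A)) n

end Basic

section CharP

variable {k : Type u} [Field k] {A : Type v} [CommRing A] [Bialgebra k A]

local notation "𝔪" => RingHom.ker (Bialgebra.counitAlgHom k A)

/-- `Π = id - ηε` in the convolution ring. -/
noncomputable def Pi : WithConv (A →ₗ[k] A) := toConv (LinearMap.id : A →ₗ[k] A) - 1

lemma Pi_apply (a : A) :
    (Pi (k := k) (A := A)) a = a - algebraMap k A (Coalgebra.counit (R := k) a) := rfl

lemma Pi_apply_mem (a : A) : (Pi (k := k) (A := A)) a ∈ 𝔪 := by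
  rw [Pi_apply, RingHom.mem_ker, map_sub, AlgHom.commutes]
  simp

lemma Pi_pow_apply_mem (j : ℕ) (a : A) : ((Pi (k := k) (A := A)) ^ j) a ∈ 𝔪 ^ j := by
  induction j generalizing a with
  | zero =>
    rw [pow_zero, pow_zero, Ideal.one_eq_top]
    trivial
  | succ j ih =>
    rw [pow_succ (Pi (k := k) (A := A)) j, LinearMap.convMul_apply, pow_succ]
    generalize Coalgebra.comul (R := k) a = t
    induction t with
    | zero => simp
    | add x y hx hy => rw [map_add, map_add]; exact add_mem hx hy
    | tmul x y =>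
      rw [TensorProduct.map_tmul, LinearMap.mul'_apply]
      exact Ideal.mul_mem_mul (ih x) (Pi_apply_mem y)

variable (p : ℕ) [Fact p.Prime] [CharP k p]

/-- in characteristic `p`, `[p^m]^* a - ε a ∈ 𝔪 ^ (p ^ m)`. -/
theorem cp_pow_char_sub_mem (m : ℕ) (a : A) :
    cp (k := k) (p ^ m) a - algebraMap k A (Coalgebra.counit (R := k) a) ∈ 𝔪 ^ (p ^ m) := by
  have hnt : Nontrivial A := by
    by_contra h
    rw [not_nontrivial_iff_subsingleton] at h
    have h1 : Coalgebra.counit (R := k) (1 : A) = Coalgebra.counit (R := k) (0 : A) := by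
      rw [Subsingleton.elim (1 : A) 0]
    rw [Bialgebra.counit_one, map_zero] at h1
    exact one_ne_zero h1
  have hinj : Function.Injective (algebraMap k (WithConv (A →ₗ[k] A))) := by
    rw [injective_iff_map_eq_zero]
    intro s hs
    have h1 := congr($hs (1 : A))
    rw [LinearMap.convAlgebraMap_apply, Bialgebra.counit_one, map_one] at h1
    have h2 : s • (1 : A) = 0 := h1
    rw [← Algebra.algebraMap_eq_smul_one] at h2
    exact (algebraMap k A).injective (h2.trans (map_zero _).symm)
  haveI : CharP (WithConv (A →ₗ[k] A)) p := charP_of_injective_algebraMap hinj p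
  have h1 : toConv (LinearMap.id : A →ₗ[k] A) = 1 + Pi (k := k) (A := A) := by
    rw [Pi]; abel
  have h2 : (toConv (LinearMap.id : A →ₗ[k] A)) ^ (p ^ m) = 1 + (Pi (k := k) (A := A)) ^ (p ^ m) := by
    rw [h1, add_pow_char_pow_of_commute p m (Commute.one_left _), one_pow]
  have h3 : cp (k := k) (p ^ m) a = ((toConv (LinearMap.id : A →ₗ[k] A)) ^ (p ^ m)) a := by
    rw [← toLinearMap_cp]
    rfl
  rw [h3, h2]
  have h4 : ((1 : WithConv (A →ₗ[k] A)) + (Pi (k := k) (A := A)) ^ (p ^ m)) a =
      algebraMap k A (Coalgebra.counit (R := k) a) + ((Pi (k := k) (A := A)) ^ (p ^ m)) a := rfl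
  rw [h4, add_sub_cancel_left]
  exact Pi_pow_apply_mem _ a

end CharP

end Groth.Agent.Lib.helper15.ConvPow
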