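import Mathlib
import Groth.Agent.Lib.Helper15.HopfSubalg
import Groth.Agent.Lib.Helper15.HeightOne

/-!
# The Hopf subalgebra generated by `p`-th powers (helper15)
-/

set_option autoImplicit false
universe u v
open TensorProduct

namespace Groth.Agent.Lib.helper15.FrobSub

open Groth.Agent.Lib.helper15.HopfSubalg Groth.Agent.Lib.helper15.HeightOne

variable (k : Type u) [Field k] (A : Type v) [CommRing A] [HopfAlgebra k A]
variable (p : ℕ) [Fact p.Prime] [CharP k p]

/-- the subalgebra generated by the `p`-th powers -/
def frobSub : Subalgebra k A := Algebra.adjoin k (Set.range fun a : A => a ^ p)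

omit [Fact p.Prime] [CharP k p] in
lemma pow_mem_frobSub (a : A) : a ^ p ∈ frobSub k A p :=
  Algebra.subset_adjoin ⟨a, rfl⟩

lemma pow_mem_range_T (z : A ⊗[k] A) : z ^ p ∈ (T (frobSub k A p)).range := by
  rcases subsingleton_or_nontrivial (A ⊗[k] A) with hs | hn
  · have : z ^ p = 0 := Subsingleton.elim _ _
    rw [this]; exact Subalgebra.zero_mem _
  · have : CharP (A ⊗[k] A) p :=
      charP_of_injective_algebraMap (algebraMap k (A ⊗[k] A)).injective p
    induction z using TensorProduct.induction_on with
    | zero =>
      rw [zero_pow (Fact.out : p.Prime).ne_zero]; exact Subalgebra.zero_mem _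
    | tmul u v =>
      rw [Algebra.TensorProduct.tmul_pow]
      exact ⟨(⟨u ^ p, pow_mem_frobSub k A p u⟩ : frobSub k A p) ⊗ₜ[k]
        (⟨v ^ p, pow_mem_frobSub k A p v⟩ : frobSub k A p), rfl⟩
    | add z₁ z₂ h₁ h₂ =>
      rw [add_pow_char]
      exact Subalgebra.add_mem _ h₁ h₂

theorem isHopfSub_frobSub : IsHopfSub (frobSub k A p) := by
  constructor
  · have hle : frobSub k A p ≤ (T (frobSub k A p)).range.comap (Bialgebra.comulAlgHom k A) := by
      refine Algebra.adjoin_le ?_
      rintro _ ⟨a, rfl⟩
      show (Bialgebra.comulAlgHom k A) (a ^ p) ∈ (T (frobSub k A p)).range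
      rw [map_pow]
      exact pow_mem_range_T k A p _
    intro b hb
    obtain ⟨t, ht⟩ := hle hb
    exact ⟨t, ht⟩
  · have hle : frobSub k A p ≤ (frobSub k A p).comap (HopfAlgebra.antipodeAlgHom k A) := by
      refine Algebra.adjoin_le ?_
      rintro _ ⟨a, rfl⟩
      show (HopfAlgebra.antipodeAlgHom k A) (a ^ p) ∈ frobSub k A p
      rw [map_pow]
      exact pow_mem_frobSub k A p _
    intro b hb
    exact hle hb


omit [Fact p.Prime] [CharP k p] in
include k in
lemma nontrivial_of_bialgebra : Nontrivial A :=
  RingHom.domain_nontrivial (Bialgebra.counitAlgHom k A).toRingHom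

lemma sub_counit_mem_frobIdeal {b : A} (hb : b ∈ frobSub k A p) :
    b - algebraMap k A (Coalgebra.counit (R := k) b) ∈ frobIdeal k A p := by
  have : Nontrivial A := nontrivial_of_bialgebra k A
  have : CharP A p := charP_of_injective_algebraMap (algebraMap k A).injective p
  induction hb using Algebra.adjoin_induction with
  | mem x hx =>
    obtain ⟨a, rfl⟩ := hx
    have e : a ^ p - algebraMap k A (Coalgebra.counit (R := k) (a ^ p)) =
        (a - algebraMap k A (Coalgebra.counit (R := k) a)) ^ p := by
      rw [sub_pow_char, ← map_pow]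
      congr 2
      exact map_pow (Bialgebra.counitAlgHom k A) a p
    rw [e]
    exact pow_mem_frobIdeal k A p (sub_counit_mem a)
  | algebraMap r =>
    have : Coalgebra.counit (R := k) (algebraMap k A r) = r := by simp
    rw [this, sub_self]; exact Ideal.zero_mem _
  | add x y _ _ hx hy =>
    have e : x + y - algebraMap k A (Coalgebra.counit (R := k) (x + y)) =
        (x - algebraMap k A (Coalgebra.counit (R := k) x)) +
          (y - algebraMap k A (Coalgebra.counit (R := k) y)) := by
      rw [map_add, map_add]; ring
    rw [e]; exact Ideal.add_mem _ hx hy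
  | mul x y _ _ hx hy =>
    have e : x * y - algebraMap k A (Coalgebra.counit (R := k) (x * y)) =
        (x - algebraMap k A (Coalgebra.counit (R := k) x)) * y +
          algebraMap k A (Coalgebra.counit (R := k) x) *
            (y - algebraMap k A (Coalgebra.counit (R := k) y)) := by
      rw [Bialgebra.counit_mul, map_mul]; ring
    rw [e]
    exact Ideal.add_mem _ (Ideal.mul_mem_right _ _ hx) (Ideal.mul_mem_left _ _ hy)

/-- augmentation ideal of `frobSub` -/
noncomputable def augB : Ideal (frobSub k A p) := RingHom.ker (counitB (B := frobSub k A p))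

omit [Fact p.Prime] [CharP k p] in
lemma mem_augB (β : frobSub k A p) :
    β ∈ augB k A p ↔ Coalgebra.counit (R := k) (β : A) = 0 := Iff.rfl

omit [CharP k p] in
lemma frobIdeal_le_smul_top :
    (frobIdeal k A p).restrictScalars (frobSub k A p) ≤
      (augB k A p • ⊤ : Submodule (frobSub k A p) A) := by
  intro y hy
  have hy' : y ∈ Submodule.span A ((fun a : A => a ^ p) ''
      (RingHom.ker (Bialgebra.counitAlgHom k A) : Set A)) := hy
  refine Submodule.span_induction
    (p := fun y _ => y ∈ (augB k A p • ⊤ : Submodule (frobSub k A p) A)) ?_ ?_ ?_ ?_ hy'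
  · rintro _ ⟨a, ha, rfl⟩
    have hmem : (⟨a ^ p, pow_mem_frobSub k A p a⟩ : frobSub k A p) ∈ augB k A p := by
      rw [mem_augB]
      show Coalgebra.counit (R := k) (a ^ p) = 0
      have h0 : Coalgebra.counit (R := k) a = 0 := ha
      have := map_pow (Bialgebra.counitAlgHom k A) a p
      rw [Bialgebra.counitAlgHom_apply, Bialgebra.counitAlgHom_apply, h0,
        zero_pow (Fact.out : p.Prime).ne_zero] at this
      exact this
    have : (a ^ p : A) = (⟨a ^ p, pow_mem_frobSub k A p a⟩ : frobSub k A p) • (1 : A) := by
      rw [Subalgebra.smul_def]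
      show a ^ p = a ^ p * 1
      rw [mul_one]
    show a ^ p ∈ _
    rw [this]
    exact Submodule.smul_mem_smul hmem Submodule.mem_top
  · exact Submodule.zero_mem _
  · intro x y _ _ hx hy
    exact Submodule.add_mem _ hx hy
  · intro s x _ hx
    refine Submodule.smul_induction_on hx ?_ ?_
    · intro β hβ a' _
      have : s • (β • a') = β • (s * a') := by
        rw [Subalgebra.smul_def, Subalgebra.smul_def, smul_eq_mul]; ring
      rw [this]
      exact Submodule.smul_mem_smul hβ Submodule.mem_top
    · intro u v hu hv
      rw [smul_add]; exact Submodule.add_mem _ hu hv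

omit [Fact p.Prime] [CharP k p] in
lemma repr_mem_augB {ι : Type*} (b : Module.Basis ι (frobSub k A p) A) {y : A}
    (hy : y ∈ (augB k A p • ⊤ : Submodule (frobSub k A p) A)) (i : ι) :
    b.repr y i ∈ augB k A p := by
  refine Submodule.smul_induction_on hy ?_ ?_
  · intro β hβ a' _
    rw [map_smul, Finsupp.smul_apply, smul_eq_mul]
    exact Ideal.mul_mem_right _ _ hβ
  · intro u v hu hv
    rw [map_add, Finsupp.add_apply]
    exact Ideal.add_mem _ hu hv

theorem finrank_quot_frobIdeal [Module.Finite k A] [Module.Free (frobSub k A p) A] :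
    Module.finrank k (A ⧸ frobIdeal k A p) = Module.finrank (frobSub k A p) A := by
  classical
  have : Nontrivial A := nontrivial_of_bialgebra k A
  have : Module.Finite (frobSub k A p) A := Module.Finite.of_restrictScalars_finite k _ A
  let b := Module.finBasis (frobSub k A p) A
  let L : (Fin (Module.finrank (frobSub k A p) A) → k) →ₗ[k] A ⧸ frobIdeal k A p :=
    Fintype.linearCombination k (fun i => Ideal.Quotient.mk (frobIdeal k A p) (b i))
  have hL : ∀ c, L c = Ideal.Quotient.mk (frobIdeal k A p) (∑ i, c i • b i) := by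
    intro c
    simp only [L, Fintype.linearCombination_apply, map_sum]
    refine Finset.sum_congr rfl fun i _ => ?_
    rw [Algebra.smul_def, Algebra.smul_def, map_mul]
    rfl
  have hinj : Function.Injective L := by
    rw [injective_iff_map_eq_zero]
    intro c hc
    rw [hL, Ideal.Quotient.eq_zero_iff_mem] at hc
    have h2 := frobIdeal_le_smul_top k A p hc
    funext i
    have h3 := repr_mem_augB k A p b h2 i
    have h4 : (∑ j, c j • b j : A) = ∑ j, (algebraMap k (frobSub k A p) (c j)) • b j := by
      refine Finset.sum_congr rfl fun j _ => ?_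
      rw [algebraMap_smul]
    rw [h4, map_sum] at h3
    simp only [map_smul, Module.Basis.repr_self, Finsupp.smul_single, smul_eq_mul, mul_one] at h3
    rw [Finsupp.coe_finsetSum, Finset.sum_apply, Finset.sum_eq_single i] at h3
    · rw [Finsupp.single_eq_same, mem_augB] at h3
      simpa using h3
    · intro j _ hj
      rw [Finsupp.single_eq_of_ne (Ne.symm hj)]
    · intro h; exact absurd (Finset.mem_univ _) h
  have hsurj : Function.Surjective L := by
    intro a'
    obtain ⟨a, rfl⟩ := Ideal.Quotient.mk_surjective a'
    refine ⟨fun i => Coalgebra.counit (R := k) ((b.repr a i : frobSub k A p) : A), ?_⟩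
    rw [hL, ← sub_eq_zero, ← map_sub, Ideal.Quotient.eq_zero_iff_mem]
    have ha : (∑ i, Coalgebra.counit (R := k) ((b.repr a i : frobSub k A p) : A) • b i) - a =
        ∑ i, (Coalgebra.counit (R := k) ((b.repr a i : frobSub k A p) : A) • b i -
          (b.repr a i) • b i) := by
      rw [Finset.sum_sub_distrib, b.sum_repr]
    rw [ha]
    refine Ideal.sum_mem _ fun i _ => ?_
    have e : Coalgebra.counit (R := k) ((b.repr a i : frobSub k A p) : A) • b i - (b.repr a i) • b i =
        -((((b.repr a i : frobSub k A p) : A) -
          algebraMap k A (Coalgebra.counit (R := k) ((b.repr a i : frobSub k A p) : A))) * b i) := by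
      rw [Subalgebra.smul_def, Algebra.smul_def]; ring
    rw [e]
    exact Ideal.neg_mem_iff _ |>.2 (Ideal.mul_mem_right _ _
      (sub_counit_mem_frobIdeal k A p (b.repr a i).2))
  have e := LinearEquiv.ofBijective L ⟨hinj, hsurj⟩
  rw [← e.finrank_eq, Module.finrank_fin_fun]


section Order

omit [Fact p.Prime] [CharP k p]

/-- the augmentation ideal of a local bialgebra is the maximal ideal -/
lemma augIdeal_eq_maximalIdeal [IsLocalRing A] :
    RingHom.ker (Bialgebra.counitAlgHom k A) = IsLocalRing.maximalIdeal A := by
  have hsurj : Function.Surjective (Bialgebra.counitAlgHom k A) :=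
    fun c => ⟨algebraMap k A c, by simp⟩
  exact IsLocalRing.eq_maximalIdeal (RingHom.ker_isMaximal_of_surjective _ hsurj)

lemma isNilpotent_augIdeal_of_local [Module.Finite k A] [IsLocalRing A] :
    IsNilpotent (RingHom.ker (Bialgebra.counitAlgHom k A)) := by
  have : IsArtinianRing A := isArtinian_of_tower k (inferInstance : IsArtinian k A)
  rw [augIdeal_eq_maximalIdeal, ← IsLocalRing.jacobson_eq_maximalIdeal ⊥ bot_ne_top]
  exact IsArtinianRing.isNilpotent_jacobson_bot

/-- cotangent space zero implies `A = k` -/
lemma finrank_eq_one_of_cotangent [Module.Finite k A] [IsLocalRing A]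
    (h0 : Module.finrank k (RingHom.ker (Bialgebra.counitAlgHom k A)).Cotangent = 0) :
    Module.finrank k A = 1 := by
  have hfin : Module.Finite k (RingHom.ker (Bialgebra.counitAlgHom k A)).Cotangent :=
    Module.Finite.of_surjective _ (theta_surjective (k := k) (A := A))
  have hsub : Subsingleton (RingHom.ker (Bialgebra.counitAlgHom k A)).Cotangent :=
    (Module.finrank_zero_iff (R := k)).1 h0
  rw [Ideal.cotangent_subsingleton_iff] at hsub
  obtain ⟨N, hN⟩ := isNilpotent_augIdeal_of_local k A
  have hI : RingHom.ker (Bialgebra.counitAlgHom k A) = ⊥ := by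
    rcases Nat.eq_zero_or_pos N with h | h
    · rw [h, pow_zero] at hN
      have h1' : (1 : A) ∈ (1 : Ideal A) := by
        rw [Ideal.one_eq_top]; exact Submodule.mem_top (R := A) (M := A)
      rw [hN, Ideal.zero_eq_bot] at h1'
      have h1 : (1 : A) = 0 := Ideal.mem_bot.1 h1'
      have := nontrivial_of_bialgebra k A
      exact absurd h1 one_ne_zero
    · rw [← hsub.pow_succ_eq (N - 1), Nat.sub_add_cancel h]
      exact hN
  have hinj : Function.Injective (Bialgebra.counitAlgHom k A) :=
    (RingHom.injective_iff_ker_eq_bot _).2 hI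
  have hsurj : Function.Surjective (Bialgebra.counitAlgHom k A) :=
    fun c => ⟨algebraMap k A c, by simp⟩
  have e : A ≃ₗ[k] k := LinearEquiv.ofBijective (Bialgebra.counitAlgHom k A).toLinearMap
    ⟨hinj, hsurj⟩
  rw [e.finrank_eq, Module.finrank_self]

/-- Cartier in the local finite case: in characteristic zero the cotangent space vanishes -/
lemma cotangent_finrank_eq_zero_of_charZero [CharZero k] [Module.Finite k A] [IsLocalRing A] :
    Module.finrank k (RingHom.ker (Bialgebra.counitAlgHom k A)).Cotangent = 0 := by
  classical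
  have hfin : Module.Finite k (RingHom.ker (Bialgebra.counitAlgHom k A)).Cotangent :=
    Module.Finite.of_surjective _ (theta_surjective (k := k) (A := A))
  have hnt := nontrivial_of_bialgebra k A
  by_contra hne
  obtain ⟨x, φ, hx, hφ, hφx, -, -⟩ := exists_cotangent_data (k := k) (A := A)
  let i0 : Fin (Module.finrank k (RingHom.ker (Bialgebra.counitAlgHom k A)).Cotangent) :=
    ⟨0, Nat.pos_of_ne_zero hne⟩
  -- y = x i0 is nilpotent
  have hyI : x i0 ∈ RingHom.ker (Bialgebra.counitAlgHom k A) := hx i0
  obtain ⟨N, hN⟩ := isNilpotent_augIdeal_of_local k A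
  have hex : ∃ m, x i0 ^ m = 0 := by
    refine ⟨N, ?_⟩
    have : x i0 ^ N ∈ (RingHom.ker (Bialgebra.counitAlgHom k A)) ^ N := Ideal.pow_mem_pow hyI N
    rw [hN] at this
    exact this
  have hm := Nat.find_spec hex
  have hmin := fun m hlt => Nat.find_min hex (m := m) hlt
  set m := Nat.find hex with hm_def
  have hm0 : m ≠ 0 := by
    intro h
    rw [h, pow_zero] at hm
    exact one_ne_zero hm
  have hD := (derOf (φ i0) (hφ i0)).leibniz_pow (x i0) m
  rw [hm, map_zero] at hD
  -- D y is a unit
  have hunit : IsUnit (derOf (φ i0) (hφ i0) (x i0)) := by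
    have hc : Coalgebra.counit (R := k) (derOf (φ i0) (hφ i0) (x i0)) = 1 := by
      rw [counit_derOf, hφx, if_pos rfl]
    have hnot : derOf (φ i0) (hφ i0) (x i0) ∉ IsLocalRing.maximalIdeal A := by
      rw [← augIdeal_eq_maximalIdeal k A, RingHom.mem_ker]
      show ¬ Coalgebra.counit (R := k) (derOf (φ i0) (hφ i0) (x i0)) = 0
      rw [hc]; exact one_ne_zero
    exact (IsLocalRing.notMem_maximalIdeal).1 hnot
  have h2 : (m : A) * x i0 ^ (m - 1) = 0 := by
    have h3 : ((m : A) * x i0 ^ (m - 1)) * derOf (φ i0) (hφ i0) (x i0) = 0 := by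
      rw [hD, nsmul_eq_mul, smul_eq_mul, mul_assoc]
    exact (hunit.mul_left_eq_zero).1 h3
  have h4 : x i0 ^ (m - 1) = 0 := by
    have hmk : (m : k) ≠ 0 := Nat.cast_ne_zero.2 hm0
    have : (algebraMap k A (m : k)⁻¹) * ((m : A) * x i0 ^ (m - 1)) = x i0 ^ (m - 1) := by
      rw [← mul_assoc]
      have : (m : A) = algebraMap k A (m : k) := by simp
      rw [this, ← map_mul, inv_mul_cancel₀ hmk, map_one, one_mul]
    rw [← this, h2, mul_zero]
  exact hmin (m - 1) (Nat.sub_lt (Nat.pos_of_ne_zero hm0) one_pos) h4

end Order


section Induct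

omit [Fact p.Prime] [CharP k p] in
/-- local-ness of the Frobenius subalgebra -/
lemma isLocalRing_frobSub [Module.Finite k A] [IsLocalRing A] : IsLocalRing (frobSub k A p) := by
  have : Module.Finite (frobSub k A p) A := Module.Finite.of_restrictScalars_finite k _ A
  have : Algebra.IsIntegral (frobSub k A p) A := Algebra.IsIntegral.of_finite _ A
  have : FaithfulSMul (frobSub k A p) A :=
    (faithfulSMul_iff_algebraMap_injective _ A).2 Subtype.val_injective
  exact (algebraMap (frobSub k A p) A).domain_isLocalRing

theorem finrank_eq_pow_of_local (N : ℕ) :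
    ∀ (A : Type v) [CommRing A] [HopfAlgebra k A] [Module.Finite k A] [IsLocalRing A],
      Module.finrank k A = N → ∃ n : ℕ, N = p ^ n := by
  induction N using Nat.strong_induction_on with
  | _ N ih =>
    intro A _ _ _ _ hN
    by_cases hd : Module.finrank k (RingHom.ker (Bialgebra.counitAlgHom k A)).Cotangent = 0
    · refine ⟨0, ?_⟩
      rw [← hN, finrank_eq_one_of_cotangent k A hd, pow_zero]
    · have hB := isHopfSub_frobSub k A p
      have hnt := nontrivial_of_bialgebra k A
      have hfinB : Module.Finite k (frobSub k A p) :=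
        Module.Finite.of_injective (frobSub k A p).val.toLinearMap Subtype.val_injective
      have hFinBA : Module.Finite (frobSub k A p) A := Module.Finite.of_restrictScalars_finite k _ A
      have hloc : IsLocalRing (frobSub k A p) := isLocalRing_frobSub k A p
      have hff : Module.FaithfullyFlat (frobSub k A p) A := faithfullyFlat_of_isHopfSub hB
      have hfree : Module.Free (frobSub k A p) A := Module.free_of_flat_of_isLocalRing
      have h1 : Module.finrank k (frobSub k A p) * Module.finrank (frobSub k A p) A =
          Module.finrank k A := Module.finrank_mul_finrank k (frobSub k A p) A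
      have h2 : Module.finrank (frobSub k A p) A =
          p ^ Module.finrank k (RingHom.ker (Bialgebra.counitAlgHom k A)).Cotangent :=
        (finrank_quot_frobIdeal k A p).symm.trans (frobQuot_finrank k A p)
      have hBpos : 0 < Module.finrank k (frobSub k A p) := Module.finrank_pos
      have hlt : Module.finrank k (frobSub k A p) < N := by
        rw [← hN, ← h1, h2]
        have hp2 : 2 ≤ p ^ Module.finrank k (RingHom.ker (Bialgebra.counitAlgHom k A)).Cotangent := by
          calc 2 ≤ p := (Fact.out : p.Prime).two_le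
            _ = p ^ 1 := (pow_one p).symm
            _ ≤ _ := Nat.pow_le_pow_right (Fact.out : p.Prime).pos (Nat.one_le_iff_ne_zero.2 hd)
        nlinarith
      obtain ⟨m, hm⟩ := @ih _ hlt (frobSub k A p) _ (hopfAlgebraB hB) hfinB hloc rfl
      refine ⟨m + Module.finrank k (RingHom.ker (Bialgebra.counitAlgHom k A)).Cotangent, ?_⟩
      rw [← hN, ← h1, h2, pow_add]
      congr 1

end Induct

end Groth.Agent.Lib.helper15.FrobSub
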