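import Mathlib
import Groth.Agent.Lib.Helper15.ConvPow
import Groth.Agent.Lib.Helper15.FrobSub

/-!
# Infinitesimal groups are killed by their order (helper15)

* `pow_finrank_eq_bot`: a nilpotent ideal `I` of a finite-dimensional algebra satisfies
  `I ^ (finrank) = ⊥`.
* `cp_finrank_of_local`: for a local finite-dimensional commutative Hopf algebra `A` over a field,
  the `finrank`-th power map is trivial.
-/

set_option autoImplicit false
universe u v
open TensorProduct

namespace Groth.Agent.Lib.helper15.InfPow

open Groth.Agent.Lib.helper15.ConvPow

section Nilp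

variable {k : Type u} [Field k] {A : Type v} [CommRing A] [Algebra k A] [Module.Finite k A]

/-- a nilpotent ideal of a finite-dimensional algebra is killed by the dimension. -/
theorem pow_finrank_eq_bot (I : Ideal A) (hI : IsNilpotent I) :
    I ^ (Module.finrank k A) = ⊥ := by
  obtain ⟨N, hN⟩ := hI
  have hN' : I ^ N = ⊥ := hN
  have hstrict : ∀ j, I ^ j ≠ ⊥ → I ^ (j + 1) ≠ I ^ j := by
    intro j hj heq
    apply hj
    have h2 : ∀ t, I ^ (j + t) = I ^ j := by
      intro t
      induction t with
      | zero => rfl
      | succ t ih => rw [← add_assoc, pow_succ, ih, ← pow_succ, heq]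
    have h3 : I ^ (j + N) = ⊥ := by rw [pow_add, hN', Ideal.mul_bot]
    rw [← h2 N, h3]
  have key : ∀ j, I ^ j = ⊥ ∨
      Module.finrank k ((I ^ j).restrictScalars k) + j ≤ Module.finrank k A := by
    intro j
    induction j with
    | zero =>
      right
      rw [pow_zero, Ideal.one_eq_top, add_zero]
      have : (⊤ : Ideal A).restrictScalars k = (⊤ : Submodule k A) := by
        ext x; simp
      rw [this, finrank_top]
    | succ j ih =>
      rcases ih with h | h
      · left
        rw [pow_succ, h, Ideal.bot_mul]
      · by_cases hj : I ^ j = ⊥
        · left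
          rw [pow_succ, hj, Ideal.bot_mul]
        · right
          have hle : (I ^ (j + 1)).restrictScalars k ≤ (I ^ j).restrictScalars k := by
            intro x hx
            exact Ideal.pow_le_pow_right (Nat.le_succ j) hx
          have hne : (I ^ (j + 1)).restrictScalars k ≠ (I ^ j).restrictScalars k := by
            intro heq
            apply hstrict j hj
            ext x
            have := congrArg (fun S : Submodule k A => x ∈ S) heq
            simpa using this
          have hlt := Submodule.finrank_lt_finrank_of_lt (lt_of_le_of_ne hle hne)
          omega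
  rcases key (Module.finrank k A) with h | h
  · exact h
  · have h0 : Module.finrank k ((I ^ Module.finrank k A).restrictScalars k) = 0 := by omega
    have h1 : (I ^ Module.finrank k A).restrictScalars k = ⊥ := Submodule.finrank_eq_zero.1 h0
    ext x
    have := congrArg (fun S : Submodule k A => x ∈ S) h1
    simpa using this

end Nilp

section Local

variable (k : Type u) [Field k] (A : Type v) [CommRing A] [HopfAlgebra k A]
  [Module.Finite k A] [IsLocalRing A]

/-- an infinitesimal group is killed by its order. -/
theorem cp_finrank_of_local (a : A) :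
    cp (k := k) (Module.finrank k A) a = algebraMap k A (Coalgebra.counit (R := k) a) := by
  obtain ⟨p, hp⟩ := CharP.exists k
  rcases CharP.char_is_prime_or_zero k p with hprime | hzero
  · haveI : Fact p.Prime := ⟨hprime⟩
    obtain ⟨n, hn⟩ := FrobSub.finrank_eq_pow_of_local k p (Module.finrank k A) A rfl
    have h1 := cp_pow_char_sub_mem (k := k) p n a
    rw [← hn, pow_finrank_eq_bot (k := k) _ (FrobSub.isNilpotent_augIdeal_of_local k A)] at h1
    exact sub_eq_zero.1 ((Submodule.mem_bot A).1 h1)
  · subst hzero
    haveI : CharZero k := CharP.charP_to_charZero k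
    have h1 : Module.finrank k A = 1 :=
      FrobSub.finrank_eq_one_of_cotangent k A (FrobSub.cotangent_finrank_eq_zero_of_charZero k A)
    rw [h1, cp_one, AlgHom.id_apply]
    have hnt := FrobSub.nontrivial_of_bialgebra k A
    have hsp : Submodule.span k {(1 : A)} = ⊤ :=
      (finrank_eq_one_iff_of_nonzero (1 : A) one_ne_zero).1 h1
    have ha : a ∈ Submodule.span k {(1 : A)} := by rw [hsp]; trivial
    obtain ⟨c, rfl⟩ := Submodule.mem_span_singleton.1 ha
    rw [map_smul, Bialgebra.counit_one, smul_eq_mul, mul_one, Algebra.algebraMap_eq_smul_one]

end Local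

end Groth.Agent.Lib.helper15.InfPow
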