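import Mathlib
import Groth.Agent.Lib.Helper15.FinGrpPts
import Groth.Agent.Lib.Helper15.InfPow

/-!
# A finite group scheme over an algebraically closed field is killed by its order (helper15)
-/

set_option autoImplicit false
set_option linter.style.haveILetI false
set_option linter.unusedSectionVars false
universe u v
open TensorProduct WithConv

namespace Groth.Agent.Lib.helper15.FinGrpPow

open Groth.Agent.Lib.helper15.HopfSub Groth.Agent.Lib.helper15.PfiltOps
  Groth.Agent.Lib.helper15.FinGrpPts Groth.Agent.Lib.helper15.ConvPow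

variable {K : Type u} [Field K] [IsAlgClosed K] {A : Type v} [CommRing A] [HopfAlgebra K A]
  [Module.Finite K A]

lemma point_idE' (γ : A →ₐ[K] K) (h : γ (idE K A) ≠ 0) : γ = Bialgebra.counitAlgHom K A := by
  classical
  have h1 := point_idE (toConv γ : Pt K A)
  by_cases h2 : (toConv γ : Pt K A) = 1
  · have := congrArg WithConv.ofConv h2
    rw [WithConv.ofConv_toConv] at this
    rw [this]
    ext a
    change algebraMap K K _ = _
    rfl
  · rw [if_neg h2] at h1
    exact absurd h1 h

/-- `(e ⊗ e) Δ(1 - e) = 0`: the identity component is a subgroup. -/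
lemma idE_tmul_mul_comul :
    (idE K A ⊗ₜ[K] idE K A) * Bialgebra.comulAlgHom K A (1 - idE K A) = 0 := by
  have he := idE_idem (K := K) (A := A)
  apply eq_zero_of_idem (K := K)
  · refine IsIdempotentElem.mul ?_ (he.one_sub.map (Bialgebra.comulAlgHom K A))
    change (idE K A ⊗ₜ[K] idE K A) * (idE K A ⊗ₜ[K] idE K A) = _
    rw [Algebra.TensorProduct.tmul_mul_tmul, he.eq]
  · intro ω
    set γ : A →ₐ[K] K := ω.comp Algebra.TensorProduct.includeLeft with hγ
    set δ : A →ₐ[K] K := ω.comp Algebra.TensorProduct.includeRight with hδ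
    have hω : ∀ x y : A, ω (x ⊗ₜ[K] y) = γ x * δ y := by
      intro x y
      rw [hγ, hδ, AlgHom.comp_apply, AlgHom.comp_apply, ← map_mul]
      simp
    have hωΔ : ∀ a : A, ω (Bialgebra.comulAlgHom K A a) = (toConv γ * toConv δ : Pt K A) a := by
      intro a
      rw [AlgHom.convMul_apply, Bialgebra.comulAlgHom_apply]
      generalize Coalgebra.comul (R := K) a = t
      induction t with
      | zero => simp
      | add x y hx hy => simp only [map_add, hx, hy]
      | tmul x y => rw [hω]; simp
    rw [map_mul, hω, hωΔ]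
    by_cases h1 : γ (idE K A) = 0
    · rw [h1, zero_mul, zero_mul]
    by_cases h2 : δ (idE K A) = 0
    · rw [h2, mul_zero, zero_mul]
    have hγ1 : (toConv γ : Pt K A) = 1 := by
      rw [point_idE' γ h1]; rfl
    have hδ1 : (toConv δ : Pt K A) = 1 := by
      rw [point_idE' δ h2]; rfl
    rw [hγ1, hδ1, mul_one]
    change _ * (Bialgebra.counitAlgHom K A) (1 - idE K A) = 0
    rw [map_sub, map_one, Bialgebra.counitAlgHom_apply, counit_idE, sub_self, mul_zero]

lemma antipode_idE : HopfAlgebra.antipode K (idE K A) = idE K A := by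
  classical
  have he := idE_idem (K := K) (A := A)
  apply eq_of_idem (K := K) (he.map (HopfAlgebra.antipodeAlgHom K A)) he
  intro γ
  have h1 : γ (HopfAlgebra.antipodeAlgHom K A (idE K A)) = ((toConv γ : Pt K A)⁻¹).ofConv (idE K A) :=
    rfl
  rw [h1, point_idE]
  have h2 := point_idE (toConv γ : Pt K A)
  rw [WithConv.ofConv_toConv] at h2
  rw [h2]
  by_cases h3 : (toConv γ : Pt K A) = 1
  · rw [if_pos h3, if_pos (by rw [h3, inv_one])]
  · rw [if_neg h3, if_neg (by rwa [inv_eq_one])]

lemma mk_idE : Ideal.Quotient.mk (J0 K A) (idE K A) = 1 := by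
  have h : Ideal.Quotient.mk (J0 K A) (1 - idE K A) = 0 :=
    Ideal.Quotient.eq_zero_iff_mem.2 (Ideal.subset_span rfl)
  rw [map_sub, map_one, sub_eq_zero] at h
  exact h.symm

instance isHopfIdeal_J0 : (J0 K A).IsHopfIdeal K where
  counit_eq_zero := by
    intro x hx
    obtain ⟨b, rfl⟩ := Ideal.mem_span_singleton'.1 hx
    change Bialgebra.counitAlgHom K A (b * (1 - idE K A)) = 0
    have h1 : Bialgebra.counitAlgHom K A (idE K A) = 1 := counit_idE
    rw [map_mul, map_sub, map_one, h1, sub_self, mul_zero]
  map_mkQ_comul_eq_zero := by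
    intro x hx
    set π := Ideal.Quotient.mkₐ K (J0 K A) with hπ
    have hgen : (Algebra.TensorProduct.map π π) (Bialgebra.comulAlgHom K A (1 - idE K A)) = 0 := by
      have h1 := congrArg (Algebra.TensorProduct.map π π) (idE_tmul_mul_comul (K := K) (A := A))
      rw [map_mul, map_zero, Algebra.TensorProduct.map_tmul] at h1
      have h2 : π (idE K A) = 1 := mk_idE
      rw [h2, ← Algebra.TensorProduct.one_def, one_mul] at h1
      exact h1
    obtain ⟨b, rfl⟩ := Ideal.mem_span_singleton'.1 hx
    change (Algebra.TensorProduct.map π π) (Bialgebra.comulAlgHom K A (b * (1 - idE K A))) = 0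
    rw [map_mul, map_mul, hgen, mul_zero]
  antipode_mem := by
    intro x hx
    obtain ⟨b, rfl⟩ := Ideal.mem_span_singleton'.1 hx
    change HopfAlgebra.antipodeAlgHom K A (b * (1 - idE K A)) ∈ J0 K A
    rw [map_mul, map_sub, map_one]
    change _ * (1 - HopfAlgebra.antipode K (idE K A)) ∈ J0 K A
    rw [antipode_idE]
    exact Ideal.mul_mem_left _ _ (Ideal.subset_span rfl)

/-- every point of the identity component is the counit. -/
lemma point_quot (δ : (A ⧸ J0 K A) →ₐ[K] K) (x : A ⧸ J0 K A) :
    δ x = Coalgebra.counit (R := K) x := by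
  obtain ⟨a, rfl⟩ := Ideal.Quotient.mk_surjective x
  set γ : A →ₐ[K] K := δ.comp (Ideal.Quotient.mkₐ K (J0 K A)) with hγ
  have h1 : γ (idE K A) ≠ 0 := by
    change δ (Ideal.Quotient.mk (J0 K A) (idE K A)) ≠ 0
    rw [mk_idE, map_one]
    exact one_ne_zero
  have h2 := point_idE' γ h1
  have h3 : δ (Ideal.Quotient.mk (J0 K A) a) = γ a := rfl
  rw [h3, h2]
  rfl

instance isLocalRing_quot : IsLocalRing (A ⧸ J0 K A) := by
  haveI := FrobSub.nontrivial_of_bialgebra K (A ⧸ J0 K A)
  apply IsLocalRing.of_isUnit_or_isUnit_one_sub_self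
  intro x
  by_cases hx : IsNilpotent x
  · right
    exact hx.isUnit_one_sub
  · left
    set c := Coalgebra.counit (R := K) x with hc
    have hnil : IsNilpotent (x - algebraMap K _ c) := by
      apply isNilpotent_of_forall_point (K := K)
      intro δ
      rw [map_sub, AlgHom.commutes, point_quot δ x]
      simp [hc]
    have hc0 : c ≠ 0 := by
      intro h0
      apply hx
      rw [h0, map_zero, sub_zero] at hnil
      exact hnil
    have hu : IsUnit (algebraMap K (A ⧸ J0 K A) c) := (IsUnit.mk0 c hc0).map _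
    have := hnil.isUnit_add_left_of_commute hu (Commute.all _ _)
    rwa [add_sub_cancel] at this

/-- the number of points kills the component group. -/
lemma cp_card_one_sub_idE : cp (k := K) (Fintype.card (Pt K A)) (1 - idE K A) = 0 := by
  have he := idE_idem (K := K) (A := A)
  apply eq_zero_of_idem (K := K) (he.one_sub.map _)
  intro γ
  have h1 : γ (cp (k := K) (Fintype.card (Pt K A)) (1 - idE K A)) =
      ((toConv γ : Pt K A) ^ (Fintype.card (Pt K A))).ofConv (1 - idE K A) := by
    rw [toConv_pow_eq]
    rfl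
  rw [h1, pow_card_eq_one]
  change Bialgebra.counitAlgHom K A (1 - idE K A) = 0
  rw [map_sub, map_one, Bialgebra.counitAlgHom_apply, counit_idE, sub_self]

/-- **a finite group scheme over an algebraically closed field is killed by its order**. -/
theorem cp_finrank (a : A) :
    cp (k := K) (Module.finrank K A) a = algebraMap K A (Coalgebra.counit (R := K) a) := by
  set N := Fintype.card (Pt K A) with hN
  set q := Module.finrank K (A ⧸ J0 K A) with hq
  rw [finrank_eq_card_mul, cp_mul, AlgHom.comp_apply]
  have hmem : cp (k := K) q a - algebraMap K A (Coalgebra.counit (R := K) a) ∈ J0 K A := by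
    rw [← Ideal.Quotient.eq_zero_iff_mem, map_sub, sub_eq_zero]
    have h1 := map_cp (Bialgebra.Quotient.mkBialgHom (R := K) (J0 K A)) q a
    have h2 := InfPow.cp_finrank_of_local K (A ⧸ J0 K A)
      (Bialgebra.Quotient.mkBialgHom (R := K) (J0 K A) a)
    have h3 : Coalgebra.counit (R := K) (Bialgebra.Quotient.mkBialgHom (R := K) (J0 K A) a) =
        Coalgebra.counit (R := K) a :=
      CoalgHomClass.counit_comp_apply (Bialgebra.Quotient.mkBialgHom (R := K) (J0 K A)) a
    rw [h3] at h2
    change Bialgebra.Quotient.mkBialgHom (R := K) (J0 K A) (cp (k := K) q a) = _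
    rw [h1, h2]
    rfl
  obtain ⟨b, hb⟩ := Ideal.mem_span_singleton'.1 hmem
  have h4 : cp (k := K) q a = algebraMap K A (Coalgebra.counit (R := K) a) + b * (1 - idE K A) := by
    rw [hb]; abel
  rw [h4, map_add, map_mul, cp_card_one_sub_idE, mul_zero, add_zero, AlgHom.commutes]

end Groth.Agent.Lib.helper15.FinGrpPow
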