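import Mathlib
import Groth.Agent.Lib.Helper15.FinGrpRing
import Groth.Agent.Lib.Helper15.HopfDict
import Groth.Agent.Lib.Helper15.MultGa

/-!
# Finite locally free group schemes of rank `n` over a reduced base are killed by `n` (helper15)
-/

set_option autoImplicit false
set_option linter.style.haveILetI false
universe u
open CategoryTheory MonoidalCategory CartesianMonoidalCategory MonObj GrpObj AlgebraicGeometry Limits

namespace Groth.Agent.Lib.helper15.FinGrpSch

open Groth.Agent.Lib.helper15.HopfDict Groth.Agent.Lib.helper15.MultGa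

/-- the `n`-th power of the identity of `Spec B` over `Spec R` is `Spec` of the `n`-th convolution
power of `id`. -/
theorem id_pow_eq_one_GA (R : Type u) [CommRing R] (B : Type u) [CommRing B] [HopfAlgebra R B]
    (n : ℕ) (h : (WithConv.toConv (AlgHom.id R B)) ^ n = 1) : (𝟙 (GA R B) : GA R B ⟶ GA R B) ^ n = 1 := by
  have h1 : (𝟙 (GA R B) : GA R B ⟶ GA R B) =
      Spec.mapMulEquiv (R := R) (S := B) (T := B) (WithConv.toConv (AlgHom.id R B)) := by
    ext1
    simp [Spec.mapMulEquiv]
  rw [h1, ← map_pow, h, map_one]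

section Chart

variable {S : Scheme.{u}} (G : Over S) [GrpObj G]

/-- transport of `𝟙 ^ n = 1` along an isomorphism of group objects. -/
theorem id_pow_of_iso {C : Type*} [Category C] [CartesianMonoidalCategory C] {G G' : C}
    [GrpObj G] [GrpObj G'] (e : G ≅ G') [IsMonHom e.inv] (n : ℕ)
    (h : (𝟙 G' : G' ⟶ G') ^ n = 1) : (𝟙 G : G ⟶ G) ^ n = 1 := by
  calc (𝟙 G : G ⟶ G) ^ n = (e.hom ≫ e.inv) ^ n := by rw [e.hom_inv_id]
    _ = ((e.hom) ^ n) ≫ e.inv := (MonObj.pow_comp e.hom n e.inv).symm
    _ = ((e.hom ≫ 𝟙 G') ^ n) ≫ e.inv := by rw [Category.comp_id]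
    _ = (e.hom ≫ (𝟙 G') ^ n) ≫ e.inv := by rw [MonObj.comp_pow]
    _ = 1 := by rw [h, MonObj.comp_one, MonObj.one_comp]

theorem chart [IsReduced S] (n : ℕ) [IsFinite G.hom] [Flat G.hom]
    [LocallyOfFinitePresentation G.hom] (hrk : ∀ y : S, G.hom.finrank y = n)
    (R : Type u) [CommRing R] (j : Spec (CommRingCat.of R) ⟶ S) [IsOpenImmersion j] :
    (𝟙 ((Over.pullback j).obj G) : (Over.pullback j).obj G ⟶ (Over.pullback j).obj G) ^ n = 1 := by
  have hG'hom : ((Over.pullback j).obj G).hom = pullback.snd G.hom j := rfl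
  haveI : IsFinite ((Over.pullback j).obj G).hom := by rw [hG'hom]; infer_instance
  haveI : Flat ((Over.pullback j).obj G).hom := by rw [hG'hom]; infer_instance
  haveI : LocallyOfFinitePresentation ((Over.pullback j).obj G).hom := by
    rw [hG'hom]; infer_instance
  have hrk' : ∀ x, ((Over.pullback j).obj G).hom.finrank x = n := fun x => by
    rw [hG'hom, Scheme.Hom.finrank_pullback_snd]; exact hrk _
  haveI : IsAffine ((Over.pullback j).obj G).left :=
    isAffine_of_isAffineHom ((Over.pullback j).obj G).hom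
  obtain ⟨B, _, _, e, he1, he2⟩ := exists_hopf_of_affine' R ((Over.pullback j).obj G)
  have hw : (GA R B).hom = e.inv.left ≫ ((Over.pullback j).obj G).hom := (Over.w e.inv).symm
  have hspec : (GA R B).hom = Spec.map (CommRingCat.ofHom (algebraMap R B)) := rfl
  haveI : IsIso e.inv.left := (Over.forget _).map_isIso e.inv
  have h0 : Spec.map (CommRingCat.ofHom (algebraMap R B)) =
      e.inv.left ≫ ((Over.pullback j).obj G).hom := hw
  have hfin' : IsFinite (Spec.map (CommRingCat.ofHom (algebraMap R B))) := by
    rw [h0]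
    exact MorphismProperty.comp_mem _ _ _ (inferInstance : IsFinite e.inv.left) inferInstance
  have hflat' : Flat (Spec.map (CommRingCat.ofHom (algebraMap R B))) := by
    rw [h0]
    exact MorphismProperty.comp_mem _ _ _ (inferInstance : Flat e.inv.left) inferInstance
  have hfp' : LocallyOfFinitePresentation (Spec.map (CommRingCat.ofHom (algebraMap R B))) := by
    rw [h0]
    exact MorphismProperty.comp_mem _ _ _
      (inferInstance : LocallyOfFinitePresentation e.inv.left) inferInstance
  haveI : Module.Finite R B := by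
    rw [IsFinite.SpecMap_iff] at hfin'
    exact RingHom.finite_algebraMap.mp hfin'
  haveI : Module.Flat R B := by
    rw [Flat.SpecMap_iff] at hflat'
    exact (RingHom.flat_algebraMap_iff).mp hflat'
  haveI : Algebra.FinitePresentation R B := by
    rw [LocallyOfFinitePresentation.SpecMap_iff] at hfp'
    exact RingHom.finitePresentation_algebraMap.mp hfp'
  haveI : Module.FinitePresentation R B := Module.FinitePresentation.of_finite_of_finitePresentation R B
  haveI : Module.Projective R B := Module.Flat.projective_of_finitePresentation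
  haveI : IsReduced (Spec (CommRingCat.of R)) := isReduced_of_isOpenImmersion j
  haveI : _root_.IsReduced R := (affine_isReduced_iff (CommRingCat.of R)).mp inferInstance
  have hrkB : ∀ p : PrimeSpectrum R, Module.rankAtStalk (R := R) B p = n := by
    intro p
    have h1 : Scheme.Hom.finrank (Spec.map (CommRingCat.ofHom (algebraMap R B))) p = n := by
      have hc := Scheme.Hom.finrank_comp_left_of_isIso e.inv.left ((Over.pullback j).obj G).hom
      calc Scheme.Hom.finrank (Spec.map (CommRingCat.ofHom (algebraMap R B))) p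
          = Scheme.Hom.finrank (e.inv.left ≫ ((Over.pullback j).obj G).hom) p :=
            congrArg (fun f : Spec (CommRingCat.of B) ⟶ Spec (CommRingCat.of R) =>
              Scheme.Hom.finrank f p) h0
        _ = Scheme.Hom.finrank ((Over.pullback j).obj G).hom p := congrFun hc p
        _ = n := hrk' p
    rw [← Scheme.Hom.finrank_SpecMap_algebraMap R B p]
    exact h1
  have key := FinGrpRing.toConv_pow_rank R B n hrkB (AlgHom.id R B)
  have h2 := id_pow_eq_one_GA R B n key
  haveI : IsMonHom e.inv := he2
  exact id_pow_of_iso e n h2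

end Chart

section Glue

variable {S : Scheme.{u}} (G : Over S) [GrpObj G]

/-- powers of base-changed points. -/
lemma phiG_mul {S' : Scheme.{u}} (g : S' ⟶ S) {X : Over S'}
    (x y : X ⟶ (Over.pullback g).obj G) : phiG g G (x * y) = phiG g G x * phiG g G y := by
  ext1
  rw [phiG_left]
  exact mul_left_fstG g G x y

lemma phiG_pow_succ {S' : Scheme.{u}} (g : S' ⟶ S) {X : Over S'}
    (x : X ⟶ (Over.pullback g).obj G) (k : ℕ) : phiG g G (x ^ (k + 1)) = phiG g G x ^ (k + 1) := by
  induction k with
  | zero => rw [zero_add, pow_one, pow_one]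
  | succ k ih => rw [pow_succ, phiG_mul, ih, ← pow_succ]

theorem fst_comp_eq {S' : Scheme.{u}} (g : S' ⟶ S) (n : ℕ)
    (h : (𝟙 ((Over.pullback g).obj G) : (Over.pullback g).obj G ⟶ (Over.pullback g).obj G) ^ n = 1) :
    pullback.fst G.hom g ≫ ((𝟙 G : G ⟶ G) ^ n).left = pullback.fst G.hom g ≫ (1 : G ⟶ G).left := by
  set π : (Over.map g).obj ((Over.pullback g).obj G) ⟶ G :=
    phiG g G (𝟙 ((Over.pullback g).obj G)) with hπ
  have hπl : π.left = pullback.fst G.hom g := by
    rw [hπ, phiG_left]
    exact Category.id_comp _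
  have h1 : π ^ (n + 1) = π := by
    rw [hπ, ← phiG_pow_succ, pow_succ, h, _root_.one_mul]
  have h2 : π ^ n = 1 := by
    have : π ^ n * π = 1 * π := by rw [← pow_succ, h1, _root_.one_mul]
    exact mul_right_cancel this
  have h3 : π ≫ (𝟙 G : G ⟶ G) ^ n = π ≫ (1 : G ⟶ G) := by
    rw [MonObj.comp_pow, Category.comp_id, h2, MonObj.comp_one]
  have h4 := congrArg (fun t => t.left) h3
  simp only [Over.comp_left] at h4
  rw [hπl] at h4
  exact h4

theorem id_pow_eq_one [IsReduced S] (n : ℕ) [IsFinite G.hom] [Flat G.hom]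
    [LocallyOfFinitePresentation G.hom] (hrk : ∀ y : S, G.hom.finrank y = n) :
    (𝟙 G : G ⟶ G) ^ n = 1 := by
  ext1
  apply (S.affineOpenCover.openCover.pullback₁ G.hom).hom_ext
  intro i
  have hc := @chart S G _ _ n _ _ _ hrk (S.affineOpenCover.X i) _ (S.affineOpenCover.f i)
    (S.affineOpenCover.map_prop i)
  exact fst_comp_eq G (S.affineOpenCover.f i) n hc

end Glue

end Groth.Agent.Lib.helper15.FinGrpSch
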