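import Mathlib
import Groth.Agent.Lib.Helper15.FinGrpSch
import Groth.Agent.Lib.Helper15.Deligne

/-!
# Commutative finite locally free group schemes of rank `n` are killed by `n` (helper15)

Scheme-level form of Deligne's theorem: glue `Deligne.pow_rank_eq_one` over an affine cover.
The extra input is that a commutative affine group scheme has a cocommutative Hopf algebra.
-/

set_option autoImplicit false
set_option linter.style.haveILetI false
universe u
open CategoryTheory MonoidalCategory CartesianMonoidalCategory MonObj GrpObj AlgebraicGeometry Limits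

namespace Groth.Agent.Lib.helper15.CommGrpSch

open Groth.Agent.Lib.helper15.HopfDict Groth.Agent.Lib.helper15.MultGa
open TensorProduct

/-- a commutative affine monoid scheme has a cocommutative bialgebra. -/
theorem isCocomm_of_isCommMonObj (R : Type u) [CommRing R] (B : Type u) [CommRing B]
    [Bialgebra R B] [IsCommMonObj (GA R B)] : Coalgebra.IsCocomm R B := by
  have hc := (isCommMonObj_iff_isMulCommutative (GA R B)).mp inferInstance (GA R (B ⊗[R] B))
  have key : ∀ f g : WithConv (B →ₐ[R] B ⊗[R] B), f * g = g * f := by
    intro f g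
    apply (Spec.mapMulEquiv (R := R) (S := B) (T := B ⊗[R] B)).injective
    rw [map_mul, map_mul]
    exact hc.is_comm.comm _ _
  have h1 := key (WithConv.toConv (Algebra.TensorProduct.includeLeft : B →ₐ[R] B ⊗[R] B))
    (WithConv.toConv (Algebra.TensorProduct.includeRight : B →ₐ[R] B ⊗[R] B))
  constructor
  ext a
  have h2 := congrArg (fun φ : WithConv (B →ₐ[R] B ⊗[R] B) => φ a) h1
  simp only [AlgHom.convMul_apply] at h2
  have e1 : ∀ z : B ⊗[R] B, (Algebra.TensorProduct.lift
      (Algebra.TensorProduct.includeLeft : B →ₐ[R] B ⊗[R] B)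
      (Algebra.TensorProduct.includeRight : B →ₐ[R] B ⊗[R] B) (fun _ _ => .all ..)) z = z := by
    intro z
    induction z using TensorProduct.induction_on with
    | zero => simp
    | tmul x y => simp
    | add x y hx hy => rw [map_add, hx, hy]
  have e2 : ∀ z : B ⊗[R] B, (Algebra.TensorProduct.lift
      (Algebra.TensorProduct.includeRight : B →ₐ[R] B ⊗[R] B)
      (Algebra.TensorProduct.includeLeft : B →ₐ[R] B ⊗[R] B) (fun _ _ => .all ..)) z =
      TensorProduct.comm R B B z := by
    intro z
    induction z using TensorProduct.induction_on with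
    | zero => simp
    | tmul x y => simp
    | add x y hx hy => rw [map_add, hx, hy, map_add]
  rw [e1, e2] at h2
  exact h2.symm

/-- commutativity transports along an isomorphism of monoid objects. -/
theorem isCommMonObj_of_iso {C : Type*} [Category C] [CartesianMonoidalCategory C]
    [BraidedCategory C] {G G' : C}
    [MonObj G] [MonObj G'] (e : G ≅ G') [IsMonHom e.hom] [IsCommMonObj G] : IsCommMonObj G' := by
  rw [isCommMonObj_iff_isMulCommutative]
  intro X
  have hc := (isCommMonObj_iff_isMulCommutative G).mp inferInstance X
  refine ⟨⟨fun x y => ?_⟩⟩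
  apply (Hom.mulEquivCongrRight e X).symm.injective
  rw [map_mul, map_mul]
  exact hc.is_comm.comm _ _

section Chart

variable {S : Scheme.{u}} (G : Over S) [GrpObj G] [IsCommMonObj G]

theorem chart (n : ℕ) [IsFinite G.hom] [Flat G.hom]
    [LocallyOfFinitePresentation G.hom] (hrk : ∀ y : S, G.hom.finrank y = n)
    (R : Type u) [CommRing R] (j : Spec (CommRingCat.of R) ⟶ S) [IsOpenImmersion j] :
    (𝟙 ((Over.pullback j).obj G) : (Over.pullback j).obj G ⟶ (Over.pullback j).obj G) ^ n = 1 := by
  have hG'hom : ((Over.pullback j).obj G).hom = pullback.snd G.hom j := rfl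
  haveI : IsFinite ((Over.pullback j).obj G).hom := by rw [hG'hom]; infer_instance
  haveI : Flat ((Over.pullback j).obj G).hom := by rw [hG'hom]; infer_instance
  haveI : LocallyOfFinitePresentation ((Over.pullback j).obj G).hom := by
    rw [hG'hom]; infer_instance
  have hrk' : ∀ x, ((Over.pullback j).obj G).hom.finrank x = n := fun x => by
    rw [hG'hom, Scheme.Hom.finrank_pullback_snd]; exact hrk _
  haveI : IsAffine ((Over.pullback j).obj G).left :=
    isAffine_of_isAffineHom ((Over.pullback j).obj G).hom
  obtain ⟨B, _, _, e, he1, he2⟩ := exists_hopf_of_affine' R ((Over.pullback j).obj G)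
  have hw : (GA R B).hom = e.inv.left ≫ ((Over.pullback j).obj G).hom := (Over.w e.inv).symm
  have hspec : (GA R B).hom = Spec.map (CommRingCat.ofHom (algebraMap R B)) := rfl
  haveI : IsIso e.inv.left := (Over.forget _).map_isIso e.inv
  have h0 : Spec.map (CommRingCat.ofHom (algebraMap R B)) =
      e.inv.left ≫ ((Over.pullback j).obj G).hom := hw
  have hfin' : IsFinite (Spec.map (CommRingCat.ofHom (algebraMap R B))) := by
    rw [h0]
    exact MorphismProperty.comp_mem _ _ _ (inferInstance : IsFinite e.inv.left) inferInstance
  have hflat' : Flat (Spec.map (CommRingCat.ofHom (algebraMap R B))) := by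
    rw [h0]
    exact MorphismProperty.comp_mem _ _ _ (inferInstance : Flat e.inv.left) inferInstance
  have hfp' : LocallyOfFinitePresentation (Spec.map (CommRingCat.ofHom (algebraMap R B))) := by
    rw [h0]
    exact MorphismProperty.comp_mem _ _ _
      (inferInstance : LocallyOfFinitePresentation e.inv.left) inferInstance
  haveI : Module.Finite R B := by
    rw [IsFinite.SpecMap_iff] at hfin'
    exact RingHom.finite_algebraMap.mp hfin'
  haveI : Module.Flat R B := by
    rw [Flat.SpecMap_iff] at hflat'
    exact (RingHom.flat_algebraMap_iff).mp hflat'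
  haveI : Algebra.FinitePresentation R B := by
    rw [LocallyOfFinitePresentation.SpecMap_iff] at hfp'
    exact RingHom.finitePresentation_algebraMap.mp hfp'
  haveI : Module.FinitePresentation R B := Module.FinitePresentation.of_finite_of_finitePresentation R B
  haveI : Module.Projective R B := Module.Flat.projective_of_finitePresentation
  have hrkB : ∀ p : PrimeSpectrum R, Module.rankAtStalk (R := R) B p = n := by
    intro p
    have h1 : Scheme.Hom.finrank (Spec.map (CommRingCat.ofHom (algebraMap R B))) p = n := by
      have hc := Scheme.Hom.finrank_comp_left_of_isIso e.inv.left ((Over.pullback j).obj G).hom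
      calc Scheme.Hom.finrank (Spec.map (CommRingCat.ofHom (algebraMap R B))) p
          = Scheme.Hom.finrank (e.inv.left ≫ ((Over.pullback j).obj G).hom) p :=
            congrArg (fun f : Spec (CommRingCat.of B) ⟶ Spec (CommRingCat.of R) =>
              Scheme.Hom.finrank f p) h0
        _ = Scheme.Hom.finrank ((Over.pullback j).obj G).hom p := congrFun hc p
        _ = n := hrk' p
    rw [← Scheme.Hom.finrank_SpecMap_algebraMap R B p]
    exact h1
  haveI : IsMonHom e.hom := he1
  haveI : IsMonHom e.inv := he2
  haveI : IsCommMonObj ((Over.pullback j).obj G) := inferInstance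
  haveI : IsCommMonObj (GA R B) := isCommMonObj_of_iso e
  haveI : Coalgebra.IsCocomm R B := isCocomm_of_isCommMonObj R B
  have key := Deligne.pow_rank_eq_one (R := R) (A := B) n hrkB
  have h2 := FinGrpSch.id_pow_eq_one_GA R B n key
  exact FinGrpSch.id_pow_of_iso e n h2

end Chart

section Glue

variable {S : Scheme.{u}} (G : Over S) [GrpObj G] [IsCommMonObj G]

theorem id_pow_eq_one (n : ℕ) [IsFinite G.hom] [Flat G.hom]
    [LocallyOfFinitePresentation G.hom] (hrk : ∀ y : S, G.hom.finrank y = n) :
    (𝟙 G : G ⟶ G) ^ n = 1 := by
  ext1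
  apply (S.affineOpenCover.openCover.pullback₁ G.hom).hom_ext
  intro i
  have hc := @chart S G _ _ n _ _ _ hrk (S.affineOpenCover.X i) _ (S.affineOpenCover.f i)
    (S.affineOpenCover.map_prop i)
  exact FinGrpSch.fst_comp_eq G (S.affineOpenCover.f i) n hc

/-- Deligne: a commutative finite locally free group scheme of rank `n` is killed by `n`. -/
theorem pow_eq_one (n : ℕ) [IsFinite G.hom] [Flat G.hom]
    [LocallyOfFinitePresentation G.hom] (hrk : ∀ y : S, G.hom.finrank y = n)
    {T : Over S} (g : T ⟶ G) : g ^ n = 1 := by
  have h := id_pow_eq_one G n hrk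
  calc g ^ n = (g ≫ 𝟙 G) ^ n := by rw [Category.comp_id]
    _ = g ≫ (𝟙 G) ^ n := by rw [MonObj.comp_pow]
    _ = 1 := by rw [h, MonObj.comp_one]

end Glue

end Groth.Agent.Lib.helper15.CommGrpSch
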