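import Mathlib

/-!
# A common overfield for an arbitrary family of field extensions (helper15)

`exists_common_field_extension`: for fields `L i` over `k` (any index type) there is a field `K`
over `k` with `k`-algebra maps `L i → K`.  Built as a residue field of `⨂[k] i, L i`, which is
nontrivial because of the multilinear functional "finite product of retractions".
-/

set_option autoImplicit false
set_option linter.style.haveILetI false
set_option linter.unusedSectionVars false
universe u v w

namespace Groth.Agent.Lib.helper15.CommonField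

open scoped TensorProduct

section functional

variable {k : Type u} [Field k] {I : Type v} (L : I → Type w) [∀ i, CommRing (L i)]
  [∀ i, Algebra k (L i)] (ρ : ∀ i, L i →ₗ[k] k)

/-- the functional `x ↦ ∏ ρ_i (x_i)` on families that are `1` almost everywhere -/
noncomputable def finProdFun (x : ∀ i, L i) : k :=
  open Classical in if {i | x i ≠ 1}.Finite then ∏ᶠ i, ρ i (x i) else 0

variable {L ρ}

theorem finProdFun_eq (hρ : ∀ i, ρ i 1 = 1) (x : ∀ i, L i) (s : Finset I)
    (hs : {i | x i ≠ 1} ⊆ s) : finProdFun L ρ x = ∏ i ∈ s, ρ i (x i) := by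
  classical
  rw [finProdFun, if_pos (s.finite_toSet.subset hs)]
  apply finprod_eq_prod_of_mulSupport_subset
  intro i hi
  apply hs
  intro h1
  apply hi
  change ρ i (x i) = 1
  rw [h1, hρ]

theorem finProdFun_update [DecidableEq I] (hρ : ∀ i, ρ i 1 = 1) (x : ∀ i, L i) (j : I) (y : L j)
    (hx : {i | x i ≠ 1}.Finite) :
    finProdFun L ρ (Function.update x j y) = ρ j y * ∏ i ∈ hx.toFinset.erase j, ρ i (x i) := by
  classical
  rw [finProdFun_eq hρ (Function.update x j y) (insert j (hx.toFinset.erase j)) ?_,
    Finset.prod_insert (Finset.notMem_erase j _), Function.update_self]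
  · congr 1
    refine Finset.prod_congr rfl (fun i hi => ?_)
    rw [Function.update_of_ne (Finset.ne_of_mem_erase hi)]
  · intro i hi
    by_cases hij : i = j
    · subst hij
      simp
    · rw [Finset.coe_insert, Set.mem_insert_iff]
      right
      rw [Finset.mem_coe, Finset.mem_erase]
      refine ⟨hij, ?_⟩
      rw [Set.Finite.mem_toFinset]
      have : Function.update x j y i ≠ 1 := hi
      rwa [Function.update_of_ne hij] at this

theorem finProdFun_update_of_infinite [DecidableEq I] (x : ∀ i, L i) (j : I) (y : L j)
    (hx : ¬ {i | x i ≠ 1}.Finite) : finProdFun L ρ (Function.update x j y) = 0 := by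
  classical
  rw [finProdFun, if_neg]
  intro hfin
  apply hx
  refine (hfin.insert j).subset ?_
  intro i hi
  by_cases hij : i = j
  · subst hij
    exact Set.mem_insert _ _
  · right
    change Function.update x j y i ≠ 1
    rw [Function.update_of_ne hij]
    exact hi

variable (L ρ) in
/-- `finProdFun` as a multilinear map -/
noncomputable def finProdMultilinear (hρ : ∀ i, ρ i 1 = 1) : MultilinearMap k L k where
  toFun := finProdFun L ρ
  map_update_add' := by
    intro inst x j a b
    by_cases hx : {i | x i ≠ 1}.Finite
    · rw [finProdFun_update hρ x j (a + b) hx, finProdFun_update hρ x j a hx,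
        finProdFun_update hρ x j b hx, map_add, add_mul]
    · rw [finProdFun_update_of_infinite x j (a + b) hx, finProdFun_update_of_infinite x j a hx,
        finProdFun_update_of_infinite x j b hx, add_zero]
  map_update_smul' := by
    intro inst x j c a
    by_cases hx : {i | x i ≠ 1}.Finite
    · rw [finProdFun_update hρ x j (c • a) hx, finProdFun_update hρ x j a hx, map_smul,
        smul_mul_assoc]
    · rw [finProdFun_update_of_infinite x j (c • a) hx, finProdFun_update_of_infinite x j a hx,
        smul_zero]

theorem finProdFun_one (hρ : ∀ i, ρ i 1 = 1) : finProdFun L ρ (fun _ => 1) = 1 := by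
  rw [finProdFun_eq hρ _ ∅ (by intro i hi; exact absurd rfl hi), Finset.prod_empty]

end functional

theorem exists_common_field_extension {k : Type u} [Field k] {I : Type u} (L : I → Type u)
    [∀ i, Field (L i)] [∀ i, Algebra k (L i)] :
    ∃ (K : Type u) (_ : Field K) (_ : Algebra k K), ∀ i, Nonempty (L i →ₐ[k] K) := by
  classical
  have hρ : ∀ i, ∃ g : L i →ₗ[k] k, g 1 = 1 := by
    intro i
    obtain ⟨g, hg⟩ := LinearMap.exists_leftInverse_of_injective (Algebra.linearMap k (L i))
      (LinearMap.ker_eq_bot.mpr (algebraMap k (L i)).injective)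
    refine ⟨g, ?_⟩
    have := LinearMap.congr_fun hg 1
    simpa using this
  choose ρ hρ1 using hρ
  have hnt : Nontrivial (⨂[k] i, L i) := by
    refine ⟨⟨1, 0, fun h => ?_⟩⟩
    have h1 : PiTensorProduct.lift (finProdMultilinear L ρ hρ1) (1 : ⨂[k] i, L i) = 1 := by
      rw [PiTensorProduct.one_def, PiTensorProduct.lift.tprod]
      exact finProdFun_one hρ1
    rw [h, map_zero] at h1
    exact zero_ne_one h1
  obtain ⟨m, hm⟩ := Ideal.exists_maximal (⨂[k] i, L i)
  letI : Field ((⨂[k] i, L i) ⧸ m) := Ideal.Quotient.field m
  exact ⟨(⨂[k] i, L i) ⧸ m, inferInstance, inferInstance,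
    fun i => ⟨(Ideal.Quotient.mkₐ k m).comp (PiTensorProduct.singleAlgHom i)⟩⟩

end Groth.Agent.Lib.helper15.CommonField
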