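import Mathlib
import Groth.Agent.Lib.Helper15.Conilp

/-!
# Convolution powers of functionals killing `1` (helper15)

* `pow_kill`: if `f 1 = 0` then `f ^ (n+1)` (convolution power) kills `Pfilt n`;
* `leibniz_pow_char`: in characteristic `p`, the `p^n`-th convolution power of an `ε`-derivation
  `A → k` is again an `ε`-derivation.
-/

set_option autoImplicit false
universe u v w
open TensorProduct WithConv

namespace Groth.Agent.Lib.helper15.ConvKill

open Groth.Agent.Lib.helper15.Conilp

section Kill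

variable {k : Type u} [Field k] {A : Type v} [CommRing A] [Bialgebra k A]
  {B : Type w} [Ring B] [Algebra k B]

lemma pow_one_eq_zero (f : WithConv (A →ₗ[k] B)) (hf : f.ofConv 1 = 0) (j : ℕ) :
    (f ^ (j + 1)).ofConv (1 : A) = 0 := by
  rw [pow_succ f j]
  change (f ^ j * f) (1 : A) = 0
  rw [LinearMap.convMul_apply, Bialgebra.comul_one, Algebra.TensorProduct.one_def,
    TensorProduct.map_tmul, LinearMap.mul'_apply, hf, mul_zero]

lemma map_comul_eq (g f : A →ₗ[k] B) (hg : g 1 = 0) (hf : f 1 = 0) (a : A) :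
    TensorProduct.map g f (Coalgebra.comul (R := k) a) =
      TensorProduct.map g f (redComul k A a) := by
  have h : ∀ φ : A →ₗ[k] B, φ 1 = 0 → φ ∘ₗ eProj k A = φ := by
    intro φ hφ
    ext x
    rw [LinearMap.comp_apply, eProj_apply, map_sub, Algebra.algebraMap_eq_smul_one, map_smul, hφ,
      smul_zero, sub_zero]
  rw [redComul, LinearMap.comp_apply, TensorProduct.map_map, h g hg, h f hf]

/-- convolution powers of a functional killing `1` kill the conilpotency filtration. -/
theorem pow_kill (f : WithConv (A →ₗ[k] B)) (hf : f.ofConv 1 = 0) :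
    ∀ (n : ℕ) (a : A), a ∈ Pfilt k A n → (f ^ (n + 1)).ofConv a = 0 := by
  intro n
  induction n with
  | zero =>
    intro a ha
    rw [Pfilt_zero, Submodule.mem_span_singleton] at ha
    obtain ⟨c, rfl⟩ := ha
    rw [map_smul, pow_one_eq_zero f hf 0, smul_zero]
  | succ n ih =>
    intro a ha
    rw [pow_succ f (n + 1)]
    change (f ^ (n + 1) * f) a = 0
    rw [LinearMap.convMul_apply, map_comul_eq _ _ (pow_one_eq_zero f hf n) hf]
    rw [mem_Pfilt_succ] at ha
    obtain ⟨t, ht⟩ := ha
    have h0 : (f ^ (n + 1)).ofConv ∘ₗ (Pfilt k A n).subtype = 0 := by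
      ext x
      exact ih x x.2
    rw [← ht, LinearMap.rTensor, TensorProduct.map_map, h0, LinearMap.comp_id,
      TensorProduct.map_zero_left, LinearMap.zero_apply, map_zero]

end Kill

section Leibniz

variable {k : Type u} [Field k] {A : Type v} [CommRing A] [Bialgebra k A]

/-- the functional `a ⊗ b ↦ f a * g b`. -/
noncomputable def T (f g : WithConv (A →ₗ[k] k)) : WithConv (A ⊗[k] A →ₗ[k] k) :=
  toConv (LinearMap.mul' k k ∘ₗ TensorProduct.map f.ofConv g.ofConv)

lemma T_apply (f g : WithConv (A →ₗ[k] k)) (a b : A) :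
    (T f g).ofConv (a ⊗ₜ[k] b) = f.ofConv a * g.ofConv b := rfl

lemma T_mul (f g f' g' : WithConv (A →ₗ[k] k)) : T f g * T f' g' = T (f * f') (g * g') := by
  have h1 := TensorProduct.map_convMul_map (R := k) (f := f) (h := f') (g := g) (k := g')
  have h2 := LinearMap.algHom_comp_convMul_distrib (R := k)
    (Algebra.TensorProduct.lmul' k (S := k)) (toConv (TensorProduct.map f.ofConv g.ofConv))
    (toConv (TensorProduct.map f'.ofConv g'.ofConv))
  rw [h1] at h2
  apply WithConv.ofConv_injective
  exact h2.symm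

lemma T_one : T (1 : WithConv (A →ₗ[k] k)) 1 = 1 := by
  apply WithConv.ofConv_injective
  ext a b
  simp [T]
  exact mul_comm _ _

lemma T_pow_left (f : WithConv (A →ₗ[k] k)) (m : ℕ) : T f 1 ^ m = T (f ^ m) 1 := by
  induction m with
  | zero => rw [pow_zero, pow_zero, T_one]
  | succ m ih => rw [pow_succ, ih, T_mul, one_mul, pow_succ]

lemma T_pow_right (f : WithConv (A →ₗ[k] k)) (m : ℕ) : T 1 f ^ m = T 1 (f ^ m) := by
  induction m with
  | zero => rw [pow_zero, pow_zero, T_one]
  | succ m ih => rw [pow_succ, ih, T_mul, one_mul, pow_succ]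

/-- precomposition with the multiplication. -/
noncomputable def Phi (f : WithConv (A →ₗ[k] k)) : WithConv (A ⊗[k] A →ₗ[k] k) :=
  toConv (f.ofConv ∘ₗ LinearMap.mul' k A)

lemma Phi_apply (f : WithConv (A →ₗ[k] k)) (a b : A) :
    (Phi f).ofConv (a ⊗ₜ[k] b) = f.ofConv (a * b) := rfl

lemma Phi_mul (f g : WithConv (A →ₗ[k] k)) : Phi (f * g) = Phi f * Phi g := by
  apply WithConv.ofConv_injective
  exact LinearMap.convMul_comp_coalgHom_distrib f g (Bialgebra.mulCoalgHom k A)

lemma Phi_one : Phi (1 : WithConv (A →ₗ[k] k)) = 1 := by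
  apply WithConv.ofConv_injective
  ext a b
  simp [Phi]
  exact mul_comm _ _

lemma Phi_pow (f : WithConv (A →ₗ[k] k)) (m : ℕ) : Phi (f ^ m) = Phi f ^ m := by
  induction m with
  | zero => rw [pow_zero, pow_zero, Phi_one]
  | succ m ih => rw [pow_succ, Phi_mul, ih, pow_succ]

variable (p : ℕ) [Fact p.Prime] [CharP k p]

include p in
/-- in characteristic `p`, the `p^n`-th convolution power of an `ε`-derivation is an
`ε`-derivation. -/
theorem leibniz_pow_char (d : WithConv (A →ₗ[k] k))
    (hd : ∀ a b : A, d.ofConv (a * b) =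
      d.ofConv a * Coalgebra.counit (R := k) b + Coalgebra.counit (R := k) a * d.ofConv b)
    (n : ℕ) (a b : A) :
    (d ^ (p ^ n)).ofConv (a * b) =
      (d ^ (p ^ n)).ofConv a * Coalgebra.counit (R := k) b +
        Coalgebra.counit (R := k) a * (d ^ (p ^ n)).ofConv b := by
  have hinj : Function.Injective (algebraMap k (WithConv (A ⊗[k] A →ₗ[k] k))) := by
    rw [injective_iff_map_eq_zero]
    intro s hs
    have h1 := congr($hs ((1 : A) ⊗ₜ[k] (1 : A)))
    rw [LinearMap.convAlgebraMap_apply] at h1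
    simpa using h1
  haveI : CharP (WithConv (A ⊗[k] A →ₗ[k] k)) p := charP_of_injective_algebraMap hinj p
  have h1 : Phi d = T d 1 + T 1 d := by
    apply WithConv.ofConv_injective
    ext x y
    change d.ofConv (x * y) = d.ofConv x * (1 : WithConv (A →ₗ[k] k)).ofConv y +
      (1 : WithConv (A →ₗ[k] k)).ofConv x * d.ofConv y
    rw [hd]
    rfl
  have hcomm : Commute (T d 1) (T 1 d) := by
    change T d 1 * T 1 d = T 1 d * T d 1
    rw [T_mul, T_mul, mul_one, one_mul]
  have h2 : Phi (d ^ (p ^ n)) = T (d ^ (p ^ n)) 1 + T 1 (d ^ (p ^ n)) := by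
    rw [Phi_pow, h1, add_pow_char_pow_of_commute p n hcomm, T_pow_left, T_pow_right]
  have h3 := congrArg (fun F : WithConv (A ⊗[k] A →ₗ[k] k) => F.ofConv (a ⊗ₜ[k] b)) h2
  exact h3

end Leibniz

end Groth.Agent.Lib.helper15.ConvKill
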