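import Mathlib
import Groth.Agent.Lib.Helper19.ExtLoc1
import Groth.Agent.Lib.Helper15.RelLen

/-!
# `Ext¹` over the cubical monomial ring `A = k + tⁿ k[[t]]`, part 1 (helper15)

For an `A`-module `Mm` embedded in `k[[t]]` by `ι`, generated by `v 0, …, v e` with `ι (v 0) = 1` and
the `ι (v j)` linearly independent over `k` modulo `tⁿ`, we construct the presentation
`0 → k[[t]]^e → A^(e+1) → Mm → 0` and deduce the description of `Ext¹_A(Mm, Mm)`.
-/

set_option autoImplicit false
set_option linter.style.haveILetI false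

universe u

namespace Groth.Agent.Lib.helper15.CubExt

open PowerSeries CategoryTheory

variable {k : Type u} [Field k] (A : Subalgebra k (PowerSeries k)) (n : ℕ)

/-- `A` is the cubical monomial ring `k + tⁿ k[[t]]`. -/
def IsCub : Prop :=
  ∀ f : PowerSeries k, f ∈ A ↔ ∀ m : ℕ, PowerSeries.coeff m f ≠ 0 → (m = 0 ∨ n ≤ m)

variable {A n}

theorem X_pow_mul_mem (h : IsCub A n) (b : PowerSeries k) : X ^ n * b ∈ A := by
  rw [h]
  intro m hm
  by_contra hc
  push Not at hc
  apply hm
  rw [coeff_X_pow_mul', if_neg (by omega)]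

theorem exists_eq_C_add (h : IsCub A n) (a : A) :
    ∃ b : PowerSeries k, (a : PowerSeries k) = C (constantCoeff (a : PowerSeries k)) + X ^ n * b := by
  have hdvd : X ^ n ∣ (a : PowerSeries k) - C (constantCoeff (a : PowerSeries k)) := by
    rw [X_pow_dvd_iff]
    intro m hm
    rw [map_sub]
    by_cases h0 : m = 0
    · subst h0
      simp
    · rw [coeff_C, if_neg h0, sub_zero]
      by_contra hne
      rcases (h a).mp a.2 m hne with h1 | h1 <;> omega
  obtain ⟨b, hb⟩ := hdvd
  exact ⟨b, by rw [← hb]; ring⟩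

theorem smul_eq_mul (a : A) (b : PowerSeries k) : a • b = (a : PowerSeries k) * b := rfl

/-- `b ↦ Xⁿ * (b * w)` as an `A`-linear map `k[[t]] → A`. -/
noncomputable def tau (h : IsCub A n) (w : PowerSeries k) : PowerSeries k →ₗ[A] A where
  toFun b := ⟨X ^ n * (b * w), X_pow_mul_mem h _⟩
  map_add' b b' := Subtype.ext (by
    change X ^ n * ((b + b') * w) = X ^ n * (b * w) + X ^ n * (b' * w)
    ring)
  map_smul' a b := Subtype.ext (by
    change X ^ n * ((a • b) * w) = (a : PowerSeries k) * (X ^ n * (b * w))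
    rw [smul_eq_mul]
    ring)

@[simp]
theorem coe_tau (h : IsCub A n) (w b : PowerSeries k) :
    ((tau h w b : A) : PowerSeries k) = X ^ n * (b * w) := rfl

section pres

variable {Mm : Type u} [AddCommGroup Mm] [Module A Mm] (ι : Mm →ₗ[A] PowerSeries k) {e : ℕ}
  (v : Fin (e + 1) → Mm) (h : IsCub A n)

/-- the relation map `k[[t]]^e → A^(e+1)` -/
noncomputable def rho : (Fin e → PowerSeries k) →ₗ[A] (Fin (e + 1) → A) :=
  LinearMap.pi (Fin.cons (-(∑ l : Fin e, (tau h (ι (v l.succ))) ∘ₗ LinearMap.proj l))
    (fun l => tau h 1 ∘ₗ LinearMap.proj l))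

theorem rho_zero (x : Fin e → PowerSeries k) :
    ((rho ι v h x 0 : A) : PowerSeries k) = -∑ l : Fin e, X ^ n * (x l * ι (v l.succ)) := by
  simp [rho]

theorem rho_succ (x : Fin e → PowerSeries k) (l : Fin e) :
    ((rho ι v h x l.succ : A) : PowerSeries k) = X ^ n * x l := by
  simp [rho]

theorem rho_injective : Function.Injective (rho ι v h) := by
  intro x y hxy
  funext l
  have h1 := congrArg (fun z => ((z l.succ : A) : PowerSeries k)) hxy
  simp only [rho_succ] at h1
  exact X_pow_mul_cancel h1

theorem ι_lc (a : Fin (e + 1) → A) :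
    ι (Fintype.linearCombination A v a) = ∑ j, (a j : PowerSeries k) * ι (v j) := by
  rw [Fintype.linearCombination_apply, map_sum]
  refine Finset.sum_congr rfl (fun j _ => ?_)
  rw [map_smul, smul_eq_mul]

variable (hι : Function.Injective ι) (h1 : ι (v 0) = 1)
  (h3 : ∀ α : Fin (e + 1) → k, X ^ n ∣ ∑ j, C (α j) * ι (v j) → α = 0)

include hι h1 in
theorem lc_rho (x : Fin e → PowerSeries k) :
    Fintype.linearCombination A v (rho ι v h x) = 0 := by
  apply hι
  rw [ι_lc, map_zero, Fin.sum_univ_succ, rho_zero, h1, mul_one]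
  simp only [rho_succ]
  rw [neg_add_eq_zero]
  refine Finset.sum_congr rfl (fun l _ => ?_)
  ring

include hι h1 h3 in
theorem exact_rho : Function.Exact (rho ι v h) (Fintype.linearCombination A v) := by
  intro a
  constructor
  · intro ha
    choose b hb using fun j => exists_eq_C_add h (a j)
    have h0 := congrArg ι ha
    rw [ι_lc, map_zero] at h0
    have h2 : ∑ j, C (constantCoeff ((a j : A) : PowerSeries k)) * ι (v j) =
        X ^ n * (-∑ j, b j * ι (v j)) := by
      have : ∑ j, (a j : PowerSeries k) * ι (v j) =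
          ∑ j, C (constantCoeff ((a j : A) : PowerSeries k)) * ι (v j) +
            X ^ n * ∑ j, b j * ι (v j) := by
        rw [Finset.mul_sum, ← Finset.sum_add_distrib]
        refine Finset.sum_congr rfl (fun j _ => ?_)
        conv_lhs => rw [hb j]
        ring
      rw [this] at h0
      rw [mul_neg, ← add_eq_zero_iff_eq_neg]
      exact h0
    have hα := h3 (fun j => constantCoeff ((a j : A) : PowerSeries k)) ⟨_, h2⟩
    have hb' : ∀ j, ((a j : A) : PowerSeries k) = X ^ n * b j := by
      intro j
      have := congrFun hα j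
      simp only [Pi.zero_apply] at this
      conv_lhs => rw [hb j]
      rw [this, map_zero, zero_add]
    refine ⟨fun l => b l.succ, ?_⟩
    funext j
    apply Subtype.ext
    refine Fin.cases ?_ (fun l => ?_) j
    · rw [rho_zero, hb' 0]
      have h4 : ∑ j, (a j : PowerSeries k) * ι (v j) = 0 := h0
      rw [Fin.sum_univ_succ, h1, mul_one, hb' 0] at h4
      have h5 : ∑ i : Fin e, (a i.succ : PowerSeries k) * ι (v i.succ) =
          ∑ l : Fin e, X ^ n * (b l.succ * ι (v l.succ)) := by
        refine Finset.sum_congr rfl (fun l _ => ?_)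
        rw [hb' l.succ]
        ring
      rw [h5] at h4
      rw [neg_eq_iff_add_eq_zero, add_comm]
      exact h4
    · rw [rho_succ, hb' l.succ]
  · rintro ⟨x, rfl⟩
    exact lc_rho ι v h hι h1 x

end pres

end Groth.Agent.Lib.helper15.CubExt
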