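import Mathlib
import Groth.Agent.Lib.Helper22.EakinNagata

/-!
# Subalgebras of `k[[t]]` of finite colength (helper15), part 1: ring-theoretic structure

`A ⊆ k[[t]]` a `k`-subalgebra over which `k[[t]]` is a finite module and which contains
`t^c k[[t]]`.  Then `A` is a one-dimensional Noetherian local domain with residue field `k` and
fraction field `Frac k[[t]]`.
-/

set_option autoImplicit false
set_option linter.style.haveILetI false

universe u

namespace Groth.Agent.Lib.helper15.PSCan

open PowerSeries

variable {k : Type u} [Field k] (A : Subalgebra k (PowerSeries k))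

theorem isNoetherianRing [Module.Finite ↥A (PowerSeries k)] : IsNoetherianRing ↥A :=
  Groth.Agent.Lib.helper22.EakinNagata.isNoetherianRing_of_finite_of_injective ↥A (PowerSeries k)
    Subtype.val_injective

theorem isLocalRing [Module.Finite ↥A (PowerSeries k)] : IsLocalRing ↥A := by
  haveI : Algebra.IsIntegral ↥A (PowerSeries k) := Algebra.IsIntegral.of_finite _ _
  exact RingHom.domain_isLocalRing (algebraMap ↥A (PowerSeries k))

theorem ringKrullDim_eq_one [Module.Finite ↥A (PowerSeries k)] : ringKrullDim ↥A = 1 := by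
  haveI : Algebra.IsIntegral ↥A (PowerSeries k) := Algebra.IsIntegral.of_finite _ _
  rw [← IsDiscreteValuationRing.ringKrullDim_eq_one (PowerSeries k)]
  apply le_antisymm
  · have hinj' : Function.Injective (algebraMap ↥A (PowerSeries k)) := Subtype.val_injective
    unfold ringKrullDim Order.krullDim
    apply iSup_le
    intro l
    obtain ⟨P, -, hP, hPl⟩ := Ideal.exists_ideal_over_prime_of_isIntegral
      (S := PowerSeries k) l.head.asIdeal (⊥ : Ideal (PowerSeries k)) (by
        rw [← RingHom.ker_eq_comap_bot, (RingHom.injective_iff_ker_eq_bot _).mp hinj']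
        exact bot_le)
    have : P.LiesOver l.head.asIdeal := ⟨hPl.symm⟩
    obtain ⟨L, hL, -, -⟩ := Ideal.exists_ltSeries_of_hasGoingUp l P
    rw [← hL]
    exact le_iSup (fun p : LTSeries (PrimeSpectrum (PowerSeries k)) => (p.length : WithBot ℕ∞)) L
  · refine Order.krullDim_le_of_strictMono
      (fun p : PrimeSpectrum (PowerSeries k) =>
        PrimeSpectrum.comap (algebraMap ↥A (PowerSeries k)) p) ?_
    intro p q hpq
    have : p.asIdeal < q.asIdeal := hpq
    exact Ideal.IsIntegral.comap_lt_comap (R := ↥A) this

/-- the fraction field -/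
abbrev KK (k : Type u) [Field k] : Type u := FractionRing (PowerSeries k)

theorem algebraMap_KK (a : ↥A) :
    algebraMap ↥A (KK k) a = algebraMap (PowerSeries k) (KK k) (a : PowerSeries k) := rfl

instance : IsScalarTower ↥A (PowerSeries k) (KK k) :=
  IsScalarTower.of_algebraMap_eq (fun _ => rfl)

theorem algebraMap_KK_injective : Function.Injective (algebraMap ↥A (KK k)) := by
  intro a b hab
  rw [algebraMap_KK, algebraMap_KK] at hab
  exact Subtype.ext (IsFractionRing.injective (PowerSeries k) (KK k) hab)

theorem isFractionRing (c : ℕ)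
    (hbig : ∀ h : PowerSeries k, (c : ℕ∞) ≤ PowerSeries.order h → h ∈ A) :
    IsFractionRing ↥A (KK k) := by
  haveI : FaithfulSMul ↥A (KK k) :=
    (faithfulSMul_iff_algebraMap_injective _ _).mpr (algebraMap_KK_injective A)
  apply IsFractionRing.of_field
  intro z
  obtain ⟨p, q, hq, hpq⟩ := IsFractionRing.div_surjective (A := PowerSeries k) z
  have hq0 : q ≠ 0 := nonZeroDivisors.ne_zero hq
  have hmem : ∀ f : PowerSeries k, (X : PowerSeries k) ^ c * f ∈ A := by
    intro f
    apply hbig
    rw [order_mul, order_X_pow]
    exact le_self_add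
  refine ⟨⟨X ^ c * p, hmem p⟩, ⟨X ^ c * q, hmem q⟩, ?_⟩
  rw [algebraMap_KK, algebraMap_KK]
  change z = algebraMap (PowerSeries k) (KK k) (X ^ c * p) /
    algebraMap (PowerSeries k) (KK k) (X ^ c * q)
  rw [map_mul, map_mul, mul_div_mul_left, hpq]
  rw [Ne, map_eq_zero_iff _ (IsFractionRing.injective (PowerSeries k) (KK k))]
  exact pow_ne_zero _ X_ne_zero

end Groth.Agent.Lib.helper15.PSCan
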