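import Mathlib
import Groth.Agent.Lib.Helper15.PSCan1
import Groth.Agent.Lib.Helper15.TFCurv1
import Groth.Agent.Lib.Helper27.PSLattice

/-!
# Subalgebras of `k[[t]]` of finite colength (helper15), part 2: lengths are `k`-dimensions

* `length_k_eq`: for an `A`-module `N` with compatible `k`-structure, `ℓ_k(N) = ℓ_A(N)`.
* `length_quot_eq`: for an `A`-submodule `N ⊇ t^c k[[t]]` of `k[[t]]`, `ℓ_A(k[[t]]/N)` is the number
  of non-values of `N`.
-/

set_option autoImplicit false
set_option linter.style.haveILetI false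

universe u

namespace Groth.Agent.Lib.helper15.PSCan

open PowerSeries Groth.Agent.Lib.helper27.PSLattice

variable {k : Type u} [Field k] (A : Subalgebra k (PowerSeries k))

theorem not_isUnit_of_constantCoeff_eq_zero (a : ↥A)
    (ha : constantCoeff (a : PowerSeries k) = 0) : ¬ IsUnit a := by
  intro h
  have h1 : IsUnit (a : PowerSeries k) := h.map A.val
  rw [PowerSeries.isUnit_iff_constantCoeff, ha] at h1
  exact not_isUnit_zero h1

theorem residue_eq [IsLocalRing ↥A] (a : ↥A) :
    IsLocalRing.residue ↥A a =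
      IsLocalRing.residue ↥A (algebraMap k ↥A (constantCoeff (a : PowerSeries k))) := by
  rw [← sub_eq_zero, ← map_sub, IsLocalRing.residue_eq_zero_iff]
  apply not_isUnit_of_constantCoeff_eq_zero
  change constantCoeff ((a : PowerSeries k) -
    algebraMap k (PowerSeries k) (constantCoeff (a : PowerSeries k))) = 0
  rw [map_sub]
  simp

theorem length_residueField [IsLocalRing ↥A] :
    Module.length (IsLocalRing.ResidueField k) (IsLocalRing.ResidueField ↥A) = 1 := by
  apply le_antisymm
  · have hs : Function.Surjective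
        (Algebra.linearMap (IsLocalRing.ResidueField k) (IsLocalRing.ResidueField ↥A)) := by
      intro x
      obtain ⟨a, rfl⟩ := IsLocalRing.residue_surjective x
      refine ⟨IsLocalRing.residue k (constantCoeff (a : PowerSeries k)), ?_⟩
      rw [residue_eq A a]
      rfl
    have := Module.length_le_of_surjective _ hs
    rwa [Module.length_eq_one (IsLocalRing.ResidueField k) (IsLocalRing.ResidueField k)] at this
  · rw [Order.one_le_iff_ne_zero, Ne, Module.length_eq_zero_iff]
    exact not_subsingleton _

/-- `A`-length equals `k`-length -/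
theorem length_k_eq [IsLocalRing ↥A] (N : Type*) [AddCommGroup N] [Module ↥A N] [Module k N]
    [IsScalarTower k ↥A N] : Module.length k N = Module.length ↥A N := by
  rw [IsLocalRing.length_restrictScalars k ↥A N, length_residueField, mul_one]

section quot

variable [Module.Finite ↥A (PowerSeries k)] [IsLocalRing ↥A] (c : ℕ)
  (hbig : ∀ h : PowerSeries k, (c : ℕ∞) ≤ PowerSeries.order h → h ∈ A)

/-- the set of orders of the nonzero elements of an `A`-submodule -/
def vA (N : Submodule ↥A (PowerSeries k)) : Set ℕ := {n | ∃ f ∈ N, order f = n}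

omit [Module.Finite ↥A (PowerSeries k)] [IsLocalRing ↥A] in
theorem vA_eq (N : Submodule ↥A (PowerSeries k)) : vA A N = vals (N.restrictScalars k) := rfl

omit [IsLocalRing ↥A] in
include hbig in
theorem length_quot_ne_top (N : Submodule ↥A (PowerSeries k))
    (hN : ∀ h : PowerSeries k, (c : ℕ∞) ≤ order h → h ∈ N) :
    Module.length ↥A (PowerSeries k ⧸ N) ≠ ⊤ := by
  haveI := isNoetherianRing A
  haveI : Ring.KrullDimLE 1 ↥A := Ring.krullDimLE_iff.mpr (ringKrullDim_eq_one A).le
  apply Groth.Agent.Lib.helper15.TFCurv.length_ne_top_of_torsion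
  intro q
  obtain ⟨p, rfl⟩ := Submodule.mkQ_surjective _ q
  have hX : (X : PowerSeries k) ^ c ∈ A := hbig _ (by rw [order_X_pow])
  refine ⟨⟨X ^ c, hX⟩, ?_, ?_⟩
  · intro h
    have := congrArg Subtype.val h
    exact pow_ne_zero c X_ne_zero this
  · rw [← map_smul, Submodule.mkQ_apply, Submodule.Quotient.mk_eq_zero]
    apply hN
    change (c : ℕ∞) ≤ order (X ^ c * p)
    rw [order_mul, order_X_pow]
    exact le_self_add

include hbig in
/-- `ℓ_A(k[[t]]/N)` is the number of non-values of `N` -/
theorem length_quot_eq (N : Submodule ↥A (PowerSeries k))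
    (hN : ∀ h : PowerSeries k, (c : ℕ∞) ≤ order h → h ∈ N) :
    (vA A N)ᶜ.Finite ∧ Module.length ↥A (PowerSeries k ⧸ N) = ((vA A N)ᶜ.ncard : ℕ∞) := by
  obtain ⟨hfin, h6⟩ := finrank_quot (N.restrictScalars k) c hN
  refine ⟨hfin, ?_⟩
  have h3 := length_quot_ne_top A c hbig N hN
  have h1 := length_k_eq A (PowerSeries k ⧸ N)
  have h4 := Module.length_eq_rank k (PowerSeries k ⧸ N)
  have h5 : Module.finrank k (PowerSeries k ⧸ N) =
      Module.finrank k (PowerSeries k ⧸ N.restrictScalars k) :=
    (Submodule.Quotient.restrictScalarsEquiv k N).finrank_eq.symm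
  rw [← vA_eq] at h6
  rw [← h6, ← h5, ← h1]
  rw [← h1] at h3
  rw [← ENat.natCast_toNat h3, h4, Cardinal.toNat_toENat]
  rfl

end quot

end Groth.Agent.Lib.helper15.PSCan
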