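import Mathlib
import Groth.Agent.Lib.Helper15.PSCan2
import Groth.Agent.Lib.Helper15.CanDual4

/-!
# Subalgebras of `k[[t]]` of finite colength (helper15), part 3: canonical ideals and value sets

`A ⊆ k[[t]]` a `k`-subalgebra over which `k[[t]]` is finite, with conductor `t^c k[[t]]`; `ω` a
finitely generated `A`-submodule of `k[[t]]` containing `1` of injective dimension at most one.
Then for every finitely generated `A`-submodule `M ∋ 1` of `k[[t]]` the value set of `ω : M` is
the dual of the value set of `M` (`main`).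
-/

set_option autoImplicit false
set_option linter.style.haveILetI false

universe u

namespace Groth.Agent.Lib.helper15.PSCan

open PowerSeries CategoryTheory
open Groth.Agent.Lib.helper15.RelLen Groth.Agent.Lib.helper15.CanDual

variable {k : Type u} [Field k] (A : Subalgebra k (PowerSeries k))

/-- the inclusion `k[[t]] → Frac k[[t]]` as an `A`-linear map -/
noncomputable def ι : PowerSeries k →ₗ[↥A] KK k :=
  (IsScalarTower.toAlgHom ↥A (PowerSeries k) (KK k)).toLinearMap

theorem ι_apply (p : PowerSeries k) : ι A p = algebraMap (PowerSeries k) (KK k) p := rfl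

theorem ι_injective : Function.Injective (ι A) := IsFractionRing.injective (PowerSeries k) (KK k)

theorem ι_mul (p q : PowerSeries k) : ι A (p * q) = ι A p * ι A q := by
  rw [ι_apply, ι_apply, ι_apply, map_mul]

theorem ι_one : ι A 1 = 1 := by rw [ι_apply, map_one]

/-- the colon module `ω : M` inside `k[[t]]` -/
def colonP (ω M : Submodule ↥A (PowerSeries k)) : Submodule ↥A (PowerSeries k) where
  carrier := {u | ∀ m ∈ M, u * m ∈ ω}
  zero_mem' := by
    intro m _
    rw [zero_mul]
    exact ω.zero_mem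
  add_mem' := by
    intro a b ha hb m hm
    rw [add_mul]
    exact ω.add_mem (ha m hm) (hb m hm)
  smul_mem' := by
    intro r a ha m hm
    rw [smul_mul_assoc]
    exact ω.smul_mem r (ha m hm)

theorem mem_colonP {ω M : Submodule ↥A (PowerSeries k)} {u : PowerSeries k} :
    u ∈ colonP A ω M ↔ ∀ m ∈ M, u * m ∈ ω := Iff.rfl

theorem colonP_anti (ω : Submodule ↥A (PowerSeries k)) {M N : Submodule ↥A (PowerSeries k)}
    (h : M ≤ N) : colonP A ω N ≤ colonP A ω M := fun _ hu m hm => hu m (h hm)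

theorem map_colonP (ω M : Submodule ↥A (PowerSeries k)) (h1 : (1 : PowerSeries k) ∈ M) :
    (colonP A ω M).map (ι A) = ω.map (ι A) / M.map (ι A) := by
  apply le_antisymm
  · rintro _ ⟨u, hu, rfl⟩
    rw [Submodule.mem_div_iff_forall_mul_mem]
    rintro _ ⟨m, hm, rfl⟩
    rw [← ι_mul]
    exact ⟨u * m, hu m hm, rfl⟩
  · intro x hx
    rw [Submodule.mem_div_iff_forall_mul_mem] at hx
    have hx1 := hx 1 ⟨1, h1, ι_one A⟩
    rw [mul_one] at hx1
    obtain ⟨w, hw, rfl⟩ := hx1
    refine ⟨w, ?_, rfl⟩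
    intro m hm
    obtain ⟨w', hw', e⟩ := hx (ι A m) ⟨m, hm, rfl⟩
    rw [← ι_mul] at e
    rw [← ι_injective A e]
    exact hw'

theorem rl_map_ι (J I : Submodule ↥A (PowerSeries k)) :
    rl (J.map (ι A)) (I.map (ι A)) = rl J I := by
  have := rl_map (ι A) (J.map (ι A)) I
  rw [Submodule.comap_map_eq_of_injective (ι_injective A)] at this
  exact this.symm

theorem map_ne_bot {N : Submodule ↥A (PowerSeries k)} (h1 : (1 : PowerSeries k) ∈ N) :
    N.map (ι A) ≠ ⊥ := by
  intro h
  have : ι A 1 ∈ N.map (ι A) := ⟨1, h1, rfl⟩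
  rw [h, Submodule.mem_bot, ι_one] at this
  exact one_ne_zero this

theorem rl_top' {R : Type*} [Ring R] {M : Type*} [AddCommGroup M] [Module R M]
    (Q : Submodule R M) : rl Q ⊤ = Module.length R (M ⧸ Q) := by
  unfold rl
  refine (Submodule.Quotient.equiv _ _ (Submodule.topEquiv : (⊤ : Submodule R M) ≃ₗ[R] M)
    ?_).length_eq
  ext y
  constructor
  · rintro ⟨z, hz, rfl⟩
    exact hz
  · intro hy
    exact ⟨⟨y, trivial⟩, hy, rfl⟩

section dual

variable [Module.Finite ↥A (PowerSeries k)] (c : ℕ)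
  (hbig : ∀ h : PowerSeries k, (c : ℕ∞) ≤ PowerSeries.order h → h ∈ A)
  (ω : Submodule ↥A (PowerSeries k)) (hω1 : (1 : PowerSeries k) ∈ ω) (hωfg : ω.FG)
  (hωinj : HasInjectiveDimensionLT (ModuleCat.of ↥A ↥ω) 2)

omit [Module.Finite ↥A (PowerSeries k)] in
include hbig hωinj in
theorem injective_quot : Module.Injective ↥A (KK k ⧸ ω.map (ι A)) := by
  haveI := isFractionRing A c hbig
  have hω'inj : HasInjectiveDimensionLT (ModuleCat.of ↥A ↥(ω.map (ι A))) 2 := by
    haveI := hωinj
    have e : ModuleCat.of ↥A ↥ω ≅ ModuleCat.of ↥A ↥(ω.map (ι A)) :=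
      LinearEquiv.toModuleIso (Submodule.equivMapOfInjective (ι A) (ι_injective A) ω)
    exact hasInjectiveDimensionLT_of_iso e 2
  exact injective_quotient_of_hasInjectiveDimensionLT ↥A (KK k) _ hω'inj

include hbig hω1 hωfg hωinj in
/-- duality of lengths for `M ⊆ k[[t]]` -/
theorem rl_colon (M : Submodule ↥A (PowerSeries k)) (hMfg : M.FG)
    (hM1 : (1 : PowerSeries k) ∈ M) :
    rl (colonP A ω ⊤) (colonP A ω M) = rl M ⊤ := by
  haveI := isNoetherianRing A
  haveI := isLocalRing A
  haveI := isFractionRing A c hbig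
  haveI := injective_quot A c hbig ω hωinj
  have hdim := ringKrullDim_eq_one A
  have hTfg : (⊤ : Submodule ↥A (PowerSeries k)).FG := Module.Finite.fg_top
  have key := rl_div_of_fg (ω.map (ι A)) hdim (map_ne_bot A hω1) (hωfg.map _)
    (J := M.map (ι A)) (I := (⊤ : Submodule ↥A (PowerSeries k)).map (ι A))
    (map_ne_bot A hM1) (hMfg.map _) (map_ne_bot A Submodule.mem_top) (hTfg.map _)
  rw [← map_colonP A ω ⊤ Submodule.mem_top, ← map_colonP A ω M hM1, rl_map_ι, rl_map_ι] at key
  exact key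

include hbig hω1 hωfg hωinj in
/-- `ω : k[[t]]` is the conductor of `A` -/
theorem colonP_top_le (u : PowerSeries k) (hu : u ∈ colonP A ω ⊤) (p : PowerSeries k) :
    u * p ∈ A := by
  haveI := isNoetherianRing A
  haveI := isLocalRing A
  haveI := isFractionRing A c hbig
  haveI := injective_quot A c hbig ω hωinj
  have hdim := ringKrullDim_eq_one A
  have h1 := div_self_eq_one (ω.map (ι A)) hdim (map_ne_bot A hω1) (hωfg.map _)
  have h2 : ι A (u * p) ∈ ω.map (ι A) / ω.map (ι A) := by
    rw [Submodule.mem_div_iff_forall_mul_mem]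
    rintro _ ⟨w, hw, rfl⟩
    rw [← ι_mul]
    refine ⟨u * p * w, ?_, rfl⟩
    rw [mul_assoc]
    exact hu (p * w) Submodule.mem_top
  rw [h1] at h2
  obtain ⟨a, ha⟩ := Submodule.mem_one.1 h2
  have : (a : PowerSeries k) = u * p := ι_injective A ha
  rw [← this]
  exact a.2

end dual

theorem comb (c : ℕ) (S T : Set ℕ) (hS : ∀ n, c ≤ n → n ∈ S) (hT : ∀ n, c ≤ n → n ∈ T)
    (hcount : Sᶜ.ncard + Tᶜ.ncard = c) (hinj : ∀ n, n < c → n ∈ S → c - 1 - n ∉ T) (n : ℕ)
    (hn : n < c) (h : c - 1 - n ∉ T) : n ∈ S := by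
  classical
  set S1 := (Finset.range c).filter (· ∈ S) with hS1
  set S0 := (Finset.range c).filter (· ∉ S) with hS0
  set T0 := (Finset.range c).filter (· ∉ T) with hT0
  have hS0' : Sᶜ = ↑S0 := by
    ext x
    simp only [Set.mem_compl_iff, hS0, Finset.coe_filter, Finset.mem_range, Set.mem_ofPred_eq]
    constructor
    · intro hx
      exact ⟨by_contra (fun h' => hx (hS x (not_lt.mp h'))), hx⟩
    · exact fun h => h.2
  have hT0' : Tᶜ = ↑T0 := by
    ext x
    simp only [Set.mem_compl_iff, hT0, Finset.coe_filter, Finset.mem_range, Set.mem_ofPred_eq]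
    constructor
    · intro hx
      exact ⟨by_contra (fun h' => hx (hT x (not_lt.mp h'))), hx⟩
    · exact fun h => h.2
  rw [hS0', hT0', Set.ncard_coe_finset, Set.ncard_coe_finset] at hcount
  have hsum : S1.card + S0.card = c := by
    have := Finset.card_filter_add_card_filter_not (s := Finset.range c) (p := (· ∈ S))
    simpa using this
  have hcard : S1.card = T0.card := by omega
  have himg : S1.image (fun n => c - 1 - n) ⊆ T0 := by
    intro x hx
    obtain ⟨m, hm, rfl⟩ := Finset.mem_image.1 hx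
    rw [hS1, Finset.mem_filter, Finset.mem_range] at hm
    rw [hT0, Finset.mem_filter, Finset.mem_range]
    exact ⟨by omega, hinj m hm.1 hm.2⟩
  have hinjOn : Set.InjOn (fun n => c - 1 - n) ↑S1 := by
    intro a ha b hb hab
    rw [hS1, Finset.mem_coe, Finset.mem_filter, Finset.mem_range] at ha hb
    simp only at hab
    omega
  have hcardimg : (S1.image (fun n => c - 1 - n)).card = S1.card :=
    Finset.card_image_of_injOn hinjOn
  have heq : S1.image (fun n => c - 1 - n) = T0 :=
    Finset.eq_of_subset_of_card_le himg (by rw [hcardimg, hcard])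
  have hmem : c - 1 - n ∈ T0 := by
    rw [hT0, Finset.mem_filter, Finset.mem_range]
    exact ⟨by omega, h⟩
  rw [← heq] at hmem
  obtain ⟨m, hm, hmn⟩ := Finset.mem_image.1 hmem
  rw [hS1, Finset.mem_filter, Finset.mem_range] at hm
  have : m = n := by omega
  exact this ▸ hm.2

section main

variable [Module.Finite ↥A (PowerSeries k)] (c : ℕ) (hc0 : c ≠ 0)
  (hbig : ∀ h : PowerSeries k, (c : ℕ∞) ≤ PowerSeries.order h → h ∈ A)
  (hc1 : ∀ a ∈ A, PowerSeries.order a ≠ ((c - 1 : ℕ) : ℕ∞))
  (ω : Submodule ↥A (PowerSeries k)) (hω1 : (1 : PowerSeries k) ∈ ω) (hωfg : ω.FG)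
  (hωinj : HasInjectiveDimensionLT (ModuleCat.of ↥A ↥ω) 2)
  (M : Submodule ↥A (PowerSeries k)) (hMfg : M.FG) (hM1 : (1 : PowerSeries k) ∈ M)

omit [Module.Finite ↥A (PowerSeries k)] in
theorem mem_of_one_mem (N : Submodule ↥A (PowerSeries k)) (h1 : (1 : PowerSeries k) ∈ N)
    (a : PowerSeries k) (ha : a ∈ A) : a ∈ N := by
  have : a = (⟨a, ha⟩ : ↥A) • (1 : PowerSeries k) := by
    change a = a * 1
    rw [mul_one]
  rw [this]
  exact N.smul_mem _ h1

include hbig hc1 hω1 hωfg hωinj in
theorem mem_colonP_top_iff (u : PowerSeries k) :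
    u ∈ colonP A ω ⊤ ↔ (c : ℕ∞) ≤ order u := by
  constructor
  · intro hu
    by_contra hlt
    rw [not_le] at hlt
    have hu0 : u ≠ 0 := by
      rw [← order_finite_iff_ne_zero]
      exact lt_of_lt_of_le hlt le_top
    obtain ⟨j, hj⟩ : ∃ j : ℕ, order u = j := ⟨(order u).toNat, (coe_toNat_order hu0).symm⟩
    rw [hj] at hlt
    have hjc : j < c := by exact_mod_cast hlt
    have hmem := colonP_top_le A c hbig ω hω1 hωfg hωinj u hu (X ^ (c - 1 - j))
    apply hc1 _ hmem
    rw [order_mul, order_X_pow, hj]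
    have : j + (c - 1 - j) = c - 1 := by omega
    exact_mod_cast this
  · intro hu m _
    apply mem_of_one_mem A ω hω1
    apply hbig
    rw [order_mul]
    exact le_trans hu le_self_add

include hc0 hbig hc1 hω1 hωfg hωinj in
/-- `c - 1` is not a value of `ω` -/
theorem order_ne_of_mem (w : PowerSeries k) (hw : w ∈ ω) : order w ≠ ((c - 1 : ℕ) : ℕ∞) := by
  intro hord
  have hwC : w ∈ colonP A ω ⊤ := by
    intro p _
    have hp := PowerSeries.eq_X_mul_shift_add_const p
    set q := (PowerSeries.mk fun i => coeff (i + 1) p) with hq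
    rw [hp, mul_add]
    apply ω.add_mem
    · apply mem_of_one_mem A ω hω1
      apply hbig
      rw [order_mul, order_mul, order_X, hord]
      have h1 : ((c : ℕ) : ℕ∞) = ((c - 1 : ℕ) : ℕ∞) + 1 := by
        have : c = c - 1 + 1 := by omega
        exact_mod_cast this
      rw [h1, ← add_assoc]
      exact le_self_add
    · have : w * C (constantCoeff p) = (algebraMap k ↥A (constantCoeff p)) • w := by
        change w * C (constantCoeff p) = algebraMap k (PowerSeries k) (constantCoeff p) * w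
        rw [mul_comm]
        rfl
      rw [this]
      exact ω.smul_mem _ hw
  have := (mem_colonP_top_iff A c hbig hc1 ω hω1 hωfg hωinj w).1 hwC
  rw [hord] at this
  have : c ≤ c - 1 := by exact_mod_cast this
  omega

include hc0 hbig hc1 hω1 hωfg hωinj hMfg hM1 in
/-- the value set of `ω : M` is the dual of the value set of `M` -/
theorem main (n : ℕ) :
    (∃ u : PowerSeries k, order u = n ∧ ∀ m ∈ M, u * m ∈ ω) ↔
      (c ≤ n ∨ ¬ ∃ m ∈ M, order m = ((c - 1 - n : ℕ) : ℕ∞)) := by
  haveI := isNoetherianRing A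
  haveI := isLocalRing A
  have hC := mem_colonP_top_iff A c hbig hc1 ω hω1 hωfg hωinj
  set Cc := colonP A ω ⊤ with hCc
  set D := colonP A ω M with hD
  have hCD : Cc ≤ D := colonP_anti A ω le_top
  have hbigC : ∀ h : PowerSeries k, (c : ℕ∞) ≤ order h → h ∈ Cc := fun h hh => (hC h).2 hh
  have hbigD : ∀ h : PowerSeries k, (c : ℕ∞) ≤ order h → h ∈ D := fun h hh => hCD (hbigC h hh)
  have hbigM : ∀ h : PowerSeries k, (c : ℕ∞) ≤ order h → h ∈ M :=
    fun h hh => mem_of_one_mem A M hM1 h (hbig h hh)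
  have hfw : ∀ j, j < c → j ∈ vA A D → c - 1 - j ∉ vA A M := by
    rintro j hj ⟨u, hu, huo⟩ ⟨m, hm, hmo⟩
    apply order_ne_of_mem A c hc0 hbig hc1 ω hω1 hωfg hωinj (u * m) (hu m hm)
    rw [order_mul, huo, hmo]
    have : j + (c - 1 - j) = c - 1 := by omega
    exact_mod_cast this
  have e1 := rl_colon A c hbig ω hω1 hωfg hωinj M hMfg hM1
  have e2 := rl_add hCD (le_top : D ≤ ⊤)
  rw [e1, rl_top', rl_top', rl_top'] at e2
  obtain ⟨fC, lC⟩ := length_quot_eq A c hbig Cc hbigC
  obtain ⟨fD, lD⟩ := length_quot_eq A c hbig D hbigD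
  obtain ⟨fM, lM⟩ := length_quot_eq A c hbig M hbigM
  rw [lC, lD, lM] at e2
  have hvC : (vA A Cc)ᶜ = Set.Iio c := by
    ext j
    simp only [Set.mem_compl_iff, Set.mem_Iio]
    constructor
    · intro hj
      by_contra hcj
      exact hj ⟨X ^ j, hbigC _ (by rw [order_X_pow]; exact_mod_cast not_lt.mp hcj),
        order_X_pow j⟩
    · rintro hj ⟨u, hu, huo⟩
      have := (hC u).1 hu
      rw [huo] at this
      have : c ≤ j := by exact_mod_cast this
      omega
  have hcC : (vA A Cc)ᶜ.ncard = c := by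
    rw [hvC, ← Finset.coe_range, Set.ncard_coe_finset, Finset.card_range]
  rw [hcC] at e2
  have hcount : (vA A D)ᶜ.ncard + (vA A M)ᶜ.ncard = c := by exact_mod_cast e2.symm
  have hXD : ∀ j, c ≤ j → (X : PowerSeries k) ^ j ∈ D := fun j hj =>
    hbigD _ (by rw [order_X_pow]; exact_mod_cast hj)
  constructor
  · rintro ⟨u, huo, hu⟩
    by_cases hcn : c ≤ n
    · exact Or.inl hcn
    · right
      exact hfw n (not_le.mp hcn) ⟨u, hu, huo⟩
  · intro h
    by_cases hcn : c ≤ n
    · exact ⟨X ^ n, order_X_pow n, hXD n hcn⟩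
    · have hn : ¬ ∃ m ∈ M, order m = ((c - 1 - n : ℕ) : ℕ∞) := h.resolve_left hcn
      have := comb c (vA A D) (vA A M) (fun j hj => ⟨X ^ j, hXD j hj, order_X_pow j⟩)
        (fun j hj => ⟨X ^ j, hbigM _ (by rw [order_X_pow]; exact_mod_cast hj), order_X_pow j⟩)
        hcount hfw n (not_le.mp hcn) hn
      obtain ⟨u, hu, huo⟩ := this
      exact ⟨u, huo, hu⟩

end main

end Groth.Agent.Lib.helper15.PSCan
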