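import Mathlib
import Groth.Agent.Lib.Helper15.CubExt1
import Groth.Agent.Lib.Helper15.PSCan3

/-!
# `Ext¹` over the cubical monomial ring `A = k + tⁿ k[[t]]`, part 2 (helper15)

`Hom_A(k[[t]]^e, Mm)` as a submodule of `k[[t]]^e`, the image of the restriction map and the
resulting length formula `length_ext_eq`.
-/

set_option autoImplicit false
set_option linter.style.haveILetI false

universe u

namespace Groth.Agent.Lib.helper15.CubExt

open PowerSeries CategoryTheory Groth.Agent.Lib.helper15.RelLen Groth.Agent.Lib.helper19.ExtLoc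

variable {k : Type u} [Field k] {A : Subalgebra k (PowerSeries k)} {n : ℕ}

/-- every `A`-linear endomorphism of `k[[t]]` is a homothety -/
theorem hom_eq_mul (h : IsCub A n) (g : PowerSeries k →ₗ[A] PowerSeries k) (b : PowerSeries k) :
    g b = b * g 1 := by
  apply X_pow_mul_cancel (k := n)
  have e1 : X ^ n * g b = g (X ^ n * b) := by
    have := g.map_smul ⟨X ^ n * 1, X_pow_mul_mem h 1⟩ b
    rw [smul_eq_mul, smul_eq_mul] at this
    simp only [mul_one] at this
    exact this.symm
  have e2 : g (X ^ n * b) = X ^ n * b * g 1 := by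
    have := g.map_smul ⟨X ^ n * b, X_pow_mul_mem h b⟩ 1
    rw [smul_eq_mul, smul_eq_mul] at this
    simp only [mul_one] at this
    exact this
  rw [e1, e2, mul_assoc]

section

variable {Mm : Type u} [AddCommGroup Mm] [Module A Mm] (ι : Mm →ₗ[A] PowerSeries k) {e : ℕ}
  (v : Fin (e + 1) → Mm) (h : IsCub A n)

/-- evaluation of a homomorphism `k[[t]]^e → Mm` at the standard basis -/
noncomputable def Theta :
    ((Fin e → PowerSeries k) →ₗ[A] Mm) →ₗ[A] (Fin e → PowerSeries k) where
  toFun ψ l := ι (ψ (Pi.single l 1))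
  map_add' ψ ψ' := by
    funext l
    simp
  map_smul' a ψ := by
    funext l
    simp

theorem Theta_apply (ψ : (Fin e → PowerSeries k) →ₗ[A] Mm) (l : Fin e) :
    Theta ι ψ l = ι (ψ (Pi.single l 1)) := rfl

include h in
theorem ι_apply_single (ψ : (Fin e → PowerSeries k) →ₗ[A] Mm) (l : Fin e) (b : PowerSeries k) :
    ι (ψ (Pi.single l b)) = b * Theta ι ψ l := by
  have := hom_eq_mul h (ι ∘ₗ ψ ∘ₗ LinearMap.single A (fun _ : Fin e => PowerSeries k) l) b
  rw [Theta_apply]
  simpa using this

include h in
theorem ι_apply_eq_sum (ψ : (Fin e → PowerSeries k) →ₗ[A] Mm) (x : Fin e → PowerSeries k) :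
    ι (ψ x) = ∑ l, x l * Theta ι ψ l := by
  conv_lhs => rw [← Finset.univ_sum_single x]
  rw [map_sum, map_sum]
  exact Finset.sum_congr rfl (fun l _ => ι_apply_single ι h ψ l (x l))

include h in
theorem Theta_injective (hι : Function.Injective ι) : Function.Injective (Theta (e := e) ι) := by
  intro ψ ψ' hψ
  apply LinearMap.ext
  intro x
  apply hι
  rw [ι_apply_eq_sum ι h, ι_apply_eq_sum ι h, hψ]

/-- the largest `k[[t]]`-submodule of the image of `ι` -/
def Nn : Submodule A (PowerSeries k) where
  carrier := {θ | ∀ b : PowerSeries k, b * θ ∈ LinearMap.range ι}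
  add_mem' := by
    intro θ θ' hθ hθ' b
    rw [mul_add]
    exact add_mem (hθ b) (hθ' b)
  zero_mem' := by
    intro b
    rw [mul_zero]
    exact zero_mem _
  smul_mem' := by
    intro a θ hθ b
    rw [smul_eq_mul, mul_left_comm]
    have := (LinearMap.range ι).smul_mem a (hθ b)
    rwa [smul_eq_mul] at this

theorem mem_Nn {θ : PowerSeries k} : θ ∈ Nn ι ↔ ∀ b : PowerSeries k, b * θ ∈ LinearMap.range ι :=
  Iff.rfl

include h in
theorem range_Theta (hι : Function.Injective ι) :
    LinearMap.range (Theta (e := e) ι) = Submodule.pi Set.univ (fun _ => Nn ι) := by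
  apply le_antisymm
  · rintro _ ⟨ψ, rfl⟩
    intro l _ b
    rw [← ι_apply_single ι h]
    exact ⟨_, rfl⟩
  · intro θ hθ
    -- construct the homomorphism
    let eι : Mm ≃ₗ[A] LinearMap.range ι := LinearEquiv.ofInjective ι hι
    let g : Fin e → (PowerSeries k →ₗ[A] Mm) := fun l =>
      eι.symm.toLinearMap ∘ₗ
        ((LinearMap.mulRight A (θ l)).codRestrict (LinearMap.range ι)
          (fun b => hθ l (Set.mem_univ l) b))
    refine ⟨LinearMap.lsum A (fun _ : Fin e => PowerSeries k) A g, ?_⟩
    funext l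
    rw [Theta_apply]
    have hg : ∀ (l : Fin e) (b : PowerSeries k), ι (g l b) = b * θ l := by
      intro l b
      have : ι (eι.symm ⟨b * θ l, hθ l (Set.mem_univ l) b⟩) = b * θ l :=
        congrArg Subtype.val (eι.apply_symm_apply ⟨b * θ l, hθ l (Set.mem_univ l) b⟩)
      exact this
    rw [LinearMap.lsum_apply, LinearMap.sum_apply, map_sum]
    simp only [LinearMap.comp_apply, LinearMap.proj_apply]
    rw [Finset.sum_eq_single l]
    · rw [Pi.single_eq_same, hg, one_mul]
    · intro l' _ hne
      rw [Pi.single_eq_of_ne hne, map_zero, map_zero]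
    · intro hl
      exact absurd (Finset.mem_univ l) hl

/-- the map whose range is the image of the restriction `Hom(A^(e+1), Mm) → Hom(k[[t]]^e, Mm)` -/
noncomputable def Lam : (Fin (e + 1) → Mm) →ₗ[A] (Fin e → PowerSeries k) where
  toFun m l := X ^ n * (ι (m l.succ) - ι (v l.succ) * ι (m 0))
  map_add' m m' := by
    funext l
    simp only [Pi.add_apply, map_add]
    ring
  map_smul' a m := by
    funext l
    simp only [Pi.smul_apply, map_smul, RingHom.id_apply, smul_eq_mul]
    ring

theorem Lam_apply (m : Fin (e + 1) → Mm) (l : Fin e) :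
    Lam (n := n) ι v m l = X ^ n * (ι (m l.succ) - ι (v l.succ) * ι (m 0)) := rfl

include h in
theorem Theta_comp_rho (m : Fin (e + 1) → Mm) :
    Theta ι ((Fintype.linearCombination A m) ∘ₗ rho ι v h) = Lam (n := n) ι v m := by
  funext l
  rw [Theta_apply, LinearMap.comp_apply, ι_lc, Fin.sum_univ_succ, rho_zero, Lam_apply]
  simp only [rho_succ]
  rw [Finset.sum_eq_single l, Finset.sum_eq_single l]
  · rw [Pi.single_eq_same]
    ring
  · intro l' _ hne
    rw [Pi.single_eq_of_ne hne, mul_zero, zero_mul]
  · intro hl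
    exact absurd (Finset.mem_univ l) hl
  · intro l' _ hne
    rw [Pi.single_eq_of_ne hne, zero_mul, mul_zero]
  · intro hl
    exact absurd (Finset.mem_univ l) hl

end

end Groth.Agent.Lib.helper15.CubExt
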