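import Mathlib
import Groth.Agent.Lib.Helper15.CubExt2

/-!
# `Ext¹` over the cubical monomial ring `A = k + tⁿ k[[t]]`, part 3 (helper15)

The length formula
`ℓ(Ext¹_A(Mm, Mm)) + ℓ(Mm/E) + e · ℓ(k[[t]]/N) = e · ℓ(k[[t]]/tⁿ·Mm)`.
-/

set_option autoImplicit false
set_option linter.style.haveILetI false

universe u

namespace Groth.Agent.Lib.helper15.CubExt

open PowerSeries CategoryTheory Groth.Agent.Lib.helper15.RelLen Groth.Agent.Lib.helper19.ExtLoc
  Groth.Agent.Lib.helper15.PSCan

variable {k : Type u} [Field k] {A : Subalgebra k (PowerSeries k)} {n : ℕ}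
  {Mm : Type u} [AddCommGroup Mm] [Module A Mm] (ι : Mm →ₗ[A] PowerSeries k) {e : ℕ}
  (v : Fin (e + 1) → Mm) (h : IsCub A n)
  (hι : Function.Injective ι) (h1 : ι (v 0) = 1)
  (h3 : ∀ α : Fin (e + 1) → k, X ^ n ∣ ∑ j, C (α j) * ι (v j) → α = 0)
  (h2 : Submodule.span A (Set.range v) = ⊤)

include h2 in
theorem lc_surjective : Function.Surjective (Fintype.linearCombination A v) := by
  rw [← LinearMap.range_eq_top, Fintype.range_linearCombination, h2]

theorem lc_single (φ : (Fin (e + 1) → A) →ₗ[A] Mm) :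
    Fintype.linearCombination A (fun j => φ (Pi.single j 1)) = φ := by
  apply LinearMap.ext
  intro a
  rw [Fintype.linearCombination_apply]
  conv_rhs => rw [← Finset.univ_sum_single a]
  rw [map_sum]
  refine Finset.sum_congr rfl (fun j _ => ?_)
  rw [← map_smul, ← Pi.single_smul, _root_.smul_eq_mul, mul_one]

include hι in
theorem ker_bdry :
    LinearMap.ker (bdry Mm (rho ι v h) (Fintype.linearCombination A v) (rho_injective ι v h)
      (lc_surjective v h2) (exact_rho ι v h hι h1 h3)) =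
      (LinearMap.range (Lam (n := n) ι v)).comap (Theta ι) := by
  ext ψ
  rw [LinearMap.mem_ker, bdry_eq_zero_iff, Submodule.mem_comap, LinearMap.mem_range]
  constructor
  · rintro ⟨φ, rfl⟩
    refine ⟨fun j => φ (Pi.single j 1), ?_⟩
    rw [← Theta_comp_rho ι v h, lc_single]
  · rintro ⟨m, hm⟩
    refine ⟨Fintype.linearCombination A m, ?_⟩
    apply Theta_injective ι h hι
    rw [Theta_comp_rho, hm]

include h hι h1 h3 h2 in
theorem length_ext_eq_rl :
    Module.length A (Abelian.Ext.{u} (ModuleCat.of A Mm) (ModuleCat.of A Mm) 1) =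
      rl (LinearMap.range (Lam (n := n) ι v)) (Submodule.pi Set.univ (fun _ : Fin e => Nn ι)) := by
  have hsurj := bdry_surjective Mm (rho ι v h) (Fintype.linearCombination A v)
    (rho_injective ι v h) (lc_surjective v h2) (exact_rho ι v h hι h1 h3)
  have e1 := (LinearMap.quotKerEquivOfSurjective _ hsurj).length_eq
  rw [← e1, ker_bdry ι v h hι h1 h3 h2, ← rl_top', rl_map, Submodule.map_top, range_Theta ι h hι]

/-- `tⁿ · Mm` -/
noncomputable def XM : Submodule A (PowerSeries k) :=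
  (LinearMap.range ι).map (LinearMap.mulLeft A (X ^ n : PowerSeries k))

theorem mem_XM {θ : PowerSeries k} : θ ∈ XM (n := n) ι ↔ ∃ m : Mm, X ^ n * ι m = θ := by
  unfold XM
  rw [Submodule.mem_map]
  constructor
  · rintro ⟨_, ⟨m, rfl⟩, rfl⟩
    exact ⟨m, rfl⟩
  · rintro ⟨m, rfl⟩
    exact ⟨ι m, ⟨m, rfl⟩, rfl⟩

/-- the elements of `Mm` stable under the generators -/
def EE : Submodule A Mm where
  carrier := {m | ∀ l : Fin e, ι (v l.succ) * ι m ∈ LinearMap.range ι}
  add_mem' := by
    intro m m' hm hm' l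
    rw [map_add, mul_add]
    exact add_mem (hm l) (hm' l)
  zero_mem' := by
    intro l
    rw [map_zero, mul_zero]
    exact zero_mem _
  smul_mem' := by
    intro a m hm l
    rw [map_smul, smul_eq_mul, mul_left_comm]
    have := (LinearMap.range ι).smul_mem a (hm l)
    rwa [smul_eq_mul] at this

include h in
theorem XM_le_Nn : XM (n := n) ι ≤ Nn ι := by
  intro θ hθ
  obtain ⟨m, rfl⟩ := (mem_XM ι).mp hθ
  intro b
  refine ⟨(⟨X ^ n * b, X_pow_mul_mem h b⟩ : A) • m, ?_⟩
  rw [map_smul, smul_eq_mul]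
  ring

theorem L0_le_L : Submodule.pi Set.univ (fun _ : Fin e => XM (n := n) ι) ≤
    LinearMap.range (Lam (n := n) ι v) := by
  intro θ hθ
  choose m hm using fun l => (mem_XM ι).mp (hθ l (Set.mem_univ l))
  refine ⟨Fin.cons 0 m, ?_⟩
  funext l
  rw [Lam_apply, Fin.cons_succ, Fin.cons_zero, map_zero, mul_zero, sub_zero]
  exact hm l

include h in
theorem L_le_T : LinearMap.range (Lam (n := n) ι v) ≤
    Submodule.pi Set.univ (fun _ : Fin e => Nn ι) := by
  rintro _ ⟨m, rfl⟩
  intro l _ b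
  rw [Lam_apply]
  refine ⟨(⟨X ^ n * b, X_pow_mul_mem h b⟩ : A) • m l.succ -
    (⟨X ^ n * (b * ι (v l.succ)), X_pow_mul_mem h _⟩ : A) • m 0, ?_⟩
  rw [map_sub, map_smul, map_smul, smul_eq_mul, smul_eq_mul]
  ring

/-- the contribution of the first coordinate -/
noncomputable def mu : Mm →ₗ[A] (Fin e → PowerSeries k) :=
  Lam (n := n) ι v ∘ₗ LinearMap.single A (fun _ : Fin (e + 1) => Mm) 0

theorem mu_apply (m : Mm) (l : Fin e) : mu (n := n) ι v m l = -(X ^ n * (ι (v l.succ) * ι m)) := by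
  unfold mu
  rw [LinearMap.comp_apply, Lam_apply]
  simp only [LinearMap.single_apply]
  rw [Pi.single_eq_same, Pi.single_eq_of_ne (Fin.succ_ne_zero l), map_zero, zero_sub, mul_neg]

theorem range_Lam_eq : LinearMap.range (Lam (n := n) ι v) =
    Submodule.pi Set.univ (fun _ : Fin e => XM (n := n) ι) ⊔ LinearMap.range (mu (n := n) ι v) := by
  apply le_antisymm
  · rintro _ ⟨m, rfl⟩
    rw [Submodule.mem_sup]
    refine ⟨fun l => X ^ n * ι (m l.succ), ?_, mu (n := n) ι v (m 0), ⟨_, rfl⟩, ?_⟩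
    · intro l _
      exact (mem_XM ι).mpr ⟨_, rfl⟩
    · funext l
      rw [Pi.add_apply, mu_apply, Lam_apply]
      ring
  · apply sup_le (L0_le_L ι v)
    rintro _ ⟨m, rfl⟩
    exact ⟨_, rfl⟩

include hι in
theorem comap_mu : (Submodule.pi Set.univ (fun _ : Fin e => XM (n := n) ι)).comap
    (mu (n := n) ι v) = EE ι v := by
  ext m
  rw [Submodule.mem_comap]
  constructor
  · intro hm l
    have := hm l (Set.mem_univ l)
    rw [mu_apply] at this
    obtain ⟨m', hm'⟩ := (mem_XM ι).mp this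
    refine ⟨-m', ?_⟩
    rw [map_neg]
    apply X_pow_mul_cancel (k := n)
    rw [mul_neg, hm', neg_neg]
  · intro hm l _
    obtain ⟨m', hm'⟩ := hm l
    rw [mu_apply]
    refine (mem_XM ι).mpr ⟨-m', ?_⟩
    rw [map_neg, hm', mul_neg]

include hι in
theorem rl_L0_L : rl (Submodule.pi Set.univ (fun _ : Fin e => XM (n := n) ι))
    (LinearMap.range (Lam (n := n) ι v)) = Module.length A (Mm ⧸ EE ι v) := by
  rw [range_Lam_eq, rl_sup', ← Submodule.map_top, ← rl_map, comap_mu ι v hι, rl_top']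

theorem rl_pi_top (p : Submodule A (PowerSeries k)) :
    rl (Submodule.pi Set.univ (fun _ : Fin e => p)) ⊤ =
      e • Module.length A (PowerSeries k ⧸ p) := by
  rw [rl_top', (Submodule.quotientPi (fun _ : Fin e => p)).length_eq,
    Module.length_pi_of_fintype]
  simp

include h hι h1 h3 h2 in
/-- the length formula -/
theorem length_formula :
    e • Module.length A (PowerSeries k ⧸ XM (n := n) ι) =
      e • Module.length A (PowerSeries k ⧸ Nn ι) +
        (Module.length A (Abelian.Ext.{u} (ModuleCat.of A Mm) (ModuleCat.of A Mm) 1) +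
          Module.length A (Mm ⧸ EE ι v)) := by
  rw [length_ext_eq_rl ι v h hι h1 h3 h2, ← rl_L0_L ι v hι, ← rl_pi_top, ← rl_pi_top,
    ← rl_add (L0_le_L ι v) (L_le_T ι v h)]
  exact rl_add ((L0_le_L ι v).trans (L_le_T ι v h)) le_top

end Groth.Agent.Lib.helper15.CubExt
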