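import Mathlib
import Groth.Agent.Lib.Helper15.CubExt3

/-!
# `Ext¹` over the cubical monomial ring `A = k + tⁿ k[[t]]`, part 4 (helper15)

Monomial submodules `suppMod P` of `k[[t]]` (defined by a condition on the support), their lengths,
and the modules `XM`, `Nn`, `EE` of part 3 when the image of `ι` is monomial.
-/

set_option autoImplicit false
set_option linter.style.haveILetI false

universe u

namespace Groth.Agent.Lib.helper15.CubExt

open PowerSeries CategoryTheory Groth.Agent.Lib.helper15.RelLen Groth.Agent.Lib.helper15.PSCan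

variable {k : Type u} [Field k] {A : Subalgebra k (PowerSeries k)} {n : ℕ}

theorem mem_of_le_order (h : IsCub A n) (f : PowerSeries k) (hf : (n : ℕ∞) ≤ order f) : f ∈ A := by
  rw [h]
  intro m hm
  right
  have h1 : order f ≤ m := order_le m hm
  exact_mod_cast hf.trans h1

theorem C_mem (c : k) : (C c : PowerSeries k) ∈ A := A.algebraMap_mem c

/-- decomposition of a power series with respect to a family of exponents -/
theorem exists_decomp {e : ℕ} (d : Fin (e + 1) → ℕ) (hd : Function.Injective d)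
    (hdn : ∀ j, d j < n) (f : PowerSeries k)
    (hf : ∀ m, m < n → coeff m f ≠ 0 → ∃ j, d j = m) :
    ∃ g : PowerSeries k, f = ∑ j, C (coeff (d j) f) * X ^ d j + X ^ n * g := by
  have hdvd : X ^ n ∣ f - ∑ j, C (coeff (d j) f) * X ^ d j := by
    rw [X_pow_dvd_iff]
    intro m hm
    rw [map_sub, map_sum]
    simp only [coeff_C_mul, coeff_X_pow]
    by_cases hex : ∃ j, d j = m
    · obtain ⟨j, rfl⟩ := hex
      rw [Finset.sum_eq_single j]
      · simp
      · intro j' _ hne
        rw [if_neg (fun hh => hne (hd hh.symm)), mul_zero]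
      · intro hj
        exact absurd (Finset.mem_univ j) hj
    · rw [Finset.sum_eq_zero, sub_zero]
      · by_contra hne
        exact hex (hf m hm hne)
      · intro j _
        rw [if_neg (fun hh => hex ⟨j, hh.symm⟩), mul_zero]
  obtain ⟨g, hg⟩ := hdvd
  exact ⟨g, by rw [← hg]; ring⟩

section suppMod

variable (h : IsCub A n) (P : ℕ → Prop) (hP : ∀ m γ, P m → n ≤ γ → P (m + γ))

/-- the monomial submodule of power series whose support satisfies `P` -/
def suppMod : Submodule A (PowerSeries k) where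
  carrier := {f | ∀ m, coeff m f ≠ 0 → P m}
  add_mem' := by
    intro f g hf hg m hm
    rw [map_add] at hm
    by_cases h0 : coeff m f = 0
    · rw [h0, zero_add] at hm
      exact hg m hm
    · exact hf m h0
  zero_mem' := by
    intro m hm
    simp at hm
  smul_mem' := by
    intro a f hf m hm
    rw [smul_eq_mul, coeff_mul] at hm
    obtain ⟨⟨p, q⟩, hpq, hne⟩ := Finset.exists_ne_zero_of_sum_ne_zero hm
    have hp : coeff p (a : PowerSeries k) ≠ 0 := left_ne_zero_of_mul hne
    have hq : coeff q f ≠ 0 := right_ne_zero_of_mul hne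
    rw [Finset.HasAntidiagonal.mem_antidiagonal] at hpq
    rcases (h a).mp a.2 p hp with h0 | hge
    · subst h0
      rw [zero_add] at hpq
      subst hpq
      exact hf _ hq
    · rw [← hpq, add_comm]
      exact hP q p (hf q hq) hge

theorem mem_suppMod {f : PowerSeries k} : f ∈ suppMod h P hP ↔ ∀ m, coeff m f ≠ 0 → P m := Iff.rfl

theorem X_pow_mem_suppMod {m : ℕ} (hm : P m) : (X : PowerSeries k) ^ m ∈ suppMod h P hP := by
  intro m' hm'
  rw [coeff_X_pow] at hm'
  by_cases hh : m' = m
  · rw [hh]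
    exact hm
  · rw [if_neg hh] at hm'
    exact absurd rfl hm'

theorem vA_suppMod : vA A (suppMod h P hP) = {m | P m} := by
  ext m
  constructor
  · rintro ⟨f, hf, hfm⟩
    exact hf m (Groth.Agent.Lib.helper27.PSLattice.coeff_ne_zero_of_order_eq hfm)
  · intro hm
    exact ⟨X ^ m, X_pow_mem_suppMod h P hP hm, order_X_pow m⟩

theorem le_order_mem_suppMod (c : ℕ) (hc : ∀ m, c ≤ m → P m) (f : PowerSeries k)
    (hf : (c : ℕ∞) ≤ order f) : f ∈ suppMod h P hP := by
  intro m hm
  apply hc
  have h1 : order f ≤ m := order_le m hm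
  exact_mod_cast hf.trans h1

theorem length_quot_suppMod [Module.Finite A (PowerSeries k)] [IsLocalRing A] (c : ℕ) (hcn : n ≤ c)
    (hc : ∀ m, c ≤ m → P m) :
    {m | ¬ P m}.Finite ∧
      Module.length A (PowerSeries k ⧸ suppMod h P hP) = (({m | ¬ P m}.ncard : ℕ) : ℕ∞) := by
  have hbig : ∀ f : PowerSeries k, (c : ℕ∞) ≤ PowerSeries.order f → f ∈ A := by
    intro f hf
    apply mem_of_le_order h
    refine le_trans ?_ hf
    exact_mod_cast hcn
  have := length_quot_eq A c hbig (suppMod h P hP) (le_order_mem_suppMod h P hP c hc)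
  rw [vA_suppMod] at this
  exact this

end suppMod

/-- generation of monomial modules -/
theorem exists_coeffs (h : IsCub A n) {e : ℕ} (d : Fin (e + 1) → ℕ) (hd : Function.Injective d)
    (hdn : ∀ j, d j < n) (hd0 : d 0 = 0) (f : PowerSeries k)
    (hf : ∀ m, m < n → coeff m f ≠ 0 → ∃ j, d j = m) :
    ∃ a : Fin (e + 1) → A, f = ∑ j, (a j : PowerSeries k) * X ^ d j := by
  obtain ⟨g, hg⟩ := exists_decomp d hd hdn f hf
  refine ⟨fun j => ⟨C (coeff (d j) f) + (if j = 0 then X ^ n * g else 0), ?_⟩, ?_⟩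
  · apply add_mem (C_mem _)
    split_ifs
    · exact X_pow_mul_mem h g
    · exact zero_mem _
  · conv_lhs => rw [hg]
    simp only [add_mul, Finset.sum_add_distrib]
    congr 1
    rw [Finset.sum_eq_single 0]
    · rw [if_pos rfl, hd0, pow_zero, mul_one]
    · intro j _ hj
      rw [if_neg hj, zero_mul]
    · intro h0
      exact absurd (Finset.mem_univ 0) h0

theorem finite_of_isCub (h : IsCub A n) (hn : 1 ≤ n) : Module.Finite A (PowerSeries k) := by
  obtain ⟨e, rfl⟩ : ∃ e, n = e + 1 := ⟨n - 1, by omega⟩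
  refine Module.Finite.of_surjective
    (Fintype.linearCombination A (fun j : Fin (e + 1) => (X : PowerSeries k) ^ (j : ℕ))) ?_
  intro f
  obtain ⟨a, ha⟩ := exists_coeffs h (fun j : Fin (e + 1) => (j : ℕ)) Fin.val_injective
    (fun j => j.2) rfl f (fun m hm _ => ⟨⟨m, hm⟩, rfl⟩)
  refine ⟨a, ?_⟩
  rw [Fintype.linearCombination_apply, ha]
  rfl

section mono

variable (h : IsCub A n) (P : ℕ → Prop) (hP : ∀ m γ, P m → n ≤ γ → P (m + γ))
  {Mm : Type u} [AddCommGroup Mm] [Module A Mm] (ι : Mm →ₗ[A] PowerSeries k)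
  (hr : LinearMap.range ι = suppMod h P hP)

include hr in
theorem XM_eq : XM (n := n) ι = suppMod h (fun m => n ≤ m ∧ P (m - n))
    (fun m γ hm hγ => ⟨by omega, by
      have : m + γ - n = (m - n) + γ := by omega
      rw [this]
      exact hP _ _ hm.2 hγ⟩) := by
  ext θ
  rw [mem_XM, mem_suppMod]
  constructor
  · rintro ⟨m', rfl⟩ m hm
    have hm' : ι m' ∈ suppMod h P hP := hr ▸ ⟨m', rfl⟩
    rw [coeff_X_pow_mul'] at hm
    by_cases hnm : n ≤ m
    · rw [if_pos hnm] at hm
      exact ⟨hnm, hm' _ hm⟩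
    · rw [if_neg hnm] at hm
      exact absurd rfl hm
  · intro hθ
    have hdvd : X ^ n ∣ θ := by
      rw [X_pow_dvd_iff]
      intro m hm
      by_contra hne
      have := (hθ m hne).1
      omega
    obtain ⟨f, rfl⟩ := hdvd
    have hf : f ∈ suppMod h P hP := by
      intro m hm
      have := (hθ (m + n) (by rw [coeff_X_pow_mul]; exact hm)).2
      rwa [Nat.add_sub_cancel] at this
    rw [← hr] at hf
    obtain ⟨m', rfl⟩ := hf
    exact ⟨m', rfl⟩

include hr in
theorem Nn_eq : Nn ι = suppMod h (fun m => ∀ j, P (m + j))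
    (fun m γ hm _ j => by
      rw [add_assoc]
      exact hm _) := by
  ext θ
  rw [mem_Nn, mem_suppMod]
  constructor
  · intro hθ m hm j
    have h1 : X ^ j * θ ∈ suppMod h P hP := hr ▸ hθ (X ^ j)
    exact h1 (m + j) (by rw [coeff_X_pow_mul]; exact hm)
  · intro hθ b
    rw [hr]
    intro m hm
    rw [coeff_mul] at hm
    obtain ⟨⟨p, q⟩, hpq, hne⟩ := Finset.exists_ne_zero_of_sum_ne_zero hm
    have hq : coeff q θ ≠ 0 := right_ne_zero_of_mul hne
    rw [Finset.HasAntidiagonal.mem_antidiagonal] at hpq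
    rw [← hpq, add_comm]
    exact hθ q hq p

include hr in
theorem EE_eq {e : ℕ} (v : Fin (e + 1) → Mm) (d : Fin (e + 1) → ℕ)
    (hv : ∀ j, ι (v j) = X ^ d j) :
    EE ι v = (suppMod h (fun s => P s ∧ ∀ l : Fin e, P (s + d l.succ))
      (fun m γ hm hγ => ⟨hP _ _ hm.1 hγ, fun l => by
        have : m + γ + d l.succ = (m + d l.succ) + γ := by omega
        rw [this]
        exact hP _ _ (hm.2 l) hγ⟩)).comap ι := by
  ext m₀
  rw [Submodule.mem_comap, mem_suppMod]
  have hm₀ : ι m₀ ∈ suppMod h P hP := hr ▸ ⟨m₀, rfl⟩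
  constructor
  · intro hE s hs
    refine ⟨hm₀ s hs, fun l => ?_⟩
    have h1 : ι (v l.succ) * ι m₀ ∈ suppMod h P hP := hr ▸ hE l
    rw [hv] at h1
    exact h1 (s + d l.succ) (by rw [coeff_X_pow_mul]; exact hs)
  · intro hE l
    change ι (v l.succ) * ι m₀ ∈ LinearMap.range ι
    rw [hr, hv]
    intro m hm
    rw [coeff_X_pow_mul'] at hm
    by_cases hdm : d l.succ ≤ m
    · rw [if_pos hdm] at hm
      have := (hE _ hm).2 l
      rwa [Nat.sub_add_cancel hdm] at this
    · rw [if_neg hdm] at hm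
      exact absurd rfl hm

/-- the length of `Mm / (E'.comap ι)` -/
theorem length_quot_comap (E' : Submodule A (PowerSeries k)) (hE : E' ≤ LinearMap.range ι) :
    Module.length A (PowerSeries k ⧸ E') =
      Module.length A (PowerSeries k ⧸ LinearMap.range ι) +
        Module.length A (Mm ⧸ E'.comap ι) := by
  rw [← rl_top', ← rl_top', ← rl_top', rl_map, Submodule.map_top]
  exact rl_add hE le_top

end mono

end Groth.Agent.Lib.helper15.CubExt
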