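import Mathlib
import Groth.Agent.Lib.Helper15.CubExt4

/-!
# `Ext¹` over the cubical monomial ring `A = k + tⁿ k[[t]]`, part 5 (helper15)

Auxiliary lemmas for the three applications: independence of monomials modulo `tⁿ`, generation of
monomial modules, counting lemmas and `ℕ∞`-arithmetic.
-/

set_option autoImplicit false
set_option linter.style.haveILetI false

universe u

namespace Groth.Agent.Lib.helper15.CubExt

open PowerSeries CategoryTheory Groth.Agent.Lib.helper15.RelLen Groth.Agent.Lib.helper15.PSCan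

variable {k : Type u} [Field k] {A : Subalgebra k (PowerSeries k)} {n : ℕ}

/-- monomials with distinct exponents below `n` are linearly independent modulo `tⁿ` -/
theorem indep_monomials {e : ℕ} (d : Fin (e + 1) → ℕ) (hd : Function.Injective d)
    (hdn : ∀ j, d j < n) (α : Fin (e + 1) → k)
    (hα : (X : PowerSeries k) ^ n ∣ ∑ j, C (α j) * X ^ d j) : α = 0 := by
  funext j₀
  rw [X_pow_dvd_iff] at hα
  have := hα (d j₀) (hdn j₀)
  rw [map_sum] at this
  simp only [coeff_C_mul, coeff_X_pow] at this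
  rw [Finset.sum_eq_single j₀] at this
  · simpa using this
  · intro j _ hne
    rw [if_neg (fun hh => hne (hd hh.symm)), mul_zero]
  · intro hj
    exact absurd (Finset.mem_univ j₀) hj

/-- a monomial module is generated by its monomials below `n` -/
theorem span_range_eq_top (h : IsCub A n) (P : ℕ → Prop) (hP : ∀ m γ, P m → n ≤ γ → P (m + γ))
    {e : ℕ} (d : Fin (e + 1) → ℕ) (hd : Function.Injective d) (hdn : ∀ j, d j < n)
    (hd0 : d 0 = 0) (hPd : ∀ m, m < n → P m → ∃ j, d j = m)
    (v : Fin (e + 1) → ↥(suppMod h P hP)) (hv : ∀ j, ((v j : ↥(suppMod h P hP)) : PowerSeries k) = X ^ d j) :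
    Submodule.span A (Set.range v) = ⊤ := by
  rw [_root_.eq_top_iff]
  rintro x -
  obtain ⟨a, ha⟩ := exists_coeffs h d hd hdn hd0 (x : PowerSeries k)
    (fun m hm hne => hPd m hm (x.2 m hne))
  have hx : x = ∑ j, a j • v j := by
    apply Subtype.ext
    rw [ha, Submodule.coe_sum]
    refine Finset.sum_congr rfl (fun j _ => ?_)
    rw [Submodule.coe_smul, hv, smul_eq_mul]
  rw [hx]
  exact Submodule.sum_mem _ (fun j _ => Submodule.smul_mem _ _ (Submodule.subset_span ⟨j, rfl⟩))

/-- counting the complement of a condition which fails exactly on two intervals -/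
theorem ncard_two_Ico (Q : ℕ → Prop) (a b c d : ℕ) (hbc : b ≤ c)
    (hQ : ∀ m, ¬ Q m ↔ (a ≤ m ∧ m < b) ∨ (c ≤ m ∧ m < d)) :
    {m | ¬ Q m}.ncard = (b - a) + (d - c) := by
  have hset : {m | ¬ Q m} = ↑(Finset.Ico a b ∪ Finset.Ico c d) := by
    ext m
    simp only [Set.mem_ofPred_eq, Finset.coe_union, Finset.coe_Ico, Set.mem_union, Set.mem_Ico]
    exact hQ m
  rw [hset, Set.ncard_coe_finset, Finset.card_union_of_disjoint, Nat.card_Ico, Nat.card_Ico]
  rw [Finset.disjoint_left]
  intro m hm hm'
  rw [Finset.mem_Ico] at hm hm'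
  omega

theorem enat_aux {a b : ℕ} {E : ℕ∞} (hh : (a : ℕ∞) = (b : ℕ∞) + E) :
    ∃ E' : ℕ, E = E' ∧ a = b + E' := by
  have hE : E ≠ ⊤ := by
    rintro rfl
    simp at hh
  lift E to ℕ using hE
  exact ⟨E, rfl, by exact_mod_cast hh⟩

end Groth.Agent.Lib.helper15.CubExt
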