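import Mathlib
import Groth.Agent.S7977

/-!
# Bialgebra maps between group algebras over a connected ring; splitting of lattices (helper15)

* `exists_monoidHom_of_bialgHom`: over a nontrivial ring `C` with only trivial idempotents every
  bialgebra map `C[N] → C[M]` is induced by a unique monoid hom `N → M` (universe-general form of
  `S7977`).
* `exists_retraction`: if `f : N → M` is an injective hom of abelian groups which is the kernel of
  `g : M → L` with `L` free of finite rank, then `f` has a retraction.
-/

set_option autoImplicit false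
universe u v w

namespace Groth.Agent.Lib.helper15.GroupAlgHom

theorem exists_monoidHom_of_bialgHom {C : Type u} [CommRing C] [Nontrivial C]
    (hconn : ∀ e : C, IsIdempotentElem e → e = 0 ∨ e = 1)
    {M : Type v} {N : Type w} [CommGroup M] [CommGroup N]
    (φ : MonoidAlgebra C N →ₐc[C] MonoidAlgebra C M) :
    ∃ f : N →* M, ∀ n : N, φ (MonoidAlgebra.single n 1) = MonoidAlgebra.single (f n) 1 := by
  classical
  have key : ∀ n : N, ∃ m : M, φ (MonoidAlgebra.single n 1) = MonoidAlgebra.single m 1 := fun n =>
    Groth.Agent.S7977.groupLike_eq_single hconn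
      ((MonoidAlgebra.isGroupLikeElem_single_one (R := C) (A := C) n).map φ)
  choose f hf using key
  have hinj := MonoidAlgebra.single_left_injective (R := C) (M := M) (one_ne_zero (α := C))
  refine ⟨⟨⟨f, ?_⟩, ?_⟩, hf⟩
  · apply hinj
    simp only
    rw [← hf, ← MonoidAlgebra.one_def, map_one, MonoidAlgebra.one_def]
  · intro a b
    apply hinj
    simp only
    rw [← hf, ← mul_one (1 : C), ← MonoidAlgebra.single_mul_single, map_mul, hf, hf,
      MonoidAlgebra.single_mul_single]

theorem eq_mapDomainBialgHom {C : Type u} [CommRing C]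
    {M : Type v} {N : Type w} [CommGroup M] [CommGroup N]
    (φ : MonoidAlgebra C N →ₐc[C] MonoidAlgebra C M) (f : N →* M)
    (hf : ∀ n : N, φ (MonoidAlgebra.single n 1) = MonoidAlgebra.single (f n) 1) :
    φ = MonoidAlgebra.mapDomainBialgHom C f := by
  ext x : 1
  · rw [MonoidAlgebra.mapDomainBialgHom_single]
    exact hf x
  · ext

theorem exists_retraction {N M L : Type*} [AddCommGroup N] [AddCommGroup M] [AddCommGroup L]
    {ι : Type*} [Finite ι] (b : Module.Basis ι ℤ L)
    (f : N →+ M) (g : M →+ L) (hf : Function.Injective f)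
    (hker : ∀ m, g m = 0 → ∃ n, f n = m) (hgf : ∀ n, g (f n) = 0) :
    ∃ r : M →+ N, ∀ n, r (f n) = n := by
  let g' : M →ₗ[ℤ] L := g.toIntLinearMap
  obtain ⟨n, ⟨bR⟩⟩ := Submodule.nonempty_basis_of_pid b (LinearMap.range g')
  have hfree : Module.Free ℤ (LinearMap.range g') := Module.Free.of_basis bR
  obtain ⟨s, hs⟩ := Module.projective_lifting_property g'.rangeRestrict LinearMap.id
    g'.surjective_rangeRestrict
  have hs' : ∀ y : LinearMap.range g', g (s y) = y := by
    intro y
    have := congrArg (fun h : LinearMap.range g' →ₗ[ℤ] LinearMap.range g' => (h y : L))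
      hs
    exact this
  have hp : ∀ m, ∃ n, f n = m - s (g'.rangeRestrict m) := fun m => hker _ (by
    rw [map_sub, hs']
    exact sub_self _)
  choose r hr using hp
  refine ⟨AddMonoidHom.mk' r (fun a b => hf ?_), fun n => hf ?_⟩
  · rw [map_add, hr, hr, hr, map_add, map_add]
    abel
  · change f (r (f n)) = f n
    rw [hr]
    have h0 : g'.rangeRestrict (f n) = 0 := Subtype.ext (hgf n)
    rw [h0, map_zero, sub_zero]

end Groth.Agent.Lib.helper15.GroupAlgHom
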