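import Mathlib

/-!
# The commutative ring `R ⊕ M` attached to a symmetric pairing `M × M → R` (helper15)

For a module `M` over a commutative ring `R` with a symmetric bilinear pairing `μ : M × M → R`
satisfying `μ(x, y) z = μ(y, z) x` (automatic for `M` locally generated by one element), the
product `(r, x) (s, y) = (r s + μ(x, y), r y + s x)` makes `R × M` a commutative ring.
-/

set_option autoImplicit false
universe u v

namespace Groth.Agent.Lib.helper15.DblAlg

/-- a symmetric "associative" pairing -/
structure Pairing (R : Type u) (M : Type v) [CommRing R] [AddCommGroup M] [Module R M] where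
  μ : M → M → R
  add_left : ∀ x x' y, μ (x + x') y = μ x y + μ x' y
  smul_left : ∀ (r : R) x y, μ (r • x) y = r * μ x y
  symm : ∀ x y, μ x y = μ y x
  assoc : ∀ x y z, μ x y • z = μ y z • x

variable {R : Type u} {M : Type v} [CommRing R] [AddCommGroup M] [Module R M]

namespace Pairing

variable (D : Pairing R M)

theorem add_right (x y y' : M) : D.μ x (y + y') = D.μ x y + D.μ x y' := by
  rw [D.symm, D.add_left, D.symm y, D.symm y']

theorem smul_right (r : R) (x y : M) : D.μ x (r • y) = r * D.μ x y := by
  rw [D.symm, D.smul_left, D.symm]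

theorem zero_left (y : M) : D.μ 0 y = 0 := by
  have := D.smul_left 0 0 y
  rwa [zero_smul, zero_mul] at this

theorem zero_right (x : M) : D.μ x 0 = 0 := by rw [D.symm, D.zero_left]

end Pairing

/-- the ring `R ⊕ M` -/
@[ext]
structure DblRing (D : Pairing R M) where
  fst : R
  snd : M

namespace DblRing

variable {D : Pairing R M}

instance : Zero (DblRing D) := ⟨⟨0, 0⟩⟩
instance : One (DblRing D) := ⟨⟨1, 0⟩⟩
instance : Add (DblRing D) := ⟨fun a b => ⟨a.fst + b.fst, a.snd + b.snd⟩⟩
instance : Neg (DblRing D) := ⟨fun a => ⟨-a.fst, -a.snd⟩⟩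
instance : Mul (DblRing D) :=
  ⟨fun a b => ⟨a.fst * b.fst + D.μ a.snd b.snd, a.fst • b.snd + b.fst • a.snd⟩⟩

@[simp] theorem zero_fst : (0 : DblRing D).fst = 0 := rfl
@[simp] theorem zero_snd : (0 : DblRing D).snd = 0 := rfl
@[simp] theorem one_fst : (1 : DblRing D).fst = 1 := rfl
@[simp] theorem one_snd : (1 : DblRing D).snd = 0 := rfl
@[simp] theorem add_fst (a b : DblRing D) : (a + b).fst = a.fst + b.fst := rfl
@[simp] theorem add_snd (a b : DblRing D) : (a + b).snd = a.snd + b.snd := rfl
@[simp] theorem neg_fst (a : DblRing D) : (-a).fst = -a.fst := rfl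
@[simp] theorem neg_snd (a : DblRing D) : (-a).snd = -a.snd := rfl
@[simp] theorem mul_fst (a b : DblRing D) : (a * b).fst = a.fst * b.fst + D.μ a.snd b.snd := rfl
@[simp] theorem mul_snd (a b : DblRing D) : (a * b).snd = a.fst • b.snd + b.fst • a.snd := rfl

instance : AddCommGroup (DblRing D) where
  add_assoc a b c := by ext <;> simp [add_assoc]
  zero_add a := by ext <;> simp
  add_zero a := by ext <;> simp
  nsmul := nsmulRec
  zsmul := zsmulRec
  neg_add_cancel a := by ext <;> simp
  add_comm a b := by ext <;> simp [add_comm]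

instance : CommRing (DblRing D) where
  left_distrib a b c := by
    ext
    · simp [D.add_right]; ring
    · simp; module
  right_distrib a b c := by
    ext
    · simp [D.add_left]; ring
    · simp; module
  zero_mul a := by ext <;> simp [D.zero_left]
  mul_zero a := by ext <;> simp [D.zero_right]
  mul_assoc a b c := by
    ext
    · simp [D.add_left, D.add_right, D.smul_left, D.smul_right]; ring
    · simp only [mul_fst, mul_snd]
      have h := D.assoc a.snd b.snd c.snd
      rw [add_smul, h]
      module
  one_mul a := by ext <;> simp [D.zero_left]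
  mul_one a := by ext <;> simp [D.zero_right]
  mul_comm a b := by
    ext
    · simp [mul_comm, D.symm]
    · simp [add_comm]

/-- the structure map `R → R ⊕ M` -/
def inl (D : Pairing R M) : R →+* DblRing D where
  toFun r := ⟨r, 0⟩
  map_one' := rfl
  map_mul' r s := by ext <;> simp [D.zero_left]
  map_zero' := rfl
  map_add' r s := by ext <;> simp

@[simp] theorem inl_fst (r : R) : (inl D r).fst = r := rfl
@[simp] theorem inl_snd (r : R) : (inl D r).snd = 0 := rfl

/-- functoriality -/
def map {R' : Type u} {M' : Type v} [CommRing R'] [AddCommGroup M'] [Module R' M']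
    (D : Pairing R M) (D' : Pairing R' M') (φ : R →+* R') (g : M →+ M')
    (hg : ∀ (r : R) (x : M), g (r • x) = φ r • g x)
    (hμ : ∀ x y, D'.μ (g x) (g y) = φ (D.μ x y)) : DblRing D →+* DblRing D' where
  toFun a := ⟨φ a.fst, g a.snd⟩
  map_one' := by ext <;> simp
  map_mul' a b := by ext <;> simp [hg, hμ]
  map_zero' := by ext <;> simp
  map_add' a b := by ext <;> simp

@[simp] theorem map_fst {R' : Type u} {M' : Type v} [CommRing R'] [AddCommGroup M'] [Module R' M']
    (D : Pairing R M) (D' : Pairing R' M') (φ : R →+* R') (g : M →+ M') (hg) (hμ)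
    (a : DblRing D) : (map D D' φ g hg hμ a).fst = φ a.fst := rfl

@[simp] theorem map_snd {R' : Type u} {M' : Type v} [CommRing R'] [AddCommGroup M'] [Module R' M']
    (D : Pairing R M) (D' : Pairing R' M') (φ : R →+* R') (g : M →+ M') (hg) (hμ)
    (a : DblRing D) : (map D D' φ g hg hμ a).snd = g a.snd := rfl

end DblRing

end Groth.Agent.Lib.helper15.DblAlg
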