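import Mathlib
import Groth.Prelude.Def_FinCov
import Groth.Agent.Lib.Helper15.DblAlg1

/-!
# The pairing on sections attached to `m : L ⊗ L → O` (helper15)
-/

set_option autoImplicit false
set_option linter.style.haveILetI false
universe u
open CategoryTheory CategoryTheory.Limits AlgebraicGeometry TopologicalSpace Opposite

namespace Groth.Agent.Lib.helper15.DblAlg

variable {X : Scheme.{u}}

theorem tmul_add_left (M N : X.Modules) (U : X.Opens) (a a' : M.val.obj (op U))
    (n : N.val.obj (op U)) :
    SecTwist.tmul M N U (a + a') n = SecTwist.tmul M N U a n + SecTwist.tmul M N U a' n := by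
  unfold SecTwist.tmul
  rw [TensorProduct.add_tmul]
  exact map_add ((SecTwist.toTensor M N).app (op U)).hom _ _

theorem tmul_add_right (M N : X.Modules) (U : X.Opens) (a : M.val.obj (op U))
    (n n' : N.val.obj (op U)) :
    SecTwist.tmul M N U a (n + n') = SecTwist.tmul M N U a n + SecTwist.tmul M N U a n' := by
  unfold SecTwist.tmul
  rw [TensorProduct.tmul_add]
  exact map_add ((SecTwist.toTensor M N).app (op U)).hom _ _

theorem tmul_smul_left (M N : X.Modules) (U : X.Opens) (r : X.ringCatSheaf.obj.obj (op U))
    (a : M.val.obj (op U)) (n : N.val.obj (op U)) :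
    SecTwist.tmul M N U (r • a) n = r • SecTwist.tmul M N U a n := by
  unfold SecTwist.tmul
  exact ((SecTwist.toTensor M N).app (op U)).hom.map_smul r (a ⊗ₜ n)

theorem tmul_smul_right (M N : X.Modules) (U : X.Opens) (r : X.ringCatSheaf.obj.obj (op U))
    (a : M.val.obj (op U)) (n : N.val.obj (op U)) :
    SecTwist.tmul M N U a (r • n) = r • SecTwist.tmul M N U a n := by
  rw [← tmul_smul_left]
  unfold SecTwist.tmul
  have h : (a ⊗ₜ (r • n) : ↥((CohB1.tensorPre M N).obj (op U))) =
      ((r • a) ⊗ₜ n : ↥((CohB1.tensorPre M N).obj (op U))) :=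
    (TensorProduct.smul_tmul
      (R := (X.sheaf.obj ⋙ forget₂ CommRingCat RingCat).obj (op U))
      (R' := (X.sheaf.obj ⋙ forget₂ CommRingCat RingCat).obj (op U))
      (M := (CohB1.toPMod M).obj (op U)) (N := (CohB1.toPMod N).obj (op U)) r a n).symm
  rw [h]

variable (L : X.Modules) (m : CohB1.tensorMod L L ⟶ Coh.structureModule X)

/-- the pairing on sections -/
noncomputable def mu (U : X.Opens) (x y : L.val.obj (op U)) : Γ(X, U) :=
  (m.val.app (op U)).hom (SecTwist.tmul L L U x y)

theorem mu_add_left (U : X.Opens) (x x' y : L.val.obj (op U)) :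
    mu L m U (x + x') y = mu L m U x y + mu L m U x' y := by
  unfold mu
  rw [tmul_add_left]
  exact map_add (m.val.app (op U)).hom _ _

theorem mu_add_right (U : X.Opens) (x y y' : L.val.obj (op U)) :
    mu L m U x (y + y') = mu L m U x y + mu L m U x y' := by
  unfold mu
  rw [tmul_add_right]
  exact map_add (m.val.app (op U)).hom _ _

theorem mu_smul_left (U : X.Opens) (r : Γ(X, U)) (x y : Γ(L, U)) :
    mu L m U (r • x) y = r * mu L m U x y := by
  unfold mu
  have h1 := tmul_smul_left L L U r x y
  have h2 := (m.val.app (op U)).hom.map_smul r (SecTwist.tmul L L U x y)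
  exact (congrArg (m.val.app (op U)).hom h1).trans h2

theorem mu_smul_right (U : X.Opens) (r : Γ(X, U)) (x y : Γ(L, U)) :
    mu L m U x (r • y) = r * mu L m U x y := by
  unfold mu
  have h1 := tmul_smul_right L L U r x y
  have h2 := (m.val.app (op U)).hom.map_smul r (SecTwist.tmul L L U x y)
  exact (congrArg (m.val.app (op U)).hom h1).trans h2

theorem mu_res {U V : X.Opens} (i : V ⟶ U) (x y : L.val.obj (op U)) :
    mu L m V (L.val.map i.op x) (L.val.map i.op y) =
      (X.presheaf.map i.op).hom (mu L m U x y) := by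
  unfold mu
  have h1 := SecTwist.map_tmul L L i x y
  have h2 := PresheafOfModules.naturality_apply m.val i.op (SecTwist.tmul L L U x y)
  exact (congrArg (m.val.app (op V)).hom h1.symm).trans h2

end Groth.Agent.Lib.helper15.DblAlg
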