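import Mathlib
import Groth.Prelude.Def_FinCov
import Groth.Agent.Lib.Helper15.DblAlg2
import Groth.Agent.Lib.Helper2.ModSec
import Groth.Agent.Lib.Helper16.FLF5

/-!
# Symmetry and associativity of the pairing of an invertible module (helper15)
-/

set_option autoImplicit false
set_option linter.style.haveILetI false
universe u
open CategoryTheory CategoryTheory.Limits AlgebraicGeometry TopologicalSpace Opposite

namespace Groth.Agent.Lib.helper15.DblAlg

open Groth.Agent.Lib.helper16.FLF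

variable {X : Scheme.{u}} (L : X.Modules) (m : CohB1.tensorMod L L ⟶ Coh.structureModule X)

/-- local generators of an invertible module, on a basis -/
theorem exists_gen (hL : PicF.IsInvertible L) (W : X.Opens) (x : X) (hx : x ∈ W) :
    ∃ V : X.Opens, V ≤ W ∧ x ∈ V ∧ ∃ e : Γ(L, V), ∀ l : Γ(L, V), ∃ a : Γ(X, V), l = a • e := by
  have hL1 := (isInvertible_iff_isFinLocFreeOfRank_one L).mp hL
  obtain ⟨U, hxU, ⟨iso⟩⟩ := hL1 x
  obtain ⟨V, hV, hxV, hVU⟩ := Opens.isBasis_iff_nbhd.mp X.isBasis_affineOpens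
    (show x ∈ U ⊓ W from ⟨hxU, hx⟩)
  obtain ⟨iso'⟩ := restrict_iso_freeMod_of_le L (hVU.trans inf_le_left) 1 iso
  obtain ⟨eL⟩ := sections_of_restrict_iso_freeMod L hV 1 iso'
  refine ⟨V, hVU.trans inf_le_right, hxV, eL.symm (fun _ => 1), fun l => ⟨eL l 0, ?_⟩⟩
  apply eL.injective
  rw [map_smul, LinearEquiv.apply_symm_apply]
  ext i
  fin_cases i
  simp

theorem mu_symm (hL : PicF.IsInvertible L) (U : X.Opens) (x y : Γ(L, U)) :
    mu L m U x y = mu L m U y x := by
  have hex : ∀ p : U, ∃ V : X.Opens, V ≤ U ∧ p.1 ∈ V ∧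
      ∃ e : Γ(L, V), ∀ l : Γ(L, V), ∃ a : Γ(X, V), l = a • e :=
    fun p => exists_gen L hL U p.1 p.2
  choose V hVU hpV e he using hex
  refine X.sheaf.eq_of_locally_eq' (fun p : U => V p) U (fun p => homOfLE (hVU p)) ?_ _ _ ?_
  · intro y hy
    exact Opens.mem_iSup.mpr ⟨⟨y, hy⟩, hpV ⟨y, hy⟩⟩
  · intro p
    have h1 := mu_res L m (homOfLE (hVU p)) x y
    have h2 := mu_res L m (homOfLE (hVU p)) y x
    refine h1.symm.trans (Eq.trans ?_ h2)
    obtain ⟨a, ha⟩ := he p (L.presheaf.map (homOfLE (hVU p)).op x)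
    obtain ⟨b, hb⟩ := he p (L.presheaf.map (homOfLE (hVU p)).op y)
    have ha' : L.val.map (homOfLE (hVU p)).op x = a • e p := ha
    have hb' : L.val.map (homOfLE (hVU p)).op y = b • e p := hb
    rw [ha', hb', mu_smul_left, mu_smul_right, mu_smul_left, mu_smul_right]
    ring

theorem mu_assoc (hL : PicF.IsInvertible L) (U : X.Opens) (x y z : Γ(L, U)) :
    mu L m U x y • z = mu L m U y z • x := by
  have hex : ∀ p : U, ∃ V : X.Opens, V ≤ U ∧ p.1 ∈ V ∧
      ∃ e : Γ(L, V), ∀ l : Γ(L, V), ∃ a : Γ(X, V), l = a • e :=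
    fun p => exists_gen L hL U p.1 p.2
  choose V hVU hpV e he using hex
  refine (Groth.Agent.Lib.helper2.ModSec.sheaf L).eq_of_locally_eq' (fun p : U => V p) U
    (fun p => homOfLE (hVU p)) ?_ _ _ ?_
  · intro y hy
    exact Opens.mem_iSup.mpr ⟨⟨y, hy⟩, hpV ⟨y, hy⟩⟩
  · intro p
    have h1 : X.presheaf.map (homOfLE (hVU p)).op (mu L m U x y) = _ :=
      (mu_res L m (homOfLE (hVU p)) x y).symm
    have h2 : X.presheaf.map (homOfLE (hVU p)).op (mu L m U y z) = _ :=
      (mu_res L m (homOfLE (hVU p)) y z).symm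
    have h3 := Scheme.Modules.map_smul L (homOfLE (hVU p)) (mu L m U x y) z
    have h4 := Scheme.Modules.map_smul L (homOfLE (hVU p)) (mu L m U y z) x
    refine h3.trans (Eq.trans ?_ h4.symm)
    rw [h1, h2]
    obtain ⟨a, ha⟩ := he p (L.presheaf.map (homOfLE (hVU p)).op x)
    obtain ⟨b, hb⟩ := he p (L.presheaf.map (homOfLE (hVU p)).op y)
    obtain ⟨c, hc⟩ := he p (L.presheaf.map (homOfLE (hVU p)).op z)
    have ha' : L.val.map (homOfLE (hVU p)).op x = a • e p := ha
    have hb' : L.val.map (homOfLE (hVU p)).op y = b • e p := hb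
    have hc' : L.val.map (homOfLE (hVU p)).op z = c • e p := hc
    rw [ha', hb', hc', mu_smul_left, mu_smul_right, mu_smul_left, mu_smul_right, ha, hc,
      smul_smul, smul_smul]
    congr 1
    ring

end Groth.Agent.Lib.helper15.DblAlg
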