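import Mathlib
import Groth.Prelude.Def_FinCov
import Groth.Agent.Lib.Helper15.DblAlg3

/-!
# The sheaf of rings `O ⊕ L` (helper15)
-/

set_option autoImplicit false
set_option linter.style.haveILetI false
universe u
open CategoryTheory CategoryTheory.Limits AlgebraicGeometry TopologicalSpace Opposite

namespace Groth.Agent.Lib.helper15.DblAlg

variable {X : Scheme.{u}} (L : X.Modules) (m : CohB1.tensorMod L L ⟶ Coh.structureModule X)
  (hL : PicF.IsInvertible L)

/-- the pairing on sections over `U` -/
noncomputable def pairing (U : X.Opens) : Pairing Γ(X, U) Γ(L, U) where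
  μ := mu L m U
  add_left := mu_add_left L m U
  smul_left := mu_smul_left L m U
  symm := mu_symm L m hL U
  assoc := mu_assoc L m hL U

/-- the restriction maps of `O ⊕ L` -/
noncomputable def resMap {U V : X.Opens} (i : V ⟶ U) :
    DblRing (pairing L m hL U) →+* DblRing (pairing L m hL V) :=
  DblRing.map (pairing L m hL U) (pairing L m hL V) (X.presheaf.map i.op).hom
    (L.presheaf.map i.op).hom
    (fun r x => Scheme.Modules.map_smul L i r x)
    (fun x y => mu_res L m i x y)

@[simp] theorem resMap_fst {U V : X.Opens} (i : V ⟶ U) (a : DblRing (pairing L m hL U)) :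
    (resMap L m hL i a).fst = X.presheaf.map i.op a.fst := rfl

@[simp] theorem resMap_snd {U V : X.Opens} (i : V ⟶ U) (a : DblRing (pairing L m hL U)) :
    (resMap L m hL i a).snd = L.presheaf.map i.op a.snd := rfl

/-- the presheaf of rings `O ⊕ L` -/
noncomputable def dblPresheaf : TopCat.Presheaf CommRingCat.{u} X.carrier where
  obj U := CommRingCat.of (DblRing (pairing L m hL U.unop))
  map {U V} i := CommRingCat.ofHom (resMap L m hL i.unop)
  map_id U := by
    ext a
    · change X.presheaf.map (𝟙 U) a.fst = a.fst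
      simp
    · change L.presheaf.map (𝟙 U) a.snd = a.snd
      simp
  map_comp {U V W} i j := by
    ext a
    · change X.presheaf.map (i ≫ j) a.fst = X.presheaf.map j (X.presheaf.map i a.fst)
      simp
    · change L.presheaf.map (i ≫ j) a.snd = L.presheaf.map j (L.presheaf.map i a.snd)
      simp

/-- the structure map -/
noncomputable def dblStr : X.presheaf ⟶ dblPresheaf L m hL where
  app U := CommRingCat.ofHom (DblRing.inl (pairing L m hL U.unop))
  naturality U V i := by
    ext r
    apply DblRing.ext
    · rfl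
    · change (0 : Γ(L, V.unop)) = L.presheaf.map i (0 : Γ(L, U.unop))
      simp

theorem dblPresheaf_isSheaf : (dblPresheaf L m hL).IsSheaf := by
  rw [TopCat.Presheaf.isSheaf_iff_isSheafUniqueGluing]
  intro ι U sf hsf
  let sf' : ∀ i, DblRing (pairing L m hL (U i)) := sf
  have h1 : TopCat.Presheaf.IsCompatible X.presheaf U (fun i => (sf' i).fst) :=
    fun i j => congrArg DblRing.fst (hsf i j)
  have h2 : TopCat.Presheaf.IsCompatible L.presheaf U (fun i => (sf' i).snd) :=
    fun i j => congrArg DblRing.snd (hsf i j)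
  obtain ⟨s, hs, hs'⟩ := X.sheaf.existsUnique_gluing U _ h1
  obtain ⟨l, hl, hl'⟩ := (Groth.Agent.Lib.helper2.ModSec.sheaf L).existsUnique_gluing U _ h2
  refine ⟨(⟨s, l⟩ : DblRing (pairing L m hL (iSup U))), fun i => DblRing.ext (hs i) (hl i),
    fun a ha => ?_⟩
  obtain ⟨a', rfl⟩ : ∃ a' : DblRing (pairing L m hL (iSup U)), a' = a := ⟨a, rfl⟩
  exact DblRing.ext (hs' a'.fst fun i => congrArg DblRing.fst (ha i))
    (hl' a'.snd fun i => congrArg DblRing.snd (ha i))

end Groth.Agent.Lib.helper15.DblAlg
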