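import Mathlib
import Groth.Prelude.Def_FinCov
import Groth.Agent.Lib.Helper15.DblAlg4
import Groth.Agent.Lib.Helper7.QCohAffine

/-!
# The quasi-coherent algebra `O ⊕ L` (helper15)
-/

set_option autoImplicit false
set_option linter.style.haveILetI false
universe u v
open CategoryTheory CategoryTheory.Limits AlgebraicGeometry TopologicalSpace Opposite

namespace Groth.Agent.Lib.helper15.DblAlg

section alg

variable {R : Type u} {M : Type v} [CommRing R] [AddCommGroup M] [Module R M] (D : Pairing R M)

@[simp] theorem inl_mul_fst (t : R) (a : DblRing D) : (DblRing.inl D t * a).fst = t * a.fst := by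
  simp [D.zero_left]

@[simp] theorem inl_mul_snd (t : R) (a : DblRing D) : (DblRing.inl D t * a).snd = t • a.snd := by
  simp

@[simp] theorem mul_inl_fst (t : R) (a : DblRing D) : (a * DblRing.inl D t).fst = a.fst * t := by
  simp [D.zero_right]

@[simp] theorem mul_inl_snd (t : R) (a : DblRing D) : (a * DblRing.inl D t).snd = t • a.snd := by
  simp

end alg

variable {X : Scheme.{u}} (L : X.Modules) (m : CohB1.tensorMod L L ⟶ Coh.structureModule X)
  (hL : PicF.IsInvertible L)

theorem resMap_inl {U V : X.Opens} (i : V ⟶ U) (t : Γ(X, U)) :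
    resMap L m hL i (DblRing.inl _ t) = DblRing.inl _ (X.presheaf.map i.op t) := by
  apply DblRing.ext
  · rfl
  · change L.presheaf.map i.op (0 : Γ(L, U)) = 0
    simp

theorem dbl_isQC [L.IsQuasicoherent] : RelSpec.IsQC (dblPresheaf L m hL) (dblStr L m hL) := by
  intro U hU r
  letI : Algebra (DblRing (pairing L m hL U)) (DblRing (pairing L m hL (X.basicOpen r))) :=
    (resMap L m hL (homOfLE (X.basicOpen_le r))).toAlgebra
  change IsLocalization (Submonoid.powers (DblRing.inl (pairing L m hL U) r))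
    (DblRing (pairing L m hL (X.basicOpen r)))
  have hloc := hU.isLocalization_basicOpen r
  have hunit : IsUnit (X.presheaf.map (homOfLE (X.basicOpen_le r)).op r) :=
    RingedSpace.isUnit_res_basicOpen X.toRingedSpace r
  have halg : ∀ a : DblRing (pairing L m hL U),
      algebraMap (DblRing (pairing L m hL U)) (DblRing (pairing L m hL (X.basicOpen r))) a =
        resMap L m hL (homOfLE (X.basicOpen_le r)) a := fun a => rfl
  rw [isLocalization_iff]
  refine ⟨?_, ?_, ?_⟩
  · rintro ⟨_, n, rfl⟩
    rw [halg, map_pow, resMap_inl]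
    exact ((hunit.map (DblRing.inl _))).pow n
  · intro z
    obtain ⟨n1, a, ha⟩ := IsLocalization.Away.surj r z.fst
    obtain ⟨n2, l', hl'⟩ := Groth.Agent.Lib.helper7.exists_pow_smul_eq_map_of_isAffineOpen hU L r
      z.snd
    refine ⟨(⟨r ^ n2 * a, r ^ n1 • l'⟩, ⟨_, n1 + n2, rfl⟩), ?_⟩
    rw [halg, halg, map_pow, resMap_inl, ← map_pow]
    apply DblRing.ext
    · rw [mul_inl_fst, resMap_fst]
      have ha' : z.fst * (X.presheaf.map (homOfLE (X.basicOpen_le r)).op).hom r ^ n1 =
          (X.presheaf.map (homOfLE (X.basicOpen_le r)).op).hom a := ha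
      change z.fst * (X.presheaf.map (homOfLE (X.basicOpen_le r)).op).hom r ^ (n1 + n2) =
        (X.presheaf.map (homOfLE (X.basicOpen_le r)).op).hom (r ^ n2 * a)
      rw [map_mul, map_pow, ← ha', pow_add]
      ring
    · rw [mul_inl_snd, resMap_snd]
      change (X.presheaf.map (homOfLE (X.basicOpen_le r)).op r) ^ (n1 + n2) • z.snd =
        L.presheaf.map (homOfLE (X.basicOpen_le r)).op (r ^ n1 • l')
      rw [Scheme.Modules.map_smul, hl', map_pow, smul_smul, pow_add]
  · intro x y hxy
    rw [halg, halg] at hxy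
    have h1 : X.presheaf.map (homOfLE (X.basicOpen_le r)).op x.fst =
        X.presheaf.map (homOfLE (X.basicOpen_le r)).op y.fst := congrArg DblRing.fst hxy
    have h2 : L.presheaf.map (homOfLE (X.basicOpen_le r)).op x.snd =
        L.presheaf.map (homOfLE (X.basicOpen_le r)).op y.snd := congrArg DblRing.snd hxy
    obtain ⟨⟨_, n1, rfl⟩, hc⟩ :=
      (IsLocalization.eq_iff_exists (Submonoid.powers r) Γ(X, X.basicOpen r)).mp h1
    have h0 : L.presheaf.map (homOfLE (X.basicOpen_le r)).op (x.snd - y.snd) = 0 := by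
      rw [map_sub, h2, sub_self]
    obtain ⟨n2, hn2⟩ := Groth.Agent.Lib.helper7.exists_pow_smul_eq_zero_of_isAffineOpen hU L r _ h0
    refine ⟨⟨_, n1 + n2, rfl⟩, ?_⟩
    change DblRing.inl _ r ^ (n1 + n2) * x = DblRing.inl _ r ^ (n1 + n2) * y
    rw [← map_pow]
    apply DblRing.ext
    · rw [inl_mul_fst, inl_mul_fst, pow_add, mul_comm (r ^ n1), mul_assoc, mul_assoc]
      exact congrArg (r ^ n2 * ·) hc
    · rw [inl_mul_snd, inl_mul_snd, ← sub_eq_zero, ← smul_sub, pow_add, mul_smul, hn2, smul_zero]

end Groth.Agent.Lib.helper15.DblAlg
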