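import Mathlib
import Groth.Prelude.Def_FinCov
import Groth.Agent.Lib.Helper15.DblAlg5

/-!
# Existence of the algebra `O ⊕ L` with product given by a pairing (helper15)

`exists_isDblAlg`: for `L` invertible and `m : L ⊗ L ⟶ O`, there are a quasi-coherent algebra `A`
and `j : L ⟶ A` with `FinCov.IsDblAlg L m A j`.
-/

set_option autoImplicit false
set_option linter.style.haveILetI false
universe u v
open CategoryTheory CategoryTheory.Limits AlgebraicGeometry TopologicalSpace Opposite

namespace Groth.Agent.Lib.helper15.DblAlg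

open Groth.Agent.Lib.helper16.FLF

section alg

variable {R : Type u} {M : Type v} [CommRing R] [AddCommGroup M] [Module R M] (D : Pairing R M)

/-- the inclusion of the second summand -/
def inr : M →+ DblRing D where
  toFun x := ⟨0, x⟩
  map_zero' := rfl
  map_add' x y := by ext <;> simp

@[simp] theorem inr_fst (x : M) : (inr D x).fst = 0 := rfl
@[simp] theorem inr_snd (x : M) : (inr D x).snd = x := rfl

theorem inl_mul_inr (t : R) (x : M) : DblRing.inl D t * inr D x = inr D (t • x) := by
  ext <;> simp [D.zero_left]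

theorem inr_mul_inr (x y : M) : inr D x * inr D y = DblRing.inl D (D.μ x y) := by
  ext <;> simp

theorem inl_add_inr (a : DblRing D) : DblRing.inl D a.fst + inr D a.snd = a := by
  ext <;> simp

theorem inl_add_inr_fst (t : R) (x : M) : (DblRing.inl D t + inr D x).fst = t := by simp

theorem inl_add_inr_snd (t : R) (x : M) : (DblRing.inl D t + inr D x).snd = x := by simp

end alg

variable {X : Scheme.{u}} (L : X.Modules) (m : CohB1.tensorMod L L ⟶ Coh.structureModule X)
  (hL : PicF.IsInvertible L)

/-- the quasi-coherent algebra `O ⊕ L` -/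
noncomputable def dblAlg : RelSpec.QCAlg X where
  presheaf := dblPresheaf L m hL
  isSheaf := dblPresheaf_isSheaf L m hL
  str := dblStr L m hL
  isQC :=
    haveI := isQuasicoherent_of_isFinLocFree L (isFinLocFree_of_isInvertible hL)
    dbl_isQC L m hL

/-- the inclusion `L ⟶ O ⊕ L` -/
noncomputable def dblJ : L ⟶ (dblAlg L m hL).toModule :=
  ⟨letI := (dblAlg L m hL).moduleSect
   PresheafOfModules.homMk
    { app := fun U => AddCommGrpCat.ofHom (inr (pairing L m hL U.unop))
      naturality := fun U V i => by
        ext l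
        apply DblRing.ext
        · change (0 : Γ(X, V.unop)) = X.presheaf.map i (0 : Γ(X, U.unop))
          exact (map_zero (X.presheaf.map i).hom).symm
        · rfl }
    (fun U r l => by
      exact (inl_mul_inr (pairing L m hL U.unop) r l).symm)⟩

theorem dblJ_app (U : X.Opens) (l : L.val.obj (op U)) :
    FinCov.toSec (dblAlg L m hL) (((dblJ L m hL).val.app (op U)).hom l) =
      inr (pairing L m hL U) l := rfl

theorem dblStr_app (U : X.Opens) (s : Γ(X, U)) :
    ((dblAlg L m hL).str.app (op U)).hom s = DblRing.inl (pairing L m hL U) s := rfl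

theorem isDblAlg_dblAlg : FinCov.IsDblAlg L m (dblAlg L m hL) (dblJ L m hL) := by
  refine ⟨fun U => ⟨?_, ?_⟩, fun U l l' => ?_⟩
  · rintro ⟨s, l⟩ ⟨s', l'⟩ h
    have h' : DblRing.inl (pairing L m hL U) s + inr (pairing L m hL U) l =
        DblRing.inl (pairing L m hL U) s' + inr (pairing L m hL U) l' := h
    have h1 : s = s' := (inl_add_inr_fst (pairing L m hL U) s l).symm.trans
      ((congrArg DblRing.fst h').trans (inl_add_inr_fst (pairing L m hL U) s' l'))
    have h2 : l = l' := (inl_add_inr_snd (pairing L m hL U) s l).symm.trans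
      ((congrArg DblRing.snd h').trans (inl_add_inr_snd (pairing L m hL U) s' l'))
    exact Prod.ext h1 h2
  · intro a
    obtain ⟨a', rfl⟩ : ∃ a' : DblRing (pairing L m hL U), a' = a := ⟨a, rfl⟩
    refine ⟨(a'.fst, a'.snd), ?_⟩
    exact inl_add_inr (pairing L m hL U) a'
  · exact inr_mul_inr (pairing L m hL U) l l'

include hL in
/-- **existence of the algebra `O ⊕ L`** -/
theorem exists_isDblAlg :
    ∃ (A : RelSpec.QCAlg X) (j : L ⟶ A.toModule), FinCov.IsDblAlg L m A j :=
  ⟨dblAlg L m hL, dblJ L m hL, isDblAlg_dblAlg L m hL⟩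

end Groth.Agent.Lib.helper15.DblAlg
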