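import Mathlib

/-!
# The canonical involution of a free algebra of rank two (helper15)

For a commutative `A`-algebra `B` with a basis indexed by `Fin 2`, `inv bas : B →ₐ[A] B` is
`b ↦ tr(b) − b`. It is an involution; if `2` is invertible its fixed points are the image of `A`.
-/

set_option autoImplicit false
set_option linter.style.haveILetI false
universe u v

namespace Groth.Agent.Lib.helper15.DblInv

variable {A : Type u} {B : Type v} [CommRing A] [CommRing B] [Algebra A B]

/-- Polarised Cayley–Hamilton for `2 × 2` matrices. -/
theorem polarized_CH {A : Type u} [CommRing A] (X Y : Matrix (Fin 2) (Fin 2) A) :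
    X * Y + Y * X = X.trace • Y + Y.trace • X - (X.trace * Y.trace - (X * Y).trace) • 1 := by
  ext i j
  fin_cases i <;> fin_cases j <;>
    simp [Matrix.mul_apply, Fin.sum_univ_two, Matrix.trace_fin_two] <;> ring

/-- The key identity in a free algebra of rank two. -/
theorem two_mul_mul (bas : Module.Basis (Fin 2) A B) (b b' : B) :
    2 * (b * b') = Algebra.trace A B b • b' + Algebra.trace A B b' • b -
      (Algebra.trace A B b * Algebra.trace A B b' - Algebra.trace A B (b * b')) • (1 : B) := by
  apply Algebra.leftMulMatrix_injective bas
  have h := polarized_CH (Algebra.leftMulMatrix bas b) (Algebra.leftMulMatrix bas b')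
  rw [← map_mul, ← map_mul, ← Algebra.trace_eq_matrix_trace bas,
    ← Algebra.trace_eq_matrix_trace bas, ← Algebra.trace_eq_matrix_trace bas,
    mul_comm b' b, ← two_mul] at h
  rw [map_mul, map_sub, map_add, map_smul, map_smul, map_smul, map_one, map_ofNat]
  exact h

/-- the linear map `tr − id` -/
noncomputable def invl (A : Type u) (B : Type v) [CommRing A] [CommRing B] [Algebra A B] :
    B →ₗ[A] B :=
  (Algebra.linearMap A B).comp (Algebra.trace A B) - LinearMap.id

theorem invl_apply (b : B) : invl A B b = algebraMap A B (Algebra.trace A B b) - b := rfl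

theorem trace_algebraMap_of_basis (bas : Module.Basis (Fin 2) A B) (a : A) :
    Algebra.trace A B (algebraMap A B a) = 2 * a := by
  haveI : Module.Free A B := Module.Free.of_basis bas
  haveI : Module.Finite A B := Module.Finite.of_basis bas
  rcases subsingleton_or_nontrivial A with hs | hn
  · exact Subsingleton.elim _ _
  · have hrk : Module.finrank A B = 2 := by
      rw [Module.finrank_eq_card_basis bas]; simp
    rw [Algebra.trace_algebraMap, hrk, nsmul_eq_mul]; norm_num

theorem invl_one (bas : Module.Basis (Fin 2) A B) : invl A B 1 = 1 := by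
  rw [invl_apply, ← map_one (algebraMap A B), trace_algebraMap_of_basis bas, ← map_sub]
  congr 1; ring

theorem invl_mul (bas : Module.Basis (Fin 2) A B) (b b' : B) :
    invl A B (b * b') = invl A B b * invl A B b' := by
  rw [invl_apply, invl_apply, invl_apply]
  have key := two_mul_mul bas b b'
  simp only [Algebra.smul_def, mul_one] at key
  have : (algebraMap A B (Algebra.trace A B b) - b) * (algebraMap A B (Algebra.trace A B b') - b') -
      (algebraMap A B (Algebra.trace A B (b * b')) - b * b') =
      2 * (b * b') - (algebraMap A B (Algebra.trace A B b) * b' +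
        algebraMap A B (Algebra.trace A B b') * b -
        algebraMap A B (Algebra.trace A B b * Algebra.trace A B b' -
          Algebra.trace A B (b * b'))) := by
    rw [RingHom.map_sub, RingHom.map_mul]; ring
  rw [← key, sub_self] at this
  exact (sub_eq_zero.mp this).symm

/-- the canonical involution `b ↦ tr(b) − b` of a free algebra of rank two -/
noncomputable def inv (bas : Module.Basis (Fin 2) A B) : B →ₐ[A] B :=
  AlgHom.ofLinearMap (invl A B) (invl_one bas) (invl_mul bas)

theorem inv_apply (bas : Module.Basis (Fin 2) A B) (b : B) :
    inv bas b = algebraMap A B (Algebra.trace A B b) - b := rfl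

theorem inv_inv (bas : Module.Basis (Fin 2) A B) (b : B) : inv bas (inv bas b) = b := by
  rw [inv_apply, inv_apply, map_sub, trace_algebraMap_of_basis bas, map_sub, map_mul]
  have : algebraMap A B 2 = 2 := map_ofNat (algebraMap A B) 2
  rw [this]; ring

theorem inv_algebraMap (bas : Module.Basis (Fin 2) A B) (a : A) :
    inv bas (algebraMap A B a) = algebraMap A B a := (inv bas).commutes a

theorem inv_eq_self_iff (bas : Module.Basis (Fin 2) A B) (h2 : IsUnit (2 : A)) (b : B) :
    inv bas b = b ↔ b ∈ Set.range (algebraMap A B) := by
  obtain ⟨u, hu⟩ := h2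
  constructor
  · intro hb
    rw [inv_apply] at hb
    have h2b : 2 * b = algebraMap A B (Algebra.trace A B b) := by
      rw [two_mul]; nth_rw 1 [← hb]; ring
    refine ⟨(↑u⁻¹ : A) * Algebra.trace A B b, ?_⟩
    rw [map_mul, ← h2b, ← mul_assoc]
    have : algebraMap A B (↑u⁻¹ : A) * 2 = 1 := by
      have h3 : (2 : B) = algebraMap A B (u : A) := by
        rw [hu]; exact (map_ofNat (algebraMap A B) 2).symm
      rw [h3, ← map_mul, Units.inv_mul, map_one]
    rw [this, one_mul]
  · rintro ⟨a, rfl⟩
    exact inv_algebraMap bas a

theorem algebraMap_injective_of_basis (bas : Module.Basis (Fin 2) A B) :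
    Function.Injective (algebraMap A B) := by
  rw [injective_iff_map_eq_zero]
  intro a ha
  have h1 : a • bas 0 = 0 := by rw [Algebra.smul_def, ha, zero_mul]
  have h2 := congrArg (fun x => bas.repr x 0) h1
  simpa using h2

/-- the canonical involution commutes with localization -/
theorem inv_comm_localization {A A' B B' : Type*} [CommRing A] [CommRing A'] [CommRing B]
    [CommRing B'] [Algebra A B] [Algebra A A'] [Algebra B B'] [Algebra A' B'] [Algebra A B']
    [IsScalarTower A A' B'] [IsScalarTower A B B'] (M : Submonoid A) [IsLocalization M A']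
    [IsLocalization (Algebra.algebraMapSubmonoid B M) B']
    (bas : Module.Basis (Fin 2) A B) (bas' : Module.Basis (Fin 2) A' B') (b : B) :
    inv bas' (algebraMap B B' b) = algebraMap B B' (inv bas b) := by
  haveI := Module.Free.of_basis bas
  haveI := Module.Finite.of_basis bas
  rw [inv_apply, inv_apply, Algebra.trace_localization A M, map_sub,
    ← IsScalarTower.algebraMap_apply, ← IsScalarTower.algebraMap_apply]

end Groth.Agent.Lib.helper15.DblInv
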