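import Mathlib
import Groth.Prelude.Def_SGA1
import Groth.Agent.Lib.Helper15.DblInv1
import Groth.Agent.Lib.Helper15.TraceCover
import Groth.Agent.Lib.Helper28.RelSpecMap

/-!
# The covering involution of a double cover (helper15)
-/

set_option autoImplicit false
set_option linter.style.haveILetI false
universe u
open CategoryTheory CategoryTheory.Limits AlgebraicGeometry TopologicalSpace Opposite

namespace Groth.Agent.Lib.helper15.DblInv

open Groth.Agent.Lib.helper15.TraceCover Groth.Agent.Lib.helper16.CohStalk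

variable {X Y : Scheme.{u}} (f : X ⟶ Y)

/-- good opens: affine opens of `Y` over which `f_* O_X` has a basis of two elements -/
def Good (W : Y.Opens) : Prop :=
  IsAffineOpen W ∧
    letI := (f.app W).hom.toAlgebra
    Nonempty (Module.Basis (Fin 2) Γ(Y, W) Γ(X, f ⁻¹ᵁ W))

/-- the good opens form a basis of the topology of `Y` -/
theorem exists_good [IsFinite f] [Flat f] [LocallyOfFinitePresentation f]
    (hrk : ∀ y : Y, f.finrank y = 2) (U : Y.Opens) (y : Y) (hy : y ∈ U) :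
    ∃ W : Y.Opens, Good f W ∧ y ∈ W ∧ W ≤ U := by
  haveI := isQuasicoherent_pushO f
  obtain ⟨U', hU', hy', hle⟩ := Opens.isBasis_iff_nbhd.mp Y.isBasis_affineOpens hy
  haveI hfin : Module.Finite Γ(Y, U') Γ(pushO f, U') := finite_sections f hU'
  haveI hflat : Module.Flat Γ(Y, U') Γ(pushO f, U') := flat_sections f hU'
  haveI : Module.FinitePresentation Γ(Y, U') Γ(pushO f, U') := by
    have h1 := HasRingHomProperty.appLE (P := @LocallyOfFinitePresentation) f inferInstance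
      ⟨U', hU'⟩ ⟨f ⁻¹ᵁ U', hU'.preimage f⟩ le_rfl
    rw [← Scheme.Hom.app_eq_appLE] at h1
    letI : Algebra Γ(Y, U') Γ(X, f ⁻¹ᵁ U') := (f.app U').hom.toAlgebra
    haveI : Algebra.FinitePresentation Γ(Y, U') Γ(X, f ⁻¹ᵁ U') := h1
    haveI : Module.Finite Γ(Y, U') Γ(X, f ⁻¹ᵁ U') := hfin
    exact Module.FinitePresentation.of_finite_of_finitePresentation Γ(Y, U') Γ(X, f ⁻¹ᵁ U')
  have hfree : Module.Free (Y.presheaf.stalk y) ((pushO f).presheaf.stalk y) := by
    letI := TopCat.Presheaf.algebra_section_stalk Y.presheaf (⟨y, hy'⟩ : U')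
    letI := modStalk (pushO f) y hy'
    haveI := isScalarTower_stalk (pushO f) y hy'
    haveI : IsLocalization.AtPrime (Y.presheaf.stalk y) (hU'.primeIdealOf ⟨y, hy'⟩).asIdeal :=
      hU'.isLocalization_stalk ⟨y, hy'⟩
    haveI := isLocalizedModule_stalk (pushO f) hU' y hy'
    haveI : Module.Flat (Y.presheaf.stalk y) ((pushO f).presheaf.stalk y) :=
      Module.Flat.of_isLocalizedModule (Y.presheaf.stalk y)
        (hU'.primeIdealOf ⟨y, hy'⟩).asIdeal.primeCompl (germLin (pushO f) y hy')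
    haveI : Module.Finite (Y.presheaf.stalk y) ((pushO f).presheaf.stalk y) :=
      Module.Finite.of_isLocalizedModule (hU'.primeIdealOf ⟨y, hy'⟩).asIdeal.primeCompl
        (germLin (pushO f) y hy')
    exact Module.free_of_flat_of_isLocalRing
  obtain ⟨r, n, hyr, ⟨e⟩⟩ :=
    Groth.Agent.Lib.helper16.FLF.exists_basicOpen_free_sections (pushO f) hU' y hy' hfree
  have hn : n = 2 := by
    rw [← hrk y]; exact (finrank_eq_of_free f (hU'.basicOpen r) y hyr n e).symm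
  subst hn
  refine ⟨Y.basicOpen r, ⟨hU'.basicOpen r, ?_⟩, hyr, (Y.basicOpen_le r).trans hle⟩
  letI : Algebra Γ(Y, Y.basicOpen r) Γ(X, f ⁻¹ᵁ Y.basicOpen r) :=
    (f.app (Y.basicOpen r)).hom.toAlgebra
  have e' : Γ(X, f ⁻¹ᵁ Y.basicOpen r) ≃ₗ[Γ(Y, Y.basicOpen r)] (Fin 2 → Γ(Y, Y.basicOpen r)) := e
  exact ⟨Module.Basis.ofEquivFun e'⟩

open Classical in
/-- the ring endomorphism `tr − id` of the sections of `f_* O_X` over a good open
(the identity over the other opens) -/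
noncomputable def sig (W : Y.Opens) : Γ(X, f ⁻¹ᵁ W) ⟶ Γ(X, f ⁻¹ᵁ W) :=
  letI := (f.app W).hom.toAlgebra
  if h : Nonempty (Module.Basis (Fin 2) Γ(Y, W) Γ(X, f ⁻¹ᵁ W)) then
    CommRingCat.ofHom (inv h.some).toRingHom else 𝟙 _

theorem sig_apply {W : Y.Opens} (hW : Good f W) (b : Γ(X, f ⁻¹ᵁ W)) :
    (sig f W).hom b = (f.app W).hom
      (@Algebra.trace Γ(Y, W) Γ(X, f ⁻¹ᵁ W) _ _ (f.app W).hom.toAlgebra b) - b := by
  letI := (f.app W).hom.toAlgebra
  have h : Nonempty (Module.Basis (Fin 2) Γ(Y, W) Γ(X, f ⁻¹ᵁ W)) := hW.2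
  unfold sig
  rw [dif_pos h]
  exact inv_apply h.some b

theorem sig_sig (W : Y.Opens) : sig f W ≫ sig f W = 𝟙 _ := by
  letI := (f.app W).hom.toAlgebra
  by_cases h : Nonempty (Module.Basis (Fin 2) Γ(Y, W) Γ(X, f ⁻¹ᵁ W))
  · unfold sig
    rw [dif_pos h]
    ext b
    exact inv_inv h.some b
  · unfold sig
    rw [dif_neg h]
    exact Category.comp_id _

theorem app_sig (W : Y.Opens) : f.app W ≫ sig f W = f.app W := by
  letI := (f.app W).hom.toAlgebra
  by_cases h : Nonempty (Module.Basis (Fin 2) Γ(Y, W) Γ(X, f ⁻¹ᵁ W))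
  · unfold sig
    rw [dif_pos h]
    ext a
    exact inv_algebraMap h.some a
  · unfold sig
    rw [dif_neg h]
    exact Category.comp_id _

theorem sig_eq_self_iff {W : Y.Opens} (hW : Good f W) (h2 : IsUnit (2 : Γ(Y, W)))
    (b : Γ(X, f ⁻¹ᵁ W)) :
    (sig f W).hom b = b ↔ b ∈ Set.range (f.app W).hom := by
  letI := (f.app W).hom.toAlgebra
  have h : Nonempty (Module.Basis (Fin 2) Γ(Y, W) Γ(X, f ⁻¹ᵁ W)) := hW.2
  unfold sig
  rw [dif_pos h]
  exact inv_eq_self_iff h.some h2 b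

theorem injective_app_of_good {W : Y.Opens} (hW : Good f W) :
    Function.Injective (f.app W).hom := by
  letI := (f.app W).hom.toAlgebra
  obtain ⟨bas⟩ : Nonempty (Module.Basis (Fin 2) Γ(Y, W) Γ(X, f ⁻¹ᵁ W)) := hW.2
  exact algebraMap_injective_of_basis bas

/-- basic opens of good opens are good, and the involutions are compatible with restriction -/
theorem good_basicOpen_and_sig_res [IsAffineHom f] {W W' : Y.Opens} (hW : Good f W) (r : Γ(Y, W))
    (hW' : W' = Y.basicOpen r) (hle : W' ≤ W) :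
    Good f W' ∧
      X.presheaf.map (homOfLE (f.preimage_mono hle)).op ≫ sig f W' =
        sig f W ≫ X.presheaf.map (homOfLE (f.preimage_mono hle)).op := by
  have hW'a : IsAffineOpen W' := by rw [hW']; exact hW.1.basicOpen r
  have hV : IsAffineOpen (f ⁻¹ᵁ W) := hW.1.preimage f
  letI i1 : Algebra Γ(Y, W) Γ(X, f ⁻¹ᵁ W) := (f.app W).hom.toAlgebra
  letI i2 : Algebra Γ(Y, W') Γ(X, f ⁻¹ᵁ W') := (f.app W').hom.toAlgebra
  letI i3 : Algebra Γ(Y, W) Γ(Y, W') := (Y.presheaf.map (homOfLE hle).op).hom.toAlgebra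
  letI i4 : Algebra Γ(X, f ⁻¹ᵁ W) Γ(X, f ⁻¹ᵁ W') :=
    (X.presheaf.map (homOfLE (f.preimage_mono hle)).op).hom.toAlgebra
  letI i5 : Algebra Γ(Y, W) Γ(X, f ⁻¹ᵁ W') :=
    ((f.app W').hom.comp (Y.presheaf.map (homOfLE hle).op).hom).toAlgebra
  haveI t1 : IsScalarTower Γ(Y, W) Γ(Y, W') Γ(X, f ⁻¹ᵁ W') :=
    IsScalarTower.of_algebraMap_eq (fun x => rfl)
  haveI t2 : IsScalarTower Γ(Y, W) Γ(X, f ⁻¹ᵁ W) Γ(X, f ⁻¹ᵁ W') :=
    IsScalarTower.of_algebraMap_eq (fun x => by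
      have := f.naturality (homOfLE hle).op
      exact congrArg (fun g => g.hom x) this)
  haveI l1 : IsLocalization (Submonoid.powers r) Γ(Y, W') :=
    hW.1.isLocalization_of_eq_basicOpen r (homOfLE hle) hW'
  haveI l2 : IsLocalization (Algebra.algebraMapSubmonoid Γ(X, f ⁻¹ᵁ W) (Submonoid.powers r))
      Γ(X, f ⁻¹ᵁ W') := by
    rw [Algebra.algebraMapSubmonoid_powers]
    exact hV.isLocalization_of_eq_basicOpen ((f.app W).hom r)
      (homOfLE (f.preimage_mono hle)) (by rw [hW', Scheme.preimage_basicOpen])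
  obtain ⟨bas⟩ : Nonempty (Module.Basis (Fin 2) Γ(Y, W) Γ(X, f ⁻¹ᵁ W)) := hW.2
  have bas' : Module.Basis (Fin 2) Γ(Y, W') Γ(X, f ⁻¹ᵁ W') :=
    bas.localizationLocalization Γ(Y, W') (Submonoid.powers r) Γ(X, f ⁻¹ᵁ W')
  have hG' : Good f W' := ⟨hW'a, ⟨bas'⟩⟩
  refine ⟨hG', ?_⟩
  ext b
  change (sig f W').hom (algebraMap Γ(X, f ⁻¹ᵁ W) Γ(X, f ⁻¹ᵁ W') b) =
    algebraMap Γ(X, f ⁻¹ᵁ W) Γ(X, f ⁻¹ᵁ W') ((sig f W).hom b)
  rw [sig_apply f hG', sig_apply f hW]
  exact inv_comm_localization (Submonoid.powers r) bas bas' b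

end Groth.Agent.Lib.helper15.DblInv
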