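import Mathlib
import Groth.Agent.Lib.Helper15.DblInv2

/-!
# The covering involution of a double cover: gluing (helper15)
-/

set_option autoImplicit false
set_option linter.style.haveILetI false
universe u
open CategoryTheory CategoryTheory.Limits AlgebraicGeometry TopologicalSpace Opposite

namespace Groth.Agent.Lib.helper15.DblInv

open Groth.Agent.Lib.helper28.RelSpecMap

variable {X Y : Scheme.{u}} (f : X ⟶ Y)

theorem fromSpec_comp [IsAffineHom f] {W : Y.Opens} (hW : IsAffineOpen W) :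
    (hW.preimage f).fromSpec ≫ f = Spec.map (f.app W) ≫ hW.fromSpec := by
  rw [Scheme.Hom.app_eq_appLE]
  exact (hW.SpecMap_appLE_fromSpec f (hW.preimage f) le_rfl).symm

/-- the covering involution -/
theorem exists_sigma [IsFinite f] [Flat f] [LocallyOfFinitePresentation f]
    (hrk : ∀ y : Y, f.finrank y = 2) :
    ∃ σ : X ⟶ X, σ ≫ f = f ∧ σ ≫ σ = 𝟙 X ∧
      ∀ (W : Y.Opens) (_ : Good f W) (e : f ⁻¹ᵁ W ≤ σ ⁻¹ᵁ (f ⁻¹ᵁ W)),
        σ.appLE (f ⁻¹ᵁ W) (f ⁻¹ᵁ W) e = sig f W := by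
  let ι : Type u := {W : Y.Opens // Good f W}
  let hV : ∀ W : ι, IsAffineOpen (f ⁻¹ᵁ W.1) := fun W => W.2.1.preimage f
  let c : ∀ W : ι, Spec Γ(X, f ⁻¹ᵁ W.1) ⟶ X := fun W => (hV W).fromSpec
  let g : ∀ W : ι, Spec Γ(X, f ⁻¹ᵁ W.1) ⟶ X := fun W => Spec.map (sig f W.1) ≫ c W
  have hcov : ∀ x : X, ∃ W : ι, x ∈ Set.range (c W).base := by
    intro x
    obtain ⟨W, hW, hxW, -⟩ := exists_good f hrk ⊤ (f.base x) trivial
    refine ⟨⟨W, hW⟩, ?_⟩
    change x ∈ Set.range (hV ⟨W, hW⟩).fromSpec.base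
    rw [(hV ⟨W, hW⟩).range_fromSpec]
    exact hxW
  have hmem : ∀ (W : ι) (x : X), x ∈ Set.range (c W).base → f.base x ∈ W.1 := by
    intro W x hx
    change x ∈ Set.range (hV W).fromSpec.base at hx
    rw [(hV W).range_fromSpec] at hx
    exact hx
  -- restriction to a basic open
  have hres : ∀ (W : ι) (W' : Y.Opens) (r : Γ(Y, W.1)) (hW' : W' = Y.basicOpen r) (hle : W' ≤ W.1),
      ∃ hG : Good f W',
        Spec.map (X.presheaf.map (homOfLE (f.preimage_mono hle)).op) ≫ c W = c ⟨W', hG⟩ ∧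
        Spec.map (X.presheaf.map (homOfLE (f.preimage_mono hle)).op) ≫ g W = g ⟨W', hG⟩ := by
    intro W W' r hW' hle
    obtain ⟨hG, hs⟩ := good_basicOpen_and_sig_res f W.2 r hW' hle
    refine ⟨hG, ?_, ?_⟩
    · exact (hV W).map_fromSpec (hV ⟨W', hG⟩) (homOfLE (f.preimage_mono hle)).op
    · change Spec.map _ ≫ Spec.map (sig f W.1) ≫ c W = Spec.map (sig f W') ≫ c ⟨W', hG⟩
      rw [← Category.assoc, ← Spec.map_comp, ← hs, Spec.map_comp, Category.assoc]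
      congr 1
      exact (hV W).map_fromSpec (hV ⟨W', hG⟩) (homOfLE (f.preimage_mono hle)).op
  have hcompat : ∀ (i j : ι) (x : X), x ∈ Set.range (c i).base → x ∈ Set.range (c j).base →
      ∃ (W : Scheme.{u}) (a : W ⟶ Spec Γ(X, f ⁻¹ᵁ i.1)) (b : W ⟶ Spec Γ(X, f ⁻¹ᵁ j.1)),
      a ≫ c i = b ≫ c j ∧ a ≫ g i = b ≫ g j ∧ IsOpenImmersion (a ≫ c i) ∧
      x ∈ Set.range (a ≫ c i).base := by
    intro i j x hxi hxj
    obtain ⟨a₁, a₂, heq, hy⟩ := exists_basicOpen_le_affine_inter i.2.1 j.2.1 (f.base x)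
      ⟨hmem i x hxi, hmem j x hxj⟩
    obtain ⟨hG, h1, h2⟩ := hres i (Y.basicOpen a₁) a₁ rfl (Y.basicOpen_le a₁)
    obtain ⟨hG', h1', h2'⟩ := hres j (Y.basicOpen a₁) a₂ heq (heq ▸ Y.basicOpen_le a₂)
    refine ⟨_, Spec.map (X.presheaf.map (homOfLE (f.preimage_mono (Y.basicOpen_le a₁))).op),
      Spec.map (X.presheaf.map (homOfLE (f.preimage_mono (heq ▸ Y.basicOpen_le a₂))).op),
      h1.trans h1'.symm, h2.trans h2'.symm, ?_, ?_⟩
    · rw [h1]; infer_instance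
    · rw [h1]
      change x ∈ Set.range (hV ⟨_, hG⟩).fromSpec.base
      rw [(hV ⟨_, hG⟩).range_fromSpec]
      exact hy
  obtain ⟨σ, hσ, -⟩ := existsUnique_of_charts_local c hcov g hcompat
  have hσ' : ∀ W : ι, (hV W).fromSpec ≫ σ = Spec.map (sig f W.1) ≫ (hV W).fromSpec := hσ
  refine ⟨σ, ?_, ?_, ?_⟩
  · apply hom_ext_of_local
    intro x
    obtain ⟨W, hx⟩ := hcov x
    refine ⟨_, c W, inferInstance, hx, ?_⟩
    change (hV W).fromSpec ≫ σ ≫ f = (hV W).fromSpec ≫ f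
    rw [← Category.assoc, hσ' W, Category.assoc, fromSpec_comp f W.2.1, ← Category.assoc,
      ← Spec.map_comp, app_sig]
  · apply hom_ext_of_local
    intro x
    obtain ⟨W, hx⟩ := hcov x
    refine ⟨_, c W, inferInstance, hx, ?_⟩
    change (hV W).fromSpec ≫ σ ≫ σ = (hV W).fromSpec ≫ 𝟙 X
    rw [← Category.assoc, hσ' W, Category.assoc, hσ' W, ← Category.assoc, ← Spec.map_comp,
      sig_sig, Spec.map_id, Category.id_comp, Category.comp_id]
  · intro W hW e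
    have h1 := (hV ⟨W, hW⟩).SpecMap_appLE_fromSpec σ (hV ⟨W, hW⟩) e
    rw [hσ' ⟨W, hW⟩] at h1
    exact Spec.map_injective ((cancel_mono _).mp h1)

end Groth.Agent.Lib.helper15.DblInv
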