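import Mathlib
import Groth.Prelude.Def_SGA1
import Groth.Agent.Lib.Helper15.DblInv3

/-!
# A double cover is the quotient by its covering involution (helper15)
-/

set_option autoImplicit false
set_option linter.style.haveILetI false
universe u
open CategoryTheory CategoryTheory.Limits AlgebraicGeometry TopologicalSpace Opposite

namespace Groth.Agent.Lib.helper15.DblInv

variable {X Y : Scheme.{u}} (f : X ⟶ Y)

theorem isUnit_two_of_top (h2 : IsUnit (2 : Γ(Y, ⊤))) (W : Y.Opens) : IsUnit (2 : Γ(Y, W)) := by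
  have := h2.map (Y.presheaf.map (homOfLE (le_top : W ≤ ⊤)).op).hom
  rwa [map_ofNat] at this

/-- sections pulled back from `Y` are invariant under a `Y`-endomorphism -/
theorem app_appLE_of_comp_eq (τ : X ⟶ X) (hτ : τ ≫ f = f) (U : Y.Opens)
    (e : f ⁻¹ᵁ U ≤ τ ⁻¹ᵁ (f ⁻¹ᵁ U)) :
    f.app U ≫ τ.appLE (f ⁻¹ᵁ U) (f ⁻¹ᵁ U) e = f.app U := by
  have key : ∀ (h : X ⟶ Y) (_ : h = f) (e' : f ⁻¹ᵁ U ≤ h ⁻¹ᵁ U),
      h.appLE U (f ⁻¹ᵁ U) e' = f.app U := by
    rintro _ rfl e'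
    exact (Scheme.Hom.app_eq_appLE _).symm
  exact (Scheme.Hom.comp_appLE τ f U (f ⁻¹ᵁ U) e).symm.trans (key _ hτ _)

/-- `f^#` is injective over every open -/
theorem injective_app [IsFinite f] [Flat f] [LocallyOfFinitePresentation f]
    (hrk : ∀ y : Y, f.finrank y = 2) (U : Y.Opens) : Function.Injective (f.app U).hom := by
  intro a₁ a₂ h
  let ι : Type u := {W : Y.Opens // Good f W ∧ W ≤ U}
  refine Y.sheaf.eq_of_locally_eq' (fun W : ι => W.1) U (fun W => homOfLE W.2.2) ?_ a₁ a₂ ?_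
  · intro y hy
    obtain ⟨W, hW, hyW, hle⟩ := exists_good f hrk U y hy
    exact Opens.mem_iSup.mpr ⟨⟨W, hW, hle⟩, hyW⟩
  · intro W
    apply injective_app_of_good f W.2.1
    have nat := f.naturality (homOfLE W.2.2).op
    have h1 := congrArg (fun g => g.hom a₁) nat
    have h2 := congrArg (fun g => g.hom a₂) nat
    simp only [CommRingCat.hom_comp, RingHom.comp_apply] at h1 h2
    exact h1.trans ((congrArg _ h).trans h2.symm)

/-- invariant sections descend -/
theorem mem_range_of_invariant [IsFinite f] [Flat f] [LocallyOfFinitePresentation f]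
    (hrk : ∀ y : Y, f.finrank y = 2) (h2 : IsUnit (2 : Γ(Y, ⊤))) (σ : X ⟶ X)
    (hσf : σ ≫ f = f)
    (hσ : ∀ (W : Y.Opens) (_ : Good f W) (e : f ⁻¹ᵁ W ≤ σ ⁻¹ᵁ (f ⁻¹ᵁ W)),
      σ.appLE (f ⁻¹ᵁ W) (f ⁻¹ᵁ W) e = sig f W)
    (U : Y.Opens) (e : f ⁻¹ᵁ U ≤ σ ⁻¹ᵁ (f ⁻¹ᵁ U)) (s : Γ(X, f ⁻¹ᵁ U))
    (hs : (σ.appLE (f ⁻¹ᵁ U) (f ⁻¹ᵁ U) e).hom s = s) : s ∈ Set.range (f.app U).hom := by
  let ι : Type u := {W : Y.Opens // Good f W ∧ W ≤ U}
  have hcover : U ≤ ⨆ W : ι, W.1 := by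
    intro y hy
    obtain ⟨W, hW, hyW, hle⟩ := exists_good f hrk U y hy
    exact Opens.mem_iSup.mpr ⟨⟨W, hW, hle⟩, hyW⟩
  have eW : ∀ W : Y.Opens, f ⁻¹ᵁ W ≤ σ ⁻¹ᵁ (f ⁻¹ᵁ W) := by
    intro W
    rw [← Scheme.Hom.comp_preimage, hσf]
  have hsW : ∀ W : ι, (sig f W.1).hom ((X.presheaf.map (homOfLE (f.preimage_mono W.2.2)).op).hom s) =
      (X.presheaf.map (homOfLE (f.preimage_mono W.2.2)).op).hom s := by
    intro W
    rw [← hσ W.1 W.2.1 (eW W.1)]
    have h1 := Scheme.Hom.map_appLE σ (eW W.1) (homOfLE (f.preimage_mono W.2.2)).op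
    have h2 := Scheme.Hom.appLE_map σ e (homOfLE (f.preimage_mono W.2.2)).op
    have h3 := congrArg (fun g => g.hom s) (h1.trans h2.symm)
    simp only [CommRingCat.hom_comp, RingHom.comp_apply] at h3
    rw [h3, hs]
  have hex : ∀ W : ι, ∃ a : Γ(Y, W.1), (f.app W.1).hom a =
      (X.presheaf.map (homOfLE (f.preimage_mono W.2.2)).op).hom s := fun W =>
    (sig_eq_self_iff f W.2.1 (isUnit_two_of_top h2 W.1) _).mp (hsW W)
  choose a ha using hex
  have hcompat : TopCat.Presheaf.IsCompatible Y.sheaf.1 (fun W : ι => W.1) a := by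
    intro i j
    apply injective_app f hrk (i.1 ⊓ j.1)
    have n1 := f.naturality (Opens.infLELeft i.1 j.1).op
    have n2 := f.naturality (Opens.infLERight i.1 j.1).op
    have h1 := congrArg (fun g => g.hom (a i)) n1
    have h2 := congrArg (fun g => g.hom (a j)) n2
    simp only [CommRingCat.hom_comp, RingHom.comp_apply] at h1 h2
    refine h1.trans (Eq.trans ?_ h2.symm)
    rw [ha i, ha j]
    change (X.presheaf.map _ ≫ X.presheaf.map _).hom s = (X.presheaf.map _ ≫ X.presheaf.map _).hom s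
    rw [← Functor.map_comp, ← Functor.map_comp]
    rfl
  obtain ⟨b₀, hb₀, -⟩ := Y.sheaf.existsUnique_gluing' (fun W : ι => W.1) U
    (fun W => homOfLE W.2.2) hcover a hcompat
  obtain ⟨b, rfl⟩ : ∃ b : Γ(Y, U), b = b₀ := ⟨b₀, rfl⟩
  have hb : ∀ W : ι, (Y.presheaf.map (homOfLE W.2.2).op).hom b = a W := hb₀
  refine ⟨b, ?_⟩
  have key : ∀ W : ι,
      (X.presheaf.map (homOfLE (f.preimage_mono W.2.2)).op).hom ((f.app U).hom b) =
        (X.presheaf.map (homOfLE (f.preimage_mono W.2.2)).op).hom s := by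
    intro W
    have nat := f.naturality (homOfLE W.2.2).op
    have h1 := congrArg (fun g => g.hom b) nat
    simp only [CommRingCat.hom_comp, RingHom.comp_apply] at h1
    rw [← ha W, ← hb W]
    exact h1.symm
  have hcov' : f ⁻¹ᵁ U ≤ ⨆ W : ι, f ⁻¹ᵁ W.1 := by
    intro x hx
    obtain ⟨W, hW⟩ := Opens.mem_iSup.mp (hcover hx)
    exact Opens.mem_iSup.mpr ⟨W, hW⟩
  exact X.sheaf.eq_of_locally_eq' (fun W : ι => f ⁻¹ᵁ W.1) (f ⁻¹ᵁ U)
    (fun W => homOfLE (f.preimage_mono W.2.2)) hcov' _ _ key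

/-- the automorphisms of `X` over `Y` -/
def autOver : Subgroup (Aut X) where
  carrier := {g | g.hom ≫ f = f}
  mul_mem' := by
    intro g h hg hh
    let i : X ≅ X := g
    let j : X ≅ X := h
    have hg' : i.hom ≫ f = f := hg
    have hh' : j.hom ≫ f = f := hh
    change (j.hom ≫ i.hom) ≫ f = f
    rw [Category.assoc, hg', hh']
  one_mem' := by
    change 𝟙 X ≫ f = f
    exact Category.id_comp f
  inv_mem' := by
    intro g hg
    let i : X ≅ X := g
    have hg' : i.hom ≫ f = f := hg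
    change i.inv ≫ f = f
    rw [Iso.inv_comp_eq]
    exact hg'.symm

/-- **A double cover with `2` invertible is the quotient by its covering involution.** -/
theorem exists_involution_isQuot [IsFinite f] [Flat f] [LocallyOfFinitePresentation f]
    (hrk : ∀ y : Y, f.finrank y = 2) (h2 : IsUnit (2 : Γ(Y, ⊤))) :
    ∃ σ : Aut X, σ.hom ≫ f = f ∧ σ * σ = 1 ∧ SGA1.IsQuot (Subgroup.zpowers σ).subtype f := by
  obtain ⟨σ, hσf, hσσ, hσ⟩ := exists_sigma f hrk
  let σA : Aut X := ⟨σ, σ, hσσ, hσσ⟩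
  have hmem : σA ∈ autOver f := hσf
  have hle : Subgroup.zpowers σA ≤ autOver f := Subgroup.zpowers_le.mpr hmem
  have hinv : ∀ g : Subgroup.zpowers σA, ((Subgroup.zpowers σA).subtype g).hom ≫ f = f :=
    fun g => hle g.2
  refine ⟨σA, hσf, ?_, ?_⟩
  · apply Iso.ext
    change σ ≫ σ = 𝟙 X
    exact hσσ
  · refine ⟨inferInstance, hinv, injective_app f hrk, ?_⟩
    intro U s
    constructor
    · rintro ⟨a, rfl⟩ g
      have := app_appLE_of_comp_eq f ((Subgroup.zpowers σA).subtype g).hom (hinv g) U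
        (SGA1.preimage_le_of_inv _ f hinv g U)
      exact congrArg (fun k => k.hom a) this
    · intro h
      have h1 := h ⟨σA, Subgroup.mem_zpowers σA⟩
      exact mem_range_of_invariant f hrk h2 σ hσf hσ U _ s h1

end Groth.Agent.Lib.helper15.DblInv
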