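import Mathlib

/-!
# Square-zero ideals: Nakayama for flat modules (helper15)
-/

set_option autoImplicit false

namespace Groth.Agent.Lib.helper15.DefoDiag

open TensorProduct

section SqZero

variable {R : Type*} [CommRing R] (J : Ideal R)

lemma mul_mem_sq {S : Type*} [CommRing S] [Algebra R S] {a b : S}
    (ha : a ∈ J • (⊤ : Submodule R S)) (hb : b ∈ J • (⊤ : Submodule R S)) :
    a * b ∈ (J * J) • (⊤ : Submodule R S) := by
  refine Submodule.smul_induction_on (p := fun a => a * b ∈ (J * J) • (⊤ : Submodule R S)) ha ?_ ?_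
  · intro j hj s _
    refine Submodule.smul_induction_on
      (p := fun b => j • s * b ∈ (J * J) • (⊤ : Submodule R S)) hb ?_ ?_
    · intro j' hj' s' _
      rw [smul_mul_smul_comm]
      exact Submodule.smul_mem_smul (Ideal.mul_mem_mul hj hj') Submodule.mem_top
    · intro x y hx hy
      rw [mul_add]
      exact add_mem hx hy
  · intro x y hx hy
    rw [add_mul]
    exact add_mem hx hy

variable {J}

lemma mul_eq_zero_of_mem (hJ : J * J = ⊥) {S : Type*} [CommRing S] [Algebra R S] {a b : S}
    (ha : a ∈ J • (⊤ : Submodule R S)) (hb : b ∈ J • (⊤ : Submodule R S)) : a * b = 0 := by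
  have := mul_mem_sq J ha hb
  rw [hJ, Submodule.bot_smul] at this
  exact (Submodule.mem_bot R).mp this

lemma smul_eq_zero_of_mem (hJ : J * J = ⊥) {N : Type*} [AddCommGroup N] [Module R N] {r : R}
    (hr : r ∈ J) {n : N} (hn : n ∈ J • (⊤ : Submodule R N)) : r • n = 0 := by
  refine Submodule.smul_induction_on (p := fun n => r • n = 0) hn ?_ ?_
  · intro j hj s _
    rw [smul_smul]
    have : r * j ∈ J * J := Ideal.mul_mem_mul hr hj
    rw [hJ] at this
    rw [(Submodule.mem_bot R).mp this, zero_smul]
  · intro x y hx hy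
    rw [smul_add, hx, hy, add_zero]

lemma map_mem_smul_top {N N' : Type*} [AddCommGroup N] [Module R N] [AddCommGroup N'] [Module R N']
    (f : N →ₗ[R] N') {n : N} (hn : n ∈ J • (⊤ : Submodule R N)) :
    f n ∈ J • (⊤ : Submodule R N') := by
  refine Submodule.smul_induction_on (p := fun n => f n ∈ J • (⊤ : Submodule R N')) hn ?_ ?_
  · intro j hj s _
    rw [map_smul]
    exact Submodule.smul_mem_smul hj Submodule.mem_top
  · intro x y hx hy
    rw [map_add]
    exact add_mem hx hy

lemma map_eq_zero_of_forall_mem (hJ : J * J = ⊥) {N N' : Type*} [AddCommGroup N] [Module R N]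
    [AddCommGroup N'] [Module R N'] (f : N →ₗ[R] N') (hf : ∀ n, f n ∈ J • (⊤ : Submodule R N'))
    {n : N} (hn : n ∈ J • (⊤ : Submodule R N)) : f n = 0 := by
  refine Submodule.smul_induction_on (p := fun n => f n = 0) hn ?_ ?_
  · intro j hj s _
    rw [map_smul]
    exact smul_eq_zero_of_mem hJ hj (hf s)
  · intro x y hx hy
    rw [map_add, hx, hy, add_zero]

/-- Nakayama for a square-zero ideal and a flat target. -/
theorem bijective_of_sq_zero (hJ : J * J = ⊥) {F A : Type*} [AddCommGroup F] [Module R F]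
    [AddCommGroup A] [Module R A] [Module.Flat R A] (f : F →ₗ[R] A)
    (h1 : ∀ a, ∃ x, a - f x ∈ J • (⊤ : Submodule R A))
    (h2 : ∀ x, f x ∈ J • (⊤ : Submodule R A) → x ∈ J • (⊤ : Submodule R F)) :
    Function.Bijective f := by
  classical
  have hsurj' : ∀ n ∈ J • (⊤ : Submodule R A), ∃ x, f x = n := by
    intro n hn
    refine Submodule.smul_induction_on (p := fun n => ∃ x, f x = n) hn ?_ ?_
    · intro j hj a _
      obtain ⟨x, hx⟩ := h1 a
      refine ⟨j • x, ?_⟩
      have h3 : j • (a - f x) = 0 := smul_eq_zero_of_mem hJ hj hx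
      rw [smul_sub, sub_eq_zero] at h3
      rw [map_smul, h3]
    · rintro x y ⟨x', rfl⟩ ⟨y', rfl⟩
      exact ⟨x' + y', map_add _ _ _⟩
  refine ⟨?_, ?_⟩
  · rw [injective_iff_map_eq_zero]
    intro x hx
    have hxJ : x ∈ J • (⊤ : Submodule R F) := h2 x (by rw [hx]; exact zero_mem _)
    have hxJ' : x ∈ J • Submodule.span R (Set.range (id : F → F)) := by
      rwa [Set.range_id, Submodule.span_univ]
    obtain ⟨a, ha, hax⟩ := (Submodule.mem_ideal_smul_span_iff_exists_sum J id x).mp hxJ'
    -- the relation in `A`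
    have hrel : ∑ i : a.support, a i.1 • f i.1 = 0 := by
      have h3 : f x = ∑ i ∈ a.support, a i • f i := by
        rw [← hax, Finsupp.sum, map_sum]
        simp
      rw [Finset.sum_coe_sort a.support (fun i => a i • f i), ← h3, hx]
    obtain ⟨k, c, b, hb, hc⟩ := Module.Flat.isTrivialRelation_of_sum_smul_eq_zero hrel
    have hb' : ∀ i : a.support, f i.1 = ∑ j, c i j • b j := hb
    have hc' : ∀ j, ∑ i : a.support, a i.1 * c i j = 0 := hc
    choose y hy using fun l => h1 (b l)
    have hk : ∀ i : a.support, (i.1 : F) - ∑ l, c i l • y l ∈ J • (⊤ : Submodule R F) := by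
      intro i
      apply h2
      rw [map_sub, map_sum, hb' i]
      have : ∑ l, c i l • b l - ∑ l, f (c i l • y l) = ∑ l, c i l • (b l - f (y l)) := by
        rw [← Finset.sum_sub_distrib]
        refine Finset.sum_congr rfl fun l _ => ?_
        rw [map_smul, smul_sub]
      rw [this]
      exact Submodule.sum_mem _ fun l _ => Submodule.smul_mem _ _ (hy l)
    have hx2 : x = ∑ i : a.support, a i.1 • (i.1 : F) := by
      rw [← hax, Finsupp.sum, ← Finset.sum_coe_sort a.support]
      rfl
    rw [hx2]
    have h4 : ∀ i : a.support, a i.1 • (i.1 : F) = a i.1 • ∑ l, c i l • y l := by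
      intro i
      have := smul_eq_zero_of_mem hJ (ha i.1) (hk i)
      rw [smul_sub, sub_eq_zero] at this
      exact this
    rw [Finset.sum_congr rfl fun i _ => h4 i]
    simp_rw [Finset.smul_sum, smul_smul]
    rw [Finset.sum_comm]
    refine Finset.sum_eq_zero fun l _ => ?_
    rw [← Finset.sum_smul, hc' l, zero_smul]
  · intro a
    obtain ⟨x, hx⟩ := h1 a
    obtain ⟨x', hx'⟩ := hsurj' _ hx
    exact ⟨x + x', by rw [map_add, hx']; abel⟩

end SqZero

end Groth.Agent.Lib.helper15.DefoDiag
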