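import Mathlib
import Groth.Agent.Lib.Helper15.DefoDiag0

/-!
# Lifting group-like elements along a square-zero ideal by means of an integral (helper15)

`R` a ring, `J` an ideal with `J * J = ⊥`, `A` a commutative Hopf algebra over `R` and
`lam : A → R` a linear form which is a normalised left integral modulo `J`.  Then every unit `x` of `A`
which is group-like modulo `J` is congruent modulo `J` to a unique group-like element.
-/

set_option autoImplicit false
set_option linter.unusedSectionVars false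

namespace Groth.Agent.Lib.helper15.DefoDiag

open TensorProduct Coalgebra

section Maps

variable {R : Type*} [CommRing R] {A : Type*} [CommRing A] [HopfAlgebra R A]

/-- `λ ⊗ id : A ⊗ A → A`. -/
noncomputable def Lam (lam : A →ₗ[R] R) : A ⊗[R] A →ₗ[R] A :=
  (TensorProduct.lid R A).toLinearMap ∘ₗ lam.rTensor A

@[simp] lemma Lam_tmul (lam : A →ₗ[R] R) (a b : A) : Lam lam (a ⊗ₜ[R] b) = lam a • b := by
  simp [Lam]

/-- `λ ⊗ id ⊗ id : A ⊗ (A ⊗ A) → A ⊗ A`. -/
noncomputable def Lam3 (lam : A →ₗ[R] R) : A ⊗[R] (A ⊗[R] A) →ₗ[R] A ⊗[R] A :=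
  (TensorProduct.lid R (A ⊗[R] A)).toLinearMap ∘ₗ lam.rTensor (A ⊗[R] A)

@[simp] lemma Lam3_tmul (lam : A →ₗ[R] R) (a : A) (w : A ⊗[R] A) :
    Lam3 lam (a ⊗ₜ[R] w) = lam a • w := by
  simp [Lam3]

/-- `(Δ ⊗ id)`, with values in `A ⊗ (A ⊗ A)`. -/
noncomputable def d1 : A ⊗[R] A →ₐ[R] A ⊗[R] (A ⊗[R] A) :=
  (Algebra.TensorProduct.assoc R R R A A A : (A ⊗[R] A) ⊗[R] A →ₐ[R] A ⊗[R] (A ⊗[R] A)).comp
    (Algebra.TensorProduct.map (Bialgebra.comulAlgHom R A) (AlgHom.id R A))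

/-- `(id ⊗ Δ)`. -/
noncomputable def d2 : A ⊗[R] A →ₐ[R] A ⊗[R] (A ⊗[R] A) :=
  Algebra.TensorProduct.map (AlgHom.id R A) (Bialgebra.comulAlgHom R A)

/-- `a ⊗ b ↦ a ⊗ (b ⊗ 1)`. -/
noncomputable def i12 : A ⊗[R] A →ₐ[R] A ⊗[R] (A ⊗[R] A) :=
  Algebra.TensorProduct.map (AlgHom.id R A) Algebra.TensorProduct.includeLeft

/-- `w ↦ 1 ⊗ w`. -/
noncomputable def i23 : A ⊗[R] A →ₐ[R] A ⊗[R] (A ⊗[R] A) :=
  Algebra.TensorProduct.includeRight

lemma d1_tmul (a b : A) :
    (d1 (a ⊗ₜ[R] b) : A ⊗[R] (A ⊗[R] A)) =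
      Algebra.TensorProduct.assoc R R R A A A (comul (R := R) a ⊗ₜ[R] b) := by
  simp [d1]

@[simp] lemma d2_tmul (a b : A) :
    (d2 (a ⊗ₜ[R] b) : A ⊗[R] (A ⊗[R] A)) = a ⊗ₜ[R] comul (R := R) b := by
  simp [d2]

@[simp] lemma i12_tmul (a b : A) :
    (i12 (a ⊗ₜ[R] b) : A ⊗[R] (A ⊗[R] A)) = a ⊗ₜ[R] (b ⊗ₜ[R] (1 : A)) := by
  simp [i12]

@[simp] lemma i23_apply (w : A ⊗[R] A) :
    (i23 w : A ⊗[R] (A ⊗[R] A)) = (1 : A) ⊗ₜ[R] w := rfl

lemma assoc_eq (z : (A ⊗[R] A) ⊗[R] A) :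
    Algebra.TensorProduct.assoc R R R A A A z = TensorProduct.assoc R A A A z := by
  induction z using TensorProduct.induction_on with
  | zero => simp
  | tmul w c =>
    induction w using TensorProduct.induction_on with
    | zero => simp
    | tmul a b => simp
    | add x y hx hy => rw [add_tmul, map_add, map_add, hx, hy]
  | add x y hx hy => rw [map_add, map_add, hx, hy]

lemma d1_comul (a : A) : (d1 (comul (R := R) a) : A ⊗[R] (A ⊗[R] A)) = d2 (comul (R := R) a) := by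
  have h1 : ∀ z : A ⊗[R] A, (d1 z : A ⊗[R] (A ⊗[R] A)) =
      TensorProduct.assoc R A A A ((comul (R := R) (A := A)).rTensor A z) := by
    intro z
    induction z using TensorProduct.induction_on with
    | zero => simp
    | tmul a b => rw [d1_tmul, assoc_eq, LinearMap.rTensor_tmul]
    | add x y hx hy => rw [map_add, hx, hy, map_add, map_add]
  have h2 : ∀ z : A ⊗[R] A, (d2 z : A ⊗[R] (A ⊗[R] A)) =
      (comul (R := R) (A := A)).lTensor A z := by
    intro z
    induction z using TensorProduct.induction_on with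
    | zero => simp
    | tmul a b => rw [d2_tmul, LinearMap.lTensor_tmul]
    | add x y hx hy => rw [map_add, hx, hy, map_add]
  rw [h1, h2, coassoc_apply]

lemma d1_tmul_self (x : A) :
    (d1 (x ⊗ₜ[R] x) : A ⊗[R] (A ⊗[R] A)) = i12 (comul (R := R) x) * i23 ((1 : A) ⊗ₜ[R] x) := by
  rw [d1_tmul]
  generalize comul (R := R) x = w
  induction w using TensorProduct.induction_on with
  | zero => simp
  | tmul a b =>
    rw [Algebra.TensorProduct.assoc_tmul, i12_tmul, i23_apply, Algebra.TensorProduct.tmul_mul_tmul,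
      Algebra.TensorProduct.tmul_mul_tmul, mul_one, one_mul, mul_one]
  | add p q hp hq => rw [add_tmul, map_add, hp, hq, map_add, add_mul]

lemma d2_tmul_self (x : A) :
    (d2 (x ⊗ₜ[R] x) : A ⊗[R] (A ⊗[R] A)) = i12 (x ⊗ₜ[R] (1 : A)) * i23 (comul (R := R) x) := by
  rw [d2_tmul, i12_tmul, i23_apply, Algebra.TensorProduct.tmul_mul_tmul, mul_one,
    ← Algebra.TensorProduct.one_def, one_mul]

lemma Lam3_i12 (lam : A →ₗ[R] R) (z : A ⊗[R] A) :
    Lam3 lam (i12 z) = (Lam lam z) ⊗ₜ[R] (1 : A) := by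
  induction z using TensorProduct.induction_on with
  | zero => simp
  | tmul a b => rw [i12_tmul, Lam3_tmul, Lam_tmul, TensorProduct.smul_tmul']
  | add x y hx hy => rw [map_add, map_add, hx, hy, map_add, add_tmul]

lemma Lam3_i23 (lam : A →ₗ[R] R) (z : A ⊗[R] A) : Lam3 lam (i23 z) = lam 1 • z := by
  rw [i23_apply, Lam3_tmul]

lemma Lam3_d2 (lam : A →ₗ[R] R) (z : A ⊗[R] A) :
    Lam3 lam (d2 z) = comul (R := R) (Lam lam z) := by
  induction z using TensorProduct.induction_on with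
  | zero => simp
  | tmul a b => rw [d2_tmul, Lam3_tmul, Lam_tmul, map_smul]
  | add x y hx hy => rw [map_add, map_add, hx, hy, map_add, map_add]

lemma Lam3_assoc (lam : A →ₗ[R] R) (w : A ⊗[R] A) (b : A) :
    Lam3 lam (Algebra.TensorProduct.assoc R R R A A A (w ⊗ₜ[R] b)) = (Lam lam w) ⊗ₜ[R] b := by
  induction w using TensorProduct.induction_on with
  | zero => simp
  | tmul a c =>
    rw [Algebra.TensorProduct.assoc_tmul, Lam3_tmul, Lam_tmul, TensorProduct.smul_tmul']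
  | add x y hx hy => rw [add_tmul, map_add, map_add, hx, hy, map_add, add_tmul]

end Maps

section Lift

variable {R : Type*} [CommRing R] {J : Ideal R} (hJ : J * J = ⊥) {A : Type*} [CommRing A]
  [HopfAlgebra R A] (lam : A →ₗ[R] R) (h1 : lam 1 - 1 ∈ J)
  (h2 : ∀ a, Lam lam (comul (R := R) a) - lam a • (1 : A) ∈ J • (⊤ : Submodule R A))

lemma mul_mem_smul_top {S : Type*} [CommRing S] [Algebra R S] (s : S) {n : S}
    (hn : n ∈ J • (⊤ : Submodule R S)) : s * n ∈ J • (⊤ : Submodule R S) :=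
  map_mem_smul_top (LinearMap.mulLeft R s) hn

include h2 in
lemma Lam3_d1_sub (z : A ⊗[R] A) :
    Lam3 lam (d1 z) - (1 : A) ⊗ₜ[R] (Lam lam z) ∈ J • (⊤ : Submodule R (A ⊗[R] A)) := by
  induction z using TensorProduct.induction_on with
  | zero => simp
  | tmul a b =>
    rw [d1_tmul, Lam3_assoc, Lam_tmul]
    have h3 : (1 : A) ⊗ₜ[R] (lam a • b) = (lam a • (1 : A)) ⊗ₜ[R] b := by
      rw [TensorProduct.smul_tmul]
    rw [h3, ← sub_tmul]
    exact map_mem_smul_top ((TensorProduct.mk R A A).flip b) (h2 a)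
  | add x y hx hy =>
    have : Lam3 lam (d1 (x + y)) - (1 : A) ⊗ₜ[R] (Lam lam (x + y)) =
        (Lam3 lam (d1 x) - (1 : A) ⊗ₜ[R] (Lam lam x)) +
          (Lam3 lam (d1 y) - (1 : A) ⊗ₜ[R] (Lam lam y)) := by
      rw [map_add, map_add, map_add, tmul_add]
      abel
    rw [this]
    exact add_mem hx hy

include hJ h2 in
lemma Lam3_d1_of_mem {v : A ⊗[R] A} (hv : v ∈ J • (⊤ : Submodule R (A ⊗[R] A))) :
    Lam3 lam (d1 v) = (1 : A) ⊗ₜ[R] (Lam lam v) := by
  let Θ : A ⊗[R] A →ₗ[R] A ⊗[R] A :=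
    Lam3 lam ∘ₗ (d1 : A ⊗[R] A →ₐ[R] A ⊗[R] (A ⊗[R] A)).toLinearMap -
      (TensorProduct.mk R A A 1) ∘ₗ Lam lam
  have hΘ : ∀ z, Θ z ∈ J • (⊤ : Submodule R (A ⊗[R] A)) := fun z => Lam3_d1_sub lam h2 z
  have := map_eq_zero_of_forall_mem hJ Θ hΘ hv
  exact sub_eq_zero.mp this

include hJ h1 h2 in
/-- lifting group-like elements along a square-zero ideal, given an integral. -/
theorem exists_groupLike_of_sq_zero {x : A} (hx : IsUnit x)
    (hΔ : comul (R := R) x - x ⊗ₜ[R] x ∈ J • (⊤ : Submodule R (A ⊗[R] A))) :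
    ∃ y : A, y - x ∈ J • (⊤ : Submodule R A) ∧ IsGroupLikeElem R y := by
  obtain ⟨ux, rfl⟩ := hx
  set x : A := (ux : A) with hxdef
  set x' : A := ((ux⁻¹ : Aˣ) : A) with hx'def
  have hxx' : x * x' = 1 := Units.mul_inv ux
  set X : A ⊗[R] A := x ⊗ₜ[R] x with hX
  set X' : A ⊗[R] A := x' ⊗ₜ[R] x' with hX'
  have hXX' : X * X' = 1 := by
    rw [hX, hX', Algebra.TensorProduct.tmul_mul_tmul, hxx', Algebra.TensorProduct.one_def]
  set Dx : A ⊗[R] A := comul (R := R) x with hDx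
  set v : A ⊗[R] A := X' * Dx - 1 with hvdef
  have hv : v ∈ J • (⊤ : Submodule R (A ⊗[R] A)) := by
    have : v = X' * (Dx - X) := by
      rw [hvdef, mul_sub, mul_comm X' X, hXX']
    rw [this]
    exact mul_mem_smul_top X' hΔ
  have hDxv : Dx = X * (1 + v) := by
    rw [hvdef]
    linear_combination (-Dx) * hXX'
  -- the cocycle identity
  have hC : (i12 v : A ⊗[R] (A ⊗[R] A)) + d1 v = i23 v + d2 v := by
    have hco : (d1 Dx : A ⊗[R] (A ⊗[R] A)) = d2 Dx := d1_comul x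
    have e1 : (d1 X : A ⊗[R] (A ⊗[R] A)) = i12 Dx * i23 ((1 : A) ⊗ₜ[R] x) := d1_tmul_self x
    have e2 : (d2 X : A ⊗[R] (A ⊗[R] A)) = i12 (x ⊗ₜ[R] (1 : A)) * i23 Dx := d2_tmul_self x
    have e3 : (i12 X : A ⊗[R] (A ⊗[R] A)) * i23 ((1 : A) ⊗ₜ[R] x) =
        i12 (x ⊗ₜ[R] (1 : A)) * i23 X := by
      rw [hX, i12_tmul, i23_apply, i12_tmul, i23_apply, Algebra.TensorProduct.tmul_mul_tmul,
        Algebra.TensorProduct.tmul_mul_tmul, Algebra.TensorProduct.tmul_mul_tmul,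
        Algebra.TensorProduct.tmul_mul_tmul]
      simp
    set X3 : A ⊗[R] (A ⊗[R] A) := i12 X * i23 ((1 : A) ⊗ₜ[R] x) with hX3
    set X3' : A ⊗[R] (A ⊗[R] A) := i12 X' * i23 ((1 : A) ⊗ₜ[R] x') with hX3'
    have hX3X3' : X3 * X3' = 1 := by
      have : X3 * X3' = i12 (X * X') * i23 (((1 : A) ⊗ₜ[R] x) * ((1 : A) ⊗ₜ[R] x')) := by
        rw [hX3, hX3', map_mul, map_mul]
        ring
      rw [this, hXX', Algebra.TensorProduct.tmul_mul_tmul, hxx', one_mul, map_one,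
        ← Algebra.TensorProduct.one_def, map_one, one_mul]
    have z1 : (i12 v : A ⊗[R] (A ⊗[R] A)) * d1 v = 0 :=
      mul_eq_zero_of_mem hJ (map_mem_smul_top (i12 : A ⊗[R] A →ₐ[R] _).toLinearMap hv)
        (map_mem_smul_top (d1 : A ⊗[R] A →ₐ[R] _).toLinearMap hv)
    have z2 : (i23 v : A ⊗[R] (A ⊗[R] A)) * d2 v = 0 :=
      mul_eq_zero_of_mem hJ (map_mem_smul_top (i23 : A ⊗[R] A →ₐ[R] _).toLinearMap hv)
        (map_mem_smul_top (d2 : A ⊗[R] A →ₐ[R] _).toLinearMap hv)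
    have key : X3 * ((1 + i12 v) * (1 + d1 v)) = X3 * ((1 + i23 v) * (1 + d2 v)) := by
      have l1 : (d1 Dx : A ⊗[R] (A ⊗[R] A)) = X3 * ((1 + i12 v) * (1 + d1 v)) := by
        conv_lhs => rw [hDxv, map_mul, map_add, map_one, e1, hDxv, map_mul, map_add, map_one]
        rw [hX3]
        ring
      have l2 : (d2 Dx : A ⊗[R] (A ⊗[R] A)) = X3 * ((1 + i23 v) * (1 + d2 v)) := by
        conv_lhs => rw [hDxv, map_mul, map_add, map_one, e2, hDxv, map_mul, map_add, map_one]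
        rw [← mul_assoc (i12 (x ⊗ₜ[R] (1 : A))), ← e3]
        ring
      rw [← l1, ← l2, hco]
    have key2 : (1 + i12 v) * (1 + d1 v) = (1 + i23 v) * (1 + (d2 v : A ⊗[R] (A ⊗[R] A))) := by
      have := congrArg (fun t => X3' * t) key
      simp only [← mul_assoc, mul_comm X3' X3, hX3X3', one_mul] at this
      exact this
    linear_combination key2 - z1 + z2
  -- apply the integral
  set w : A := Lam lam v with hwdef
  have hw : w ∈ J • (⊤ : Submodule R A) := map_mem_smul_top (Lam lam) hv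
  have hK : w ⊗ₜ[R] (1 : A) + (1 : A) ⊗ₜ[R] w = v + comul (R := R) w := by
    have h3 := congrArg (Lam3 lam) hC
    rw [map_add, map_add, Lam3_i12, Lam3_d1_of_mem hJ lam h2 hv, Lam3_i23, Lam3_d2] at h3
    have h4 : lam 1 • v = v := by
      have : (lam 1 - 1) • v = 0 := smul_eq_zero_of_mem hJ h1 hv
      rw [sub_smul, one_smul, sub_eq_zero] at this
      exact this
    rw [h4] at h3
    exact h3
  have hww : w * w = 0 := mul_eq_zero_of_mem hJ hw hw
  have hvDw : v * comul (R := R) w = 0 :=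
    mul_eq_zero_of_mem hJ hv (map_mem_smul_top (comul (R := R) (A := A)) hw)
  have hW : (w ⊗ₜ[R] (1 : A)) * ((1 : A) ⊗ₜ[R] w) = 0 :=
    mul_eq_zero_of_mem hJ (map_mem_smul_top ((TensorProduct.mk R A A).flip 1) hw)
      (map_mem_smul_top (TensorProduct.mk R A A 1) hw)
  refine ⟨x * (1 + w), ?_, ?_⟩
  · have : x * (1 + w) - x = x * w := by ring
    rw [this]
    exact mul_mem_smul_top x hw
  · have hcomul : comul (R := R) (x * (1 + w)) = (x * (1 + w)) ⊗ₜ[R] (x * (1 + w)) := by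
      have e4 : comul (R := R) (x * (1 + w)) = Dx * (1 + comul (R := R) w) := by
        rw [Bialgebra.comul_mul, map_add, Bialgebra.comul_one]
      have e5 : (x * (1 + w)) ⊗ₜ[R] (x * (1 + w)) =
          X * (1 + w ⊗ₜ[R] (1 : A) + (1 : A) ⊗ₜ[R] w + (w ⊗ₜ[R] (1 : A)) * ((1 : A) ⊗ₜ[R] w)) := by
        rw [hX, ← Algebra.TensorProduct.tmul_mul_tmul, add_tmul, tmul_add, tmul_add,
          Algebra.TensorProduct.tmul_mul_tmul, one_mul, mul_one, ← Algebra.TensorProduct.one_def]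
        ring
      rw [e4, e5, hDxv, hW]
      linear_combination X * hvDw - X * hK
    refine ⟨?_, hcomul⟩
    -- the counit
    have hyu : (x * (1 + w)) * (x' * (1 - w)) = 1 := by
      linear_combination (1 - w * w) * hxx' - hww
    have h5 := rTensor_counit_comul (R := R) (x * (1 + w))
    rw [hcomul, LinearMap.rTensor_tmul] at h5
    have h6 := congrArg (TensorProduct.lid R A) h5
    rw [TensorProduct.lid_tmul, TensorProduct.lid_tmul, one_smul] at h6
    have h7 : (counit (R := R) (x * (1 + w)) - 1) • (1 : A) = 0 := by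
      have : (counit (R := R) (x * (1 + w)) - 1) • (x * (1 + w)) = 0 := by
        rw [sub_smul, one_smul, h6, sub_self]
      have h8 := congrArg (fun t => t * (x' * (1 - w))) this
      simp only [zero_mul, smul_mul_assoc, hyu] at h8
      exact h8
    have h9 := congrArg (counit (R := R)) h7
    rw [map_smul, Bialgebra.counit_one, smul_eq_mul, mul_one, map_zero, sub_eq_zero] at h9
    exact h9

end Lift

end Groth.Agent.Lib.helper15.DefoDiag
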