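import Mathlib
import Groth.Agent.Lib.Helper15.DefoDiag1
import Groth.Agent.Lib.Helper15.RigidDesc
import Groth.Agent.Lib.Helper15.MultLocal

/-!
# Deforming a diagonalisable Hopf algebra along a square-zero ideal (helper15)
-/

set_option autoImplicit false
set_option linter.unusedSectionVars false

namespace Groth.Agent.Lib.helper15.DefoDiag

open TensorProduct Coalgebra

section Uniq

variable {R : Type*} [CommRing R] {J : Ideal R} (hJ : J * J = ⊥) {A : Type*} [CommRing A]
  [HopfAlgebra R A] (lam : A →ₗ[R] R) (h1 : lam 1 - 1 ∈ J)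
  (h2 : ∀ a, Lam lam (comul (R := R) a) - lam a • (1 : A) ∈ J • (⊤ : Submodule R A))

include hJ h1 h2 in
/-- two group-like elements congruent modulo a square-zero ideal are equal (given an integral). -/
theorem groupLike_unique {g g' : A} (hg : IsGroupLikeElem R g) (hg' : IsGroupLikeElem R g')
    (h : g - g' ∈ J • (⊤ : Submodule R A)) : g = g' := by
  set u : A := g * HopfAlgebra.antipode R g' with hu
  have hgl : IsGroupLikeElem R u := hg.mul hg'.antipode
  set s : A := u - 1 with hs
  have hsJ : s ∈ J • (⊤ : Submodule R A) := by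
    have : s = HopfAlgebra.antipode R g' * (g - g') := by
      rw [hs, hu, mul_sub, mul_comm _ g', hg'.mul_antipode_cancel, mul_comm]
    rw [this]
    exact mul_mem_smul_top _ h
  have hus : u = 1 + s := by rw [hs]; ring
  have hW : (s ⊗ₜ[R] (1 : A)) * ((1 : A) ⊗ₜ[R] s) = 0 :=
    mul_eq_zero_of_mem hJ (map_mem_smul_top ((TensorProduct.mk R A A).flip 1) hsJ)
      (map_mem_smul_top (TensorProduct.mk R A A 1) hsJ)
  have hΔ : comul (R := R) s = s ⊗ₜ[R] (1 : A) + (1 : A) ⊗ₜ[R] s := by
    have e1 : comul (R := R) u = u ⊗ₜ[R] u := hgl.comul_eq_tmul_self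
    have e2 : comul (R := R) s = comul (R := R) u - (1 : A) ⊗ₜ[R] (1 : A) := by
      rw [hs, map_sub, Bialgebra.comul_one, Algebra.TensorProduct.one_def]
    have e3 : (s ⊗ₜ[R] (1 : A)) * ((1 : A) ⊗ₜ[R] s) = s ⊗ₜ[R] s := by
      rw [Algebra.TensorProduct.tmul_mul_tmul, mul_one, one_mul]
    rw [e2, e1, hus, add_tmul, tmul_add, tmul_add, ← e3, hW]
    abel
  -- apply the integral
  let Θ : A →ₗ[R] A :=
    Lam lam ∘ₗ (comul (R := R) (A := A)) - (LinearMap.toSpanSingleton R A 1) ∘ₗ lam
  have hΘ : ∀ a, Θ a ∈ J • (⊤ : Submodule R A) := fun a => h2 a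
  have h3 : Θ s = 0 := map_eq_zero_of_forall_mem hJ Θ hΘ hsJ
  have h4 : Lam lam (comul (R := R) s) = lam s • (1 : A) := sub_eq_zero.mp h3
  rw [hΔ, map_add, Lam_tmul, Lam_tmul] at h4
  have h5 : lam 1 • s = 0 := by
    have := h4
    rwa [add_eq_left] at this
  have h6 : (lam 1 - 1) • s = 0 := smul_eq_zero_of_mem hJ h1 hsJ
  have h7 : s = 0 := by
    rw [sub_smul, one_smul, h5, zero_sub, neg_eq_zero] at h6
    exact h6
  have h8 : u = 1 := by rw [hus, h7, add_zero]
  have h9 : g = u * g' := by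
    rw [hu, mul_assoc, hg'.antipode_mul_cancel, mul_one]
  rw [h9, h8, one_mul]

end Uniq

section Ker

variable {R : Type*} [CommRing R] {L : Type*} [CommRing L] [Algebra R L]

lemma tmul_eq_zero_of_mem {N : Type*} [AddCommGroup N] [Module R N] {n : N}
    (hn : n ∈ (RingHom.ker (algebraMap R L)) • (⊤ : Submodule R N)) : (1 : L) ⊗ₜ[R] n = 0 := by
  refine Submodule.smul_induction_on (p := fun n => (1 : L) ⊗ₜ[R] n = 0) hn ?_ ?_
  · intro j hj s _
    rw [TensorProduct.tmul_smul, TensorProduct.smul_tmul', Algebra.smul_def, mul_one,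
      (RingHom.mem_ker).mp hj, TensorProduct.zero_tmul]
  · intro x y hx hy
    rw [TensorProduct.tmul_add, hx, hy, add_zero]

lemma mem_of_tmul_eq_zero (hL : Function.Surjective (algebraMap R L)) {N : Type*} [AddCommGroup N]
    [Module R N] {n : N} (h : (1 : L) ⊗ₜ[R] n = 0) :
    n ∈ (RingHom.ker (algebraMap R L)) • (⊤ : Submodule R N) := by
  let e : (R ⧸ RingHom.ker (Algebra.ofId R L)) ≃ₐ[R] L :=
    Ideal.quotientKerAlgEquivOfSurjective (f := Algebra.ofId R L) hL
  have h1 : (1 : R ⧸ RingHom.ker (Algebra.ofId R L)) ⊗ₜ[R] n = 0 := by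
    apply (TensorProduct.congr e.toLinearEquiv (LinearEquiv.refl R N)).injective
    rw [TensorProduct.congr_tmul, map_zero]
    simpa using h
  have h2 := MultType.sub_mem_of_tmul_eq (RingHom.ker (Algebra.ofId R L)) (x := n) (y := 0)
    (by rw [h1, TensorProduct.tmul_zero])
  rw [sub_zero] at h2
  exact h2

lemma exists_tmul_eq (hL : Function.Surjective (algebraMap R L)) {N : Type*} [AddCommGroup N]
    [Module R N] (y : L ⊗[R] N) : ∃ n : N, (1 : L) ⊗ₜ[R] n = y := by
  induction y using TensorProduct.induction_on with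
  | zero => exact ⟨0, TensorProduct.tmul_zero _ _⟩
  | tmul l n =>
    obtain ⟨r, rfl⟩ := hL l
    refine ⟨r • n, ?_⟩
    rw [TensorProduct.tmul_smul, TensorProduct.smul_tmul', Algebra.smul_def, mul_one]
  | add x y hx hy =>
    obtain ⟨a, rfl⟩ := hx
    obtain ⟨b, rfl⟩ := hy
    exact ⟨a + b, TensorProduct.tmul_add _ _ _⟩

end Ker

section Coeff

variable {S : Type*} [CommRing S] {M : Type*} [CommGroup M]

/-- the coefficient of `1`. -/
noncomputable def c1 : MonoidAlgebra S M →ₗ[S] S :=
  (Finsupp.lapply 1) ∘ₗ (MonoidAlgebra.coeffLinearEquiv S).toLinearMap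

lemma c1_apply (x : MonoidAlgebra S M) : c1 x = x.coeff 1 := rfl

/-- the coefficient of `1` is a left integral on the group algebra. -/
lemma Lam_c1_comul (p : MonoidAlgebra S M) :
    Lam (c1 (S := S) (M := M)) (comul (R := S) p) = c1 p • (1 : MonoidAlgebra S M) := by
  classical
  induction p using MonoidAlgebra.induction_linear with
  | zero => simp
  | add x y hx hy => rw [map_add, map_add, hx, hy, map_add, add_smul]
  | single m c =>
    have hc : ∀ c : S, c1 (MonoidAlgebra.single m c) = if m = 1 then c else 0 := by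
      intro c
      rw [c1_apply, MonoidAlgebra.coeff_single, Finsupp.single_apply]
    rw [MonoidAlgebra.comul_single, CommSemiring.comul_apply, TensorProduct.map_tmul,
      MonoidAlgebra.lsingle_apply, MonoidAlgebra.lsingle_apply, Lam_tmul, hc, hc]
    split_ifs with h
    · rw [h, MonoidAlgebra.one_def, one_smul, MonoidAlgebra.smul_single, smul_eq_mul, mul_one]
    · rw [zero_smul, zero_smul]

end Coeff

section Core

variable {R : Type*} [CommRing R] {L : Type*} [CommRing L] [Algebra R L]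
  {A : Type*} [CommRing A] [HopfAlgebra R A] {M : Type*} [CommGroup M]
  (E₀ : L ⊗[R] A ≃ₐc[L] MonoidAlgebra L M)

/-- `a ↦ E₀ (1 ⊗ a)`. -/
noncomputable def psi : A →ₗ[R] MonoidAlgebra L M :=
  ((E₀ : L ⊗[R] A →ₗ[L] MonoidAlgebra L M).restrictScalars R) ∘ₗ (TensorProduct.mk R L A 1)

lemma psi_apply (a : A) : psi E₀ a = E₀ ((1 : L) ⊗ₜ[R] a) := rfl

lemma psi_one : psi E₀ 1 = 1 := by
  rw [psi_apply, ← Algebra.TensorProduct.one_def, map_one]

lemma psi_mul (a b : A) : psi E₀ (a * b) = psi E₀ a * psi E₀ b := by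
  rw [psi_apply, psi_apply, psi_apply, ← map_mul, Algebra.TensorProduct.tmul_mul_tmul, one_mul]

lemma psi_smul (r : R) (a : A) : psi E₀ (r • a) = algebraMap R L r • psi E₀ a := by
  rw [map_smul, algebraMap_smul]

lemma psi_eq_zero_of_mem {a : A}
    (ha : a ∈ (RingHom.ker (algebraMap R L)) • (⊤ : Submodule R A)) : psi E₀ a = 0 := by
  rw [psi_apply, tmul_eq_zero_of_mem ha, map_zero]

lemma mem_of_psi_eq_zero (hL : Function.Surjective (algebraMap R L)) {a : A}
    (h : psi E₀ a = 0) : a ∈ (RingHom.ker (algebraMap R L)) • (⊤ : Submodule R A) := by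
  apply mem_of_tmul_eq_zero hL
  exact (EmbeddingLike.map_eq_zero_iff (f := E₀)).mp h

/-- `a ⊗ b ↦ ψ a ⊗ ψ b`. -/
noncomputable def psi2 : A ⊗[R] A →ₗ[R] MonoidAlgebra L M ⊗[L] MonoidAlgebra L M :=
  ((TensorProduct.map (E₀ : L ⊗[R] A →ₗ[L] MonoidAlgebra L M)
    (E₀ : L ⊗[R] A →ₗ[L] MonoidAlgebra L M)).restrictScalars R) ∘ₗ Rigid.beta R L A

lemma psi2_tmul (a b : A) : psi2 E₀ (a ⊗ₜ[R] b) = psi E₀ a ⊗ₜ[L] psi E₀ b := by
  rw [psi2, LinearMap.comp_apply, Rigid.beta_tmul]
  rfl

lemma psi2_comul (a : A) : psi2 E₀ (comul (R := R) a) = comul (R := L) (psi E₀ a) := by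
  rw [psi2, LinearMap.comp_apply, Rigid.beta_comul]
  exact CoalgHomClass.map_comp_comul_apply E₀ _

lemma mem_of_psi2_eq_zero (hL : Function.Surjective (algebraMap R L)) {w : A ⊗[R] A}
    (h : psi2 E₀ w = 0) :
    w ∈ (RingHom.ker (algebraMap R L)) • (⊤ : Submodule R (A ⊗[R] A)) := by
  apply mem_of_tmul_eq_zero hL
  apply Rigid.beta_eq_zero
  have hinj : Function.Injective (TensorProduct.map (E₀ : L ⊗[R] A →ₗ[L] MonoidAlgebra L M)
      (E₀ : L ⊗[R] A →ₗ[L] MonoidAlgebra L M)) :=
    (TensorProduct.congr E₀.toCoalgEquiv.toLinearEquiv E₀.toCoalgEquiv.toLinearEquiv).injective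
  apply hinj
  rw [map_zero]
  exact h

lemma psi_Lam (lam : A →ₗ[R] R)
    (hlam : ∀ a, algebraMap R L (lam a) = (psi E₀ a).coeff 1) (w : A ⊗[R] A) :
    psi E₀ (Lam lam w) = Lam (c1 (S := L) (M := M)) (psi2 E₀ w) := by
  induction w using TensorProduct.induction_on with
  | zero => simp
  | tmul a b => rw [Lam_tmul, psi_smul, psi2_tmul, Lam_tmul, c1_apply, hlam]
  | add x y hx hy => rw [map_add, map_add, hx, hy, map_add, map_add]

/-- a linear form compatible with the coefficient of `1` is an integral modulo the kernel. -/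
lemma integral_of_compat (hL : Function.Surjective (algebraMap R L)) (lam : A →ₗ[R] R)
    (hlam : ∀ a, algebraMap R L (lam a) = (psi E₀ a).coeff 1) :
    lam 1 - 1 ∈ RingHom.ker (algebraMap R L) ∧
      ∀ a, Lam lam (comul (R := R) a) - lam a • (1 : A) ∈
        (RingHom.ker (algebraMap R L)) • (⊤ : Submodule R A) := by
  refine ⟨?_, fun a => ?_⟩
  · rw [RingHom.mem_ker, map_sub, hlam, psi_one, MonoidAlgebra.one_def,
      MonoidAlgebra.coeff_single, Finsupp.single_eq_same, RingHom.map_one, sub_self]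
  · apply mem_of_psi_eq_zero E₀ hL
    rw [map_sub, psi_Lam E₀ lam hlam, psi2_comul, Lam_c1_comul, psi_smul, psi_one, hlam, c1_apply,
      sub_self]

end Core

section Family

variable {R : Type*} [CommRing R] {L : Type*} [CommRing L] [Algebra R L]
  {A : Type*} [CommRing A] [HopfAlgebra R A] {M : Type*} [CommGroup M]
  (E₀ : L ⊗[R] A ≃ₐc[L] MonoidAlgebra L M)

variable (R) in
/-- `single m r ↦ r • z m`. -/
noncomputable def F0 (z : M → A) : MonoidAlgebra R M →ₗ[R] A :=
  (Finsupp.linearCombination R z) ∘ₗ (MonoidAlgebra.coeffLinearEquiv R).toLinearMap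

lemma F0_single (z : M → A) (m : M) (r : R) :
    F0 R z (MonoidAlgebra.single m r) = r • z m := by
  simp [F0]

lemma psi_F0 (z : M → A) (hz : ∀ m, psi E₀ (z m) = MonoidAlgebra.single m 1)
    (x : MonoidAlgebra R M) :
    psi E₀ (F0 R z x) = MonoidAlgebra.mapRingHom M (algebraMap R L) x := by
  induction x using MonoidAlgebra.induction_linear with
  | zero => simp
  | add x y hx hy => rw [map_add, map_add, hx, hy, map_add]
  | single m r =>
    rw [F0_single, psi_smul, hz, MonoidAlgebra.mapRingHom_single, MonoidAlgebra.smul_single,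
      smul_eq_mul, mul_one]

lemma mapRingHom_surjective (hL : Function.Surjective (algebraMap R L)) (p : MonoidAlgebra L M) :
    ∃ x : MonoidAlgebra R M, MonoidAlgebra.mapRingHom M (algebraMap R L) x = p := by
  induction p using MonoidAlgebra.induction_linear with
  | zero => exact ⟨0, map_zero _⟩
  | add x y hx hy =>
    obtain ⟨a, rfl⟩ := hx
    obtain ⟨b, rfl⟩ := hy
    exact ⟨a + b, map_add _ _ _⟩
  | single m c =>
    obtain ⟨r, rfl⟩ := hL c
    exact ⟨MonoidAlgebra.single m r, MonoidAlgebra.mapRingHom_single _ _ _⟩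

theorem F0_bijective (hL : Function.Surjective (algebraMap R L))
    (hK : RingHom.ker (algebraMap R L) * RingHom.ker (algebraMap R L) = ⊥) [Module.Flat R A]
    (z : M → A) (hz : ∀ m, psi E₀ (z m) = MonoidAlgebra.single m 1) :
    Function.Bijective (F0 R z) := by
  refine bijective_of_sq_zero hK (F0 R z) ?_ ?_
  · intro a
    obtain ⟨x, hx⟩ := mapRingHom_surjective hL (psi E₀ a)
    refine ⟨x, mem_of_psi_eq_zero E₀ hL ?_⟩
    rw [map_sub, psi_F0 E₀ z hz, hx, sub_self]
  · intro x hx
    have h0 := psi_eq_zero_of_mem E₀ hx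
    rw [psi_F0 E₀ z hz] at h0
    apply MultLocal.mem_smul_top_of_coeff
    intro m
    have h1 : (MonoidAlgebra.mapRingHom M (algebraMap R L) x).coeff m = 0 := by
      rw [h0]
      rfl
    rw [MonoidAlgebra.coeff_mapRingHom] at h1
    exact RingHom.mem_ker.mpr h1

include E₀ in
/-- **Deformation of a diagonalisable Hopf algebra along a square-zero ideal.** -/
theorem nonempty_equiv_of_sq_zero (hL : Function.Surjective (algebraMap R L))
    (hK : RingHom.ker (algebraMap R L) * RingHom.ker (algebraMap R L) = ⊥) [Module.Flat R A] :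
    Nonempty (A ≃ₐc[R] MonoidAlgebra R M) := by
  classical
  have hex : ∀ m : M, ∃ a : A, psi E₀ a = MonoidAlgebra.single m 1 := by
    intro m
    obtain ⟨a, ha⟩ := exists_tmul_eq hL (E₀.symm (MonoidAlgebra.single m 1))
    exact ⟨a, by rw [psi_apply, ha, BialgEquiv.apply_symm_apply]⟩
  choose z hz using hex
  have hbij := F0_bijective E₀ hL hK z hz
  let F : MonoidAlgebra R M ≃ₗ[R] A := LinearEquiv.ofBijective (F0 R z) hbij
  let lam : A →ₗ[R] R := c1 ∘ₗ F.symm.toLinearMap
  have hlam : ∀ a, algebraMap R L (lam a) = (psi E₀ a).coeff 1 := by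
    intro a
    obtain ⟨x, rfl⟩ := hbij.2 a
    have h3 : lam (F0 R z x) = x.coeff 1 := by
      change c1 (F.symm (F x)) = _
      rw [F.symm_apply_apply]
      rfl
    rw [h3, psi_F0 E₀ z hz, MonoidAlgebra.coeff_mapRingHom]
  obtain ⟨h1, h2⟩ := integral_of_compat E₀ hL lam hlam
  -- the lifts are units
  have hunit : ∀ m, IsUnit (z m) := by
    intro m
    set n : A := z m * z m⁻¹ - 1 with hndef
    have hn : n ∈ (RingHom.ker (algebraMap R L)) • (⊤ : Submodule R A) := by
      apply mem_of_psi_eq_zero E₀ hL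
      rw [map_sub, psi_mul, hz, hz, psi_one, MonoidAlgebra.single_mul_single, mul_inv_cancel,
        mul_one, MonoidAlgebra.one_def, sub_self]
    have hnn : n * n = 0 := mul_eq_zero_of_mem hK hn hn
    have h3 : z m * (z m⁻¹ * (1 - n)) = 1 := by
      have h4 : z m * z m⁻¹ = 1 + n := by rw [hndef]; ring
      linear_combination (1 - n) * h4 - hnn
    exact IsUnit.of_mul_eq_one _ h3
  have hΔ : ∀ m, comul (R := R) (z m) - z m ⊗ₜ[R] z m ∈
      (RingHom.ker (algebraMap R L)) • (⊤ : Submodule R (A ⊗[R] A)) := by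
    intro m
    apply mem_of_psi2_eq_zero E₀ hL
    rw [map_sub, psi2_comul, psi2_tmul, hz,
      (MonoidAlgebra.isGroupLikeElem_single_one (R := L) (A := L) m).comul_eq_tmul_self, sub_self]
  choose y hy using fun m => exists_groupLike_of_sq_zero hK lam h1 h2 (hunit m) (hΔ m)
  have hpsiy : ∀ m, psi E₀ (y m) = MonoidAlgebra.single m 1 := by
    intro m
    have h3 := psi_eq_zero_of_mem E₀ (hy m).1
    rw [map_sub, hz, sub_eq_zero] at h3
    exact h3
  -- the character
  let θ : M →* A :=
    { toFun := y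
      map_one' := groupLike_unique hK lam h1 h2 (hy 1).2 IsGroupLikeElem.one
        (mem_of_psi_eq_zero E₀ hL
          (by rw [map_sub, hpsiy, psi_one, MonoidAlgebra.one_def, sub_self]))
      map_mul' := fun m m' => groupLike_unique hK lam h1 h2 (hy (m * m')).2
        ((hy m).2.mul (hy m').2)
        (mem_of_psi_eq_zero E₀ hL
          (by rw [map_sub, psi_mul, hpsiy, hpsiy, hpsiy, MonoidAlgebra.single_mul_single, mul_one,
            sub_self])) }
  let Φ : MonoidAlgebra R M →ₐc[R] A := Rigid.liftGL θ (fun m => (hy m).2)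
  have hΦ : ∀ x, Φ x = F0 R y x := by
    intro x
    induction x using MonoidAlgebra.induction_linear with
    | zero => simp
    | add a b ha hb => rw [map_add, map_add, ha, hb]
    | single m r =>
      rw [Rigid.liftGL_single, F0_single]
      rfl
  have hΦbij : Function.Bijective Φ := by
    have h3 := F0_bijective E₀ hL hK y hpsiy
    have h4 : (Φ : MonoidAlgebra R M → A) = F0 R y := funext hΦ
    rw [h4]
    exact h3
  exact ⟨(BialgEquiv.ofBijective Φ hΦbij).symm⟩

end Family

end Groth.Agent.Lib.helper15.DefoDiag
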