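import Mathlib
import Groth.Agent.Lib.Helper15.DefoDiag2

/-!
# Deforming a diagonalisable Hopf algebra along a nilpotent ideal (helper15)
-/

set_option autoImplicit false

universe u w x

namespace Groth.Agent.Lib.helper15.DefoDiag

open TensorProduct

/-- **Deformation of a diagonalisable Hopf algebra along a nilpotent ideal**: if `R → L` is
surjective with nilpotent kernel, `A` is a flat Hopf algebra over `R` and `L ⊗ A` is
diagonalisable of type `M`, then so is `A`. -/
theorem nonempty_equiv_of_pow_eq_bot (n : ℕ) :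
    ∀ {R : Type u} [CommRing R] {L : Type u} [CommRing L] [Algebra R L]
      (_ : Function.Surjective (algebraMap R L))
      (_ : (RingHom.ker (algebraMap R L)) ^ n = ⊥)
      {A : Type (max u w)} [CommRing A] [HopfAlgebra R A] [Module.Flat R A]
      {M : Type x} [CommGroup M] (_ : L ⊗[R] A ≃ₐc[L] MonoidAlgebra L M),
      Nonempty (A ≃ₐc[R] MonoidAlgebra R M) := by
  induction n with
  | zero =>
    intro R _ L _ _ hL hn A _ _ _ M _ E₀
    have hbot : RingHom.ker (algebraMap R L) = ⊥ := by
      rw [pow_zero, Ideal.one_eq_top] at hn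
      exact le_bot_iff.mp (hn ▸ le_top)
    exact nonempty_equiv_of_sq_zero E₀ hL (by rw [hbot, Ideal.bot_mul])
  | succ n ih =>
    intro R _ L _ _ hL hn A _ _ _ M _ E₀
    by_cases hn0 : n = 0
    · subst hn0
      rw [zero_add, pow_one] at hn
      exact nonempty_equiv_of_sq_zero E₀ hL (by rw [hn, Ideal.bot_mul])
    set J : Ideal R := RingHom.ker (algebraMap R L) with hJ
    set K : Ideal R := J ^ n with hK
    have hKK : K * K = ⊥ := by
      have h1 : K * K = J ^ (n + n) := by rw [hK, ← pow_add]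
      have h2 : J ^ (n + n) ≤ J ^ (n + 1) := Ideal.pow_le_pow_right (by omega)
      rw [h1]
      exact le_bot_iff.mp (hn ▸ h2)
    have hKJ : K ≤ J := by
      rw [hK]
      exact Ideal.pow_le_self hn0
    let φ : R ⧸ K →+* L := Ideal.Quotient.lift K (algebraMap R L)
      (fun a ha => RingHom.mem_ker.mp (hKJ ha))
    letI : Algebra (R ⧸ K) L := φ.toAlgebra
    haveI : IsScalarTower R (R ⧸ K) L := IsScalarTower.of_algebraMap_eq (fun r => rfl)
    have hL' : Function.Surjective (algebraMap (R ⧸ K) L) := by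
      intro l
      obtain ⟨r, rfl⟩ := hL l
      exact ⟨Ideal.Quotient.mk K r, rfl⟩
    have hker : RingHom.ker (algebraMap (R ⧸ K) L) = J.map (Ideal.Quotient.mk K) := by
      ext y
      obtain ⟨r, rfl⟩ := Ideal.Quotient.mk_surjective y
      rw [RingHom.mem_ker]
      constructor
      · intro h
        exact Ideal.mem_map_of_mem _ (RingHom.mem_ker.mpr h)
      · intro h
        rw [Ideal.mem_map_iff_of_surjective _ Ideal.Quotient.mk_surjective] at h
        obtain ⟨r', hr', hrr'⟩ := h
        have h3 : r' - r ∈ K := Ideal.Quotient.eq.mp hrr'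
        have h4 : r ∈ J := by
          have := J.sub_mem hr' (hKJ h3)
          rwa [sub_sub_cancel] at this
        exact RingHom.mem_ker.mp h4
    have hn' : (RingHom.ker (algebraMap (R ⧸ K) L)) ^ n = ⊥ := by
      rw [hker, ← Ideal.map_pow, ← hK, Ideal.map_quotient_self]
    let E₀' : L ⊗[R ⧸ K] ((R ⧸ K) ⊗[R] A) ≃ₐc[L] MonoidAlgebra L M :=
      (MultLocal.cancelBialg R (R ⧸ K) L A).trans E₀
    obtain ⟨E₁⟩ := ih (R := R ⧸ K) (L := L) hL' hn' (A := (R ⧸ K) ⊗[R] A) E₀'
    refine nonempty_equiv_of_sq_zero (L := R ⧸ K) E₁ Ideal.Quotient.mk_surjective ?_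
    have h5 : RingHom.ker (algebraMap R (R ⧸ K)) = K := Ideal.mk_ker
    rw [h5]
    exact hKK

end Groth.Agent.Lib.helper15.DefoDiag
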