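import Mathlib
import Groth.Prelude.Def_SGA3b
import Groth.Agent.Lib.Helper15.RigidDiag
import Groth.Agent.Lib.Helper15.PIDescent
import Groth.Agent.Lib.Helper26.FiniteEtaleLift
import Groth.Agent.Lib.Helper2.Henselian

/-!
# Isotriviality lifts along nil ideals (helper15; SGA3 X)

`R` a ring, `I` a nil ideal, `A` a Hopf algebra of multiplicative type over `R`.
* `fcoverBC`: base change of a trivialising family (`FCover`).
* `isDiag_of_mod_nil_of_ringHom`: if `B` is an `R`-algebra and `(B/IB) ⊗ A` is diagonalisable, so is `B ⊗ A`.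
* `faithfullyFlat_of_mod_nil`, `faithfullyFlat_away_of_mod_nil`: faithful flatness lifts.
* `isIsotrivial_of_mod_nil`, `isQuasiIsotrivial_of_mod_nil`.
-/

set_option autoImplicit false
set_option linter.style.haveILetI false
universe u
open TensorProduct SGA3b

namespace Groth.Agent.Lib.helper15.NilIsotriv

open Groth.Agent.Lib.helper15.Rigid Groth.Agent.Lib.helper15.MultLocal
  Groth.Agent.Lib.helper15.PIDescent

variable {R : Type u} [CommRing R] {A : Type u} [CommRing A] [HopfAlgebra R A]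

/-- base change of a trivialising family -/
noncomputable def fcoverBC (𝒞 : FCover R A) (B : Type u) [CommRing B] [Algebra R B] :
    FCover B (B ⊗[R] A) where
  ι := 𝒞.ι
  S := fun i => B ⊗[R] 𝒞.S i
  flat := fun i => inferInstance
  P := 𝒞.P
  E := fun i => (cancelBialg R B (B ⊗[R] 𝒞.S i) A).trans
      (Classical.choice (nonempty_diag_of_algHom
        (Algebra.TensorProduct.includeRight : 𝒞.S i →ₐ[R] B ⊗[R] 𝒞.S i) (𝒞.E i)))
  ji := by
    intro N _ _ n hn
    letI : Module R N := Module.compHom N (algebraMap R B)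
    haveI : IsScalarTower R B N := IsScalarTower.of_algebraMap_smul fun r n => rfl
    apply 𝒞.ji N n
    intro i
    have h := hn i
    have := congrArg (fun z => TensorProduct.comm R N (𝒞.S i)
      (TensorProduct.AlgebraTensorModule.cancelBaseChange R B B N (𝒞.S i)
        (TensorProduct.comm B (B ⊗[R] 𝒞.S i) N z))) h
    simpa [Algebra.TensorProduct.one_def] using this

lemma le_of_nil {I : Ideal R} (hI : ∀ x ∈ I, IsNilpotent x) (p : Ideal R) [p.IsPrime] : I ≤ p := by
  intro x hx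
  obtain ⟨n, hn⟩ := hI x hx
  exact Ideal.IsPrime.mem_of_pow_mem inferInstance n (hn ▸ p.zero_mem)

lemma comap_mk_surjective (I : Ideal R) (hI : ∀ x ∈ I, IsNilpotent x) :
    Function.Surjective (PrimeSpectrum.comap (Ideal.Quotient.mk I)) := by
  intro p
  have : p ∈ Set.range (PrimeSpectrum.comap (Ideal.Quotient.mk I)) := by
    rw [range_comap_of_surjective _ _ Ideal.Quotient.mk_surjective,
      Ideal.mk_ker, PrimeSpectrum.mem_zeroLocus]
    exact le_of_nil hI p.asIdeal
  exact this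

theorem faithfullyFlat_of_mod_nil (I : Ideal R) (hI : ∀ x ∈ I, IsNilpotent x)
    (T : Type u) [CommRing T] [Algebra R T] [Module.Flat R T]
    (T₀ : Type u) [CommRing T₀] [Algebra (R ⧸ I) T₀] [Module.FaithfullyFlat (R ⧸ I) T₀]
    (g : T →+* T₀)
    (hg : ∀ r, g (algebraMap R T r) = algebraMap (R ⧸ I) T₀ (Ideal.Quotient.mk I r)) :
    Module.FaithfullyFlat R T := by
  apply Module.FaithfullyFlat.of_comap_surjective
  intro p
  obtain ⟨p₀, rfl⟩ := comap_mk_surjective I hI p
  obtain ⟨q₀, rfl⟩ := PrimeSpectrum.comap_surjective_of_faithfullyFlat (A := R ⧸ I) (B := T₀) p₀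
  refine ⟨PrimeSpectrum.comap g q₀, ?_⟩
  have h : g.comp (algebraMap R T) = (algebraMap (R ⧸ I) T₀).comp (Ideal.Quotient.mk I) :=
    RingHom.ext hg
  rw [← PrimeSpectrum.comap_comp_apply, ← PrimeSpectrum.comap_comp_apply, h]

theorem faithfullyFlat_away_of_mod_nil (I : Ideal R) (hI : ∀ x ∈ I, IsNilpotent x) (f : R)
    (Rf : Type u) [CommRing Rf] [Algebra R Rf] [IsLocalization.Away f Rf]
    (R₀f : Type u) [CommRing R₀f] [Algebra (R ⧸ I) R₀f]
    [IsLocalization.Away (Ideal.Quotient.mk I f) R₀f]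
    (B : Type u) [CommRing B] [Algebra R B] [Algebra Rf B] [IsScalarTower R Rf B]
    [Module.Flat Rf B]
    (R'₀ : Type u) [CommRing R'₀] [Algebra R₀f R'₀] [Module.FaithfullyFlat R₀f R'₀]
    (ψ : B →+* R'₀)
    (hψ : ∀ r : R, ψ (algebraMap R B r) =
      algebraMap R₀f R'₀ (algebraMap (R ⧸ I) R₀f (Ideal.Quotient.mk I r))) :
    Module.FaithfullyFlat Rf B := by
  apply Module.FaithfullyFlat.of_comap_surjective
  intro x
  obtain ⟨y, hy⟩ := comap_mk_surjective I hI (PrimeSpectrum.comap (algebraMap R Rf) x)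
  have hy' : y ∈ Set.range (PrimeSpectrum.comap (algebraMap (R ⧸ I) R₀f)) := by
    rw [PrimeSpectrum.localization_away_comap_range R₀f (Ideal.Quotient.mk I f)]
    rw [SetLike.mem_coe, PrimeSpectrum.mem_basicOpen]
    intro hmem
    have h1 : f ∈ (PrimeSpectrum.comap (Ideal.Quotient.mk I) y).asIdeal := hmem
    rw [hy] at h1
    have h2 : PrimeSpectrum.comap (algebraMap R Rf) x ∈
        Set.range (PrimeSpectrum.comap (algebraMap R Rf)) := ⟨x, rfl⟩
    rw [PrimeSpectrum.localization_away_comap_range Rf f] at h2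
    exact h2 h1
  obtain ⟨z, rfl⟩ := hy'
  obtain ⟨w, rfl⟩ := PrimeSpectrum.comap_surjective_of_faithfullyFlat (A := R₀f) (B := R'₀) z
  refine ⟨PrimeSpectrum.comap ψ w, ?_⟩
  apply PrimeSpectrum.localization_comap_injective Rf (Submonoid.powers f)
  rw [← hy]
  have h : (ψ.comp (algebraMap Rf B)).comp (algebraMap R Rf) =
      ((algebraMap R₀f R'₀).comp (algebraMap (R ⧸ I) R₀f)).comp (Ideal.Quotient.mk I) := by
    ext r
    simp only [RingHom.comp_apply]
    rw [← IsScalarTower.algebraMap_apply, hψ]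
  simp only [← PrimeSpectrum.comap_comp_apply]
  rw [h]

/-- the key lifting statement: `B ⊗ A` is diagonalisable as soon as `(B/IB) ⊗ A` is. -/
theorem isDiag_of_mod_nil_of_ringHom (I : Ideal R) (hI : ∀ x ∈ I, IsNilpotent x) (𝒞 : FCover R A)
    (B : Type u) [CommRing B] [Algebra R B]
    (K : Type u) [CommRing K] [Algebra (R ⧸ I) K]
    (σ : K →+* B ⧸ I.map (algebraMap R B))
    (hσ : ∀ r : R, σ (algebraMap (R ⧸ I) K (Ideal.Quotient.mk I r)) =
      Ideal.Quotient.mk _ (algebraMap R B r))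
    (hK : IsDiag K (K ⊗[R ⧸ I] ((R ⧸ I) ⊗[R] A))) :
    IsDiag B (B ⊗[R] A) := by
  obtain ⟨M, _, ⟨E₀⟩⟩ := hK
  let σ' : K →ₐ[R ⧸ I] B ⧸ I.map (algebraMap R B) :=
    { σ with
      commutes' := by
        intro x
        obtain ⟨r, rfl⟩ := Ideal.Quotient.mk_surjective x
        exact hσ r }
  obtain ⟨E₁⟩ := nonempty_diag_of_algHom σ' E₀
  let E₂ := (cancelBialg R (R ⧸ I) (B ⧸ I.map (algebraMap R B)) A).symm.trans E₁
  let E₃ := (cancelBialg R B (B ⧸ I.map (algebraMap R B)) A).trans E₂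
  exact isDiag_of_fcover_mod_nil B (B ⊗[R] A) (I.map (algebraMap R B)) (nil_map hI)
    (fcoverBC 𝒞 B) ⟨M, inferInstance, ⟨E₃⟩⟩

open Groth.Agent.Lib.helper26.FiniteEtaleLift Groth.Agent.Lib.helper2 in
theorem isIsotrivial_of_mod_nil (I : Ideal R) (hI : ∀ x ∈ I, IsNilpotent x) (𝒞 : FCover R A)
    (h0 : IsIsotrivial (R ⧸ I) ((R ⧸ I) ⊗[R] A)) : IsIsotrivial R A := by
  obtain ⟨T₀, _, _, het₀, hfin₀, hff₀, hd⟩ := h0
  have hH : HenselianRing R I := henselianRing_of_locally_nilpotent I hI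
  obtain ⟨T, _, _, hfin, het, ⟨ε⟩⟩ := exists_finite_etale_lift I hH T₀
  let g : T →+* T₀ := (ε : (R ⧸ I) ⊗[R] T →+* T₀).comp
    (Algebra.TensorProduct.includeRight : T →ₐ[R] (R ⧸ I) ⊗[R] T).toRingHom
  have hg : ∀ r, g (algebraMap R T r) = algebraMap (R ⧸ I) T₀ (Ideal.Quotient.mk I r) := by
    intro r
    have h1 : (Algebra.TensorProduct.includeRight : T →ₐ[R] (R ⧸ I) ⊗[R] T) (algebraMap R T r) =
        algebraMap (R ⧸ I) ((R ⧸ I) ⊗[R] T) (Ideal.Quotient.mk I r) := by
      rw [AlgHom.commutes]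
      rfl
    change ε ((Algebra.TensorProduct.includeRight : T →ₐ[R] (R ⧸ I) ⊗[R] T) (algebraMap R T r)) = _
    rw [h1, AlgEquiv.commutes]
  have hff : Module.FaithfullyFlat R T := faithfullyFlat_of_mod_nil I hI T T₀ g hg
  let σ : T₀ →+* T ⧸ I.map (algebraMap R T) :=
    ((Algebra.TensorProduct.quotIdealMapEquivQuotTensor T I).symm :
      (R ⧸ I) ⊗[R] T →+* T ⧸ I.map (algebraMap R T)).comp (ε.symm : T₀ →+* (R ⧸ I) ⊗[R] T)
  have hσ : ∀ r : R, σ (algebraMap (R ⧸ I) T₀ (Ideal.Quotient.mk I r)) =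
      Ideal.Quotient.mk _ (algebraMap R T r) := by
    intro r
    change (Algebra.TensorProduct.quotIdealMapEquivQuotTensor T I).symm
      (ε.symm (algebraMap (R ⧸ I) T₀ (Ideal.Quotient.mk I r))) = _
    rw [AlgEquiv.commutes, AlgEquiv.commutes]
    rfl
  exact ⟨T, _, _, het, hfin, hff, isDiag_of_mod_nil_of_ringHom I hI 𝒞 T T₀ σ hσ hd⟩

open Groth.Agent.Lib.helper26.FiniteEtaleLift in
theorem isQuasiIsotrivial_of_mod_nil (I : Ideal R) (hI : ∀ x ∈ I, IsNilpotent x) (𝒞 : FCover R A)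
    (h0 : IsQuasiIsotrivial (R ⧸ I) ((R ⧸ I) ⊗[R] A)) : IsQuasiIsotrivial R A := by
  obtain ⟨s₀, hs₀, hcov⟩ := h0
  refine ⟨(Ideal.Quotient.mk I) ⁻¹' s₀, ?_, ?_⟩
  · have h1 : Ideal.map (Ideal.Quotient.mk I) (Ideal.span ((Ideal.Quotient.mk I) ⁻¹' s₀)) = ⊤ := by
      rw [Ideal.map_span, Set.image_preimage_eq _ Ideal.Quotient.mk_surjective, hs₀]
    by_contra hne
    obtain ⟨m, hm, hle⟩ := Ideal.exists_le_maximal _ hne
    haveI := hm.isPrime
    have hIm : I ≤ m := le_of_nil hI m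
    have h2 : Ideal.map (Ideal.Quotient.mk I) m = ⊤ :=
      top_le_iff.mp (h1 ▸ Ideal.map_mono hle)
    have h3 := congrArg (Ideal.comap (Ideal.Quotient.mk I)) h2
    rw [Ideal.comap_map_of_surjective' _ Ideal.Quotient.mk_surjective, Ideal.mk_ker,
      Ideal.comap_top, sup_eq_left.mpr hIm] at h3
    exact hm.ne_top h3
  · intro f hf
    obtain ⟨R'₀, _, _, het₀, hff₀, hd⟩ := hcov (Ideal.Quotient.mk I f) hf
    letI : Algebra (R ⧸ I) R'₀ :=
      ((algebraMap (Localization.Away (Ideal.Quotient.mk I f)) R'₀).comp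
        (algebraMap (R ⧸ I) (Localization.Away (Ideal.Quotient.mk I f)))).toAlgebra
    haveI : IsScalarTower (R ⧸ I) (Localization.Away (Ideal.Quotient.mk I f)) R'₀ :=
      IsScalarTower.of_algebraMap_eq fun _ => rfl
    haveI : Algebra.Etale (R ⧸ I) (Localization.Away (Ideal.Quotient.mk I f)) :=
      Algebra.Etale.of_isLocalizationAway (Ideal.Quotient.mk I f)
    haveI : Algebra.Etale (R ⧸ I) R'₀ :=
      Algebra.Etale.comp (R ⧸ I) (Localization.Away (Ideal.Quotient.mk I f)) R'₀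
    obtain ⟨B, _, _, hBet, ψ, hψA, hψsurj, hψker⟩ := exists_etale_lift I R'₀
    have hfu : IsUnit (algebraMap R B f) := by
      have hu0 : IsUnit (ψ (algebraMap R B f)) := by
        rw [hψA]
        exact (IsLocalization.Away.algebraMap_isUnit (Ideal.Quotient.mk I f)).map
          (algebraMap (Localization.Away (Ideal.Quotient.mk I f)) R'₀)
      obtain ⟨b, hb⟩ := hψsurj ((hu0.unit⁻¹ : R'₀ˣ) : R'₀)
      have hk : algebraMap R B f * b - 1 ∈ RingHom.ker ψ := by
        rw [RingHom.mem_ker, map_sub, map_mul, hb, map_one, IsUnit.mul_val_inv, sub_self]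
      rw [hψker] at hk
      have hn : IsNilpotent (algebraMap R B f * b - 1) := nil_map hI _ hk
      have h1 : IsUnit (algebraMap R B f * b) := by
        have := hn.isUnit_add_one
        simpa using this
      exact isUnit_of_mul_isUnit_left h1
    letI algRfB : Algebra (Localization.Away f) B := (IsLocalization.Away.lift f hfu).toAlgebra
    haveI : IsScalarTower R (Localization.Away f) B :=
      IsScalarTower.of_algebraMap_eq fun r => (IsLocalization.Away.lift_eq f hfu r).symm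
    haveI : Algebra.Etale R (Localization.Away f) := Algebra.Etale.of_isLocalizationAway f
    haveI hetB : Algebra.Etale (Localization.Away f) B := Algebra.Etale.of_restrictScalars R (Localization.Away f) B
    have hff : Module.FaithfullyFlat (Localization.Away f) B :=
      faithfullyFlat_away_of_mod_nil I hI f (Localization.Away f)
        (Localization.Away (Ideal.Quotient.mk I f)) B R'₀ ψ hψA
    have hd' : IsDiag R'₀ (R'₀ ⊗[R ⧸ I] ((R ⧸ I) ⊗[R] A)) := by
      obtain ⟨M, _, ⟨E⟩⟩ := hd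
      exact ⟨M, inferInstance,
        ⟨(cancelBialg (R ⧸ I) (Localization.Away (Ideal.Quotient.mk I f)) R'₀
          ((R ⧸ I) ⊗[R] A)).symm.trans E⟩⟩
    let ε₀ : B ⧸ RingHom.ker ψ ≃+* R'₀ := RingHom.quotientKerEquivOfSurjective hψsurj
    let ε : B ⧸ I.map (algebraMap R B) ≃+* R'₀ := (Ideal.quotEquivOfEq hψker.symm).trans ε₀
    have hε : ∀ b, ε (Ideal.Quotient.mk _ b) = ψ b := fun b => rfl
    have hσ : ∀ r : R, (ε.symm : R'₀ →+* B ⧸ I.map (algebraMap R B))
        (algebraMap (R ⧸ I) R'₀ (Ideal.Quotient.mk I r)) =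
          Ideal.Quotient.mk _ (algebraMap R B r) := by
      intro r
      rw [← hψA, ← hε]
      exact ε.symm_apply_apply _
    obtain ⟨M, _, ⟨E⟩⟩ := isDiag_of_mod_nil_of_ringHom I hI 𝒞 B R'₀ _ hσ hd'
    exact ⟨B, inferInstance, algRfB, hetB, hff, ⟨M, inferInstance,
      ⟨(cancelBialg R (Localization.Away f) B A).trans E⟩⟩⟩

end Groth.Agent.Lib.helper15.NilIsotriv
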