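import Mathlib
import Groth.Prelude.Def_SGA3b
import Groth.Agent.Lib.Helper15.DefoDiag3
import Groth.Agent.Lib.Helper15.NilIsotriv

/-!
# Quasi-isotriviality and isotriviality lift along nilpotent ideals, for flat groups (helper15)

SGA3 X 2.1/2.3 in Hopf-algebra form: `R` a ring, `I` a nilpotent ideal, `A` a *flat* Hopf algebra over
`R` (not assumed of multiplicative type).
-/

set_option autoImplicit false
set_option linter.style.haveILetI false
universe u
open TensorProduct SGA3b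

namespace Groth.Agent.Lib.helper15.DefoDiag

open Groth.Agent.Lib.helper15.Rigid Groth.Agent.Lib.helper15.MultLocal
  Groth.Agent.Lib.helper15.PIDescent Groth.Agent.Lib.helper15.NilIsotriv

variable {R : Type u} [CommRing R] {A : Type u} [CommRing A] [HopfAlgebra R A]

lemma nil_of_isNilpotent {I : Ideal R} (hI : IsNilpotent I) : ∀ x ∈ I, IsNilpotent x := by
  obtain ⟨n, hn⟩ := hI
  intro x hx
  refine ⟨n, ?_⟩
  have h1 : x ^ n ∈ I ^ n := Ideal.pow_mem_pow hx n
  rw [hn, Ideal.zero_eq_bot] at h1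
  exact (Submodule.mem_bot R).mp h1

/-- the key lifting statement: `B ⊗ A` is diagonalisable as soon as `(B/IB) ⊗ A` is. -/
theorem isDiag_of_mod_nilpotent_of_ringHom [Module.Flat R A] (I : Ideal R) (hI : IsNilpotent I)
    (B : Type u) [CommRing B] [Algebra R B]
    (K : Type u) [CommRing K] [Algebra (R ⧸ I) K]
    (σ : K →+* B ⧸ I.map (algebraMap R B))
    (hσ : ∀ r : R, σ (algebraMap (R ⧸ I) K (Ideal.Quotient.mk I r)) =
      Ideal.Quotient.mk _ (algebraMap R B r))
    (hK : IsDiag K (K ⊗[R ⧸ I] ((R ⧸ I) ⊗[R] A))) :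
    IsDiag B (B ⊗[R] A) := by
  obtain ⟨M, _, ⟨E₀⟩⟩ := hK
  let σ' : K →ₐ[R ⧸ I] B ⧸ I.map (algebraMap R B) :=
    { σ with
      commutes' := by
        intro x
        obtain ⟨r, rfl⟩ := Ideal.Quotient.mk_surjective x
        exact hσ r }
  obtain ⟨E₁⟩ := nonempty_diag_of_algHom σ' E₀
  let E₂ := (cancelBialg R (R ⧸ I) (B ⧸ I.map (algebraMap R B)) A).symm.trans E₁
  let E₃ := (cancelBialg R B (B ⧸ I.map (algebraMap R B)) A).trans E₂
  obtain ⟨n, hn⟩ := hI
  have hker : (RingHom.ker (algebraMap B (B ⧸ I.map (algebraMap R B)))) ^ n = ⊥ := by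
    have h1 : RingHom.ker (algebraMap B (B ⧸ I.map (algebraMap R B))) = I.map (algebraMap R B) :=
      Ideal.mk_ker
    rw [h1, ← Ideal.map_pow, hn, Ideal.zero_eq_bot, Ideal.map_bot]
  obtain ⟨E⟩ := nonempty_equiv_of_pow_eq_bot.{u, u, u} n (R := B)
    (L := B ⧸ I.map (algebraMap R B)) Ideal.Quotient.mk_surjective hker (A := B ⊗[R] A) E₃
  exact ⟨M, inferInstance, ⟨E⟩⟩

open Groth.Agent.Lib.helper26.FiniteEtaleLift Groth.Agent.Lib.helper2 in
theorem isIsotrivial_of_mod_nilpotent [Module.Flat R A] (I : Ideal R) (hI : IsNilpotent I)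
    (h0 : IsIsotrivial (R ⧸ I) ((R ⧸ I) ⊗[R] A)) : IsIsotrivial R A := by
  have hI' := nil_of_isNilpotent hI
  obtain ⟨T₀, _, _, het₀, hfin₀, hff₀, hd⟩ := h0
  have hH : HenselianRing R I := henselianRing_of_locally_nilpotent I hI'
  obtain ⟨T, _, _, hfin, het, ⟨ε⟩⟩ := exists_finite_etale_lift I hH T₀
  let g : T →+* T₀ := (ε : (R ⧸ I) ⊗[R] T →+* T₀).comp
    (Algebra.TensorProduct.includeRight : T →ₐ[R] (R ⧸ I) ⊗[R] T).toRingHom
  have hg : ∀ r, g (algebraMap R T r) = algebraMap (R ⧸ I) T₀ (Ideal.Quotient.mk I r) := by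
    intro r
    have h1 : (Algebra.TensorProduct.includeRight : T →ₐ[R] (R ⧸ I) ⊗[R] T) (algebraMap R T r) =
        algebraMap (R ⧸ I) ((R ⧸ I) ⊗[R] T) (Ideal.Quotient.mk I r) := by
      rw [AlgHom.commutes]
      rfl
    change ε ((Algebra.TensorProduct.includeRight : T →ₐ[R] (R ⧸ I) ⊗[R] T) (algebraMap R T r)) = _
    rw [h1, AlgEquiv.commutes]
  have hff : Module.FaithfullyFlat R T := faithfullyFlat_of_mod_nil I hI' T T₀ g hg
  let σ : T₀ →+* T ⧸ I.map (algebraMap R T) :=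
    ((Algebra.TensorProduct.quotIdealMapEquivQuotTensor T I).symm :
      (R ⧸ I) ⊗[R] T →+* T ⧸ I.map (algebraMap R T)).comp (ε.symm : T₀ →+* (R ⧸ I) ⊗[R] T)
  have hσ : ∀ r : R, σ (algebraMap (R ⧸ I) T₀ (Ideal.Quotient.mk I r)) =
      Ideal.Quotient.mk _ (algebraMap R T r) := by
    intro r
    change (Algebra.TensorProduct.quotIdealMapEquivQuotTensor T I).symm
      (ε.symm (algebraMap (R ⧸ I) T₀ (Ideal.Quotient.mk I r))) = _
    rw [AlgEquiv.commutes, AlgEquiv.commutes]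
    rfl
  exact ⟨T, _, _, het, hfin, hff, isDiag_of_mod_nilpotent_of_ringHom I hI T T₀ σ hσ hd⟩

open Groth.Agent.Lib.helper26.FiniteEtaleLift in
theorem isQuasiIsotrivial_of_mod_nilpotent [Module.Flat R A] (I : Ideal R) (hI : IsNilpotent I)
    (h0 : IsQuasiIsotrivial (R ⧸ I) ((R ⧸ I) ⊗[R] A)) : IsQuasiIsotrivial R A := by
  have hI' := nil_of_isNilpotent hI
  obtain ⟨s₀, hs₀, hcov⟩ := h0
  refine ⟨(Ideal.Quotient.mk I) ⁻¹' s₀, ?_, ?_⟩
  · have h1 : Ideal.map (Ideal.Quotient.mk I) (Ideal.span ((Ideal.Quotient.mk I) ⁻¹' s₀)) = ⊤ := by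
      rw [Ideal.map_span, Set.image_preimage_eq _ Ideal.Quotient.mk_surjective, hs₀]
    by_contra hne
    obtain ⟨m, hm, hle⟩ := Ideal.exists_le_maximal _ hne
    haveI := hm.isPrime
    have hIm : I ≤ m := le_of_nil hI' m
    have h2 : Ideal.map (Ideal.Quotient.mk I) m = ⊤ :=
      top_le_iff.mp (h1 ▸ Ideal.map_mono hle)
    have h3 := congrArg (Ideal.comap (Ideal.Quotient.mk I)) h2
    rw [Ideal.comap_map_of_surjective' _ Ideal.Quotient.mk_surjective, Ideal.mk_ker,
      Ideal.comap_top, sup_eq_left.mpr hIm] at h3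
    exact hm.ne_top h3
  · intro f hf
    obtain ⟨R'₀, _, _, het₀, hff₀, hd⟩ := hcov (Ideal.Quotient.mk I f) hf
    letI : Algebra (R ⧸ I) R'₀ :=
      ((algebraMap (Localization.Away (Ideal.Quotient.mk I f)) R'₀).comp
        (algebraMap (R ⧸ I) (Localization.Away (Ideal.Quotient.mk I f)))).toAlgebra
    haveI : IsScalarTower (R ⧸ I) (Localization.Away (Ideal.Quotient.mk I f)) R'₀ :=
      IsScalarTower.of_algebraMap_eq fun _ => rfl
    haveI : Algebra.Etale (R ⧸ I) (Localization.Away (Ideal.Quotient.mk I f)) :=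
      Algebra.Etale.of_isLocalizationAway (Ideal.Quotient.mk I f)
    haveI : Algebra.Etale (R ⧸ I) R'₀ :=
      Algebra.Etale.comp (R ⧸ I) (Localization.Away (Ideal.Quotient.mk I f)) R'₀
    obtain ⟨B, _, _, hBet, ψ, hψA, hψsurj, hψker⟩ := exists_etale_lift I R'₀
    have hfu : IsUnit (algebraMap R B f) := by
      have hu0 : IsUnit (ψ (algebraMap R B f)) := by
        rw [hψA]
        exact (IsLocalization.Away.algebraMap_isUnit (Ideal.Quotient.mk I f)).map
          (algebraMap (Localization.Away (Ideal.Quotient.mk I f)) R'₀)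
      obtain ⟨b, hb⟩ := hψsurj ((hu0.unit⁻¹ : R'₀ˣ) : R'₀)
      have hk : algebraMap R B f * b - 1 ∈ RingHom.ker ψ := by
        rw [RingHom.mem_ker, map_sub, map_mul, hb, map_one, IsUnit.mul_val_inv, sub_self]
      rw [hψker] at hk
      have hn : IsNilpotent (algebraMap R B f * b - 1) := nil_map hI' _ hk
      have h1 : IsUnit (algebraMap R B f * b) := by
        have := hn.isUnit_add_one
        simpa using this
      exact isUnit_of_mul_isUnit_left h1
    letI algRfB : Algebra (Localization.Away f) B := (IsLocalization.Away.lift f hfu).toAlgebra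
    haveI : IsScalarTower R (Localization.Away f) B :=
      IsScalarTower.of_algebraMap_eq fun r => (IsLocalization.Away.lift_eq f hfu r).symm
    haveI : Algebra.Etale R (Localization.Away f) := Algebra.Etale.of_isLocalizationAway f
    haveI hetB : Algebra.Etale (Localization.Away f) B :=
      Algebra.Etale.of_restrictScalars R (Localization.Away f) B
    have hff : Module.FaithfullyFlat (Localization.Away f) B :=
      faithfullyFlat_away_of_mod_nil I hI' f (Localization.Away f)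
        (Localization.Away (Ideal.Quotient.mk I f)) B R'₀ ψ hψA
    have hd' : IsDiag R'₀ (R'₀ ⊗[R ⧸ I] ((R ⧸ I) ⊗[R] A)) := by
      obtain ⟨M, _, ⟨E⟩⟩ := hd
      exact ⟨M, inferInstance,
        ⟨(cancelBialg (R ⧸ I) (Localization.Away (Ideal.Quotient.mk I f)) R'₀
          ((R ⧸ I) ⊗[R] A)).symm.trans E⟩⟩
    let ε₀ : B ⧸ RingHom.ker ψ ≃+* R'₀ := RingHom.quotientKerEquivOfSurjective hψsurj
    let ε : B ⧸ I.map (algebraMap R B) ≃+* R'₀ := (Ideal.quotEquivOfEq hψker.symm).trans ε₀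
    have hε : ∀ b, ε (Ideal.Quotient.mk _ b) = ψ b := fun b => rfl
    have hσ : ∀ r : R, (ε.symm : R'₀ →+* B ⧸ I.map (algebraMap R B))
        (algebraMap (R ⧸ I) R'₀ (Ideal.Quotient.mk I r)) =
          Ideal.Quotient.mk _ (algebraMap R B r) := by
      intro r
      rw [← hψA, ← hε]
      exact ε.symm_apply_apply _
    obtain ⟨M, _, ⟨E⟩⟩ := isDiag_of_mod_nilpotent_of_ringHom I hI B R'₀ _ hσ hd'
    exact ⟨B, inferInstance, algRfB, hetB, hff, ⟨M, inferInstance,
      ⟨(cancelBialg R (Localization.Away f) B A).trans E⟩⟩⟩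

end Groth.Agent.Lib.helper15.DefoDiag
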