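import Mathlib
import Groth.Agent.Lib.Helper26.Depth7
import Groth.Agent.Lib.Helper26.DepthKer
import Groth.Agent.Lib.Helper26.Reflexive

/-!
# Duals of finite modules over regular rings of dimension `≤ 2` are projective (helper15)

* `free_ker_of_dim_le_two`: over a regular local ring of dimension `≤ 2`, the kernel of a map of
  finite free modules is free (second syzygies; via helper26's depth library).
* `projective_ker`: globally, over a regular ring of dimension `≤ 2`, such a kernel is projective.
* `projective_dual`: `Module.Dual R E` is (finite and) projective for every finite `R`-module `E`.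
-/

set_option autoImplicit false
set_option linter.style.haveILetI false
universe u

open LocCoh IsLocalRing

namespace Groth.Agent.Lib.helper15.DualProjReg

open Groth.Agent.Lib.helper26.Depth

theorem free_ker_of_dim_le_two (A : Type u) [CommRing A] [IsRegularLocalRing A]
    (hdim : ringKrullDim A ≤ 2) (M0 M1 : Type u) [AddCommGroup M0] [Module A M0]
    [Module.Finite A M0] [Module.Free A M0] [AddCommGroup M1] [Module A M1] [Module.Finite A M1]
    [Module.Free A M1] (u : M0 →ₗ[A] M1) : Module.Free A (LinearMap.ker u) := by
  by_cases hsub : Subsingleton (LinearMap.ker u)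
  · exact Module.Free.of_subsingleton A _
  rw [not_subsingleton_iff_nontrivial] at hsub
  apply free_of_depth_eq_ringKrullDim A (LinearMap.ker u)
  have h1 : ((depth A (LinearMap.ker u) : ℕ∞) : WithBot ℕ∞) ≤ ringKrullDim A :=
    (depth_le_supportDim (A := A) (LinearMap.ker u)).trans
      (Module.supportDim_le_ringKrullDim A (LinearMap.ker u))
  apply le_antisymm h1
  have hA := depth_eq_ringKrullDim_of_isRegularLocalRing A
  rw [← hA]
  rw [← hA] at hdim
  have hd2 : depth A A ≤ 2 := by
    have h2 : ((depth A A : ℕ∞) : WithBot ℕ∞) ≤ ((2 : ℕ∞) : WithBot ℕ∞) := hdim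
    exact WithBot.coe_le_coe.mp h2
  rw [WithBot.coe_le_coe]
  have h1' : 1 ≤ idealDepth (maximalIdeal A) A →
      1 ≤ idealDepth (maximalIdeal A) (LinearMap.ker u) := fun h =>
    one_le_idealDepth_of_injective (maximalIdeal A) (LinearMap.ker u).subtype
      (LinearMap.ker u).injective_subtype (le_idealDepth_of_free (maximalIdeal A) 1 h M0)
  have h2' : 2 ≤ idealDepth (maximalIdeal A) A →
      2 ≤ idealDepth (maximalIdeal A) (LinearMap.ker u) := fun h =>
    two_le_idealDepth_ker (maximalIdeal A) u (le_idealDepth_of_free (maximalIdeal A) 2 h M0)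
      (le_idealDepth_of_free (maximalIdeal A) 1 ((by norm_num : (1 : ℕ∞) ≤ 2).trans h) M1)
  change idealDepth (maximalIdeal A) A ≤ idealDepth (maximalIdeal A) (LinearMap.ker u)
  change idealDepth (maximalIdeal A) A ≤ 2 at hd2
  generalize hd : idealDepth (maximalIdeal A) A = d at *
  have hdtop : d ≠ ⊤ := by
    rintro rfl
    simp at hd2
  obtain ⟨n, rfl⟩ := ENat.ne_top_iff_exists.mp hdtop
  have hn : n ≤ 2 := by exact_mod_cast hd2
  interval_cases n
  · simp
  · exact h1' le_rfl
  · exact h2' le_rfl

theorem projective_ker (R : Type u) [CommRing R] [IsRegularRing R] (hdim : ringKrullDim R ≤ 2)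
    (M0 M1 : Type u) [AddCommGroup M0] [Module R M0] [Module.Finite R M0] [Module.Free R M0]
    [AddCommGroup M1] [Module R M1] [Module.Finite R M1] [Module.Free R M1] (u : M0 →ₗ[R] M1) :
    Module.Projective R (LinearMap.ker u) := by
  haveI : Module.FinitePresentation R (LinearMap.ker u) := Module.finitePresentation_of_finite R _
  apply Module.projective_of_localization_maximal
  intro P hP
  have hdimp : ringKrullDim (Localization.AtPrime P) ≤ 2 := by
    rw [IsLocalization.AtPrime.ringKrullDim_eq_height P (Localization.AtPrime P)]
    exact (Ideal.height_le_ringKrullDim_of_ne_top hP.ne_top).trans hdim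
  haveI : Module.Free (Localization.AtPrime P) (LocalizedModule P.primeCompl M0) :=
    Module.free_of_isLocalizedModule P.primeCompl (LocalizedModule.mkLinearMap P.primeCompl M0)
  haveI : Module.Free (Localization.AtPrime P) (LocalizedModule P.primeCompl M1) :=
    Module.free_of_isLocalizedModule P.primeCompl (LocalizedModule.mkLinearMap P.primeCompl M1)
  have hfree := free_ker_of_dim_le_two (Localization.AtPrime P) hdimp
    (LocalizedModule P.primeCompl M0) (LocalizedModule P.primeCompl M1)
    ((IsLocalizedModule.map P.primeCompl (LocalizedModule.mkLinearMap P.primeCompl M0)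
      (LocalizedModule.mkLinearMap P.primeCompl M1) u).extendScalarsOfIsLocalization
        P.primeCompl (Localization.AtPrime P))
  rw [← LinearMap.localized'_ker_eq_ker_localizedMap (Localization.AtPrime P) P.primeCompl
    (LocalizedModule.mkLinearMap P.primeCompl M0) (LocalizedModule.mkLinearMap P.primeCompl M1) u]
    at hfree
  let e0 := IsLocalizedModule.linearEquiv P.primeCompl
    ((LinearMap.ker u).toLocalized' (Localization.AtPrime P) P.primeCompl
      (LocalizedModule.mkLinearMap P.primeCompl M0))
    (LocalizedModule.mkLinearMap P.primeCompl (LinearMap.ker u))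
  let e := e0.extendScalarsOfIsLocalization P.primeCompl (Localization.AtPrime P)
  haveI := hfree
  exact Module.Projective.of_equiv e

theorem projective_dual (R : Type u) [CommRing R] [IsRegularRing R] (hdim : ringKrullDim R ≤ 2)
    (E : Type u) [AddCommGroup E] [Module R E] [Module.Finite R E] :
    Module.Projective R (Module.Dual R E) := by
  classical
  obtain ⟨a, π, hπ⟩ := Module.Finite.exists_fin' R E
  haveI : Module.Finite R (LinearMap.ker π) := inferInstance
  obtain ⟨b, σ, hσ⟩ := Module.Finite.exists_fin' R (LinearMap.ker π)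
  set w : (Fin b → R) →ₗ[R] (Fin a → R) := (LinearMap.ker π).subtype ∘ₗ σ with hw
  have hproj := projective_ker R hdim (Module.Dual R (Fin a → R)) (Module.Dual R (Fin b → R))
    w.dualMap
  -- `Dual R E ≃ ker w.dualMap`
  have hmem : ∀ f : Module.Dual R E, π.dualMap f ∈ LinearMap.ker w.dualMap := by
    intro f
    rw [LinearMap.mem_ker]
    refine LinearMap.ext fun y => ?_
    rw [LinearMap.dualMap_apply, LinearMap.dualMap_apply, hw, LinearMap.comp_apply,
      Submodule.subtype_apply]
    have : π (σ y : Fin a → R) = 0 := (σ y).2
    rw [this, map_zero]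
    rfl
  let φ : Module.Dual R E →ₗ[R] LinearMap.ker w.dualMap := π.dualMap.codRestrict _ hmem
  have hinj : Function.Injective φ := by
    intro f g hfg
    have h1 : π.dualMap f = π.dualMap g := congrArg Subtype.val hfg
    exact LinearMap.dualMap_injective_of_surjective hπ h1
  have hsurj : Function.Surjective φ := by
    rintro ⟨g, hg⟩
    rw [LinearMap.mem_ker] at hg
    have hle : LinearMap.ker π ≤ LinearMap.ker g := by
      intro x hx
      obtain ⟨y, hy⟩ := hσ ⟨x, hx⟩
      have h1 := LinearMap.congr_fun hg y
      rw [LinearMap.dualMap_apply, hw, LinearMap.comp_apply, hy] at h1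
      exact h1
    refine ⟨(LinearMap.ker π).liftQ g hle ∘ₗ
      (LinearMap.quotKerEquivOfSurjective π hπ).symm.toLinearMap, ?_⟩
    apply Subtype.ext
    change π.dualMap _ = g
    refine LinearMap.ext fun x => ?_
    rw [LinearMap.dualMap_apply, LinearMap.comp_apply]
    have : (LinearMap.quotKerEquivOfSurjective π hπ).symm (π x) = (LinearMap.ker π).mkQ x := by
      rw [LinearEquiv.symm_apply_eq]
      rfl
    rw [LinearEquiv.coe_coe, this]
    rfl
  haveI := hproj
  exact Module.Projective.of_equiv (LinearEquiv.ofBijective φ ⟨hinj, hsurj⟩).symm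

end Groth.Agent.Lib.helper15.DualProjReg
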