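import Mathlib
import Groth.Agent.Lib.Helper15.FinGrpPow
import Groth.Agent.Lib.Helper15.FrobSub

/-!
# A finite group scheme of order invertible in the base field is étale (helper15)
-/

set_option autoImplicit false
set_option linter.style.haveILetI false
universe u
open TensorProduct WithConv

namespace Groth.Agent.Lib.helper15.FinGrpEtale

open Groth.Agent.Lib.helper15.FinGrpPts Groth.Agent.Lib.helper15.FinGrpPow
open Groth.Agent.Lib.helper15.FrobSub

section AlgClosed

variable (K : Type u) [Field K] [IsAlgClosed K] (H : Type u) [CommRing H] [HopfAlgebra K H]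
  [Module.Finite K H]

/-- the identity component has order one if the order is invertible. -/
theorem finrank_quot_J0_eq_one (h : (Module.finrank K H : K) ≠ 0) :
    Module.finrank K (H ⧸ J0 K H) = 1 := by
  obtain ⟨p, hp⟩ := CharP.exists K
  rcases CharP.char_is_prime_or_zero K p with hpp | hp0
  · haveI : Fact p.Prime := ⟨hpp⟩
    obtain ⟨n, hn⟩ := finrank_eq_pow_of_local K p _ (H ⧸ J0 K H) rfl
    rcases Nat.eq_zero_or_pos n with h0 | hpos
    · rw [hn, h0, pow_zero]
    · exfalso
      apply h
      rw [finrank_eq_card_mul, hn, Nat.cast_mul, Nat.cast_pow, CharP.cast_eq_zero K p,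
        zero_pow hpos.ne', mul_zero]
  · subst hp0
    haveI : CharZero K := CharP.charP_to_charZero K
    exact finrank_eq_one_of_cotangent K _ (cotangent_finrank_eq_zero_of_charZero K _)

/-- evaluation at all points. -/
noncomputable def ev : H →ₐ[K] (Pt K H → K) :=
  AlgHom.pi (fun γ : Pt K H => γ.ofConv)

omit [IsAlgClosed K] [Module.Finite K H] in
lemma ev_apply (a : H) (γ : Pt K H) : ev K H a γ = γ.ofConv a := rfl

lemma ev_surjective : Function.Surjective (ev K H) := by
  classical
  intro f
  refine ⟨∑ δ : Pt K H, f δ • eγ δ⁻¹, ?_⟩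
  funext γ
  rw [ev_apply, map_sum]
  simp_rw [map_smul, point_eγ, smul_eq_mul, mul_ite, mul_one, mul_zero]
  have h1 : ∀ δ : Pt K H, (γ * δ⁻¹ = 1) ↔ δ = γ := by
    intro δ
    rw [mul_inv_eq_one, eq_comm]
  simp_rw [h1]
  rw [Finset.sum_ite_eq' Finset.univ]
  simp

theorem etale_of_finrank_ne_zero (h : (Module.finrank K H : K) ≠ 0) : Algebra.Etale K H := by
  have h1 := finrank_quot_J0_eq_one K H h
  have hcard : Module.finrank K H = Module.finrank K (Pt K H → K) := by
    rw [finrank_eq_card_mul, h1, mul_one, Module.finrank_pi]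
  have hbij : Function.Bijective (ev K H) :=
    ⟨(LinearMap.injective_iff_surjective_of_finrank_eq_finrank
      (f := (ev K H).toLinearMap) hcard).mpr (ev_surjective K H), ev_surjective K H⟩
  let e : H ≃ₐ[K] (Pt K H → K) := AlgEquiv.ofBijective (ev K H) hbij
  rw [Algebra.Etale.iff_exists_algEquiv_prod]
  exact ⟨Pt K H, inferInstance, fun _ => K, fun _ => inferInstance, fun _ => inferInstance, e,
    fun _ => ⟨inferInstance, inferInstance⟩⟩

end AlgClosed

theorem etale_of_finrank_ne_zero' (k : Type u) [Field k] (A : Type u) [CommRing A]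
    [HopfAlgebra k A] [Module.Finite k A] (h : (Module.finrank k A : k) ≠ 0) :
    Algebra.Etale k A := by
  let K := AlgebraicClosure k
  have hfr : Module.finrank K (K ⊗[k] A) = Module.finrank k A := Module.finrank_baseChange
  have hK : (Module.finrank K (K ⊗[k] A) : K) ≠ 0 := by
    rw [hfr]
    intro h0
    apply h
    apply (algebraMap k K).injective
    rw [map_natCast, h0, map_zero]
  haveI : Algebra.Etale K (K ⊗[k] A) := etale_of_finrank_ne_zero K (K ⊗[k] A) hK
  exact Algebra.Etale.of_etale_tensorProduct_of_faithfullyFlat (R := k) (S := A) K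

end Groth.Agent.Lib.helper15.FinGrpEtale
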