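import Mathlib
import Groth.Prelude.Def_Versch
import Groth.Prelude.Def_SGA3b
import Groth.Agent.Lib.Helper15.TorsIdeal

/-!
# `V ∘ F = [p]` and `F ∘ V = [p]` for finite locally free commutative group schemes (helper15)

The proof uses a finite "dual basis" `(e_i, e^i)` of the finite projective module `A`:
`id_A = Σ_i θ(e^i, e_i)` in the commutative convolution ring `Hom(A, A)`, where
`θ(x, b) = (a ↦ x(a) b)` is multiplicative in both variables, so the Frobenius of that ring
gives `[p] = Σ_i θ((e^i)^p, e_i^p)`; dually `x^p = Σ_i x(e_i)^p (e^i)^p` in the dual.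
-/

set_option autoImplicit false
set_option linter.unusedSectionVars false
set_option linter.style.haveILetI false
universe u v
open TensorProduct WithConv

namespace Groth.Agent.Lib.helper15.VerschFV

section Theta

variable {R : Type u} [CommRing R] {A : Type v} [CommRing A] [Bialgebra R A]

/-- `θ(x, b) : a ↦ x(a) • b` in the convolution algebra. -/
noncomputable def theta (x : CartDual.D R A) (b : A) : WithConv (A →ₗ[R] A) :=
  toConv (x.ofConv.smulRight b)

lemma theta_apply (x : CartDual.D R A) (b a : A) : (theta x b).ofConv a = x.ofConv a • b := rfl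

lemma theta_mul (x x' : CartDual.D R A) (b b' : A) :
    theta x b * theta x' b' = theta (x * x') (b * b') := by
  apply WithConv.ofConv_injective
  ext a
  change LinearMap.mul' R A (TensorProduct.map (theta x b).ofConv (theta x' b').ofConv
    (Coalgebra.comul (R := R) a)) =
    (LinearMap.mul' R R (TensorProduct.map x.ofConv x'.ofConv (Coalgebra.comul (R := R) a))) •
      (b * b')
  generalize Coalgebra.comul (R := R) a = t
  induction t with
  | zero => simp
  | add y z hy hz => simp only [map_add, hy, hz, add_smul]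
  | tmul y z =>
    rw [TensorProduct.map_tmul, LinearMap.mul'_apply, TensorProduct.map_tmul, LinearMap.mul'_apply,
      theta_apply, theta_apply, smul_mul_smul_comm]

lemma theta_one : theta (1 : CartDual.D R A) (1 : A) = 1 := by
  apply WithConv.ofConv_injective
  ext a
  change (algebraMap R R (Coalgebra.counit (R := R) a)) • (1 : A) =
    algebraMap R A (Coalgebra.counit (R := R) a)
  rw [Algebra.algebraMap_eq_smul_one, Algebra.algebraMap_eq_smul_one, smul_eq_mul, mul_one]

lemma theta_pow (x : CartDual.D R A) (b : A) (n : ℕ) : theta x b ^ n = theta (x ^ n) (b ^ n) := by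
  induction n with
  | zero => rw [pow_zero, pow_zero, pow_zero, theta_one]
  | succ n ih => rw [pow_succ, pow_succ, pow_succ, ih, theta_mul]

end Theta

section Main

variable (p : ℕ) [Fact p.Prime] (R : Type u) [CommRing R] [CharP R p]
  (A : Type v) [CommRing A] [HopfAlgebra R A] [Coalgebra.IsCocomm R A] [Module.Finite R A]
  [Module.Projective R A] [CharP A p]

/-- a finite dual basis of the finite projective module `A`. -/
lemma exists_dualBasis : ∃ (n : ℕ) (e : Fin n → A) (ε : Fin n → CartDual.D R A),
    ∀ a : A, a = ∑ i, (ε i).ofConv a • e i := by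
  obtain ⟨n, f, g, -, -, hfg⟩ := Module.Finite.exists_comp_eq_id_of_projective R A
  refine ⟨n, fun i => f (Pi.single i 1), fun i => toConv (LinearMap.proj i ∘ₗ g), ?_⟩
  intro a
  have h1 : a = f (g a) := by
    have := LinearMap.congr_fun hfg a
    exact this.symm
  conv_lhs => rw [h1]
  have h2 : g a = ∑ i, (g a i) • (Pi.single i (1 : R) : Fin n → R) := by
    funext j
    rw [Finset.sum_apply, Finset.sum_eq_single j]
    · simp
    · intro i _ hij
      simp [hij.symm]
    · intro h
      exact absurd (Finset.mem_univ j) h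
  conv_lhs => rw [h2]
  rw [map_sum]
  apply Finset.sum_congr rfl
  intro i _
  rw [map_smul]
  rfl

omit [Coalgebra.IsCocomm R A] [Module.Finite R A] [Module.Projective R A] in
lemma nontrivial_conv [Nontrivial A] : Nontrivial (WithConv (A →ₗ[R] A)) := by
  refine ⟨⟨1, 0, ?_⟩⟩
  intro h
  have h1 : (1 : WithConv (A →ₗ[R] A)).ofConv 1 = (0 : WithConv (A →ₗ[R] A)).ofConv 1 := by rw [h]
  change algebraMap R A (Coalgebra.counit (R := R) (1 : A)) = 0 at h1
  rw [Bialgebra.counit_one, map_one] at h1
  exact one_ne_zero h1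

lemma charP_conv : CharP (WithConv (A →ₗ[R] A)) p := by
  haveI : Nontrivial A := CharP.nontrivial_of_char_ne_one (R := A) (Fact.out : p.Prime).ne_one
  haveI := nontrivial_conv R A
  rw [CharP.charP_iff_prime_eq_zero (Fact.out : p.Prime)]
  have h1 : ((p : R) : R) = 0 := CharP.cast_eq_zero R p
  have h2 := congrArg (algebraMap R (WithConv (A →ₗ[R] A))) h1
  rw [map_natCast, map_zero] at h2
  exact h2

variable {R A}

/-- the `p`-th convolution power of the identity through a dual basis. -/
lemma id_pow {n : ℕ} (e : Fin n → A) (ε : Fin n → CartDual.D R A)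
    (h : ∀ a : A, a = ∑ i, (ε i).ofConv a • e i) :
    (toConv (LinearMap.id : A →ₗ[R] A)) ^ p = ∑ i, theta ((ε i) ^ p) ((e i) ^ p) := by
  haveI := charP_conv p R A
  have h1 : toConv (LinearMap.id : A →ₗ[R] A) = ∑ i, theta (ε i) (e i) := by
    apply WithConv.ofConv_injective
    ext a
    rw [WithConv.ofConv_sum, LinearMap.sum_apply]
    exact h a
  rw [h1, sum_pow_char p]
  apply Finset.sum_congr rfl
  intro i _
  rw [theta_pow]

/-- the `p`-th power in the dual through a dual basis. -/
lemma dual_pow {n : ℕ} (e : Fin n → A) (ε : Fin n → CartDual.D R A)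
    (h : ∀ a : A, a = ∑ i, (ε i).ofConv a • e i) (x : CartDual.D R A) :
    x ^ p = ∑ i, (x.ofConv (e i)) ^ p • (ε i) ^ p := by
  have h1 : x = ∑ i, x.ofConv (e i) • ε i := by
    apply WithConv.ofConv_injective
    ext a
    rw [WithConv.ofConv_sum, LinearMap.sum_apply]
    conv_lhs => rw [h a, map_sum]
    apply Finset.sum_congr rfl
    intro i _
    rw [map_smul, WithConv.ofConv_smul, LinearMap.smul_apply, smul_eq_mul, smul_eq_mul, mul_comm]
  conv_lhs => rw [h1]
  rw [sum_pow_char p]
  apply Finset.sum_congr rfl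
  intro i _
  rw [smul_pow]

/-- the Verschiebung through a dual basis. -/
lemma v_apply {n : ℕ} (e : Fin n → A) (ε : Fin n → CartDual.D R A)
    (h : ∀ a : A, a = ∑ i, (ε i).ofConv a • e i)
    (v : A →+* FrobAlg.BaseChange p R A) (hv : Versch.IsVerschiebung p R A v) (a : A) :
    v a = ∑ i, (e i) ⊗ₜ[R] FrobAlg.toTwist p R (((ε i) ^ p).ofConv a) := by
  rw [Versch.isVerschiebung_iff] at hv
  apply Versch.evTw_injective p R A
  intro x
  rw [hv a x, map_sum]
  simp_rw [Versch.evTw_tmul', ← map_mul]
  rw [← map_sum, dual_pow p e ε h x]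
  congr 1
  rw [CartDual.coe_apply, WithConv.ofConv_sum, LinearMap.sum_apply]
  apply Finset.sum_congr rfl
  intro i _
  rw [WithConv.ofConv_smul, LinearMap.smul_apply, smul_eq_mul]

lemma relFrob_tmul (b : A) (t : FrobAlg.Twist p R) :
    FrobAlg.relFrob p R A (b ⊗ₜ[R] t) = b ^ p * algebraMap R A ((FrobAlg.toTwist p R).symm t) := by
  simp only [FrobAlg.relFrob, RingHom.coe_comp, Function.comp_apply, AlgHom.toRingHom_eq_coe,
    RingHom.coe_coe, Algebra.TensorProduct.lift_tmul]
  rfl

/-- Frobenius is additive in any commutative ring in which `p = 0`. -/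
lemma sum_pow_of_natCast_eq_zero {S : Type*} [CommRing S] (hS : (p : S) = 0) {ι : Type*}
    (s : Finset ι) (f : ι → S) : (∑ i ∈ s, f i) ^ p = ∑ i ∈ s, f i ^ p := by
  rcases subsingleton_or_nontrivial S with h | h
  · exact Subsingleton.elim _ _
  · haveI : CharP S p := (CharP.charP_iff_prime_eq_zero (Fact.out : p.Prime)).2 hS
    exact sum_pow_char p s f

/-- the Verschiebung is semilinear. -/
lemma v_algebraMap (v : A →+* FrobAlg.BaseChange p R A) (hv : Versch.IsVerschiebung p R A v)
    (r : R) : v (algebraMap R A r) = (1 : A) ⊗ₜ[R] FrobAlg.toTwist p R r := by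
  rw [Versch.isVerschiebung_iff] at hv
  apply Versch.evTw_injective p R A
  intro x
  rw [hv (algebraMap R A r) x, Versch.evTw_tmul', ← map_mul]
  congr 1
  rw [Algebra.algebraMap_eq_smul_one, CartDual.coe_apply, map_smul, smul_eq_mul, mul_comm]
  congr 1
  have h1 : ∀ n : ℕ, (x ^ n).ofConv 1 = (x.ofConv 1) ^ n := by
    intro n
    induction n with
    | zero =>
      rw [pow_zero, pow_zero]
      change algebraMap R R (Coalgebra.counit (R := R) (1 : A)) = 1
      rw [Bialgebra.counit_one, map_one]
    | succ n ih =>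
      rw [pow_succ, pow_succ, ← ih]
      exact CartDual.counit_mul' R A (x ^ n) x
  exact h1 p

end Main

section MainU

variable (p : ℕ) [Fact p.Prime] {R : Type u} [CommRing R] [CharP R p]
  {A : Type u} [CommRing A] [HopfAlgebra R A] [Coalgebra.IsCocomm R A] [Module.Finite R A]
  [Module.Projective R A] [CharP A p]

lemma powConv_apply {n : ℕ} (e : Fin n → A) (ε : Fin n → CartDual.D R A)
    (h : ∀ a : A, a = ∑ i, (ε i).ofConv a • e i) (a : A) :
    SGA3b.powConv R A p a = ∑ i, ((ε i) ^ p).ofConv a • (e i) ^ p := by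
  have h1 := AlgHom.toLinearMap_convPow (toConv (AlgHom.id R A)) p
  have h2 : (SGA3b.powConv R A p).toLinearMap =
      ((toConv (LinearMap.id : A →ₗ[R] A)) ^ p).ofConv := by
    have := congrArg WithConv.ofConv h1
    exact this
  have h3 : SGA3b.powConv R A p a = ((toConv (LinearMap.id : A →ₗ[R] A)) ^ p).ofConv a := by
    rw [← h2]
    rfl
  rw [h3, id_pow p e ε h, WithConv.ofConv_sum, LinearMap.sum_apply]
  rfl

/-- `V ∘ F = [p]`. -/
theorem relFrob_comp_v (v : A →+* FrobAlg.BaseChange p R A)
    (hv : Versch.IsVerschiebung p R A v) :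
    (FrobAlg.relFrob p R A).comp v = (SGA3b.powConv R A p).toRingHom := by
  obtain ⟨n, e, ε, h⟩ := exists_dualBasis R A
  ext a
  change FrobAlg.relFrob p R A (v a) = SGA3b.powConv R A p a
  rw [v_apply p e ε h v hv a, powConv_apply p e ε h a, map_sum]
  apply Finset.sum_congr rfl
  intro i _
  rw [relFrob_tmul, RingEquiv.symm_apply_apply, Algebra.smul_def, mul_comm]

/-- `F ∘ V = [p]` on the Frobenius twist. -/
theorem v_comp_relFrob (v : A →+* FrobAlg.BaseChange p R A)
    (hv : Versch.IsVerschiebung p R A v) :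
    ((Algebra.TensorProduct.comm R A (FrobAlg.Twist p R)).toRingEquiv.toRingHom.comp
        ((v.comp (FrobAlg.relFrob p R A)).comp
          (Algebra.TensorProduct.comm R A (FrobAlg.Twist p R)).symm.toRingEquiv.toRingHom)) =
      (SGA3b.powConv (FrobAlg.Twist p R) (FrobAlg.Twist p R ⊗[R] A) p).toRingHom := by
  obtain ⟨n, e, ε, h⟩ := exists_dualBasis R A
  have hp0 : ((p : ℕ) : FrobAlg.BaseChange p R A) = 0 := by
    have h1 : ((p : R) : R) = 0 := CharP.cast_eq_zero R p
    have h2 := congrArg (algebraMap R (FrobAlg.BaseChange p R A)) h1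
    rw [map_natCast, map_zero] at h2
    exact h2
  apply RingHom.ext
  intro z
  induction z with
  | zero => rw [map_zero, map_zero]
  | add x y hx hy => rw [map_add, map_add, hx, hy]
  | tmul t a =>
    change (Algebra.TensorProduct.comm R A (FrobAlg.Twist p R))
      (v (FrobAlg.relFrob p R A ((Algebra.TensorProduct.comm R A (FrobAlg.Twist p R)).symm
        (t ⊗ₜ[R] a)))) = SGA3b.powConv (FrobAlg.Twist p R) (FrobAlg.Twist p R ⊗[R] A) p (t ⊗ₜ[R] a)
    have hsymm : (Algebra.TensorProduct.comm R A (FrobAlg.Twist p R)).symm (t ⊗ₜ[R] a) =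
        a ⊗ₜ[R] t := rfl
    rw [hsymm, relFrob_tmul, map_mul, map_pow, v_algebraMap p v hv, RingEquiv.apply_symm_apply,
      v_apply p e ε h v hv a, sum_pow_of_natCast_eq_zero p hp0, Finset.sum_mul, map_sum]
    -- right-hand side
    have hR : SGA3b.powConv (FrobAlg.Twist p R) (FrobAlg.Twist p R ⊗[R] A) p (t ⊗ₜ[R] a) =
        t • ((1 : FrobAlg.Twist p R) ⊗ₜ[R] SGA3b.powConv R A p a) := by
      have h1 : t ⊗ₜ[R] a = t • ((1 : FrobAlg.Twist p R) ⊗ₜ[R] a) := by
        rw [TensorProduct.smul_tmul', smul_eq_mul, mul_one]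
      rw [h1, map_smul]
      congr 1
      exact (Groth.Agent.Lib.helper15.TorsIdeal.powConv_semilinear
        (Algebra.TensorProduct.includeRight : A →ₐ[R] FrobAlg.Twist p R ⊗[R] A)
        (Groth.Agent.Lib.helper15.TorsIdeal.comul_includeRight A (FrobAlg.Twist p R))
        (Groth.Agent.Lib.helper15.TorsIdeal.counit_includeRight A (FrobAlg.Twist p R)) p a).symm
    rw [hR, powConv_apply p e ε h a, TensorProduct.tmul_sum, Finset.smul_sum]
    apply Finset.sum_congr rfl
    intro i _
    rw [Algebra.TensorProduct.tmul_pow, Algebra.TensorProduct.tmul_mul_tmul, mul_one,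
      Algebra.TensorProduct.comm_tmul, TensorProduct.smul_tmul', smul_eq_mul,
      ← TensorProduct.smul_tmul, mul_one, ← map_pow, Algebra.smul_def,
      FrobAlg.algebraMap_twist]

end MainU

end Groth.Agent.Lib.helper15.VerschFV
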