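import Mathlib
import Groth.Prelude.Def_Versch
import Groth.Agent.Lib.Helper15.VerschFV
import Groth.Prelude.Def_SGA3b

/-!
# The Cartier dual is étale iff the Verschiebung is bijective (helper15)
-/

set_option autoImplicit false
set_option linter.unusedSectionVars false
set_option linter.style.haveILetI false
universe u v w
open TensorProduct WithConv

namespace Groth.Agent.Lib.helper15.VerschEtale

open Groth.Agent.Lib.helper15.VerschFV

lemma single_pow_succ {ι : Type*} [DecidableEq ι] {α : ι → Type*} [∀ i, MonoidWithZero (α i)]
    (i : ι) (y : α i) (n : ℕ) : Pi.single i (y ^ (n + 1)) = (Pi.single i y : ∀ i, α i) ^ (n + 1) := by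
  induction n with
  | zero => rw [zero_add, pow_one, pow_one]
  | succ n ih => rw [pow_succ, Pi.single_mul, ih, ← pow_succ]

section Alg

variable (p : ℕ) [Fact p.Prime] (k : Type u) [Field k] [CharP k p]
  (B : Type w) [CommRing B] [Algebra k B]

/-- if the `p`-th powers span, the algebra is formally unramified. -/
theorem formallyUnramified_of_span_pow
    (h : Submodule.span k (Set.range fun b : B => b ^ p) = ⊤) : Algebra.FormallyUnramified k B := by
  have hp0 : ((p : ℕ) : B) = 0 := by
    have h1 : ((p : k) : k) = 0 := CharP.cast_eq_zero k p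
    have h2 := congrArg (algebraMap k B) h1
    rw [map_natCast, map_zero] at h2
    exact h2
  have hD : ∀ b : B, KaehlerDifferential.D k B b = 0 := by
    intro b
    have hb : b ∈ Submodule.span k (Set.range fun b : B => b ^ p) := by
      rw [h]
      trivial
    induction hb using Submodule.span_induction with
    | mem x hx =>
      obtain ⟨c, rfl⟩ := hx
      change KaehlerDifferential.D k B (c ^ p) = 0
      rw [Derivation.leibniz_pow, ← Nat.cast_smul_eq_nsmul B, hp0, zero_smul]
    | zero => exact map_zero _
    | add x y _ _ hx hy => rw [map_add, hx, hy, add_zero]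
    | smul c x _ hx => rw [Derivation.map_smul, hx, smul_zero]
  constructor
  constructor
  intro x y
  have key : ∀ z : Ω[B⁄k], z = 0 := by
    intro z
    have hz : z ∈ Submodule.span B (Set.range (KaehlerDifferential.D k B)) := by
      rw [KaehlerDifferential.span_range_derivation]
      trivial
    induction hz using Submodule.span_induction with
    | mem x hx =>
      obtain ⟨c, rfl⟩ := hx
      exact hD c
    | zero => rfl
    | add x y _ _ hx hy => rw [hx, hy, add_zero]
    | smul c x _ hx => rw [hx, smul_zero]
  rw [key x, key y]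

/-- if the `p`-th powers span a finite algebra over a field, it is étale. -/
theorem etale_of_span_pow [Module.Finite k B]
    (h : Submodule.span k (Set.range fun b : B => b ^ p) = ⊤) : Algebra.Etale k B := by
  haveI : Algebra.FormallyUnramified k B := formallyUnramified_of_span_pow p k B h
  haveI : Algebra.FormallyEtale k B := Algebra.FormallyEtale.of_formallyUnramified_of_field k B
  exact ⟨inferInstance, Algebra.FinitePresentation.of_finiteType.mp inferInstance⟩

/-- in an étale algebra over a field of characteristic `p` the `p`-th powers span. -/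
theorem span_pow_eq_top_of_etale [Algebra.Etale k B] :
    Submodule.span k (Set.range fun b : B => b ^ p) = ⊤ := by
  classical
  haveI : ExpChar k p := ExpChar.prime Fact.out
  haveI : Algebra.FinitePresentation k B := Algebra.Etale.finitePresentation
  obtain ⟨I, hI, Ai, hF, hAlg, e, hsep⟩ :=
    (Algebra.FormallyEtale.iff_exists_algEquiv_prod k B).mp inferInstance
  haveI := Fintype.ofFinite I
  have key : ∀ f : (Π i, Ai i), e.symm f ∈ Submodule.span k (Set.range fun b : B => b ^ p) := by
    intro f
    have hf : f = ∑ i, Pi.single i (f i) := (Finset.univ_sum_single f).symm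
    rw [hf, map_sum]
    apply Submodule.sum_mem
    intro i _
    have hi : f i ∈ Submodule.span k (Set.range fun x : Ai i => x ^ p) := by
      haveI := hsep i
      have h1 := Field.span_map_pow_expChar_pow_eq_top_of_isSeparable (F := k) (E := Ai i) p 1
        (v := fun x : Ai i => x) (by
          rw [eq_top_iff]
          rintro x -
          exact Submodule.subset_span ⟨x, rfl⟩)
      simp only [pow_one] at h1
      rw [h1]
      trivial
    generalize f i = y at hi
    induction hi using Submodule.span_induction with
    | mem x hx =>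
      obtain ⟨y, rfl⟩ := hx
      apply Submodule.subset_span
      refine ⟨e.symm (Pi.single i y), ?_⟩
      change (e.symm (Pi.single i y)) ^ p = e.symm (Pi.single i (y ^ p))
      obtain ⟨m, hm⟩ := Nat.exists_eq_succ_of_ne_zero (Fact.out : p.Prime).ne_zero
      rw [← map_pow, hm, single_pow_succ]
    | zero =>
      rw [Pi.single_zero, map_zero]
      exact zero_mem _
    | add x y _ _ hx hy =>
      rw [Pi.single_add, map_add]
      exact add_mem hx hy
    | smul c x _ hx =>
      rw [Pi.single_smul, map_smul]
      exact Submodule.smul_mem _ c hx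
  rw [eq_top_iff]
  rintro b -
  have := key (e b)
  rwa [e.symm_apply_apply] at this

end Alg

section V

variable (p : ℕ) [Fact p.Prime] {k : Type u} [Field k] [CharP k p]
  {A : Type v} [CommRing A] [HopfAlgebra k A] [Coalgebra.IsCocomm k A] [FiniteDimensional k A]

lemma nontrivial_of_hopf (k : Type u) [Field k] (A : Type v) [CommRing A] [HopfAlgebra k A] :
    Nontrivial A := by
  refine ⟨⟨1, 0, ?_⟩⟩
  intro h
  have h1 := congrArg (Coalgebra.counit (R := k)) h
  rw [Bialgebra.counit_one, map_zero] at h1
  exact one_ne_zero h1

lemma charP_of_hopf (p : ℕ) (k : Type u) [Field k] [CharP k p] (A : Type v) [CommRing A]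
    [HopfAlgebra k A] : CharP A p := by
  haveI := nontrivial_of_hopf k A
  exact charP_of_injective_algebraMap (algebraMap k A).injective p

variable {n : ℕ} (b : Module.Basis (Fin n) k A)

/-- the dual basis, in the dual Hopf algebra. -/
noncomputable def eps (i : Fin n) : CartDual.D k A := toConv (b.coord i)

lemma eps_apply (i j : Fin n) : (eps b i).ofConv (b j) = if j = i then 1 else 0 := by
  change b.coord i (b j) = _
  rw [Module.Basis.coord_apply, Module.Basis.repr_self, Finsupp.single_apply]

lemma sum_eps (a : A) : a = ∑ i, (eps b i).ofConv a • b i := by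
  conv_lhs => rw [← b.sum_repr a]
  rfl

/-- the coordinates of the Verschiebung. -/
noncomputable def psi : A →ₗ[k] (Fin n → k) := LinearMap.pi fun i => ((eps b i) ^ p).ofConv

lemma psi_apply (a : A) (i : Fin n) : psi p b a i = ((eps b i) ^ p).ofConv a := rfl

/-- coordinates on the Frobenius twist. -/
noncomputable def Ev (z : FrobAlg.BaseChange p k A) : Fin n → FrobAlg.Twist p k :=
  fun j => Versch.evTw p k A (eps b j) z

lemma evTw_expand (x : CartDual.D k A) (z : FrobAlg.BaseChange p k A) :
    Versch.evTw p k A x z =
      ∑ j, FrobAlg.toTwist p k ((x.ofConv (b j)) ^ p) * Versch.evTw p k A (eps b j) z := by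
  induction z using TensorProduct.induction_on with
  | zero => simp
  | add y z hy hz => simp only [map_add, hy, hz, mul_add, Finset.sum_add_distrib]
  | tmul a s =>
    have hxa : x.ofConv a = ∑ j, x.ofConv (b j) * (eps b j).ofConv a := by
      conv_lhs => rw [sum_eps b a, map_sum]
      apply Finset.sum_congr rfl
      intro j _
      rw [map_smul, smul_eq_mul, mul_comm]
    simp_rw [Versch.evTw_tmul']
    rw [CartDual.coe_apply, hxa, sum_pow_char p, map_sum, Finset.sum_mul]
    apply Finset.sum_congr rfl
    intro j _
    rw [mul_pow, map_mul, mul_assoc]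

lemma Ev_injective : Function.Injective (Ev p b) := by
  intro z z' h
  apply Versch.evTw_injective p k A
  intro x
  rw [evTw_expand p b x z, evTw_expand p b x z']
  apply Finset.sum_congr rfl
  intro j _
  have := congrFun h j
  change Versch.evTw p k A (eps b j) z = Versch.evTw p k A (eps b j) z' at this
  rw [this]

lemma Ev_sum (t : Fin n → FrobAlg.Twist p k) (j : Fin n) :
    Ev p b (∑ i, b i ⊗ₜ[k] t i) j = t j := by
  change Versch.evTw p k A (eps b j) (∑ i, b i ⊗ₜ[k] t i) = t j
  rw [map_sum]
  simp_rw [Versch.evTw_tmul', CartDual.coe_apply, eps_apply]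
  rw [Finset.sum_eq_single j]
  · rw [if_pos rfl, one_pow, map_one, one_mul]
  · intro i _ hij
    rw [if_neg hij, zero_pow (Fact.out : p.Prime).ne_zero, map_zero, zero_mul]
  · intro h
    exact absurd (Finset.mem_univ j) h

lemma Ev_v (v : A →+* FrobAlg.BaseChange p k A) (hv : Versch.IsVerschiebung p k A v) (a : A)
    (j : Fin n) : Ev p b (v a) j = FrobAlg.toTwist p k (psi p b a j) := by
  rw [Versch.isVerschiebung_iff] at hv
  exact hv a (eps b j)

lemma v_injective_of_psi (v : A →+* FrobAlg.BaseChange p k A)
    (hv : Versch.IsVerschiebung p k A v) (hψ : Function.Injective (psi p b)) :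
    Function.Injective v := by
  intro a a' h
  apply hψ
  funext j
  apply (FrobAlg.toTwist p k).injective
  rw [← Ev_v p b v hv, ← Ev_v p b v hv, h]

lemma v_surjective_of_psi (v : A →+* FrobAlg.BaseChange p k A)
    (hv : Versch.IsVerschiebung p k A v) (hψ : Function.Surjective (psi p b)) :
    Function.Surjective v := by
  intro z
  obtain ⟨a, ha⟩ := hψ (fun j => (FrobAlg.toTwist p k).symm (Ev p b z j))
  refine ⟨a, ?_⟩
  apply Ev_injective p b
  funext j
  rw [Ev_v p b v hv, ha, RingEquiv.apply_symm_apply]

lemma psi_surjective_of_v (v : A →+* FrobAlg.BaseChange p k A)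
    (hv : Versch.IsVerschiebung p k A v) (hvs : Function.Surjective v) :
    Function.Surjective (psi p b) := by
  intro c
  obtain ⟨a, ha⟩ := hvs (∑ i, b i ⊗ₜ[k] FrobAlg.toTwist p k (c i))
  refine ⟨a, ?_⟩
  funext j
  apply (FrobAlg.toTwist p k).injective
  rw [← Ev_v p b v hv, ha, Ev_sum]

lemma psi_injective_of_span
    (h : Submodule.span k (Set.range fun x : CartDual.D k A => x ^ p) = ⊤) :
    Function.Injective (psi p b) := by
  haveI := charP_of_hopf p k A
  rw [injective_iff_map_eq_zero]
  intro a ha
  have h0 : ∀ y : CartDual.D k A, y.ofConv a = 0 := by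
    intro y
    have hy : y ∈ Submodule.span k (Set.range fun x : CartDual.D k A => x ^ p) := by
      rw [h]
      trivial
    induction hy using Submodule.span_induction with
    | mem y hy =>
      obtain ⟨x, rfl⟩ := hy
      change (x ^ p).ofConv a = 0
      rw [dual_pow p (fun i => b i) (eps b) (sum_eps b) x, WithConv.ofConv_sum, LinearMap.sum_apply]
      apply Finset.sum_eq_zero
      intro i _
      rw [WithConv.ofConv_smul, LinearMap.smul_apply, ← psi_apply, ha]
      simp
    | zero => rfl
    | add x y _ _ hx hy =>
      rw [WithConv.ofConv_add, LinearMap.add_apply, hx, hy, add_zero]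
    | smul c x _ hx =>
      rw [WithConv.ofConv_smul, LinearMap.smul_apply, hx, smul_zero]
  rw [sum_eps b a]
  apply Finset.sum_eq_zero
  intro i _
  rw [h0, zero_smul]

lemma finrank_dual : Module.finrank k (CartDual.D k A) = Module.finrank k A := by
  rw [(CartDual.toDual k A).finrank_eq, Subspace.dual_finrank_eq]

lemma span_eps_pow_eq_top (hψ : Function.Surjective (psi p b)) :
    Submodule.span k (Set.range fun i => (eps b i) ^ p) = ⊤ := by
  classical
  have hli : LinearIndependent k (fun i => (eps b i) ^ p) := by
    rw [Fintype.linearIndependent_iff]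
    intro g hg j
    obtain ⟨a, ha⟩ := hψ (Pi.single j 1)
    have h1 := congrArg (fun y : CartDual.D k A => y.ofConv a) hg
    simp only [WithConv.ofConv_sum, LinearMap.sum_apply, WithConv.ofConv_smul,
      LinearMap.smul_apply, WithConv.ofConv_zero, LinearMap.zero_apply] at h1
    simp_rw [← psi_apply, ha] at h1
    rw [Finset.sum_eq_single j] at h1
    · rw [Pi.single_eq_same, smul_eq_mul, mul_one] at h1
      exact h1
    · intro i _ hij
      rw [Pi.single_eq_of_ne hij, smul_zero]
    · intro h
      exact absurd (Finset.mem_univ j) h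
  apply hli.span_eq_top_of_card_eq_finrank'
  rw [finrank_dual, Fintype.card_fin, Module.finrank_eq_card_basis b, Fintype.card_fin]

/-- the Cartier dual is étale iff the Verschiebung is bijective. -/
theorem etale_dual_iff_bijective (v : A →+* FrobAlg.BaseChange p k A)
    (hv : Versch.IsVerschiebung p k A v) :
    Algebra.Etale k (CartDual.D k A) ↔ Function.Bijective v := by
  have b := Module.finBasis k A
  constructor
  · intro het
    have hspan := span_pow_eq_top_of_etale p k (CartDual.D k A)
    have hinj := psi_injective_of_span p b hspan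
    have hfr : Module.finrank k A = Module.finrank k (Fin (Module.finrank k A) → k) := by
      rw [Module.finrank_fin_fun]
    have hsurj : Function.Surjective (psi p b) :=
      (LinearMap.injective_iff_surjective_of_finrank_eq_finrank hfr).1 hinj
    exact ⟨v_injective_of_psi p b v hv hinj, v_surjective_of_psi p b v hv hsurj⟩
  · intro hbij
    have hψ := psi_surjective_of_v p b v hv hbij.2
    have h1 := span_eps_pow_eq_top p b hψ
    apply etale_of_span_pow p k (CartDual.D k A)
    rw [eq_top_iff, ← h1]
    apply Submodule.span_mono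
    rintro _ ⟨i, rfl⟩
    exact ⟨eps b i, rfl⟩

end V

section PowConv

variable {R : Type u} [CommRing R] {A : Type u} [CommRing A] [HopfAlgebra R A]

lemma comp_convPow (h : A →ₐ[R] A) (f : WithConv (A →ₐ[R] A)) (m : ℕ) :
    h.comp (f ^ m).ofConv = ((toConv (h.comp f.ofConv)) ^ m).ofConv := by
  induction m with
  | zero =>
    rw [pow_zero, pow_zero]
    ext a
    change h (algebraMap R A (Coalgebra.counit (R := R) a)) = algebraMap R A _
    rw [AlgHom.commutes]
    rfl
  | succ m ih =>
    rw [pow_succ, pow_succ, AlgHom.comp_convMul_distrib, ih]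

lemma powConv_comp (n m : ℕ) :
    (SGA3b.powConv R A n).comp (SGA3b.powConv R A m) = SGA3b.powConv R A (n * m) := by
  unfold SGA3b.powConv
  rw [comp_convPow, pow_mul]
  rfl

lemma powConv_one : SGA3b.powConv R A 1 = AlgHom.id R A := by
  unfold SGA3b.powConv
  rw [pow_one]

end PowConv

section Inf

variable (p : ℕ) [Fact p.Prime] {k : Type u} [Field k] [CharP k p]
  {A : Type u} [CommRing A] [HopfAlgebra k A] [Coalgebra.IsCocomm k A] [Module.Finite k A]

/-- if the Verschiebung is bijective, `p^n`-th powers are in the image of `[p^n]`. -/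
lemma exists_pow_eq_powConv (v : A →+* FrobAlg.BaseChange p k A)
    (hv : Versch.IsVerschiebung p k A v) (hbij : Function.Bijective v) (n : ℕ) (a : A) :
    ∃ w : A, a ^ (p ^ n) = SGA3b.powConv k A (p ^ n) w := by
  haveI := charP_of_hopf p k A
  have hFV := relFrob_comp_v p v hv
  have hstep : ∀ w : A, ∃ w' : A, w ^ p = SGA3b.powConv k A p w' := by
    intro w
    obtain ⟨w', hw'⟩ := hbij.2 (w ⊗ₜ[k] (1 : FrobAlg.Twist p k))
    refine ⟨w', ?_⟩
    have h1 : FrobAlg.relFrob p k A (v w') = SGA3b.powConv k A p w' := by
      have := congrArg (fun f : A →+* A => f w') hFV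
      exact this
    rw [← h1, hw', relFrob_tmul, map_one, map_one, mul_one]
  induction n generalizing a with
  | zero =>
    refine ⟨a, ?_⟩
    rw [pow_zero, pow_one, powConv_one]
    rfl
  | succ n ih =>
    obtain ⟨w, hw⟩ := ih a
    obtain ⟨w', hw'⟩ := hstep w
    refine ⟨w', ?_⟩
    rw [pow_succ, pow_mul, hw, ← map_pow, hw', ← powConv_comp]
    rfl

/-- a finite commutative group scheme killed by `p^n` with bijective Verschiebung has trivial
`n`-th Frobenius. -/
theorem pow_eq_zero_of_bijective (n : ℕ)
    (hn : SGA3b.powConv k A (p ^ n) = (Algebra.ofId k A).comp (Bialgebra.counitAlgHom k A))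
    (v : A →+* FrobAlg.BaseChange p k A) (hv : Versch.IsVerschiebung p k A v)
    (hbij : Function.Bijective v)
    (a : A) (ha : Coalgebra.counit (R := k) a = 0) : a ^ (p ^ n) = 0 := by
  obtain ⟨w, hw⟩ := exists_pow_eq_powConv p v hv hbij n a
  rw [hn] at hw
  have h1 : a ^ (p ^ n) = algebraMap k A (Coalgebra.counit (R := k) w) := hw
  have h2 := congrArg (Coalgebra.counit (R := k)) h1
  have h3 : Coalgebra.counit (R := k) (a ^ (p ^ n)) = (Coalgebra.counit (R := k) a) ^ (p ^ n) :=
    map_pow (Bialgebra.counitAlgHom k A) a (p ^ n)
  have h4 : Coalgebra.counit (R := k) (algebraMap k A (Coalgebra.counit (R := k) w)) =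
      Coalgebra.counit (R := k) w := by
    have := (Bialgebra.counitAlgHom k A).commutes (Coalgebra.counit (R := k) w)
    exact this
  rw [h3, ha, zero_pow (pow_ne_zero n (Fact.out : p.Prime).ne_zero), h4] at h2
  rw [h1, ← h2, map_zero]

end Inf

end Groth.Agent.Lib.helper15.VerschEtale
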