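import Mathlib
import Groth.Prelude.Def_Versch
import Groth.Prelude.Def_SGA3b
import Groth.Agent.Lib.Helper15.VerschEtale
import Groth.Agent.Lib.Helper15.ConstIso
import Groth.Agent.Lib.Helper15.FinGrpEtale
import Groth.Agent.Lib.Helper15.TorsIdeal

/-!
# A finite commutative group scheme is étale with étale dual iff `p` does not divide its order
(helper15)
-/

set_option autoImplicit false
set_option linter.unusedSectionVars false
set_option linter.style.haveILetI false
universe u
open TensorProduct WithConv

namespace Groth.Agent.Lib.helper15.EtaleEtale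

open Groth.Agent.Lib.helper15.VerschFV Groth.Agent.Lib.helper15.VerschEtale
open Groth.Agent.Lib.helper15.FinGrpPts

section PowConvComp

variable {R : Type u} [CommRing R] {A : Type u} [CommRing A] [HopfAlgebra R A]
  {C : Type u} [CommRing C] [Algebra R C]

lemma comp_convPow' (h : A →ₐ[R] C) (f : WithConv (A →ₐ[R] A)) (m : ℕ) :
    h.comp (f ^ m).ofConv = ((toConv (h.comp f.ofConv)) ^ m).ofConv := by
  induction m with
  | zero =>
    rw [pow_zero, pow_zero]
    ext a
    change h (algebraMap R A (Coalgebra.counit (R := R) a)) = algebraMap R C _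
    rw [AlgHom.commutes]
    rfl
  | succ m ih =>
    rw [pow_succ, pow_succ, AlgHom.comp_convMul_distrib, ih]

/-- `γ ∘ [m] = γ^m`. -/
lemma comp_powConv (γ : A →ₐ[R] C) (m : ℕ) (a : A) :
    γ (SGA3b.powConv R A m a) = ((toConv γ : WithConv (A →ₐ[R] C)) ^ m).ofConv a := by
  have h := comp_convPow' γ (toConv (AlgHom.id R A)) m
  have h2 := congrArg (fun f : A →ₐ[R] C => f a) h
  exact h2

end PowConvComp

section Main

variable (p : ℕ) [Fact p.Prime] (k : Type u) [Field k] [CharP k p]
  (A : Type u) [CommRing A] [HopfAlgebra k A] [Coalgebra.IsCocomm k A] [FiniteDimensional k A]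

/-- if `A` and its dual are étale, the `p`-th power map of `A` is surjective. -/
theorem powConv_surjective_of_etale [Algebra.Etale k A] [Algebra.Etale k (CartDual.D k A)] :
    Function.Surjective (SGA3b.powConv k A p) := by
  haveI := charP_of_hopf p k A
  have b := Module.finBasis k A
  have hspanD := span_pow_eq_top_of_etale p k (CartDual.D k A)
  have hspanA := span_pow_eq_top_of_etale p k A
  have hinj := psi_injective_of_span p b hspanD
  have hfr : Module.finrank k A = Module.finrank k (Fin (Module.finrank k A) → k) := by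
    rw [Module.finrank_fin_fun]
  have hsurj : Function.Surjective (psi p b) :=
    (LinearMap.injective_iff_surjective_of_finrank_eq_finrank hfr).1 hinj
  intro y
  have hy : y ∈ Submodule.span k (Set.range fun a : A => a ^ p) := by
    rw [hspanA]
    trivial
  -- every element of the span of p-th powers is a combination of the `b i ^ p`
  have hy2 : ∃ c : Fin (Module.finrank k A) → k, y = ∑ i, c i • (b i) ^ p := by
    induction hy using Submodule.span_induction with
    | mem y hy =>
      obtain ⟨a, rfl⟩ := hy
      refine ⟨fun i => ((eps b i).ofConv a) ^ p, ?_⟩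
      change a ^ p = _
      conv_lhs => rw [sum_eps b a, sum_pow_char p]
      apply Finset.sum_congr rfl
      intro i _
      rw [smul_pow]
    | zero => exact ⟨0, by simp⟩
    | add x y _ _ hx hy =>
      obtain ⟨c, rfl⟩ := hx
      obtain ⟨d, rfl⟩ := hy
      refine ⟨c + d, ?_⟩
      rw [← Finset.sum_add_distrib]
      apply Finset.sum_congr rfl
      intro i _
      rw [Pi.add_apply, add_smul]
    | smul r x _ hx =>
      obtain ⟨c, rfl⟩ := hx
      refine ⟨r • c, ?_⟩
      rw [Finset.smul_sum]
      apply Finset.sum_congr rfl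
      intro i _
      rw [Pi.smul_apply, smul_eq_mul, mul_smul]
  obtain ⟨c, rfl⟩ := hy2
  obtain ⟨a, ha⟩ := hsurj c
  refine ⟨a, ?_⟩
  rw [powConv_apply p (fun i => b i) (eps b) (sum_eps b) a]
  apply Finset.sum_congr rfl
  intro i _
  rw [← psi_apply, ha]

/-- surjectivity of the power map passes to the base change. -/
lemma powConv_baseChange_surjective (K : Type u) [Field K] [Algebra k K] (m : ℕ)
    (h : Function.Surjective (SGA3b.powConv k A m)) :
    Function.Surjective (SGA3b.powConv K (K ⊗[k] A) m) := by
  intro z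
  induction z using TensorProduct.induction_on with
  | zero => exact ⟨0, map_zero _⟩
  | tmul t a =>
    obtain ⟨a', rfl⟩ := h a
    refine ⟨t ⊗ₜ[k] a', ?_⟩
    have h1 : ∀ x : A, t ⊗ₜ[k] x = t • ((1 : K) ⊗ₜ[k] x) := by
      intro x
      rw [TensorProduct.smul_tmul', smul_eq_mul, mul_one]
    rw [h1 a', map_smul, h1]
    congr 1
    exact (Groth.Agent.Lib.helper15.TorsIdeal.powConv_semilinear
      (Algebra.TensorProduct.includeRight : A →ₐ[k] K ⊗[k] A)
      (Groth.Agent.Lib.helper15.TorsIdeal.comul_includeRight A K)
      (Groth.Agent.Lib.helper15.TorsIdeal.counit_includeRight A K) m a').symm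
  | add x y hx hy =>
    obtain ⟨x', rfl⟩ := hx
    obtain ⟨y', rfl⟩ := hy
    exact ⟨x' + y', map_add _ _ _⟩

/-- étale with étale dual implies order prime to `p`. -/
theorem not_dvd_of_etale [Algebra.Etale k A] [Algebra.Etale k (CartDual.D k A)] :
    ¬ p ∣ Module.finrank k A := by
  intro hdvd
  haveI : Algebra.Etale (AlgebraicClosure k) (AlgebraicClosure k ⊗[k] A) := inferInstance
  haveI : IsReduced (AlgebraicClosure k ⊗[k] A) :=
    Algebra.FormallyUnramified.isReduced_of_field (AlgebraicClosure k) (AlgebraicClosure k ⊗[k] A)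
  have hcard : Nat.card (Pt (AlgebraicClosure k) (AlgebraicClosure k ⊗[k] A)) =
      Module.finrank k A := by
    rw [Groth.Agent.Lib.helper15.ConstIso.card_pt_of_isReduced, Module.finrank_baseChange]
  have hdvd' : p ∣ Fintype.card (Pt (AlgebraicClosure k) (AlgebraicClosure k ⊗[k] A)) := by
    rw [← Nat.card_eq_fintype_card, hcard]
    exact hdvd
  obtain ⟨γ, hγ⟩ := exists_prime_orderOf_dvd_card p hdvd'
  have hγp : γ ^ p = 1 := by
    rw [← hγ]
    exact pow_orderOf_eq_one γ
  have hγ1 : γ ≠ 1 := by
    intro h1
    rw [h1, orderOf_one] at hγ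
    exact (Fact.out : p.Prime).ne_one hγ.symm
  apply hγ1
  apply WithConv.ofConv_injective
  apply AlgHom.ext
  intro z
  obtain ⟨w, rfl⟩ := powConv_baseChange_surjective k A (AlgebraicClosure k) p
    (powConv_surjective_of_etale p k A) z
  rw [comp_powConv, comp_powConv]
  have h1 : (toConv γ.ofConv : WithConv ((AlgebraicClosure k ⊗[k] A) →ₐ[AlgebraicClosure k]
      AlgebraicClosure k)) = γ := rfl
  have h2 : (toConv (1 : Pt (AlgebraicClosure k) (AlgebraicClosure k ⊗[k] A)).ofConv :
      WithConv ((AlgebraicClosure k ⊗[k] A) →ₐ[AlgebraicClosure k] AlgebraicClosure k)) = 1 := rfl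
  rw [h1, h2, hγp, one_pow]

/-- a finite commutative group scheme over a field of characteristic `p` is étale with étale dual
iff `p` does not divide its order. -/
theorem etale_etale_iff :
    (Algebra.Etale k A ∧ Algebra.Etale k (CartDual.D k A)) ↔ ¬ p ∣ Module.finrank k A := by
  constructor
  · rintro ⟨h1, h2⟩
    exact not_dvd_of_etale p k A
  · intro h
    have hne : (Module.finrank k A : k) ≠ 0 := by
      rw [Ne, CharP.cast_eq_zero_iff k p]
      exact h
    refine ⟨Groth.Agent.Lib.helper15.FinGrpEtale.etale_of_finrank_ne_zero' k A hne, ?_⟩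
    have hne' : (Module.finrank k (CartDual.D k A) : k) ≠ 0 := by
      rw [finrank_dual]
      exact hne
    exact Groth.Agent.Lib.helper15.FinGrpEtale.etale_of_finrank_ne_zero' k (CartDual.D k A) hne'

end Main

end Groth.Agent.Lib.helper15.EtaleEtale
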