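import Mathlib

/-!
# Duality with respect to a module `W` (helper15), part 1: module-level statements

`D M = Hom_R(M, W)`.
* `homEquiv` : `Hom(M, N) ≃+ Hom(D N, D M)` when `N → D D N` is bijective;
* `dual_exact` : exactness of `D M → D F → D K`;
* `ev_surjective_of_ses` : surjectivity of `M → D D M` from a presentation.
-/

set_option autoImplicit false
set_option linter.style.haveILetI false

universe u v

namespace Groth.Agent.Lib.helper15.ExtDual

section abstract

variable (R : Type u) [CommRing R] (W : Type v) [AddCommGroup W] [Module R W]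

variable {M N K F : Type*} [AddCommGroup M] [Module R M] [AddCommGroup N] [Module R N]
  [AddCommGroup K] [Module R K] [AddCommGroup F] [Module R F]

/-- the dual of a map -/
noncomputable abbrev Dmap (f : M →ₗ[R] N) : (N →ₗ[R] W) →ₗ[R] (M →ₗ[R] W) :=
  LinearMap.lcomp R W f

theorem Dmap_apply (f : M →ₗ[R] N) (φ : N →ₗ[R] W) : Dmap R W f φ = φ ∘ₗ f := rfl

/-- evaluation `M → D D M` -/
noncomputable abbrev ev (M : Type*) [AddCommGroup M] [Module R M] :
    M →ₗ[R] ((M →ₗ[R] W) →ₗ[R] W) :=
  LinearMap.applyₗ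

theorem ev_apply (m : M) (φ : M →ₗ[R] W) : ev R W M m φ = φ m := rfl

/-- `f ↦ D f` as an additive map -/
noncomputable def homMap : (M →ₗ[R] N) →+ ((N →ₗ[R] W) →ₗ[R] (M →ₗ[R] W)) where
  toFun f := Dmap R W f
  map_zero' := by
    ext φ m
    simp
  map_add' f g := by
    ext φ m
    simp

theorem homMap_apply (f : M →ₗ[R] N) : homMap R W f = Dmap R W f := rfl

theorem homMap_injective (hN : Function.Injective (ev R W N)) :
    Function.Injective (homMap R W (M := M) (N := N)) := by
  rw [injective_iff_map_eq_zero]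
  intro f hf
  ext m
  apply hN
  rw [LinearMap.zero_apply, map_zero]
  ext φ
  have := LinearMap.congr_fun (LinearMap.congr_fun hf φ) m
  exact this

theorem homMap_surjective (hN : Function.Bijective (ev R W N)) :
    Function.Surjective (homMap R W (M := M) (N := N)) := by
  intro g
  let eN : N ≃ₗ[R] ((N →ₗ[R] W) →ₗ[R] W) := LinearEquiv.ofBijective (ev R W N) hN
  refine ⟨eN.symm.toLinearMap ∘ₗ Dmap R W g ∘ₗ ev R W M, ?_⟩
  ext φ m
  rw [homMap_apply, Dmap_apply, LinearMap.comp_apply, LinearMap.comp_apply,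
    LinearMap.comp_apply]
  have h1 : φ (eN.symm (Dmap R W g (ev R W M m))) =
      ev R W N (eN.symm (Dmap R W g (ev R W M m))) φ := rfl
  have h2 : ev R W N (eN.symm (Dmap R W g (ev R W M m))) = Dmap R W g (ev R W M m) :=
    eN.apply_symm_apply _
  rw [LinearEquiv.coe_coe, h1, h2]
  rfl

/-- `Hom(M, N) ≃+ Hom(D N, D M)` -/
noncomputable def homEquiv (hN : Function.Bijective (ev R W N)) :
    (M →ₗ[R] N) ≃+ ((N →ₗ[R] W) →ₗ[R] (M →ₗ[R] W)) :=
  AddEquiv.ofBijective (homMap R W) ⟨homMap_injective R W hN.1, homMap_surjective R W hN⟩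

theorem homEquiv_apply (hN : Function.Bijective (ev R W N)) (f : M →ₗ[R] N) :
    homEquiv R W hN f = Dmap R W f := rfl

section ses

variable (i : K →ₗ[R] F) (p : F →ₗ[R] M) (hp : Function.Surjective p)
  (hex : Function.Exact i p)

include hp in
theorem Dmap_injective_of_surjective : Function.Injective (Dmap R W p) := by
  rw [injective_iff_map_eq_zero]
  intro φ hφ
  ext m
  obtain ⟨x, rfl⟩ := hp m
  exact LinearMap.congr_fun hφ x

include hp hex in
theorem dual_exact : Function.Exact (Dmap R W p) (Dmap R W i) := by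
  intro φ
  constructor
  · intro hφ
    have hker : LinearMap.ker p ≤ LinearMap.ker φ := by
      intro x hx
      obtain ⟨k, rfl⟩ := (hex x).1 hx
      exact LinearMap.congr_fun hφ k
    let e := p.quotKerEquivOfSurjective hp
    refine ⟨(Submodule.liftQ _ φ hker) ∘ₗ e.symm.toLinearMap, ?_⟩
    ext x
    rw [Dmap_apply, LinearMap.comp_apply, LinearMap.comp_apply, LinearEquiv.coe_coe]
    have : e.symm (p x) = Submodule.Quotient.mk x := by
      rw [LinearEquiv.symm_apply_eq]
      rfl
    rw [this, Submodule.liftQ_apply]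
  · rintro ⟨χ, rfl⟩
    ext k
    rw [Dmap_apply, Dmap_apply, LinearMap.comp_apply, LinearMap.comp_apply,
      hex.apply_apply_eq_zero, map_zero, LinearMap.zero_apply]

/-- reflexivity descends along a presentation -/
theorem ev_surjective_of_ses
    (hext : ∀ ψ : (M →ₗ[R] W) →ₗ[R] W, ∃ φ : (F →ₗ[R] W) →ₗ[R] W, φ ∘ₗ Dmap R W p = ψ)
    (hF : Function.Surjective (ev R W F)) : Function.Surjective (ev R W M) := by
  intro ψ
  obtain ⟨φ, hφ⟩ := hext ψ
  obtain ⟨v, hv⟩ := hF φ
  refine ⟨p v, ?_⟩
  ext χ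
  rw [ev_apply, ← hφ, LinearMap.comp_apply, ← hv, ev_apply, Dmap_apply, LinearMap.comp_apply]

end ses

end abstract

end Groth.Agent.Lib.helper15.ExtDual
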