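import Mathlib
import Groth.Agent.Lib.Helper15.ExtDual1
import Groth.Agent.Lib.Helper6.Reflexive2

/-!
# Duality with respect to a canonical ideal (helper15), part 2: free modules, torsion-free modules

`O` a domain with fraction field `K`, `ω ⊆ K` a nonzero submodule with `ω : ω = O`.
* `end_omega` : every endomorphism of `ω` is a homothety;
* `ev_free_surjective` : `O^r → D D O^r` is surjective;
* `ev_injective_of_tf` : `M → D D M` is injective for finitely generated torsion-free `M`.
-/

set_option autoImplicit false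
set_option linter.style.haveILetI false

universe u

namespace Groth.Agent.Lib.helper15.ExtDual

/-- torsion-freeness as a plain proposition -/
def TF (O : Type*) [CommRing O] (M : Type*) [AddCommGroup M] [Module O M] : Prop :=
  ∀ (c : O) (x : M), c • x = 0 → c = 0 ∨ x = 0

section tf

variable {O : Type u} [CommRing O] [IsDomain O] {K : Type u} [Field K] [Algebra O K]
  [IsFractionRing O K]

omit [IsDomain O] in
theorem tf_field : TF O K := by
  intro c x h
  rw [Algebra.smul_def, mul_eq_zero] at h
  rcases h with h | h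
  · left
    exact (map_eq_zero_iff _ (IsFractionRing.injective O K)).1 h
  · exact Or.inr h

omit [IsDomain O] in
theorem tf_submodule {M : Type*} [AddCommGroup M] [Module O M] (h : TF O M) (N : Submodule O M) :
    TF O ↥N := by
  intro c x hx
  rcases h c (x : M) (by rw [← Submodule.coe_smul, hx]; rfl) with h1 | h1
  · exact Or.inl h1
  · exact Or.inr (Subtype.ext h1)

omit [IsDomain O] in
theorem tf_hom {M W : Type*} [AddCommGroup M] [Module O M] [AddCommGroup W] [Module O W]
    (h : TF O W) : TF O (M →ₗ[O] W) := by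
  intro c φ hφ
  by_cases hc : c = 0
  · exact Or.inl hc
  · right
    ext m
    have := LinearMap.congr_fun hφ m
    rw [LinearMap.smul_apply, LinearMap.zero_apply] at this
    exact (h c (φ m) this).resolve_left hc

theorem tf_pi (r : ℕ) : TF O (Fin r → O) := by
  intro c x hx
  by_cases hc : c = 0
  · exact Or.inl hc
  · right
    funext j
    have := congrFun hx j
    rw [Pi.smul_apply, smul_eq_mul, Pi.zero_apply, mul_eq_zero] at this
    exact this.resolve_left hc

omit [IsDomain O] in
theorem tf_of_injective {M N : Type*} [AddCommGroup M] [Module O M] [AddCommGroup N]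
    [Module O N] (h : TF O N) (f : M →ₗ[O] N) (hf : Function.Injective f) : TF O M := by
  intro c x hx
  rcases h c (f x) (by rw [← map_smul, hx, map_zero]) with h1 | h1
  · exact Or.inl h1
  · right
    apply hf
    rw [h1, map_zero]

end tf

section omega

variable {O : Type u} [CommRing O] [IsDomain O] {K : Type u} [Field K] [Algebra O K]
  [IsFractionRing O K] (ω : Submodule O K) (hω0 : ω ≠ ⊥) (hωω : ω / ω = 1)

include hω0 hωω in
/-- every endomorphism of `ω` is multiplication by an element of `O` -/
theorem end_omega (g : ↥ω →ₗ[O] ↥ω) : ∃ c : O, ∀ w : ↥ω, g w = c • w := by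
  obtain ⟨w₀, hw₀, hw₀0⟩ := Submodule.exists_mem_ne_zero_of_ne_bot hω0
  set c' : K := ((g ⟨w₀, hw₀⟩ : ↥ω) : K) / w₀ with hc'
  have key : ∀ w : ↥ω, ((g w : ↥ω) : K) = c' * (w : K) := by
    intro w
    obtain ⟨a, b, hb, hab⟩ := IsFractionRing.div_surjective (A := O) ((w : K) / w₀)
    have hb0 : b ≠ 0 := nonZeroDivisors.ne_zero hb
    have hbK : algebraMap O K b ≠ 0 := by
      rw [Ne, map_eq_zero_iff _ (IsFractionRing.injective O K)]
      exact hb0
    have h1 : b • w = a • (⟨w₀, hw₀⟩ : ↥ω) := by
      apply Subtype.ext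
      change b • (w : K) = a • w₀
      rw [Algebra.smul_def, Algebra.smul_def]
      field_simp at hab
      exact hab.symm
    have h2 : b • g w = a • g ⟨w₀, hw₀⟩ := by rw [← map_smul, ← map_smul, h1]
    have h3 : algebraMap O K b * ((g w : ↥ω) : K) =
        algebraMap O K a * ((g ⟨w₀, hw₀⟩ : ↥ω) : K) := by
      have := congrArg (Subtype.val) h2
      simpa [Algebra.smul_def] using this
    have h4 : algebraMap O K b * (w : K) = algebraMap O K a * w₀ := by
      have := congrArg (Subtype.val) h1
      simpa [Algebra.smul_def] using this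
    apply mul_left_cancel₀ hbK
    rw [h3, hc']
    have : algebraMap O K b * (((g ⟨w₀, hw₀⟩ : ↥ω) : K) / w₀ * (w : K)) =
        ((g ⟨w₀, hw₀⟩ : ↥ω) : K) / w₀ * (algebraMap O K b * (w : K)) := by ring
    rw [this, h4]
    field_simp
  have hmem : c' ∈ ω / ω := by
    rw [Submodule.mem_div_iff_forall_mul_mem]
    intro w hw
    rw [← key ⟨w, hw⟩]
    exact (g ⟨w, hw⟩).2
  rw [hωω] at hmem
  obtain ⟨c, hc⟩ := Submodule.mem_one.1 hmem
  refine ⟨c, fun w => ?_⟩
  apply Subtype.ext
  rw [key w, ← hc, Submodule.coe_smul, Algebra.smul_def]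

include hω0 hωω in
/-- `O^r → D D O^r` is surjective -/
theorem ev_free_surjective (r : ℕ) : Function.Surjective (ev O ↥ω (Fin r → O)) := by
  classical
  intro φ
  let ε : Fin r → (↥ω →ₗ[O] ((Fin r → O) →ₗ[O] ↥ω)) := fun j =>
    LinearMap.smulRightₗ (LinearMap.proj j : (Fin r → O) →ₗ[O] O)
  have hε : ∀ j (w : ↥ω) (x : Fin r → O), ε j w x = x j • w := fun j w x => rfl
  choose c hc using fun j => end_omega ω hω0 hωω (φ ∘ₗ ε j)
  refine ⟨c, ?_⟩
  apply LinearMap.ext
  intro χ
  rw [ev_apply]
  have hχ : χ = ∑ j, ε j (χ (Pi.single j 1)) := by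
    apply LinearMap.ext
    intro x
    rw [LinearMap.pi_apply_eq_sum_univ χ x, LinearMap.sum_apply]
    apply Finset.sum_congr rfl
    intro j _
    rw [hε]
    congr 2
    funext k
    rw [Pi.single_apply]
    simp only [eq_comm]
  have h1 : φ χ = ∑ j, c j • χ (Pi.single j 1) := by
    conv_lhs => rw [hχ]
    rw [map_sum]
    apply Finset.sum_congr rfl
    intro j _
    have := hc j (χ (Pi.single j 1))
    rw [LinearMap.comp_apply] at this
    exact this
  rw [h1, LinearMap.pi_apply_eq_sum_univ χ c]
  apply Finset.sum_congr rfl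
  intro j _
  congr 2
  funext k
  rw [Pi.single_apply]
  simp only [eq_comm]

include hω0 in
/-- `M → D D M` is injective for finitely generated torsion-free `M` -/
theorem ev_injective_of_tf (M : Type u) [AddCommGroup M] [Module O M] [Module.Finite O M]
    (hM : TF O M) : Function.Injective (ev O ↥ω M) := by
  haveI : Module.IsTorsionFree O M := by
    refine Module.IsTorsionFree.of_smul_eq_zero (fun r m h => ?_)
    exact hM r m h
  obtain ⟨k, ι, hι⟩ := Groth.Agent.Lib.Helper6.Reflexive.exists_embedding_free (R := O) M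
  obtain ⟨w₀, hw₀, hw₀0⟩ := Submodule.exists_mem_ne_zero_of_ne_bot hω0
  rw [injective_iff_map_eq_zero]
  intro m hm
  apply hι
  rw [map_zero]
  funext j
  rw [Pi.zero_apply]
  have := LinearMap.congr_fun hm
    ((LinearMap.smulRightₗ (LinearMap.proj j : (Fin k → O) →ₗ[O] O) (⟨w₀, hw₀⟩ : ↥ω)) ∘ₗ ι)
  rw [ev_apply, LinearMap.zero_apply, LinearMap.comp_apply] at this
  have h2 : (ι m) j • (⟨w₀, hw₀⟩ : ↥ω) = 0 := this
  have h3 := (tf_submodule (tf_field (O := O) (K := K)) ω) _ _ h2
  rcases h3 with h3 | h3
  · exact h3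
  · exact absurd (congrArg Subtype.val h3) hw₀0

end omega

end Groth.Agent.Lib.helper15.ExtDual
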