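import Mathlib
import Groth.Agent.Lib.Helper19.ExtLoc1

/-!
# Covariant long exact sequence tools for `Ext` of modules (helper15)

For a short exact sequence `0 → A → B → C → 0` of `R`-modules and an `R`-module `X`:
* `cobdry` : `Hom(X, C) →+ Ext^1(X, A)`, with kernel the maps that lift to `B`, surjective when
  `Ext^1(X, B) = 0`;
* `coshift` : `Ext^{e+1}(X, C) ≃+ Ext^{e+2}(X, A)` when `Ext^{e+1}(X, B) = Ext^{e+2}(X, B) = 0`.
Also `ext_subsingleton_of_linearEquiv` and `ext_pi_subsingleton`.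
-/

set_option autoImplicit false
set_option linter.style.haveILetI false

universe u

namespace Groth.Agent.Lib.helper15.ExtDual

open CategoryTheory Groth.Agent.Lib.helper19.ExtLoc

section Cov

variable {R : Type u} [CommRing R] {A B C : Type u} [AddCommGroup A] [Module R A]
  [AddCommGroup B] [Module R B] [AddCommGroup C] [Module R C]
  (X : Type u) [AddCommGroup X] [Module R X]
  (a : A →ₗ[R] B) (b : B →ₗ[R] C) (ha : Function.Injective a) (hb : Function.Surjective b)
  (hex : Function.Exact a b)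

/-- `∂ : Hom(X, C) → Ext^1(X, A)` -/
noncomputable def cobdry : (X →ₗ[R] C) →+
    Abelian.Ext.{u} (ModuleCat.of R X) (ModuleCat.of R A) 1 :=
  (Abelian.Ext.postcomp (sc_shortExact a b ha hb hex).extClass (ModuleCat.of R X)
    (show 0 + 1 = 1 by omega)).comp (ext0Equiv C X).symm.toLinearMap.toAddMonoidHom

theorem cobdry_apply (φ : X →ₗ[R] C) :
    cobdry X a b ha hb hex φ = (Abelian.Ext.mk₀ (ModuleCat.ofHom φ)).comp
      (sc_shortExact a b ha hb hex).extClass (show 0 + 1 = 1 by omega) := rfl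

theorem cobdry_surjective
    (h : Subsingleton (Abelian.Ext.{u} (ModuleCat.of R X) (ModuleCat.of R B) 1)) :
    Function.Surjective (cobdry X a b ha hb hex) := by
  intro x₁
  obtain ⟨x₃, hx₃⟩ := Abelian.Ext.covariant_sequence_exact₁ (ModuleCat.of R X)
    (sc_shortExact a b ha hb hex) x₁ (h.elim _ _) (show 0 + 1 = 1 by omega)
  refine ⟨ext0Equiv C X x₃, ?_⟩
  rw [cobdry_apply]
  have h3 : Abelian.Ext.mk₀ (ModuleCat.ofHom (ext0Equiv C X x₃)) = x₃ := by
    rw [← ext0Equiv_symm_apply, LinearEquiv.symm_apply_apply]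
  rw [h3]
  exact hx₃

theorem cobdry_eq_zero_iff (φ : X →ₗ[R] C) :
    cobdry X a b ha hb hex φ = 0 ↔ ∃ ψ : X →ₗ[R] B, b ∘ₗ ψ = φ := by
  constructor
  · intro hφ
    rw [cobdry_apply] at hφ
    obtain ⟨x₂, hx₂⟩ := Abelian.Ext.covariant_sequence_exact₃ (ModuleCat.of R X)
      (sc_shortExact a b ha hb hex) (Abelian.Ext.mk₀ (ModuleCat.ofHom φ))
      (show 0 + 1 = 1 by omega) hφ
    refine ⟨ext0Equiv B X x₂, ?_⟩
    apply (ext0Equiv C X).symm.injective
    rw [ext0Equiv_symm_apply, ext0Equiv_symm_apply, ← hx₂]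
    have h3 : x₂ = Abelian.Ext.mk₀ (ModuleCat.ofHom (ext0Equiv B X x₂)) := by
      rw [← ext0Equiv_symm_apply, LinearEquiv.symm_apply_apply]
    conv_rhs => rw [h3]
    rw [Abelian.Ext.mk₀_comp_mk₀]
    rfl
  · rintro ⟨ψ, rfl⟩
    rw [cobdry_apply]
    have h1 : Abelian.Ext.mk₀ (ModuleCat.ofHom (b ∘ₗ ψ)) =
        (Abelian.Ext.mk₀ (ModuleCat.ofHom ψ)).comp (Abelian.Ext.mk₀ (sc a b hex).g)
          (zero_add 0) := by
      rw [Abelian.Ext.mk₀_comp_mk₀]
      rfl
    rw [h1, Abelian.Ext.comp_assoc_of_second_deg_zero,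
      (sc_shortExact a b ha hb hex).comp_extClass, Abelian.Ext.comp_zero]

/-- the connecting map as an equivalence in degrees `≥ 1` -/
noncomputable def coshift (e : ℕ)
    (h1 : Subsingleton (Abelian.Ext.{u} (ModuleCat.of R X) (ModuleCat.of R B) (e + 1)))
    (h2 : Subsingleton (Abelian.Ext.{u} (ModuleCat.of R X) (ModuleCat.of R B) (e + 2))) :
    Abelian.Ext.{u} (ModuleCat.of R X) (ModuleCat.of R C) (e + 1) ≃+
      Abelian.Ext.{u} (ModuleCat.of R X) (ModuleCat.of R A) (e + 2) :=
  AddEquiv.ofBijective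
    (Abelian.Ext.postcomp (sc_shortExact a b ha hb hex).extClass (ModuleCat.of R X)
      (show (e + 1) + 1 = e + 2 by omega)) (by
    constructor
    · rw [injective_iff_map_eq_zero]
      intro x₃ hx₃
      obtain ⟨x₂, hx₂⟩ := Abelian.Ext.covariant_sequence_exact₃ (ModuleCat.of R X)
        (sc_shortExact a b ha hb hex) x₃ (show (e + 1) + 1 = e + 2 by omega) hx₃
      have hx0 : x₂ = 0 := h1.elim _ _
      rw [← hx₂, hx0, Abelian.Ext.zero_comp]
    · intro x₁
      obtain ⟨x₃, hx₃⟩ := Abelian.Ext.covariant_sequence_exact₁ (ModuleCat.of R X)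
        (sc_shortExact a b ha hb hex) x₁ (h2.elim _ _) (show (e + 1) + 1 = e + 2 by omega)
      exact ⟨x₃, hx₃⟩)

include ha hb hex in
/-- vanishing of `Ext^j(X, B)` from the two ends -/
theorem ext_subsingleton_of_ses (j : ℕ)
    (hA : Subsingleton (Abelian.Ext.{u} (ModuleCat.of R X) (ModuleCat.of R A) j))
    (hC : Subsingleton (Abelian.Ext.{u} (ModuleCat.of R X) (ModuleCat.of R C) j)) :
    Subsingleton (Abelian.Ext.{u} (ModuleCat.of R X) (ModuleCat.of R B) j) := by
  refine ⟨fun x y => ?_⟩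
  have key : ∀ x₂ : Abelian.Ext.{u} (ModuleCat.of R X) (ModuleCat.of R B) j, x₂ = 0 := by
    intro x₂
    obtain ⟨x₁, hx₁⟩ := Abelian.Ext.covariant_sequence_exact₂ (ModuleCat.of R X)
      (sc_shortExact a b ha hb hex) x₂ (hC.elim _ _)
    have : x₁ = 0 := hA.elim _ _
    rw [← hx₁, this, Abelian.Ext.zero_comp]
  rw [key x, key y]

end Cov

section Iso

variable {R : Type u} [CommRing R] (X : Type u) [AddCommGroup X] [Module R X]

/-- vanishing of `Ext` transports along isomorphisms in the second variable -/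
theorem ext_subsingleton_of_linearEquiv {A B : Type u} [AddCommGroup A] [Module R A]
    [AddCommGroup B] [Module R B] (e : A ≃ₗ[R] B) (j : ℕ)
    (hB : Subsingleton (Abelian.Ext.{u} (ModuleCat.of R X) (ModuleCat.of R B) j)) :
    Subsingleton (Abelian.Ext.{u} (ModuleCat.of R X) (ModuleCat.of R A) j) := by
  refine ⟨fun x y => ?_⟩
  have key : ∀ x : Abelian.Ext.{u} (ModuleCat.of R X) (ModuleCat.of R A) j, x = 0 := by
    intro x
    have h1 : (x.comp (Abelian.Ext.mk₀ e.toModuleIso.hom) (add_zero j)).comp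
        (Abelian.Ext.mk₀ e.toModuleIso.inv) (add_zero j) = x := by
      rw [Abelian.Ext.comp_assoc_of_third_deg_zero, Abelian.Ext.mk₀_comp_mk₀,
        Iso.hom_inv_id, Abelian.Ext.comp_mk₀_id]
    rw [← h1, hB.elim (x.comp (Abelian.Ext.mk₀ e.toModuleIso.hom) (add_zero j)) 0,
      Abelian.Ext.zero_comp]
  rw [key x, key y]

/-- vanishing of `Ext^j(X, W^r)` from that of `Ext^j(X, W)` -/
theorem ext_pi_subsingleton (W : Type u) [AddCommGroup W] [Module R W] (j : ℕ)
    (hW : Subsingleton (Abelian.Ext.{u} (ModuleCat.of R X) (ModuleCat.of R W) j)) (r : ℕ) :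
    Subsingleton (Abelian.Ext.{u} (ModuleCat.of R X) (ModuleCat.of R (Fin r → W)) j) := by
  induction r with
  | zero =>
    refine ⟨fun x y => ?_⟩
    have hz : Limits.IsZero (ModuleCat.of R (Fin 0 → W)) :=
      ModuleCat.isZero_of_subsingleton _
    have key : ∀ x : Abelian.Ext.{u} (ModuleCat.of R X) (ModuleCat.of R (Fin 0 → W)) j,
        x = 0 := by
      intro x
      have h1 : x.comp (Abelian.Ext.mk₀ (𝟙 (ModuleCat.of R (Fin 0 → W)))) (add_zero j) = x :=
        Abelian.Ext.comp_mk₀_id x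
      rw [hz.eq_of_src (𝟙 _) 0, Abelian.Ext.mk₀_zero, Abelian.Ext.comp_zero] at h1
      exact h1.symm
    rw [key x, key y]
  | succ r ih =>
    -- 0 → W → W^{r+1} → W^r → 0
    let a : W →ₗ[R] (Fin (r + 1) → W) := LinearMap.single R (fun _ : Fin (r + 1) => W) 0
    let b : (Fin (r + 1) → W) →ₗ[R] (Fin r → W) :=
      LinearMap.pi (fun k => LinearMap.proj (Fin.succ k))
    have ha : Function.Injective a := by
      intro x y hxy
      have := congrFun hxy 0
      simpa [a] using this
    have hb : Function.Surjective b := by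
      intro y
      refine ⟨Fin.cons 0 y, ?_⟩
      funext k
      simp [b]
    have hex : Function.Exact a b := by
      intro x
      constructor
      · intro hx
        refine ⟨x 0, ?_⟩
        funext k
        refine Fin.cases ?_ (fun k' => ?_) k
        · simp [a]
        · have := congrFun hx k'
          simp only [b, LinearMap.pi_apply, LinearMap.proj_apply, Pi.zero_apply] at this
          simp [a, this]
      · rintro ⟨w, rfl⟩
        funext k
        simp [a, b]
    exact ext_subsingleton_of_ses X a b ha hb hex j hW ih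

end Iso

end Groth.Agent.Lib.helper15.ExtDual
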