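import Mathlib
import Groth.Agent.Lib.Helper15.ExtDual2
import Groth.Agent.Lib.Helper15.ExtDual3
import Groth.Agent.Lib.Helper19.Refl1

/-!
# Duality with respect to a canonical ideal (helper15), part 4: `Ext^e(M, N) ≃ Ext^e(D N, D M)`

`O` a Noetherian domain with fraction field `K`, `ω ⊆ K` a nonzero finitely generated submodule with
`ω : ω = O` and `Ext^j(M, ω) = 0` for all `j ≥ 1` and all finitely generated torsion-free `M`.
Then finitely generated torsion-free modules are `ω`-reflexive (`ev_bijective`) and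
`Ext^e(M, N) ≃+ Ext^e(Hom(N, ω), Hom(M, ω))` (`extDual`).
-/

set_option autoImplicit false
set_option linter.style.haveILetI false

universe u

namespace Groth.Agent.Lib.helper15.ExtDual

open CategoryTheory Groth.Agent.Lib.helper19.ExtLoc Groth.Agent.Lib.helper19.Refl

variable {O : Type u} [CommRing O] [IsDomain O] [IsNoetherianRing O]
  (W : Type u) [AddCommGroup W] [Module O W] [Module.Finite O W] (hW : TF O W)
  (hfree : ∀ r : ℕ, Function.Surjective (ev O W (Fin r → O)))
  (hinj : ∀ (M : Type u) [AddCommGroup M] [Module O M] [Module.Finite O M], TF O M →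
    Function.Injective (ev O W M))
  (hExt : ∀ (M : Type u) [AddCommGroup M] [Module O M] [Module.Finite O M], TF O M →
    ∀ j : ℕ, 1 ≤ j → Subsingleton (Abelian.Ext.{u} (ModuleCat.of O M) (ModuleCat.of O W) j))

omit [IsNoetherianRing O] [Module.Finite O W] in
include hW in
theorem tf_dual (M : Type u) [AddCommGroup M] [Module O M] : TF O (M →ₗ[O] W) :=
  tf_hom hW

include hW hfree hinj hExt in
/-- finitely generated torsion-free modules are `ω`-reflexive -/
theorem ev_bijective (M : Type u) [AddCommGroup M] [Module O M] [Module.Finite O M]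
    (hM : TF O M) : Function.Bijective (ev O W M) := by
  refine ⟨hinj M hM, ?_⟩
  obtain ⟨r, p, hp⟩ := Module.Finite.exists_fin' O M
  let i : ↥(LinearMap.ker p) →ₗ[O] (Fin r → O) := (LinearMap.ker p).subtype
  have hi : Function.Injective i := Submodule.subtype_injective _
  have hex : Function.Exact i p := LinearMap.exact_subtype_ker_map p
  have hK : TF O ↥(LinearMap.ker p) := tf_submodule (tf_pi r) _
  -- the dual sequence
  have hb : Function.Surjective (Dmap O W i) := by
    intro ψ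
    obtain ⟨φ, hφ⟩ := exists_extend_of_ses (S := O) W i p hi hp hex (hExt M hM 1 le_rfl) ψ
    exact ⟨φ, hφ⟩
  have ha : Function.Injective (Dmap O W p) := Dmap_injective_of_surjective O W p hp
  have hexD : Function.Exact (Dmap O W p) (Dmap O W i) := dual_exact O W i p hp hex
  apply ev_surjective_of_ses O W p
  · intro ψ
    exact exists_extend_of_ses (S := O) (A := M →ₗ[O] W) (B := (Fin r → O) →ₗ[O] W)
      (C := ↥(LinearMap.ker p) →ₗ[O] W) W (Dmap O W p) (Dmap O W i) ha hb hexD
      (hExt _ (tf_dual W hW _) 1 le_rfl) ψ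
  · exact hfree r

omit [IsDomain O] [IsNoetherianRing O] [Module.Finite O W] in
include hExt in
/-- `Ext^j(X, Hom(O^r, ω)) = 0` for `j ≥ 1` -/
theorem ext_dual_free_subsingleton (X : Type u) [AddCommGroup X] [Module O X] [Module.Finite O X]
    (hX : TF O X) (r : ℕ) (j : ℕ) (hj : 1 ≤ j) :
    Subsingleton (Abelian.Ext.{u} (ModuleCat.of O X)
      (ModuleCat.of O ((Fin r → O) →ₗ[O] W)) j) := by
  classical
  exact ext_subsingleton_of_linearEquiv X (LinearEquiv.piRing O W (Fin r) O) j
    (ext_pi_subsingleton X W j (hExt X hX j hj) r)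

include hW hfree hinj hExt in
theorem extDual_zero (M N : Type u) [AddCommGroup M] [Module O M] [AddCommGroup N]
    [Module O N] [Module.Finite O M] [Module.Finite O N] (hN : TF O N) :
    Nonempty (Abelian.Ext.{u} (ModuleCat.of O M) (ModuleCat.of O N) 0 ≃+
      Abelian.Ext.{u} (ModuleCat.of O (N →ₗ[O] W)) (ModuleCat.of O (M →ₗ[O] W)) 0) :=
  ⟨((ext0Equiv N M).toAddEquiv.trans
    (homEquiv O W (ev_bijective W hW hfree hinj hExt N hN))).trans
      (ext0Equiv (M →ₗ[O] W) (N →ₗ[O] W)).symm.toAddEquiv⟩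

omit [IsDomain O] [IsNoetherianRing O] [Module.Finite O W] in
/-- isomorphic cokernels -/
theorem quot_equiv {G H G' H' : Type*} [AddCommGroup G] [AddCommGroup H] [AddCommGroup G']
    [AddCommGroup H'] (β₁ : G →+ G') (hβ₁ : Function.Surjective β₁) (β₂ : H →+ H')
    (hβ₂ : Function.Surjective β₂) (E : G ≃+ H) (h : ∀ g, β₁ g = 0 ↔ β₂ (E g) = 0) :
    Nonempty (G' ≃+ H') := by
  let E₁ := QuotientAddGroup.quotientKerEquivOfSurjective β₁ hβ₁
  let E₂ := QuotientAddGroup.quotientKerEquivOfSurjective β₂ hβ₂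
  have hmap : β₁.ker.map (E : G →+ H) = β₂.ker := by
    ext χ
    rw [AddSubgroup.mem_map, AddMonoidHom.mem_ker]
    constructor
    · rintro ⟨g, hg, rfl⟩
      rw [AddMonoidHom.mem_ker] at hg
      exact (h g).1 hg
    · intro hχ
      refine ⟨E.symm χ, ?_, ?_⟩
      · rw [AddMonoidHom.mem_ker, h, AddEquiv.apply_symm_apply]
        exact hχ
      · exact E.apply_symm_apply χ
  exact ⟨(E₁.symm.trans (QuotientAddGroup.congr β₁.ker β₂.ker E hmap)).trans E₂⟩

include hW hfree hinj hExt in
theorem extDual_one (M N : Type u) [AddCommGroup M] [Module O M] [AddCommGroup N]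
    [Module O N] [Module.Finite O M] [Module.Finite O N] (hM : TF O M) (hN : TF O N) :
    Nonempty (Abelian.Ext.{u} (ModuleCat.of O M) (ModuleCat.of O N) 1 ≃+
      Abelian.Ext.{u} (ModuleCat.of O (N →ₗ[O] W)) (ModuleCat.of O (M →ₗ[O] W)) 1) := by
  obtain ⟨r, p, hp⟩ := Module.Finite.exists_fin' O M
  let i : ↥(LinearMap.ker p) →ₗ[O] (Fin r → O) := (LinearMap.ker p).subtype
  have hi : Function.Injective i := Submodule.subtype_injective _
  have hex : Function.Exact i p := LinearMap.exact_subtype_ker_map p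
  have hb : Function.Surjective (Dmap O W i) := by
    intro ψ
    obtain ⟨φ, hφ⟩ := exists_extend_of_ses (S := O) W i p hi hp hex (hExt M hM 1 le_rfl) ψ
    exact ⟨φ, hφ⟩
  have ha : Function.Injective (Dmap O W p) := Dmap_injective_of_surjective O W p hp
  have hexD : Function.Exact (Dmap O W p) (Dmap O W i) := dual_exact O W i p hp hex
  have hB := ext_dual_free_subsingleton W hExt (N →ₗ[O] W) (tf_dual W hW N) r
  have hβ₁ : Function.Surjective (bdry N i p hi hp hex).toAddMonoidHom :=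
    bdry_surjective N i p hi hp hex
  have hB1 : Subsingleton (Abelian.Ext.{u} (ModuleCat.of O (N →ₗ[O] W))
      (ModuleCat.of O ((Fin r → O) →ₗ[O] W)) 1) := hB 1 le_rfl
  have hβ₂ := cobdry_surjective (A := M →ₗ[O] W) (B := (Fin r → O) →ₗ[O] W)
      (C := ↥(LinearMap.ker p) →ₗ[O] W) (N →ₗ[O] W) (Dmap O W p) (Dmap O W i) ha hb hexD
      hB1
  have hβ₂z := fun χ => cobdry_eq_zero_iff (A := M →ₗ[O] W) (B := (Fin r → O) →ₗ[O] W)
      (C := ↥(LinearMap.ker p) →ₗ[O] W) (N →ₗ[O] W) (Dmap O W p) (Dmap O W i)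
      ha hb hexD χ
  have hβ₁z : ∀ ψ, (bdry N i p hi hp hex).toAddMonoidHom ψ = 0 ↔
      ∃ φ : (Fin r → O) →ₗ[O] N, φ ∘ₗ i = ψ := fun ψ =>
    bdry_eq_zero_iff N i p hi hp hex ψ
  have hevN := ev_bijective W hW hfree hinj hExt N hN
  have hE₃F : Function.Surjective (homMap O W (M := Fin r → O) (N := N)) :=
    homMap_surjective O W hevN
  have hE₃inj : Function.Injective (homMap O W (M := ↥(LinearMap.ker p)) (N := N)) :=
    homMap_injective O W hevN.1
  refine quot_equiv (G := ↥(LinearMap.ker p) →ₗ[O] N)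
    (H := (N →ₗ[O] W) →ₗ[O] (↥(LinearMap.ker p) →ₗ[O] W)) _ hβ₁ _ hβ₂
    (homEquiv O W (M := ↥(LinearMap.ker p)) (N := N) hevN) ?_
  intro ψ
  rw [homEquiv_apply, hβ₁z, hβ₂z]
  constructor
  · rintro ⟨φ, rfl⟩
    exact ⟨Dmap O W φ, rfl⟩
  · rintro ⟨θ, hθ⟩
    obtain ⟨φ, hφ⟩ := hE₃F θ
    refine ⟨φ, ?_⟩
    apply hE₃inj
    rw [homMap_apply, homMap_apply, ← hθ, ← hφ]
    rfl

include hW hExt in
theorem extDual_succ (e : ℕ)
    (IH : ∀ (M N : Type u) [AddCommGroup M] [Module O M] [AddCommGroup N]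
      [Module O N] [Module.Finite O M] [Module.Finite O N], TF O M → TF O N →
      Nonempty (Abelian.Ext.{u} (ModuleCat.of O M) (ModuleCat.of O N) (e + 1) ≃+
        Abelian.Ext.{u} (ModuleCat.of O (N →ₗ[O] W)) (ModuleCat.of O (M →ₗ[O] W)) (e + 1)))
    (M N : Type u) [AddCommGroup M] [Module O M] [AddCommGroup N]
    [Module O N] [Module.Finite O M] [Module.Finite O N] (hM : TF O M) (hN : TF O N) :
    Nonempty (Abelian.Ext.{u} (ModuleCat.of O M) (ModuleCat.of O N) (e + 2) ≃+
      Abelian.Ext.{u} (ModuleCat.of O (N →ₗ[O] W)) (ModuleCat.of O (M →ₗ[O] W)) (e + 2)) := by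
  obtain ⟨r, p, hp⟩ := Module.Finite.exists_fin' O M
  let i : ↥(LinearMap.ker p) →ₗ[O] (Fin r → O) := (LinearMap.ker p).subtype
  have hi : Function.Injective i := Submodule.subtype_injective _
  have hex : Function.Exact i p := LinearMap.exact_subtype_ker_map p
  have hK : TF O ↥(LinearMap.ker p) := tf_submodule (tf_pi r) _
  have hb : Function.Surjective (Dmap O W i) := by
    intro ψ
    obtain ⟨φ, hφ⟩ := exists_extend_of_ses (S := O) W i p hi hp hex (hExt M hM 1 le_rfl) ψ
    exact ⟨φ, hφ⟩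
  have ha : Function.Injective (Dmap O W p) := Dmap_injective_of_surjective O W p hp
  have hexD : Function.Exact (Dmap O W p) (Dmap O W i) := dual_exact O W i p hp hex
  have hB := ext_dual_free_subsingleton W hExt (N →ₗ[O] W) (tf_dual W hW N) r
  obtain ⟨IH'⟩ := IH ↥(LinearMap.ker p) N hK hN
  let S₁ := (extShift N i p hi hp hex e).symm.toAddEquiv
  let S₃ := coshift (A := M →ₗ[O] W) (B := (Fin r → O) →ₗ[O] W)
    (C := ↥(LinearMap.ker p) →ₗ[O] W) (N →ₗ[O] W) (Dmap O W p) (Dmap O W i) ha hb hexD e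
    (hB (e + 1) (by omega)) (hB (e + 2) (by omega))
  exact ⟨(S₁.trans IH').trans S₃⟩

include hW hfree hinj hExt in
/-- `Ext^e(M, N) ≃+ Ext^e(D N, D M)` for finitely generated torsion-free `M`, `N` -/
theorem extDual_pos (e : ℕ) : ∀ (M N : Type u) [AddCommGroup M] [Module O M] [AddCommGroup N]
    [Module O N] [Module.Finite O M] [Module.Finite O N], TF O M → TF O N →
    Nonempty (Abelian.Ext.{u} (ModuleCat.of O M) (ModuleCat.of O N) (e + 1) ≃+
      Abelian.Ext.{u} (ModuleCat.of O (N →ₗ[O] W)) (ModuleCat.of O (M →ₗ[O] W)) (e + 1)) := by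
  induction e with
  | zero =>
    intro M N _ _ _ _ _ _ hM hN
    exact extDual_one W hW hfree hinj hExt M N hM hN
  | succ e ih =>
    intro M N _ _ _ _ _ _ hM hN
    exact extDual_succ W hW hExt e ih M N hM hN

include hW hfree hinj hExt in
/-- `Ext^e(M, N) ≃+ Ext^e(D N, D M)` for finitely generated torsion-free `M`, `N` -/
theorem extDual (e : ℕ) (M N : Type u) [AddCommGroup M] [Module O M] [AddCommGroup N]
    [Module O N] [Module.Finite O M] [Module.Finite O N] (hM : TF O M) (hN : TF O N) :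
    Nonempty (Abelian.Ext.{u} (ModuleCat.of O M) (ModuleCat.of O N) e ≃+
      Abelian.Ext.{u} (ModuleCat.of O (N →ₗ[O] W)) (ModuleCat.of O (M →ₗ[O] W)) e) := by
  cases e with
  | zero => exact extDual_zero W hW hfree hinj hExt M N hN
  | succ e => exact extDual_pos W hW hfree hinj hExt e M N hM hN

end Groth.Agent.Lib.helper15.ExtDual
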