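import Mathlib
import Groth.Agent.Lib.Helper15.ExtDual4
import Groth.Agent.Lib.Helper15.CanDual4

/-!
# `Ext¹(M, M)` for an overring `M` of a Gorenstein curve singularity (helper15)

`O` a one-dimensional Noetherian local domain with fraction field `K` such that `O ⊆ K` has
injective dimension at most one, `M` an intermediate ring `O ⊆ M ⊆ K`, finite over `O`.  Then
`Ext¹_O(M, M) ≃+ Hom_O(a, O/a)` with `a = O : M` (`ext_one_overring`).
-/

set_option autoImplicit false
set_option linter.style.haveILetI false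

universe u

namespace Groth.Agent.Lib.helper15.ExtDual

open CategoryTheory Groth.Agent.Lib.helper15.CanDual

section rankone

variable {O : Type u} [CommRing O] [IsDomain O] {K : Type u} [Field K] [Algebra O K]
  [IsFractionRing O K]

/-- every `O`-linear map from a submodule of `K` to `K` is a homothety -/
theorem exists_mul_of_linear (I : Submodule O K) (g : ↥I →ₗ[O] K) :
    ∃ c : K, ∀ x : ↥I, g x = c * (x : K) := by
  by_cases hI : I = ⊥
  · refine ⟨0, fun x => ?_⟩
    have hx : x = 0 := by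
      apply Subtype.ext
      have h0 : (x : K) ∈ (⊥ : Submodule O K) := hI ▸ x.2
      rw [Submodule.mem_bot] at h0
      exact h0
    rw [hx, map_zero, zero_mul]
  obtain ⟨w₀, hw₀, hw₀0⟩ := Submodule.exists_mem_ne_zero_of_ne_bot hI
  refine ⟨g ⟨w₀, hw₀⟩ / w₀, fun w => ?_⟩
  obtain ⟨a, b, hb, hab⟩ := IsFractionRing.div_surjective (A := O) ((w : K) / w₀)
  have hb0 : b ≠ 0 := nonZeroDivisors.ne_zero hb
  have hbK : algebraMap O K b ≠ 0 := by
    rw [Ne, map_eq_zero_iff _ (IsFractionRing.injective O K)]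
    exact hb0
  have h1 : b • w = a • (⟨w₀, hw₀⟩ : ↥I) := by
    apply Subtype.ext
    change b • (w : K) = a • w₀
    rw [Algebra.smul_def, Algebra.smul_def]
    field_simp at hab
    exact hab.symm
  have h2 : b • g w = a • g ⟨w₀, hw₀⟩ := by rw [← map_smul, ← map_smul, h1]
  rw [Algebra.smul_def, Algebra.smul_def] at h2
  have h4 : algebraMap O K b * (w : K) = algebraMap O K a * w₀ := by
    have := congrArg (Subtype.val) h1
    simpa [Algebra.smul_def] using this
  apply mul_left_cancel₀ hbK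
  rw [h2]
  have : algebraMap O K b * (g ⟨w₀, hw₀⟩ / w₀ * (w : K)) =
      g ⟨w₀, hw₀⟩ / w₀ * (algebraMap O K b * (w : K)) := by ring
  rw [this, h4]
  field_simp

end rankone

section overring

variable {O : Type u} [CommRing O] [IsDomain O] [IsNoetherianRing O] [IsLocalRing O]
  {K : Type u} [Field K] [Algebra O K] [IsFractionRing O K]

/-- `Ext¹_O(M, M) ≃+ Hom_O(O : M, O / (O : M))` for an overring `M` -/
theorem ext_one_overring (hdim : ringKrullDim O = 1)
    (hinj1 : HasInjectiveDimensionLT (ModuleCat.of O ↥(1 : Submodule O K)) 2)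
    (hExt : ∀ (M' : Type u) [AddCommGroup M'] [Module O M'] [Module.Finite O M'], TF O M' →
      ∀ j : ℕ, 1 ≤ j → Subsingleton (Abelian.Ext.{u} (ModuleCat.of O M')
        (ModuleCat.of O ↥(1 : Submodule O K)) j))
    (M : Subalgebra O K) [Module.Finite O ↥M] :
    Nonempty (Abelian.Ext.{u} (ModuleCat.of O ↥M) (ModuleCat.of O ↥M) 1 ≃+
      (↥((1 : Submodule O K) / Subalgebra.toSubmodule M) →ₗ[O]
        (O ⧸ Submodule.comap (Algebra.linearMap O K)
          ((1 : Submodule O K) / Subalgebra.toSubmodule M)))) := by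
  classical
  have hω0 : (1 : Submodule O K) ≠ ⊥ := one_ne_bot
  have hωfg : (1 : Submodule O K).FG := one_fg'
  haveI : Module.Finite O ↥(1 : Submodule O K) := Module.Finite.iff_fg.mpr hωfg
  haveI : Module.Injective O (K ⧸ (1 : Submodule O K)) :=
    injective_quotient_of_hasInjectiveDimensionLT O K 1 hinj1
  have hωω : (1 : Submodule O K) / 1 = 1 := div_self_eq_one 1 hdim hω0 hωfg
  have hW : TF O ↥(1 : Submodule O K) := tf_submodule (tf_field (O := O) (K := K)) 1
  have hM : TF O ↥M :=
    tf_of_injective (tf_field (O := O) (K := K)) M.val.toLinearMap Subtype.val_injective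
  obtain ⟨EA⟩ := extDual ↥(1 : Submodule O K) hW
    (fun r => ev_free_surjective (1 : Submodule O K) hω0 hωω r)
    (fun M' _ _ _ hM' => ev_injective_of_tf (1 : Submodule O K) hω0 M' hM') hExt 1 ↥M ↥M hM hM
  -- notation
  set Ms : Submodule O K := Subalgebra.toSubmodule M with hMs
  set a : Submodule O K := (1 : Submodule O K) / Ms with ha
  set a' : Submodule O O := Submodule.comap (Algebra.linearMap O K) a with ha'
  have hMs0 : Ms ≠ ⊥ := by
    intro h
    have : (1 : K) ∈ Ms := M.one_mem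
    rw [h, Submodule.mem_bot] at this
    exact one_ne_zero this
  have hMsfg : Ms.FG := by
    have : Module.Finite O ↥Ms := ‹Module.Finite O ↥M›
    exact Module.Finite.iff_fg.mp this
  have hrefl : (1 : Submodule O K) / a = Ms := div_div_of_fg 1 hdim hω0 hωfg hMs0 hMsfg
  -- `a` is stable under `M`
  have ha_stable : ∀ c ∈ Ms, ∀ x ∈ a, c * x ∈ a := by
    intro c hc x hx
    rw [ha, Submodule.mem_div_iff_forall_mul_mem] at hx ⊢
    intro m hm
    have : c * x * m = x * (c * m) := by ring
    rw [this]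
    exact hx _ (M.mul_mem hc hm)
  let σ : O ≃ₗ[O] ↥(1 : Submodule O K) :=
    (LinearEquiv.ofInjective (Algebra.linearMap O K) (IsFractionRing.injective O K)).trans
      (LinearEquiv.ofEq _ _ Submodule.one_eq_range.symm)
  have hσ : ∀ r, ((σ r : ↥(1 : Submodule O K)) : K) = algebraMap O K r := fun r => rfl
  -- key formula
  have key : ∀ (φ : ↥M →ₗ[O] ↥(1 : Submodule O K)) (m : ↥M),
      ((φ m : ↥(1 : Submodule O K)) : K) = (m : K) * ((φ 1 : ↥(1 : Submodule O K)) : K) := by
    intro φ m
    obtain ⟨p, q, hq, hpq⟩ := IsFractionRing.div_surjective (A := O) (m : K)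
    have hq0 : q ≠ 0 := nonZeroDivisors.ne_zero hq
    have hqK : algebraMap O K q ≠ 0 := by
      rw [Ne, map_eq_zero_iff _ (IsFractionRing.injective O K)]
      exact hq0
    have h1 : q • m = p • (1 : ↥M) := by
      apply Subtype.ext
      change q • (m : K) = p • (1 : K)
      rw [Algebra.smul_def, Algebra.smul_def, mul_one, ← hpq]
      field_simp
    have h2 : q • φ m = p • φ 1 := by rw [← map_smul, ← map_smul, h1]
    have h3 := congrArg (Subtype.val) h2
    rw [Submodule.coe_smul, Submodule.coe_smul, Algebra.smul_def, Algebra.smul_def] at h3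
    apply mul_left_cancel₀ hqK
    rw [h3, ← hpq]
    field_simp
  -- the map `D → O`
  let j : (↥M →ₗ[O] ↥(1 : Submodule O K)) →ₗ[O] O :=
    σ.symm.toLinearMap ∘ₗ LinearMap.applyₗ (1 : ↥M)
  have hjK : ∀ φ, algebraMap O K (j φ) = ((φ 1 : ↥(1 : Submodule O K)) : K) := by
    intro φ
    rw [← hσ]
    change ((σ (σ.symm (φ 1)) : ↥(1 : Submodule O K)) : K) = _
    rw [LinearEquiv.apply_symm_apply]
  have hφa : ∀ φ : ↥M →ₗ[O] ↥(1 : Submodule O K),
      ((φ 1 : ↥(1 : Submodule O K)) : K) ∈ a := by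
    intro φ
    rw [ha, Submodule.mem_div_iff_forall_mul_mem]
    intro m hm
    rw [mul_comm, ← key φ ⟨m, hm⟩]
    exact (φ ⟨m, hm⟩).2
  have hj_inj : Function.Injective j := by
    rw [injective_iff_map_eq_zero]
    intro φ hφ
    have h1 : ((φ 1 : ↥(1 : Submodule O K)) : K) = 0 := by rw [← hjK, hφ, map_zero]
    ext m
    rw [key φ m, h1, mul_zero]
    rfl
  -- multiplication maps
  let mulBy : ↥a → (↥M →ₗ[O] ↥(1 : Submodule O K)) := fun x =>
    { toFun := fun m => ⟨(x : K) * (m : K),
        (Submodule.mem_div_iff_forall_mul_mem.1 x.2) _ m.2⟩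
      map_add' := fun m m' => by
        apply Subtype.ext
        change (x : K) * ((m : K) + (m' : K)) = (x : K) * (m : K) + (x : K) * (m' : K)
        ring
      map_smul' := fun r m => by
        apply Subtype.ext
        change (x : K) * (r • (m : K)) = r • ((x : K) * (m : K))
        rw [Algebra.smul_def, Algebra.smul_def]
        ring }
  have hmulBy : ∀ (x : ↥a) (m : ↥M), ((mulBy x m : ↥(1 : Submodule O K)) : K) =
      (x : K) * (m : K) := fun x m => rfl
  have hmulBy_one : ∀ φ : ↥M →ₗ[O] ↥(1 : Submodule O K),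
      mulBy ⟨((φ 1 : ↥(1 : Submodule O K)) : K), hφa φ⟩ = φ := by
    intro φ
    ext m
    rw [hmulBy, key φ m, mul_comm]
  have hrange : LinearMap.range j = a' := by
    ext r
    rw [ha', Submodule.mem_comap, Algebra.linearMap_apply]
    constructor
    · rintro ⟨φ, rfl⟩
      rw [hjK]
      exact hφa φ
    · intro hr
      refine ⟨mulBy ⟨algebraMap O K r, hr⟩, ?_⟩
      apply IsFractionRing.injective O K
      rw [hjK, hmulBy]
      change algebraMap O K r * (1 : K) = _
      rw [mul_one]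
  have hb : Function.Surjective a'.mkQ := Submodule.mkQ_surjective _
  have hex : Function.Exact j a'.mkQ := by
    intro x
    rw [Submodule.mkQ_apply, Submodule.Quotient.mk_eq_zero, ← hrange]
    rfl
  -- vanishing of `Ext¹(D, O)`
  have hD : TF O (↥M →ₗ[O] ↥(1 : Submodule O K)) := tf_hom hW
  have hDO : Subsingleton (Abelian.Ext.{u} (ModuleCat.of O (↥M →ₗ[O] ↥(1 : Submodule O K)))
      (ModuleCat.of O O) 1) :=
    ext_subsingleton_of_linearEquiv (↥M →ₗ[O] ↥(1 : Submodule O K)) σ 1
      (hExt _ hD 1 le_rfl)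
  have hsurj := cobdry_surjective (A := ↥M →ₗ[O] ↥(1 : Submodule O K)) (B := O)
    (C := O ⧸ a') (↥M →ₗ[O] ↥(1 : Submodule O K)) j a'.mkQ hj_inj hb hex hDO
  have hzero := fun χ => cobdry_eq_zero_iff (A := ↥M →ₗ[O] ↥(1 : Submodule O K)) (B := O)
    (C := O ⧸ a') (↥M →ₗ[O] ↥(1 : Submodule O K)) j a'.mkQ hj_inj hb hex χ
  -- every map `D → O` has values in `a'`
  have hval : ∀ (ψ : (↥M →ₗ[O] ↥(1 : Submodule O K)) →ₗ[O] O)
      (d : ↥M →ₗ[O] ↥(1 : Submodule O K)), ψ d ∈ a' := by
    intro ψ d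
    let mulByL : ↥a →ₗ[O] (↥M →ₗ[O] ↥(1 : Submodule O K)) :=
      { toFun := mulBy
        map_add' := fun x y => by
          ext m
          rw [LinearMap.add_apply, Submodule.coe_add, hmulBy, hmulBy, hmulBy, Submodule.coe_add]
          ring
        map_smul' := fun r x => by
          ext m
          rw [LinearMap.smul_apply, Submodule.coe_smul, hmulBy, hmulBy, Submodule.coe_smul,
            RingHom.id_apply, Algebra.smul_def, Algebra.smul_def]
          ring }
    obtain ⟨c, hc⟩ := exists_mul_of_linear a (Algebra.linearMap O K ∘ₗ ψ ∘ₗ mulByL)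
    have hcM : c ∈ Ms := by
      rw [← hrefl, Submodule.mem_div_iff_forall_mul_mem]
      intro x hx
      rw [← hc ⟨x, hx⟩]
      exact Submodule.mem_one.2 ⟨_, rfl⟩
    rw [ha', Submodule.mem_comap, Algebra.linearMap_apply]
    have h1 := hc ⟨((d 1 : ↥(1 : Submodule O K)) : K), hφa d⟩
    rw [LinearMap.comp_apply, LinearMap.comp_apply, Algebra.linearMap_apply] at h1
    have h2 : mulByL ⟨((d 1 : ↥(1 : Submodule O K)) : K), hφa d⟩ = d := hmulBy_one d
    rw [h2] at h1
    rw [h1]
    exact ha_stable c hcM _ (hφa d)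
  have hinj' : Function.Injective (cobdry (A := ↥M →ₗ[O] ↥(1 : Submodule O K)) (B := O)
      (C := O ⧸ a') (↥M →ₗ[O] ↥(1 : Submodule O K)) j a'.mkQ hj_inj hb hex) := by
    rw [injective_iff_map_eq_zero]
    intro χ hχ
    obtain ⟨ψ, rfl⟩ := (hzero χ).1 hχ
    ext d
    rw [LinearMap.comp_apply, Submodule.mkQ_apply, LinearMap.zero_apply,
      Submodule.Quotient.mk_eq_zero]
    exact hval ψ d
  let Ecob := AddEquiv.ofBijective _ ⟨hinj', hsurj⟩
  -- `D ≃ a`
  let Θ₀ : (↥M →ₗ[O] ↥(1 : Submodule O K)) →ₗ[O] ↥a :=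
    LinearMap.codRestrict a ((1 : Submodule O K).subtype ∘ₗ LinearMap.applyₗ (1 : ↥M)) hφa
  have hΘ₀ : Function.Bijective Θ₀ := by
    constructor
    · rw [injective_iff_map_eq_zero]
      intro φ hφ
      have h1 : ((φ 1 : ↥(1 : Submodule O K)) : K) = 0 := congrArg Subtype.val hφ
      ext m
      rw [key φ m, h1, mul_zero]
      rfl
    · intro x
      refine ⟨mulBy x, ?_⟩
      apply Subtype.ext
      change ((mulBy x 1 : ↥(1 : Submodule O K)) : K) = x
      rw [hmulBy]
      change (x : K) * (1 : K) = x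
      rw [mul_one]
  let Θ := LinearEquiv.ofBijective Θ₀ hΘ₀
  exact ⟨EA.trans (Ecob.symm.trans (LinearEquiv.congrLeft (O ⧸ a') O Θ).toAddEquiv)⟩

end overring

end Groth.Agent.Lib.helper15.ExtDual
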