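import Mathlib
import Groth.Prelude.Def_CGrpSh
import Groth.Agent.Lib.Helper15.CommGrpSch

/-!
# Ext groups of a commutative finite locally free group scheme are killed by its order (helper15)
-/

set_option autoImplicit false
universe u w
open CategoryTheory AlgebraicGeometry MonObj

namespace Groth.Agent.Lib.helper15.ExtKill

/-- if `m • 𝟙 X = 0` then `m` kills all `Ext X Y n`. -/
theorem nsmul_ext_eq_zero {C : Type*} [Category C] [Abelian C] [HasExt.{w} C] {X Y : C} (m : ℕ)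
    (h : m • 𝟙 X = 0) {n : ℕ} (x : Abelian.Ext.{w} X Y n) : m • x = 0 := by
  have h1 : (Abelian.Ext.mk₀ (𝟙 X)).comp x (zero_add n) = x := Abelian.Ext.mk₀_id_comp x
  have h2 : ∀ α : Abelian.Ext.{w} X X 0,
      (m • α).comp x (zero_add n) = m • α.comp x (zero_add n) := by
    intro α
    have := map_nsmul (Abelian.Ext.bilinearComp (X := X) (Y := X) (Z := Y) 0 n n (zero_add n)) m α
    exact congrArg (fun φ => φ x) this
  have h3 : m • Abelian.Ext.mk₀ (𝟙 X) = Abelian.Ext.mk₀ (m • 𝟙 X) :=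
    (map_nsmul (Abelian.Ext.addEquiv₀ (X := X) (Y := X)).symm m (𝟙 X)).symm
  rw [← h1, ← h2, h3, h, Abelian.Ext.mk₀_zero, Abelian.Ext.zero_comp]

/-- if `m • 𝟙 Y = 0` then `m` kills all `Ext X Y n`. -/
theorem nsmul_ext_eq_zero' {C : Type*} [Category C] [Abelian C] [HasExt.{w} C] {X Y : C} (m : ℕ)
    (h : m • 𝟙 Y = 0) {n : ℕ} (x : Abelian.Ext.{w} X Y n) : m • x = 0 := by
  have h1 : x.comp (Abelian.Ext.mk₀ (𝟙 Y)) (add_zero n) = x := Abelian.Ext.comp_mk₀_id x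
  have h2 : ∀ α : Abelian.Ext.{w} Y Y 0,
      x.comp (m • α) (add_zero n) = m • x.comp α (add_zero n) := by
    intro α
    exact map_nsmul (Abelian.Ext.bilinearComp (X := X) (Y := Y) (Z := Y) n 0 n (add_zero n) x) m α
  have h3 : m • Abelian.Ext.mk₀ (𝟙 Y) = Abelian.Ext.mk₀ (m • 𝟙 Y) :=
    (map_nsmul (Abelian.Ext.addEquiv₀ (X := Y) (Y := Y)).symm m (𝟙 Y)).symm
  rw [← h1, ← h2, h3, h, Abelian.Ext.mk₀_zero, Abelian.Ext.comp_zero]

variable {S : Scheme.{u}} (K : Precoverage Scheme.{u})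

theorem nsmul_id_app (X : BigSite.Ab K S) (m : ℕ) (T : (Over S)ᵒᵖ) (x : X.obj.obj T) :
    ((m • 𝟙 X : X ⟶ X).hom.app T) x = m • x := by
  induction m with
  | zero => simp
  | succ m ih =>
    rw [succ_nsmul, succ_nsmul, Sheaf.Hom.add_app, AddCommGrpCat.hom_add_apply, ih]
    rfl

variable [(QuotSh.J K S).Subcanonical]

/-- if `G` is killed by `m` then so is its sheaf of points. -/
theorem nsmul_id_pts (G : Over S) [GrpObj G] [IsCommMonObj G] (m : ℕ)
    (hG : ∀ (T : Over S) (g : T ⟶ G), g ^ m = 1) : m • 𝟙 (CGrpSh.pts K G) = 0 := by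
  apply Sheaf.hom_ext
  apply NatTrans.ext
  funext T
  apply AddCommGrpCat.ext
  intro x
  rw [nsmul_id_app]
  apply ULift.ext
  change m • x.down = 0
  have h1 : m • x.down = Additive.ofMul (x.down.toMul ^ m) := rfl
  rw [h1, hG]
  rfl

/-- `Ext^n(G, H)` is killed by `m` if `G` is. -/
theorem nsmul_extS_eq_zero (G H : Over S) [GrpObj G] [IsCommMonObj G] [GrpObj H] [IsCommMonObj H]
    (m : ℕ) (hG : ∀ (T : Over S) (g : T ⟶ G), g ^ m = 1) (n : ℕ) (x : CGrpSh.ExtS K G H n) :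
    m • x = 0 :=
  nsmul_ext_eq_zero m (nsmul_id_pts K G m hG) x

/-- `Ext^n(G, H)` is killed by `m` if `H` is. -/
theorem nsmul_extS_eq_zero' (G H : Over S) [GrpObj G] [IsCommMonObj G] [GrpObj H] [IsCommMonObj H]
    (m : ℕ) (hH : ∀ (T : Over S) (g : T ⟶ H), g ^ m = 1) (n : ℕ) (x : CGrpSh.ExtS K G H n) :
    m • x = 0 :=
  nsmul_ext_eq_zero' m (nsmul_id_pts K H m hH) x

end Groth.Agent.Lib.helper15.ExtKill
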