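import Mathlib
import Groth.Prelude.Def_SGA1t

/-!
# Finite étale covers of an affine scheme as algebras (helper15)

For `P : FEt.Cat (Spec A)`:
* `exists_model` : a finite étale `A`-algebra `B` with `i : P.left ≅ Spec B` over `Spec A`;
* `exists_algHom` : an endomorphism of `P` over `Spec A` is `Spec` of an `A`-algebra map of `B`;
* `principal_algebraic` : a principal `G`-cover gives a family `σ : G → (B →ₐ[A] B)` acting simply
  transitively on the `Ω`-points of `B` for each algebraically closed `A`-field `Ω`;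
* `exists_iso_of_algEquiv` : an equivariant algebra isomorphism `K ≃ₐ[A] B` gives an equivariant
  isomorphism `P.left ≅ Spec K`.
-/

set_option autoImplicit false
set_option linter.style.haveILetI false

universe u

open AlgebraicGeometry CategoryTheory

namespace Groth.Agent.Lib.helper15.FEtAffine

variable {A : Type u} [CommRing A]

/-- an algebra model of a finite étale cover of `Spec A` -/
structure Model (P : FEt.Cat (Spec (CommRingCat.of A))) where
  /-- the algebra -/
  B : Type u
  /-- ring structure -/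
  [ring : CommRing B]
  /-- algebra structure -/
  [alg : Algebra A B]
  /-- finite -/
  fin : Module.Finite A B
  /-- étale -/
  et : Algebra.Etale A B
  /-- the identification -/
  i : P.left ≅ Spec (CommRingCat.of B)
  /-- over `Spec A` -/
  hi : i.hom ≫ Spec.map (CommRingCat.ofHom (algebraMap A B)) = P.hom

attribute [instance] Model.ring Model.alg Model.fin Model.et

theorem nonempty_model (P : FEt.Cat (Spec (CommRingCat.of A))) : Nonempty (Model P) := by
  let π : P.left ⟶ Spec (CommRingCat.of A) := P.hom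
  haveI hfin : IsFinite π := P.prop.1
  haveI het : Etale π := P.prop.2
  haveI : IsAffine P.left := isAffine_of_isAffineHom π
  let B : CommRingCat := Γ(P.left, ⊤)
  let i : P.left ≅ Spec B := P.left.isoSpec
  let φ : CommRingCat.of A ⟶ B := (Scheme.ΓSpecIso (CommRingCat.of A)).inv ≫ π.appTop
  have h1 : i.hom ≫ Spec.map φ = π := by
    rw [Spec.map_comp, ← Category.assoc, Scheme.isoSpec_hom_naturality, Category.assoc,
      Scheme.isoSpec_Spec_hom, ← Spec.map_comp, Iso.inv_hom_id, Spec.map_id, Category.comp_id]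
  have h2 : Spec.map φ = i.inv ≫ π := by
    rw [← h1, Iso.inv_hom_id_assoc]
  haveI : IsFinite (Spec.map φ) := by rw [h2]; infer_instance
  haveI : Etale (Spec.map φ) := by rw [h2]; infer_instance
  have hf : φ.hom.Finite := (IsFinite.SpecMap_iff φ).mp inferInstance
  have he : φ.hom.Etale := (HasRingHomProperty.Spec_iff (P := @Etale)).mp inferInstance
  letI : Algebra A B := φ.hom.toAlgebra
  exact ⟨{ B := B, fin := hf, et := he, i := i, hi := h1 }⟩

variable {P : FEt.Cat (Spec (CommRingCat.of A))} (m : Model P)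

/-- an endomorphism over `Spec A` as an algebra map -/
theorem exists_algHom (f : P.left ⟶ P.left) (hf : f ≫ P.hom = P.hom) :
    ∃ σ : m.B →ₐ[A] m.B,
      f ≫ m.i.hom = m.i.hom ≫ Spec.map (CommRingCat.ofHom σ.toRingHom) := by
  let g : Spec (CommRingCat.of m.B) ⟶ Spec (CommRingCat.of m.B) := m.i.inv ≫ f ≫ m.i.hom
  let σ' : CommRingCat.of m.B ⟶ CommRingCat.of m.B := Spec.preimage g
  have hσ' : Spec.map σ' = g := Spec.map_preimage g
  have hlin : CommRingCat.ofHom (algebraMap A m.B) ≫ σ' = CommRingCat.ofHom (algebraMap A m.B) := by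
    apply Spec.map_injective
    rw [Spec.map_comp, hσ']
    change (m.i.inv ≫ f ≫ m.i.hom) ≫ _ = _
    rw [Category.assoc, Category.assoc, m.hi, hf, ← m.hi, Iso.inv_hom_id_assoc]
  refine ⟨{ σ'.hom with commutes' := fun r => ?_ }, ?_⟩
  · have := congrArg (fun h => h.hom r) hlin
    exact this
  · change f ≫ m.i.hom = m.i.hom ≫ Spec.map σ'
    rw [hσ']
    change _ = m.i.hom ≫ m.i.inv ≫ f ≫ m.i.hom
    rw [Iso.hom_inv_id_assoc]

/-- uniqueness of the algebra map attached to an endomorphism -/
theorem algHom_unique {σ τ : m.B →ₐ[A] m.B}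
    (h : m.i.hom ≫ Spec.map (CommRingCat.ofHom σ.toRingHom) =
      m.i.hom ≫ Spec.map (CommRingCat.ofHom τ.toRingHom)) : σ = τ := by
  have h1 := (cancel_epi m.i.hom).mp h
  have h2 := Spec.map_injective h1
  ext x
  have := congrArg (fun f => f.hom x) h2
  exact this

/-- the point of the fibre attached to an algebra map -/
noncomputable def toPt (Ω : Type u) [Field Ω] [Algebra A Ω] (ψ : m.B →ₐ[A] Ω) :
    FEt.fiberObj (Spec.map (CommRingCat.ofHom (algebraMap A Ω))) P :=
  ⟨Spec.map (CommRingCat.ofHom ψ.toRingHom) ≫ m.i.inv, by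
    rw [Category.assoc, ← m.hi, Iso.inv_hom_id_assoc, ← Spec.map_comp]
    congr 1
    ext r
    exact ψ.commutes r⟩

theorem principal_algebraic {G : Type*} [Group G] (ρ : G →* Aut P)
    (hP : SGA1t.IsPrincipal G P ρ) :
    ∃ σ : G → (m.B →ₐ[A] m.B),
      (∀ g, (ρ g).hom.left ≫ m.i.hom =
        m.i.hom ≫ Spec.map (CommRingCat.ofHom (σ g).toRingHom)) ∧
      σ 1 = AlgHom.id A m.B ∧ (∀ g h, σ (g * h) = (σ h).comp (σ g)) ∧
      Function.Surjective (PrimeSpectrum.comap (algebraMap A m.B)) ∧
      ∀ (Ω : Type u) [Field Ω] [IsAlgClosed Ω] [Algebra A Ω] (ψ ψ' : m.B →ₐ[A] Ω),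
        ∃! g : G, ψ.comp (σ g) = ψ' := by
  have hex : ∀ g : G, ∃ σ : m.B →ₐ[A] m.B, (ρ g).hom.left ≫ m.i.hom =
      m.i.hom ≫ Spec.map (CommRingCat.ofHom σ.toRingHom) := fun g =>
    exists_algHom m (ρ g).hom.left (Over.w (ρ g).hom.hom)
  choose σ hσ using hex
  refine ⟨σ, hσ, ?_, ?_, ?_, ?_⟩
  · apply algHom_unique m
    rw [← hσ 1, map_one]
    change 𝟙 _ ≫ m.i.hom = _
    rw [Category.id_comp]
    change _ = m.i.hom ≫ Spec.map (𝟙 _)
    rw [Spec.map_id, Category.comp_id]
  · intro g h
    apply algHom_unique m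
    rw [← hσ (g * h), map_mul]
    change ((ρ h).hom.left ≫ (ρ g).hom.left) ≫ m.i.hom = _
    rw [Category.assoc, hσ g, ← Category.assoc, hσ h, Category.assoc, ← Spec.map_comp]
    rfl
  · intro 𝔭
    obtain ⟨y, hy⟩ := hP.1 𝔭
    refine ⟨m.i.hom.base y, ?_⟩
    rw [← hy]
    have := congrArg (fun f => f.base y) m.hi
    exact this
  · intro Ω _ _ _ ψ ψ'
    obtain ⟨g, hg, hguniq⟩ := hP.2 Ω (Spec.map (CommRingCat.ofHom (algebraMap A Ω)))
      (toPt m Ω ψ) (toPt m Ω ψ')
    have key : ∀ g : G, (FEt.fiber (Spec.map (CommRingCat.ofHom (algebraMap A Ω)))).map (ρ g).hom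
        (toPt m Ω ψ) = toPt m Ω ψ' ↔ ψ.comp (σ g) = ψ' := by
      intro g
      constructor
      · intro h
        have h1 : (Spec.map (CommRingCat.ofHom ψ.toRingHom) ≫ m.i.inv) ≫ (ρ g).hom.left =
            Spec.map (CommRingCat.ofHom ψ'.toRingHom) ≫ m.i.inv := congrArg Subtype.val h
        have h2 : Spec.map (CommRingCat.ofHom ψ.toRingHom) ≫
            Spec.map (CommRingCat.ofHom (σ g).toRingHom) =
            Spec.map (CommRingCat.ofHom ψ'.toRingHom) := by
          have := congrArg (fun f => f ≫ m.i.hom) h1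
          simp only [Category.assoc, Iso.inv_hom_id, Category.comp_id] at this
          rw [hσ g, Iso.inv_hom_id_assoc] at this
          exact this
        rw [← Spec.map_comp] at h2
        have h3 := Spec.map_injective h2
        ext x
        have := congrArg (fun f => f.hom x) h3
        exact this
      · intro h
        apply Subtype.ext
        change (Spec.map (CommRingCat.ofHom ψ.toRingHom) ≫ m.i.inv) ≫ (ρ g).hom.left =
            Spec.map (CommRingCat.ofHom ψ'.toRingHom) ≫ m.i.inv
        rw [← cancel_mono m.i.hom, Category.assoc, Category.assoc, Category.assoc, hσ g,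
          Iso.inv_hom_id_assoc, Iso.inv_hom_id, Category.comp_id, ← Spec.map_comp, ← h]
        rfl
    exact ⟨g, (key g).1 hg, fun g' hg' => hguniq g' ((key g').2 hg')⟩

/-- an equivariant algebra isomorphism gives an equivariant isomorphism of schemes -/
theorem exists_iso_of_algEquiv (K : Type u) [CommRing K] [Algebra A K] (ε : K ≃ₐ[A] m.B) :
    ∃ e : P.left ≅ Spec (CommRingCat.of K),
      e.hom ≫ Spec.map (CommRingCat.ofHom (algebraMap A K)) = P.hom ∧
      ∀ (f : P.left ⟶ P.left) (σ : m.B →ₐ[A] m.B) (τ : K →+* K),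
        f ≫ m.i.hom = m.i.hom ≫ Spec.map (CommRingCat.ofHom σ.toRingHom) →
        (∀ x, σ (ε x) = ε (τ x)) →
        f ≫ e.hom = e.hom ≫ Spec.map (CommRingCat.ofHom τ) := by
  let e1 : Spec (CommRingCat.of m.B) ≅ Spec (CommRingCat.of K) :=
    { hom := Spec.map (CommRingCat.ofHom ε.toRingEquiv.toRingHom)
      inv := Spec.map (CommRingCat.ofHom ε.symm.toRingEquiv.toRingHom)
      hom_inv_id := by
        rw [← Spec.map_comp, ← Spec.map_id]
        congr 1
        ext x
        exact ε.apply_symm_apply x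
      inv_hom_id := by
        rw [← Spec.map_comp, ← Spec.map_id]
        congr 1
        ext x
        exact ε.symm_apply_apply x }
  refine ⟨m.i ≪≫ e1, ?_, ?_⟩
  · change (m.i.hom ≫ Spec.map (CommRingCat.ofHom ε.toRingEquiv.toRingHom)) ≫ _ = _
    rw [Category.assoc, ← Spec.map_comp, ← m.hi]
    congr 2
    ext r
    exact ε.commutes r
  · intro f σ τ hf hτ
    change f ≫ m.i.hom ≫ Spec.map (CommRingCat.ofHom ε.toRingEquiv.toRingHom) =
      (m.i.hom ≫ Spec.map (CommRingCat.ofHom ε.toRingEquiv.toRingHom)) ≫ _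
    rw [← Category.assoc, hf, Category.assoc, Category.assoc, ← Spec.map_comp, ← Spec.map_comp]
    congr 2
    ext x
    exact hτ x

end Groth.Agent.Lib.helper15.FEtAffine
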