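import Mathlib
import Groth.Agent.Lib.Helper10.FunFld23

/-!
helper15: small toolkit for explicit weight computations of linear series on function fields
(on top of helper10's FunFld library).
-/

set_option autoImplicit false
set_option linter.style.haveILetI false

open FunFld

namespace Groth.Agent.Lib.helper15.FFW

open Groth.Agent.Lib.helper10

universe u v

variable {k : Type u} {K : Type v} [Field k] [Field K] [Algebra k K]

/-- `∑_{i<m} (m - i) = C(m+1, 2)`. -/
theorem tri (m : ℕ) : ∑ i ∈ Finset.range m, (m - i) = (m + 1).choose 2 := by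
  induction m with
  | zero => simp
  | succ m ih =>
    rw [Finset.sum_range_succ']
    have : ∀ i ∈ Finset.range m, m + 1 - (i + 1) = m - i := fun i _ => by omega
    rw [Finset.sum_congr rfl this, ih]
    have := Nat.choose_succ_succ' (m + 1) 1
    simp only [Nat.choose_one_right] at this
    simp only [Nat.sub_zero]
    rw [show m + 1 + 1 = m + 1 + 1 from rfl, this]
    ring

theorem single_le_single (A : Place k K) {a b : ℤ} (h : a ≤ b) :
    (Finsupp.single A a : Divisor k K) ≤ Finsupp.single A b := by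
  classical
  intro Q
  by_cases hQ : Q = A
  · subst hQ; simpa using h
  · simp [Ne.symm hQ]

theorem L_single_mono (A : Place k K) {a b : ℤ} (h : a ≤ b) :
    L (Finsupp.single A a : Divisor k K) ≤ L (Finsupp.single A b) :=
  FF.L_mono (single_le_single A h)

/-- Intersecting with a subspace of codimension one drops the dimension by at most one. -/
theorem finrank_inf_le_add_one {U V W : Submodule k K} [FiniteDimensional k V] (hUV : U ≤ V)
    (h : Module.finrank k V ≤ Module.finrank k U + 1) :
    Module.finrank k ↥(V ⊓ W) ≤ Module.finrank k ↥(U ⊓ W) + 1 := by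
  haveI : FiniteDimensional k U := Submodule.finiteDimensional_of_le hUV
  haveI : FiniteDimensional k ↥(V ⊓ W) := Submodule.finiteDimensional_of_le inf_le_left
  have h1 := Submodule.finrank_sup_add_finrank_inf_eq (V ⊓ W) U
  have h2 : Module.finrank k ↥((V ⊓ W) ⊔ U) ≤ Module.finrank k V :=
    Submodule.finrank_mono (sup_le inf_le_left hUV)
  have h3 : (V ⊓ W) ⊓ U = U ⊓ W := by
    rw [inf_comm (V ⊓ W) U, ← inf_assoc, inf_eq_left.mpr hUV]
  rw [h3] at h1
  omega

/-- `ℓ(jA)` on a genus one function field over an algebraically closed field. -/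
theorem ell_single_genus_one (hK : IsFunctionField k K) [IsAlgClosed k] (hg : genus k K = 1)
    (A : Place k K) (j : ℕ) :
    Module.finrank k ↥(L (Finsupp.single A (j : ℤ) : Divisor k K)) = if j = 0 then 1 else j := by
  rcases Nat.eq_zero_or_pos j with rfl | hj
  · rw [if_pos rfl, Nat.cast_zero, Finsupp.single_zero]
    exact FF.ell_zero hK
  · rw [if_neg (by omega)]
    exact FF.ell_single_of_genus_one hK hg (FF.Place.deg_eq_one hK A) j (by omega)


theorem L_single_inf_le {A Q : Place k K} (hQA : Q ≠ A) (a b m : ℤ) :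
    L (Finsupp.single A a : Divisor k K) ⊓ L (Finsupp.single A b - Finsupp.single Q m) ≤
      L (Finsupp.single A a - Finsupp.single Q m) := by
  classical
  rintro x ⟨h1, h2⟩ R
  by_cases hR : R = Q
  · subst hR
    have := h2 R
    rw [Finsupp.sub_apply, Finsupp.single_eq_same, Finsupp.single_apply, if_neg (Ne.symm hQA)]
      at this
    rw [Finsupp.sub_apply, Finsupp.single_eq_same, Finsupp.single_apply, if_neg (Ne.symm hQA)]
    exact this
  · have := h1 R
    rw [Finsupp.sub_apply, Finsupp.single_apply (a := Q), if_neg (Ne.symm hR), sub_zero]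
    exact this

/-- A divisor of degree zero with a nonzero section is minus a principal divisor. -/
theorem exists_div_eq_neg (hK : IsFunctionField k K) {D : Divisor k K} (hD : D.deg = 0)
    (h : 0 < ell D) : ∃ z : K, z ≠ 0 ∧ FunFld.div k z = -D := by
  obtain ⟨z, hz0, hz⟩ := FF.exists_ne_zero_mem_L hK h
  rw [FF.mem_L_iff_div hK hz0] at hz
  have h0 := FF.eq_zero_of_nonneg_of_deg_eq_zero hK hz (by rw [FF.deg_add_div hK, hD])
  exact ⟨z, hz0, by rw [eq_neg_iff_add_eq_zero, add_comm]; exact h0⟩

theorem ell_le_one_of_deg_zero (hK : IsFunctionField k K) {D : Divisor k K} (hD : D.deg = 0) :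
    ell D ≤ 1 := by
  by_contra hgt
  obtain ⟨z, hz0, hz⟩ := exists_div_eq_neg hK hD (by omega)
  have h1 := FF.ell_add_div hK D hz0
  rw [hz, add_neg_cancel, FF.ell_zero hK] at h1
  omega

/-- The integers `n` such that `n • E` is principal. -/
def princ (hK : IsFunctionField k K) (E : Divisor k K) : AddSubgroup ℤ where
  carrier := {n | ∃ z : K, z ≠ 0 ∧ FunFld.div k z = n • E}
  zero_mem' := ⟨1, one_ne_zero, by
    rw [zero_smul, ← map_one (algebraMap k K)]
    exact FF.div_algebraMap hK 1⟩
  add_mem' := by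
    rintro a b ⟨z, hz, e⟩ ⟨w, hw, e'⟩
    exact ⟨z * w, mul_ne_zero hz hw, by rw [FF.div_mul hK hz hw, e, e', add_smul]⟩
  neg_mem' := by
    rintro a ⟨z, hz, e⟩
    exact ⟨z⁻¹, inv_ne_zero hz, by rw [FF.div_inv hK, e, neg_smul]⟩

theorem mem_princ_of_ell_pos (hK : IsFunctionField k K) [IsAlgClosed k] {A Q : Place k K} (m : ℤ)
    (h : 0 < ell (Finsupp.single A m - Finsupp.single Q m : Divisor k K)) :
    m ∈ princ hK (Finsupp.single Q 1 - Finsupp.single A 1 : Divisor k K) := by
  have hdeg : Divisor.deg (Finsupp.single A m - Finsupp.single Q m : Divisor k K) = 0 := by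
    rw [FF.deg_sub, FF.deg_single, FF.deg_single, FF.Place.deg_eq_one hK, FF.Place.deg_eq_one hK]
    simp
  obtain ⟨z, hz0, hz⟩ := exists_div_eq_neg hK hdeg h
  refine ⟨z, hz0, ?_⟩
  rw [hz, smul_sub, Finsupp.smul_single, Finsupp.smul_single, smul_eq_mul, mul_one, neg_sub]

/-- In positive genus, distinct places are not linearly equivalent. -/
theorem one_not_mem_princ (hK : IsFunctionField k K) [IsAlgClosed k] (hg : 0 < genus k K)
    {A Q : Place k K} (hQA : Q ≠ A) :
    (1 : ℤ) ∉ princ hK (Finsupp.single Q 1 - Finsupp.single A 1 : Divisor k K) := by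
  classical
  rintro ⟨z, hz0, hz⟩
  rw [one_smul] at hz
  have hzL : z ∈ L (Finsupp.single A 1 : Divisor k K) := by
    rw [FF.mem_L_iff_div hK hz0, hz]
    have : (Finsupp.single A 1 + (Finsupp.single Q 1 - Finsupp.single A 1) : Divisor k K) =
        Finsupp.single Q 1 := by abel
    rw [this]
    exact FF.single_nonneg' Q zero_le_one
  have hdeg : Divisor.deg (Finsupp.single A 1 : Divisor k K) = 1 := by
    rw [FF.deg_single, FF.Place.deg_eq_one hK]
    simp
  have h1 := FF.ell_le_one_of_deg_one hK hg hdeg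
  have hle : L (0 : Divisor k K) ≤ L (Finsupp.single A 1 : Divisor k K) :=
    FF.L_mono (FF.single_nonneg' A zero_le_one)
  haveI := FF.finiteDimensional_L hK (Finsupp.single A 1 : Divisor k K)
  have h2 := Submodule.finrank_mono hle
  rw [(FF.finite_L_zero hK).2] at h2
  have heq : L (0 : Divisor k K) = L (Finsupp.single A 1 : Divisor k K) := by
    apply Submodule.eq_of_le_of_finrank_eq hle
    rw [(FF.finite_L_zero hK).2]
    unfold ell at h1
    omega
  rw [← heq, FF.L_zero hK, Submodule.one_eq_range] at hzL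
  obtain ⟨c, rfl⟩ := hzL
  have h3 : FunFld.div k ((Algebra.linearMap k K) c) = 0 := FF.div_algebraMap hK c
  rw [h3] at hz
  have := DFunLike.congr_fun hz Q
  rw [Finsupp.sub_apply, Finsupp.single_eq_same, Finsupp.single_apply, if_neg (Ne.symm hQA)] at this
  simp at this

/-- In positive genus, `m(A - Q)` and `(m+2)(A - Q)` are not both principal for odd `m`. -/
theorem not_both_torsion (hK : IsFunctionField k K) [IsAlgClosed k] (hg : 0 < genus k K)
    {A Q : Place k K} (hQA : Q ≠ A) {m : ℤ} (hm : Odd m)
    (h1 : 0 < ell (Finsupp.single A m - Finsupp.single Q m : Divisor k K))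
    (h2 : 0 < ell (Finsupp.single A (m + 2) - Finsupp.single Q (m + 2) : Divisor k K)) : False := by
  have m1 := mem_princ_of_ell_pos hK m h1
  have m2 := mem_princ_of_ell_pos hK (m + 2) h2
  obtain ⟨s, hs⟩ := hm
  have h2' : (2 : ℤ) ∈ princ hK (Finsupp.single Q 1 - Finsupp.single A 1 : Divisor k K) := by
    have := AddSubgroup.sub_mem _ m2 m1
    simpa using this
  have h3 := AddSubgroup.sub_mem _ m1 (AddSubgroup.zsmul_mem _ h2' s)
  have h4 : m - s • (2 : ℤ) = 1 := by
    rw [smul_eq_mul]
    omega
  rw [h4] at h3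
  exact one_not_mem_princ hK hg hQA h3


/-- A divisor of degree one with a nonzero section is linearly equivalent to a place. -/
theorem exists_place_of_deg_one (hK : IsFunctionField k K) {D : Divisor k K} (hD : D.deg = 1)
    (h : 0 < ell D) : ∃ (R : Place k K) (z : K), z ≠ 0 ∧ D + FunFld.div k z = Finsupp.single R 1 := by
  obtain ⟨z, hz0, hz⟩ := FF.exists_ne_zero_mem_L hK h
  rw [FF.mem_L_iff_div hK hz0] at hz
  obtain ⟨R, -, hR⟩ := FF.eq_single_of_deg_eq_one hK hz (by rw [FF.deg_add_div hK, hD])
  exact ⟨R, z, hz0, hR⟩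

/-- If `D ≥ 0` and `ℓ(D) ≤ 1` then `L(D)` consists of constants. -/
theorem exists_const_of_ell_le_one (hK : IsFunctionField k K) {D : Divisor k K} (hD : 0 ≤ D)
    (h : ell D ≤ 1) {z : K} (hz : z ∈ L D) : ∃ c : k, algebraMap k K c = z := by
  have hle : L (0 : Divisor k K) ≤ L D := FF.L_mono hD
  haveI := FF.finiteDimensional_L hK D
  have h2 := Submodule.finrank_mono hle
  rw [(FF.finite_L_zero hK).2] at h2
  have heq : L (0 : Divisor k K) = L D := by
    apply Submodule.eq_of_le_of_finrank_eq hle
    rw [(FF.finite_L_zero hK).2]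
    unfold ell at h
    omega
  rw [← heq, FF.L_zero hK, Submodule.one_eq_range] at hz
  obtain ⟨c, rfl⟩ := hz
  exact ⟨c, rfl⟩

theorem one_mem_L_iff (hK : IsFunctionField k K) (D : Divisor k K) : (1 : K) ∈ L D ↔ 0 ≤ D := by
  rw [FF.mem_L_iff_div hK one_ne_zero, ← map_one (algebraMap k K), FF.div_algebraMap hK, add_zero]


theorem mul_mem_L {A B : Divisor k K} {x y : K} (hx : x ∈ L A) (hy : y ∈ L B) :
    x * y ∈ L (A + B) := by
  intro R
  rw [Valuation.map_mul, Finsupp.add_apply, WithZero.exp_add]
  exact mul_le_mul' (hx R) (hy R)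

theorem pow_mem_L {A : Divisor k K} {x : K} (hx : x ∈ L A) (i : ℕ) : x ^ i ∈ L (i • A) := by
  induction i with
  | zero =>
    intro R
    rw [pow_zero, Valuation.map_one, zero_smul]
    simp
  | succ i ih =>
    rw [pow_succ, succ_nsmul]
    exact mul_mem_L ih hx

theorem Place.ord_pow (P : Place k K) {x : K} (hx : x ≠ 0) (i : ℕ) :
    P.ord (x ^ i) = i * P.ord x := by
  induction i with
  | zero => rw [pow_zero, FF.Place.ord_one]; simp
  | succ i ih =>
    rw [pow_succ, FF.Place.ord_mul P (pow_ne_zero i hx) hx, ih]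
    push_cast
    ring

/-- Nonzero elements with pairwise distinct orders at a place are linearly independent over the
constants. -/
theorem linearIndependent_of_ord_injective (P : Place k K) {ι : Type*} (z : ι → K)
    (hz0 : ∀ i, z i ≠ 0) (hinj : Function.Injective (fun i => P.ord (z i))) :
    LinearIndependent k z := by
  classical
  rw [linearIndependent_iff']
  intro s c hsum i hi
  by_contra hci
  have hne : ∃ i ∈ s, c i • z i ≠ 0 := ⟨i, hi, smul_ne_zero hci (hz0 i)⟩
  apply FF.sum_ne_zero_of_injOn P.1 s (fun i => c i • z i) _ hne hsum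
  intro i _ j _ hfi hfj heq
  have hci0 : c i ≠ 0 := fun h => hfi (by rw [h, zero_smul])
  have hcj0 : c j ≠ 0 := fun h => hfj (by rw [h, zero_smul])
  rw [Algebra.smul_def, Algebra.smul_def, Valuation.map_mul, Valuation.map_mul,
    FF.Place.trivOn P _ hci0, FF.Place.trivOn P _ hcj0, one_mul, one_mul,
    FF.Place.val_eq_exp_neg_ord P (hz0 i), FF.Place.val_eq_exp_neg_ord P (hz0 j)] at heq
  apply hinj
  have := WithZero.exp_injective heq
  simpa using this

end Groth.Agent.Lib.helper15.FFW
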