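import Mathlib
import Groth.Prelude.Def_FinCov
import Groth.Agent.Lib.Helper16.FLF5
import Groth.Agent.Lib.Helper28.HomOfBasis

/-!
# Traces of finite locally free quasi-coherent algebras (helper15)
-/

set_option autoImplicit false
set_option linter.style.haveILetI false
universe u
open CategoryTheory CategoryTheory.Limits AlgebraicGeometry TopologicalSpace Opposite

namespace Groth.Agent.Lib.helper15.FinCovTr

open Groth.Agent.Lib.helper16.FLF

variable {X : Scheme.{u}}

/-- a finite locally free module of rank `n` has free sections of rank `n` over a basis of affine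
opens -/
theorem exists_affine_free_le {n : ℕ} (M : X.Modules) (hM : FlatMod.IsFinLocFreeOfRank n M)
    (O : X.Opens) (x : X) (hx : x ∈ O) :
    ∃ V : X.Opens, IsAffineOpen V ∧ x ∈ V ∧ V ≤ O ∧
      Nonempty (Γ(M, V) ≃ₗ[Γ(X, V)] (Fin n → Γ(X, V))) := by
  obtain ⟨U, hxU, ⟨iso⟩⟩ := hM x
  obtain ⟨V, hV, hxV, hVU⟩ := Opens.isBasis_iff_nbhd.mp X.isBasis_affineOpens
    (show x ∈ U ⊓ O from ⟨hxU, hx⟩)
  obtain ⟨iso'⟩ := restrict_iso_freeMod_of_le M (hVU.trans inf_le_left) n iso
  exact ⟨V, hV, hxV, hVU.trans inf_le_right, sections_of_restrict_iso_freeMod M hV n iso'⟩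

/-- the free affine opens of a finite locally free module -/
def FreeOpens (n : ℕ) (M : X.Modules) : Type u :=
  {V : X.Opens // IsAffineOpen V ∧ Nonempty (Γ(M, V) ≃ₗ[Γ(X, V)] (Fin n → Γ(X, V)))}

theorem isBasis_freeOpens {n : ℕ} (M : X.Modules) (hM : FlatMod.IsFinLocFreeOfRank n M) :
    Opens.IsBasis (Set.range (fun V : FreeOpens n M => V.1)) := by
  rw [Opens.isBasis_iff_nbhd]
  intro O x hx
  obtain ⟨V, hV, hxV, hVO, he⟩ := exists_affine_free_le M hM O x hx
  exact ⟨V, ⟨⟨V, hV, he⟩, rfl⟩, hxV, hVO⟩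

theorem nsmul_app {M N : X.Modules} (φ : M ⟶ N) (n : ℕ) (U : X.Opens) (s : Γ(M, U)) :
    (n • φ).app U s = n • φ.app U s := by
  induction n with
  | zero => simp
  | succ k ih =>
    rw [succ_nsmul, succ_nsmul, Scheme.Modules.Hom.add_app]
    change (k • φ).app U s + φ.app U s = _
    rw [ih]

/-- **`τ ∘ str = d`** -/
theorem strMod_comp_trace (A : RelSpec.QCAlg X) (d : ℕ)
    (hA : FlatMod.IsFinLocFreeOfRank d A.toModule)
    (τ : A.toModule ⟶ Coh.structureModule X) (hτ : FinCov.IsTrace A τ) :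
    FinCov.strMod A ≫ τ = d • 𝟙 (Coh.structureModule X) := by
  refine Groth.Agent.Lib.helper28.HomOfBasis.hom_ext_of_basis
    (fun V : FreeOpens d A.toModule => V.1) (isBasis_freeOpens _ hA) _ _ ?_
  rintro ⟨V, hV, ⟨e⟩⟩ s₀
  rw [nsmul_app]
  obtain ⟨s, rfl⟩ : ∃ s : Γ(X, V), s = s₀ := ⟨s₀, rfl⟩
  letI : Algebra Γ(X, V) (A.presheaf.obj (op V)) := (A.str.app (op V)).hom.toAlgebra
  have e' : (A.presheaf.obj (op V)) ≃ₗ[Γ(X, V)] (Fin d → Γ(X, V)) := e
  haveI : Module.Free Γ(X, V) (A.presheaf.obj (op V)) := Module.Free.of_equiv e'.symm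
  haveI : Module.Finite Γ(X, V) (A.presheaf.obj (op V)) := Module.Finite.equiv e'.symm
  have h1 := hτ V hV inferInstance inferInstance ((A.str.app (op V)).hom s)
  change (τ.val.app (op V)).hom ((A.str.app (op V)).hom s) = d • s
  rw [h1]
  rcases subsingleton_or_nontrivial Γ(X, V) with hs | hn
  · exact hs.elim _ _
  · have hrk : Module.finrank Γ(X, V) (A.presheaf.obj (op V)) = d := by
      rw [e'.finrank_eq, Module.finrank_fin_fun]
    have := Algebra.trace_algebraMap (S := A.presheaf.obj (op V)) s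
    rw [hrk] at this
    exact this

end Groth.Agent.Lib.helper15.FinCovTr
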