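import Mathlib
import Groth.Prelude.Def_FinCov
import Groth.Agent.Lib.Helper15.FinCovTr1
import Groth.Agent.Lib.Helper7.KerSections
import Groth.Agent.Lib.Helper7.CohKer
import Groth.Agent.Lib.Helper16.FLF3
import Groth.Agent.Lib.Lead.RankAdd

/-!
# The trace of a finite locally free algebra of invertible degree splits (helper15)
-/

set_option autoImplicit false
set_option linter.style.haveILetI false
universe u
open CategoryTheory CategoryTheory.Limits AlgebraicGeometry TopologicalSpace Opposite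

namespace Groth.Agent.Lib.helper15.FinCovTr

open Groth.Agent.Lib.helper16.FLF Groth.Agent.Lib.helper7.KerSections

variable {X : Scheme.{u}}

theorem isUnit_natCast_of_top (d : ℕ) (hd : IsUnit ((d : Γ(X, ⊤)))) (W : X.Opens) :
    IsUnit ((d : Γ(X, W))) := by
  have := hd.map (X.presheaf.map (homOfLE (le_top : W ≤ ⊤)).op).hom
  rwa [map_natCast] at this

theorem structureModule_qcoh : (Coh.structureModule X).IsQuasicoherent := by
  have h : (SheafOfModules.free (R := X.ringCatSheaf) PUnit.{u + 1}).IsQuasicoherent :=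
    inferInstance
  let e : SheafOfModules.free (R := X.ringCatSheaf) PUnit.{u + 1} ≅
      SheafOfModules.unit X.ringCatSheaf :=
    coproductUniqueIso (fun _ : PUnit.{u + 1} => SheafOfModules.unit X.ringCatSheaf)
  exact (SheafOfModules.isQuasicoherent X.ringCatSheaf).prop_of_iso e h

theorem isIso_nsmul_id (d : ℕ) (hd : IsUnit ((d : Γ(X, ⊤)))) :
    IsIso (d • 𝟙 (Coh.structureModule X)) := by
  haveI : (Coh.structureModule X).IsQuasicoherent := structureModule_qcoh
  apply isIso_of_bijective_affine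
  intro U _
  obtain ⟨u, hu⟩ := isUnit_natCast_of_top d hd U
  have key : ∀ s : Γ(X, U), ((d • 𝟙 (Coh.structureModule X)).app U).hom s = (u : Γ(X, U)) * s := by
    intro s
    have := nsmul_app (𝟙 (Coh.structureModule X)) d U s
    rw [hu, ← nsmul_eq_mul]
    exact this
  constructor
  · intro (s : Γ(X, U)) (t : Γ(X, U)) hst
    have h1 := key s
    have h2 := key t
    have : (u : Γ(X, U)) * s = (u : Γ(X, U)) * t := h1.symm.trans (hst.trans h2)
    exact u.isUnit.mul_left_cancel this
  · intro (t : Γ(X, U))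
    refine ⟨((u⁻¹ : Γ(X, U)ˣ) : Γ(X, U)) * t, ?_⟩
    refine (key _).trans ?_
    rw [← mul_assoc, Units.mul_inv, one_mul]

theorem isSplitEpi_trace (A : RelSpec.QCAlg X) (d : ℕ)
    (hA : FlatMod.IsFinLocFreeOfRank d A.toModule)
    (τ : A.toModule ⟶ Coh.structureModule X) (hτ : FinCov.IsTrace A τ)
    (hd : IsUnit ((d : Γ(X, ⊤)))) : IsSplitEpi τ := by
  haveI := isIso_nsmul_id (X := X) d hd
  have h := strMod_comp_trace A d hA τ hτ
  exact ⟨⟨⟨inv (d • 𝟙 _) ≫ FinCov.strMod A, by rw [Category.assoc, h, IsIso.inv_hom_id]⟩⟩⟩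

theorem surjective_app_of_isSplitEpi {M N : X.Modules} (φ : M ⟶ N) [IsSplitEpi φ]
    (U : X.Opens) : Function.Surjective (φ.app U).hom := by
  intro t
  refine ⟨((section_ φ).app U).hom t, ?_⟩
  have := congrArg (fun ψ => (Scheme.Modules.Hom.app ψ U).hom t) (IsSplitEpi.id φ)
  exact this

/-- the retraction onto the kernel of a split epimorphism -/
noncomputable def kerRetr {M N : X.Modules} (φ : M ⟶ N) [IsSplitEpi φ] : M ⟶ kernel φ :=
  kernel.lift φ (𝟙 M - φ ≫ section_ φ) (by
    rw [Preadditive.sub_comp, Category.id_comp, Category.assoc, IsSplitEpi.id, Category.comp_id,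
      sub_self])

theorem kernel_ι_kerRetr {M N : X.Modules} (φ : M ⟶ N) [IsSplitEpi φ] :
    kernel.ι φ ≫ kerRetr φ = 𝟙 _ := by
  rw [← cancel_mono (kernel.ι φ), Category.assoc, kerRetr, kernel.lift_ι, Preadditive.comp_sub,
    Category.comp_id, Category.id_comp, ← Category.assoc, kernel.condition, zero_comp, sub_zero]

open Groth.Agent.Lib.helper16.CohStalk in
/-- the kernel of the trace is locally free of rank `d - 1` -/
theorem isFinLocFreeOfRank_kernel_trace (A : RelSpec.QCAlg X) (d : ℕ)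
    (hA : FlatMod.IsFinLocFreeOfRank d A.toModule)
    (τ : A.toModule ⟶ Coh.structureModule X) (hτ : FinCov.IsTrace A τ)
    (hd : IsUnit ((d : Γ(X, ⊤)))) : FlatMod.IsFinLocFreeOfRank (d - 1) (kernel τ) := by
  haveI hs := isSplitEpi_trace A d hA τ hτ hd
  haveI : A.toModule.IsQuasicoherent :=
    isQuasicoherent_of_isFinLocFree _ (isFinLocFree_of_isFinLocFreeOfRank hA)
  haveI : (Coh.structureModule X).IsQuasicoherent := structureModule_qcoh
  haveI : (kernel τ).IsQuasicoherent := Groth.Agent.Lib.helper7.CohKer.isQuasicoherent_kernel τ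
  rw [isFinLocFreeOfRank_iff_sections]
  intro x
  obtain ⟨U, hxU, ⟨iso⟩⟩ := hA x
  obtain ⟨V, hV, hxV, hVU⟩ := Opens.isBasis_iff_nbhd.mp X.isBasis_affineOpens hxU
  have hfreeA : ∀ W : X.Opens, IsAffineOpen W → W ≤ U →
      Nonempty (Γ(A.toModule, W) ≃ₗ[Γ(X, W)] (Fin d → Γ(X, W))) := fun W hW hWU => by
    obtain ⟨iso'⟩ := restrict_iso_freeMod_of_le A.toModule hWU d iso
    exact sections_of_restrict_iso_freeMod A.toModule hW d iso'
  -- the linear maps on sections
  let f : ∀ W : X.Opens, Γ(kernel τ, W) →ₗ[Γ(X, W)] Γ(A.toModule, W) :=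
    fun W => ((kernel.ι τ).val.app (op W)).hom
  let ρ : ∀ W : X.Opens, Γ(A.toModule, W) →ₗ[Γ(X, W)] Γ(kernel τ, W) :=
    fun W => ((kerRetr τ).val.app (op W)).hom
  let g : ∀ W : X.Opens, Γ(A.toModule, W) →ₗ[Γ(X, W)] Γ(Coh.structureModule X, W) :=
    fun W => (τ.val.app (op W)).hom
  have hρf : ∀ W : X.Opens, (ρ W).comp (f W) = LinearMap.id := by
    intro W
    ext t
    have := congrArg (fun ψ => (Scheme.Modules.Hom.app ψ W).hom t) (kernel_ι_kerRetr τ)
    exact this
  -- projectivity of the kernel over `V`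
  obtain ⟨eV⟩ := hfreeA V hV hVU
  haveI : Module.Free Γ(X, V) Γ(A.toModule, V) := Module.Free.of_equiv eV.symm
  haveI : Module.Finite Γ(X, V) Γ(A.toModule, V) := Module.Finite.equiv eV.symm
  haveI hproj : Module.Projective Γ(X, V) Γ(kernel τ, V) :=
    Module.Projective.of_split (f V) (ρ V) (hρf V)
  haveI hfin : Module.Finite Γ(X, V) Γ(kernel τ, V) := by
    refine Module.Finite.of_surjective (ρ V) ?_
    intro t
    exact ⟨f V t, LinearMap.congr_fun (hρf V) t⟩
  haveI : Module.FinitePresentation Γ(X, V) Γ(kernel τ, V) :=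
    Module.finitePresentation_of_projective _ _
  have hfree : Module.Free (X.presheaf.stalk x) ((kernel τ).presheaf.stalk x) := by
    letI := TopCat.Presheaf.algebra_section_stalk X.presheaf (⟨x, hxV⟩ : V)
    letI := modStalk (kernel τ) x hxV
    haveI := isScalarTower_stalk (kernel τ) x hxV
    haveI : IsLocalization.AtPrime (X.presheaf.stalk x) (hV.primeIdealOf ⟨x, hxV⟩).asIdeal :=
      hV.isLocalization_stalk ⟨x, hxV⟩
    haveI := isLocalizedModule_stalk (kernel τ) hV x hxV
    haveI : Module.Flat (X.presheaf.stalk x) ((kernel τ).presheaf.stalk x) :=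
      Module.Flat.of_isLocalizedModule (X.presheaf.stalk x)
        (hV.primeIdealOf ⟨x, hxV⟩).asIdeal.primeCompl (germLin (kernel τ) x hxV)
    haveI : Module.Finite (X.presheaf.stalk x) ((kernel τ).presheaf.stalk x) :=
      Module.Finite.of_isLocalizedModule (hV.primeIdealOf ⟨x, hxV⟩).asIdeal.primeCompl
        (germLin (kernel τ) x hxV)
    exact Module.free_of_flat_of_isLocalRing
  obtain ⟨r, n, hxr, ⟨e⟩⟩ := exists_basicOpen_free_sections (kernel τ) hV x hxV hfree
  have hW : IsAffineOpen (X.basicOpen r) := hV.basicOpen r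
  obtain ⟨eA⟩ := hfreeA (X.basicOpen r) hW ((X.basicOpen_le r).trans hVU)
  haveI : Nonempty (X.basicOpen r) := ⟨⟨x, hxr⟩⟩
  haveI : Nontrivial Γ(X, X.basicOpen r) := Scheme.component_nontrivial X (X.basicOpen r)
  haveI : Module.Free Γ(X, X.basicOpen r) Γ(kernel τ, X.basicOpen r) := Module.Free.of_equiv e.symm
  haveI : Module.Finite Γ(X, X.basicOpen r) Γ(kernel τ, X.basicOpen r) := Module.Finite.equiv e.symm
  let e3 : Γ(Coh.structureModule X, X.basicOpen r) ≃ₗ[Γ(X, X.basicOpen r)] Γ(X, X.basicOpen r) :=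
    LinearEquiv.refl _ _
  haveI : Module.Free Γ(X, X.basicOpen r) Γ(Coh.structureModule X, X.basicOpen r) :=
    Module.Free.of_equiv e3.symm
  haveI : Module.Finite Γ(X, X.basicOpen r) Γ(Coh.structureModule X, X.basicOpen r) :=
    Module.Finite.equiv e3.symm
  have hadd := Groth.Agent.Lib.Lead.RankAdd.finrank_add_of_exact (f (X.basicOpen r))
    (g (X.basicOpen r)) (kernel_ι_app_injective τ (X.basicOpen r))
    (by
      intro a
      have := Set.ext_iff.mp (range_kernel_ι_app τ (X.basicOpen r)) a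
      exact this.symm)
    (surjective_app_of_isSplitEpi τ (X.basicOpen r))
  rw [eA.finrank_eq, e.finrank_eq, e3.finrank_eq, Module.finrank_fin_fun, Module.finrank_fin_fun,
    Module.finrank_self] at hadd
  have hn : n = d - 1 := by omega
  subst hn
  exact ⟨X.basicOpen r, hW, hxr, ⟨e⟩⟩

end Groth.Agent.Lib.helper15.FinCovTr
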