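import Mathlib
import Groth.Prelude.Def_FinCov
import Groth.Agent.Lib.Helper16.FLF5
import Groth.Agent.Lib.Helper28.HomOfBasis

/-!
# Existence and uniqueness of the trace of a finite locally free algebra (helper15)
-/

set_option autoImplicit false
set_option linter.style.haveILetI false
universe u
open CategoryTheory CategoryTheory.Limits AlgebraicGeometry TopologicalSpace Opposite

namespace Groth.Agent.Lib.helper15.FinCovTr

open Groth.Agent.Lib.helper16.FLF

variable {X : Scheme.{u}} (A : RelSpec.QCAlg X)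

/-- the ring-level trace of `A(V)` over `Γ(X, V)` -/
noncomputable def trV (V : X.Opens) : A.presheaf.obj (op V) →+ Γ(X, V) :=
  letI : Algebra Γ(X, V) (A.presheaf.obj (op V)) := (A.str.app (op V)).hom.toAlgebra
  (Algebra.trace Γ(X, V) (A.presheaf.obj (op V))).toAddMonoidHom

theorem trV_apply (V : X.Opens) (a : A.presheaf.obj (op V)) :
    trV A V a = @Algebra.trace Γ(X, V) (A.presheaf.obj (op V)) _ _
      (A.str.app (op V)).hom.toAlgebra a := rfl

theorem trV_smul (V : X.Opens) (r : Γ(X, V)) (a : A.presheaf.obj (op V)) :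
    trV A V ((A.str.app (op V)).hom r * a) = r * trV A V a := by
  letI : Algebra Γ(X, V) (A.presheaf.obj (op V)) := (A.str.app (op V)).hom.toAlgebra
  rw [trV_apply, trV_apply]
  have := (Algebra.trace Γ(X, V) (A.presheaf.obj (op V))).map_smul r a
  rw [Algebra.smul_def, smul_eq_mul] at this
  exact this

/-- the trace commutes with restriction to a basic open -/
theorem trV_res_basicOpen {V W : X.Opens} (hV : IsAffineOpen V) (r : Γ(X, V))
    (hW : W = X.basicOpen r) (hle : W ≤ V)
    (hfree : letI : Algebra Γ(X, V) (A.presheaf.obj (op V)) := (A.str.app (op V)).hom.toAlgebra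
      Module.Free Γ(X, V) (A.presheaf.obj (op V)))
    (hfin : letI : Algebra Γ(X, V) (A.presheaf.obj (op V)) := (A.str.app (op V)).hom.toAlgebra
      Module.Finite Γ(X, V) (A.presheaf.obj (op V)))
    (a : A.presheaf.obj (op V)) :
    trV A W ((A.presheaf.map (homOfLE hle).op).hom a) =
      (X.presheaf.map (homOfLE hle).op).hom (trV A V a) := by
  subst hW
  letI i1 : Algebra Γ(X, V) (A.presheaf.obj (op V)) := (A.str.app (op V)).hom.toAlgebra
  letI i2 : Algebra Γ(X, X.basicOpen r) (A.presheaf.obj (op (X.basicOpen r))) :=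
    (A.str.app (op (X.basicOpen r))).hom.toAlgebra
  letI i3 : Algebra Γ(X, V) Γ(X, X.basicOpen r) := (X.presheaf.map (homOfLE hle).op).hom.toAlgebra
  letI i4 : Algebra (A.presheaf.obj (op V)) (A.presheaf.obj (op (X.basicOpen r))) :=
    (A.presheaf.map (homOfLE hle).op).hom.toAlgebra
  letI i5 : Algebra Γ(X, V) (A.presheaf.obj (op (X.basicOpen r))) :=
    ((A.str.app (op (X.basicOpen r))).hom.comp (X.presheaf.map (homOfLE hle).op).hom).toAlgebra
  haveI t1 : IsScalarTower Γ(X, V) Γ(X, X.basicOpen r) (A.presheaf.obj (op (X.basicOpen r))) :=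
    IsScalarTower.of_algebraMap_eq (fun x => rfl)
  haveI t2 : IsScalarTower Γ(X, V) (A.presheaf.obj (op V)) (A.presheaf.obj (op (X.basicOpen r))) :=
    IsScalarTower.of_algebraMap_eq (fun x => by
      have := A.str.naturality (homOfLE hle).op
      exact congrArg (fun g => g.hom x) this)
  haveI l1 : IsLocalization (Submonoid.powers r) Γ(X, X.basicOpen r) :=
    hV.isLocalization_basicOpen r
  haveI l2 : IsLocalization (Algebra.algebraMapSubmonoid (A.presheaf.obj (op V))
      (Submonoid.powers r)) (A.presheaf.obj (op (X.basicOpen r))) := by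
    rw [Algebra.algebraMapSubmonoid_powers]
    exact A.isQC V hV r
  haveI := hfree
  haveI := hfin
  rw [trV_apply, trV_apply]
  exact Algebra.trace_localization Γ(X, V) (Submonoid.powers r) a

/-- `A(V)` is finite free over `Γ(X, V)` -/
def IsFF (V : X.Opens) : Prop :=
  letI : Algebra Γ(X, V) (A.presheaf.obj (op V)) := (A.str.app (op V)).hom.toAlgebra
  Module.Free Γ(X, V) (A.presheaf.obj (op V)) ∧ Module.Finite Γ(X, V) (A.presheaf.obj (op V))

/-- the trace commutes with restriction between affine opens with finite free sections -/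
theorem trV_res {V V' : X.Opens} (hV : IsAffineOpen V) (hV' : IsAffineOpen V') (hle : V' ≤ V)
    (hff : IsFF A V) (hff' : IsFF A V') (a : A.presheaf.obj (op V)) :
    trV A V' ((A.presheaf.map (homOfLE hle).op).hom a) =
      (X.presheaf.map (homOfLE hle).op).hom (trV A V a) := by
  have hex : ∀ x : V', ∃ (f : Γ(X, V)) (g : Γ(X, V')),
      X.basicOpen f = X.basicOpen g ∧ x.1 ∈ X.basicOpen f :=
    fun x => exists_basicOpen_le_affine_inter hV hV' x.1 ⟨hle x.2, x.2⟩
  choose f g heq hx using hex
  have hWV' : ∀ x : V', X.basicOpen (f x) ≤ V' := fun x => (heq x) ▸ X.basicOpen_le (g x)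
  refine X.sheaf.eq_of_locally_eq' (fun x : V' => X.basicOpen (f x)) V'
    (fun x => homOfLE (hWV' x)) ?_ _ _ ?_
  · intro y hy
    exact Opens.mem_iSup.mpr ⟨⟨y, hy⟩, hx ⟨y, hy⟩⟩
  · intro x
    have h1 := trV_res_basicOpen A hV' (g x) (heq x) (hWV' x) hff'.1 hff'.2
      ((A.presheaf.map (homOfLE hle).op).hom a)
    have h2 := trV_res_basicOpen A hV (f x) rfl (X.basicOpen_le (f x)) hff.1 hff.2 a
    have h3 : (A.presheaf.map (homOfLE (hWV' x)).op).hom ((A.presheaf.map (homOfLE hle).op).hom a) =
        (A.presheaf.map (homOfLE (X.basicOpen_le (f x))).op).hom a := by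
      change (A.presheaf.map _ ≫ A.presheaf.map _).hom a = _
      rw [← Functor.map_comp]
      rfl
    have h4 : (X.presheaf.map (homOfLE (hWV' x)).op).hom
        ((X.presheaf.map (homOfLE hle).op).hom (trV A V a)) =
        (X.presheaf.map (homOfLE (X.basicOpen_le (f x))).op).hom (trV A V a) := by
      change (X.presheaf.map _ ≫ X.presheaf.map _).hom _ = _
      rw [← Functor.map_comp]
      rfl
    rw [h3] at h1
    exact h1.symm.trans (h2.trans h4.symm)

/-- the affine opens with finite free sections -/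
def FFOpens : Type u := {V : X.Opens // IsAffineOpen V ∧ IsFF A V}

theorem isBasis_ffOpens (hA : FlatMod.IsFinLocFree A.toModule) :
    Opens.IsBasis (Set.range (fun V : FFOpens A => V.1)) := by
  rw [Opens.isBasis_iff_nbhd]
  intro O x hx
  obtain ⟨U, n, hxU, ⟨iso⟩⟩ := hA x
  obtain ⟨V, hV, hxV, hVU⟩ := Opens.isBasis_iff_nbhd.mp X.isBasis_affineOpens
    (show x ∈ U ⊓ O from ⟨hxU, hx⟩)
  obtain ⟨iso'⟩ := restrict_iso_freeMod_of_le A.toModule (hVU.trans inf_le_left) n iso
  obtain ⟨e⟩ := sections_of_restrict_iso_freeMod A.toModule hV n iso'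
  refine ⟨V, ⟨⟨V, hV, ?_⟩, rfl⟩, hxV, hVU.trans inf_le_right⟩
  letI : Algebra Γ(X, V) (A.presheaf.obj (op V)) := (A.str.app (op V)).hom.toAlgebra
  have e' : (A.presheaf.obj (op V)) ≃ₗ[Γ(X, V)] (Fin n → Γ(X, V)) := e
  exact ⟨Module.Free.of_equiv e'.symm, Module.Finite.equiv e'.symm⟩

/-- **existence and uniqueness of the trace** -/
theorem existsUnique_isTrace (hA : FlatMod.IsFinLocFree A.toModule) :
    ∃! τ : A.toModule ⟶ Coh.structureModule X, FinCov.IsTrace A τ := by
  have hB := isBasis_ffOpens A hA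
  obtain ⟨τ, hτ⟩ := Groth.Agent.Lib.helper28.HomOfBasis.exists_hom_of_basis
    (F := A.toModule) (G := Coh.structureModule X) (fun V : FFOpens A => V.1) hB
    (fun V => trV A V.1)
    (fun i j hij s => trV_res A j.2.1 i.2.1 hij j.2.2 i.2.2 s)
    (fun i r s => trV_smul A i.1 r s)
  have key : ∀ τ' : A.toModule ⟶ Coh.structureModule X, FinCov.IsTrace A τ' ↔
      ∀ (V : FFOpens A) (s : Γ(A.toModule, V.1)), τ'.app V.1 s = trV A V.1 s := by
    intro τ'
    constructor
    · intro h V s
      exact h V.1 V.2.1 V.2.2.1 V.2.2.2 s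
    · intro h U hU hfree hfin a
      exact h ⟨U, hU, hfree, hfin⟩ a
  refine ⟨τ, (key τ).mpr hτ, ?_⟩
  intro τ' hτ'
  refine Groth.Agent.Lib.helper28.HomOfBasis.hom_ext_of_basis (fun V : FFOpens A => V.1) hB _ _ ?_
  intro V s
  exact ((key τ').mp hτ' V s).trans (hτ V s).symm

end Groth.Agent.Lib.helper15.FinCovTr
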