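import Mathlib
import Groth.Prelude.Def_FinCov
import Groth.Agent.Lib.Helper15.FinCovTr2
import Groth.Agent.Lib.Helper15.DblInv1
import Groth.Agent.Lib.Helper28.TensorDesc

/-!
# A rank-two algebra with `2` invertible is `O ⊕ ker τ` (helper15)
-/

set_option autoImplicit false
set_option linter.style.haveILetI false
universe u
open CategoryTheory CategoryTheory.Limits AlgebraicGeometry TopologicalSpace Opposite

namespace Groth.Agent.Lib.helper15.FinCovTr

open Groth.Agent.Lib.helper16.FLF Groth.Agent.Lib.helper7.KerSections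

variable {X : Scheme.{u}} (A : RelSpec.QCAlg X)

/-- `τ(s · 1) = d s` on every open -/
theorem trace_str (d : ℕ) (hA : FlatMod.IsFinLocFreeOfRank d A.toModule)
    (τ : A.toModule ⟶ Coh.structureModule X) (hτ : FinCov.IsTrace A τ)
    (U : X.Opens) (s : Γ(X, U)) :
    (τ.val.app (op U)).hom ((A.str.app (op U)).hom s) = (d : Γ(X, U)) * s := by
  have h := strMod_comp_trace A d hA τ hτ
  obtain ⟨s', hs'⟩ : ∃ s' : Γ(Coh.structureModule X, U), s' = s := ⟨s, rfl⟩
  have h1 := congrArg (fun ψ : Coh.structureModule X ⟶ Coh.structureModule X =>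
    (Scheme.Modules.Hom.app ψ U).hom s') h
  have h2 := nsmul_app (𝟙 (Coh.structureModule X)) d U s'
  rw [← nsmul_eq_mul, ← hs']
  exact h1.trans h2

/-- restriction of sections of `A` -/
noncomputable abbrev resA {U V : X.Opens} (h : V ≤ U) :
    A.presheaf.obj (op U) →+* A.presheaf.obj (op V) :=
  (A.presheaf.map (homOfLE h).op).hom

theorem trace_res (τ : A.toModule ⟶ Coh.structureModule X) {U V : X.Opens} (h : V ≤ U)
    (a : A.presheaf.obj (op U)) :
    (τ.val.app (op V)).hom (resA A h a) =
      (X.presheaf.map (homOfLE h).op).hom ((τ.val.app (op U)).hom a) := by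
  have := PresheafOfModules.naturality_apply τ.val (homOfLE h).op a
  exact this

theorem str_res {U V : X.Opens} (h : V ≤ U) (s : Γ(X, U)) :
    resA A h ((A.str.app (op U)).hom s) =
      (A.str.app (op V)).hom ((X.presheaf.map (homOfLE h).op).hom s) := by
  have := A.str.naturality (homOfLE h).op
  exact (congrArg (fun g => g.hom s) this).symm

/-- sections of `A` are equal if they are so on a basis -/
theorem eq_of_res_eq {ι : Type u} (B : ι → X.Opens) (hB : Opens.IsBasis (Set.range B))
    (U : X.Opens) (a b : A.presheaf.obj (op U))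
    (h : ∀ (i : ι) (hi : B i ≤ U), resA A hi a = resA A hi b) : a = b := by
  let S : TopCat.Sheaf CommRingCat.{u} X.carrier := ⟨A.presheaf, A.isSheaf⟩
  let ι' : Type u := {i : ι // B i ≤ U}
  refine S.eq_of_locally_eq' (fun i : ι' => B i.1) U (fun i => homOfLE i.2) ?_ a b
    (fun i => h i.1 i.2)
  intro x hx
  obtain ⟨_, ⟨i, rfl⟩, hxi, hle⟩ := Opens.isBasis_iff_nbhd.mp hB hx
  exact Opens.mem_iSup.mpr ⟨⟨i, hle⟩, hxi⟩

/-- products of trace-zero sections are functions, on free opens -/
theorem two_mul_of_trace_zero_free (τ : A.toModule ⟶ Coh.structureModule X)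
    (hτ : FinCov.IsTrace A τ) (V : FreeOpens 2 A.toModule) (x y : A.presheaf.obj (op V.1))
    (hx : (τ.val.app (op V.1)).hom x = 0) (hy : (τ.val.app (op V.1)).hom y = 0) :
    2 * (x * y) = (A.str.app (op V.1)).hom ((τ.val.app (op V.1)).hom (x * y)) := by
  obtain ⟨V, hV, ⟨e⟩⟩ := V
  letI : Algebra Γ(X, V) (A.presheaf.obj (op V)) := (A.str.app (op V)).hom.toAlgebra
  have e' : (A.presheaf.obj (op V)) ≃ₗ[Γ(X, V)] (Fin 2 → Γ(X, V)) := e
  haveI : Module.Free Γ(X, V) (A.presheaf.obj (op V)) := Module.Free.of_equiv e'.symm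
  haveI : Module.Finite Γ(X, V) (A.presheaf.obj (op V)) := Module.Finite.equiv e'.symm
  have bas : Module.Basis (Fin 2) Γ(X, V) (A.presheaf.obj (op V)) := Module.Basis.ofEquivFun e'
  have htr : ∀ a : A.presheaf.obj (op V),
      (τ.val.app (op V)).hom a = Algebra.trace Γ(X, V) (A.presheaf.obj (op V)) a :=
    fun a => hτ V hV inferInstance inferInstance a
  have key := DblInv.two_mul_mul bas x y
  have hx' : Algebra.trace Γ(X, V) (A.presheaf.obj (op V)) x = 0 := (htr x).symm.trans hx
  have hy' : Algebra.trace Γ(X, V) (A.presheaf.obj (op V)) y = 0 := (htr y).symm.trans hy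
  rw [hx', hy'] at key
  simp only [zero_smul, add_zero, mul_zero, zero_sub, neg_smul, sub_neg_eq_add, zero_add] at key
  rw [key, Algebra.smul_def, mul_one]
  exact congrArg (A.str.app (op V)).hom (htr (x * y)).symm

/-- products of trace-zero sections are functions -/
theorem two_mul_of_trace_zero (hA : FlatMod.IsFinLocFreeOfRank 2 A.toModule)
    (τ : A.toModule ⟶ Coh.structureModule X)
    (hτ : FinCov.IsTrace A τ) (U : X.Opens) (x y : A.presheaf.obj (op U))
    (hx : (τ.val.app (op U)).hom x = 0) (hy : (τ.val.app (op U)).hom y = 0) :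
    2 * (x * y) = (A.str.app (op U)).hom ((τ.val.app (op U)).hom (x * y)) := by
  refine eq_of_res_eq A (fun V : FreeOpens 2 A.toModule => V.1) (isBasis_freeOpens _ hA) U _ _ ?_
  intro V hV
  have hx' : (τ.val.app (op V.1)).hom (resA A hV x) = 0 :=
    (trace_res A τ hV x).trans ((congrArg (X.presheaf.map (homOfLE hV).op).hom hx).trans
      (map_zero (X.presheaf.map (homOfLE hV).op).hom))
  have hy' : (τ.val.app (op V.1)).hom (resA A hV y) = 0 :=
    (trace_res A τ hV y).trans ((congrArg (X.presheaf.map (homOfLE hV).op).hom hy).trans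
      (map_zero (X.presheaf.map (homOfLE hV).op).hom))
  have h1 := two_mul_of_trace_zero_free A τ hτ V _ _ hx' hy'
  calc resA A hV (2 * (x * y)) = 2 * (resA A hV x * resA A hV y) := by
        rw [map_mul, map_mul, map_ofNat]
    _ = (A.str.app (op V.1)).hom ((τ.val.app (op V.1)).hom (resA A hV x * resA A hV y)) := h1
    _ = (A.str.app (op V.1)).hom ((τ.val.app (op V.1)).hom (resA A hV (x * y))) := by
        rw [map_mul]
    _ = (A.str.app (op V.1)).hom
          ((X.presheaf.map (homOfLE hV).op).hom ((τ.val.app (op U)).hom (x * y))) :=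
        congrArg (A.str.app (op V.1)).hom (trace_res A τ hV (x * y))
    _ = resA A hV ((A.str.app (op U)).hom ((τ.val.app (op U)).hom (x * y))) :=
        (str_res A hV _).symm

/-- the trace on sections, with values read as functions -/
noncomputable def trF (τ : A.toModule ⟶ Coh.structureModule X) (U : X.Opens)
    (a : A.presheaf.obj (op U)) : Γ(X, U) :=
  (τ.val.app (op U)).hom a

theorem trF_add (τ : A.toModule ⟶ Coh.structureModule X) (U : X.Opens)
    (a b : A.presheaf.obj (op U)) : trF A τ U (a + b) = trF A τ U a + trF A τ U b :=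
  map_add (τ.val.app (op U)).hom a b

theorem trF_str_mul (τ : A.toModule ⟶ Coh.structureModule X) (U : X.Opens) (r : Γ(X, U))
    (a : A.presheaf.obj (op U)) :
    trF A τ U ((A.str.app (op U)).hom r * a) = r * trF A τ U a :=
  (τ.val.app (op U)).hom.map_smul r a

theorem trF_res (τ : A.toModule ⟶ Coh.structureModule X) {U V : X.Opens} (h : V ≤ U)
    (a : A.presheaf.obj (op U)) :
    trF A τ V (resA A h a) = (X.presheaf.map (homOfLE h).op).hom (trF A τ U a) :=
  trace_res A τ h a

theorem trF_str (d : ℕ) (hA : FlatMod.IsFinLocFreeOfRank d A.toModule)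
    (τ : A.toModule ⟶ Coh.structureModule X) (hτ : FinCov.IsTrace A τ)
    (U : X.Opens) (s : Γ(X, U)) :
    trF A τ U ((A.str.app (op U)).hom s) = (d : Γ(X, U)) * s :=
  trace_str A d hA τ hτ U s

theorem two_mul_of_trF_zero (hA : FlatMod.IsFinLocFreeOfRank 2 A.toModule)
    (τ : A.toModule ⟶ Coh.structureModule X)
    (hτ : FinCov.IsTrace A τ) (U : X.Opens) (x y : A.presheaf.obj (op U))
    (hx : trF A τ U x = 0) (hy : trF A τ U y = 0) :
    2 * (x * y) = (A.str.app (op U)).hom (trF A τ U (x * y)) :=
  two_mul_of_trace_zero A hA τ hτ U x y hx hy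

section half

variable (c : Γ(X, ⊤))

/-- the restriction of a global function -/
noncomputable abbrev cU (U : X.Opens) : Γ(X, U) :=
  (X.presheaf.map (homOfLE (le_top : U ≤ ⊤)).op).hom c

theorem cU_res {U V : X.Opens} (h : V ≤ U) :
    (X.presheaf.map (homOfLE h).op).hom (cU c U) = cU c V := by
  change (X.presheaf.map _ ≫ X.presheaf.map _).hom c = _
  rw [← Functor.map_comp]
  rfl

theorem cU_mul_two (hc : c * 2 = 1) (U : X.Opens) : cU c U * 2 = 1 := by
  have := congrArg (X.presheaf.map (homOfLE (le_top : U ≤ ⊤)).op).hom hc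
  rwa [map_mul, map_ofNat, map_one] at this

/-- the pairing `(a, b) ↦ c τ(a b)` on sections of `A` -/
noncomputable def pairA (τ : A.toModule ⟶ Coh.structureModule X) (U : X.Opens)
    (a b : A.presheaf.obj (op U)) : Γ(X, U) :=
  cU c U * trF A τ U (a * b)

theorem pairA_res (τ : A.toModule ⟶ Coh.structureModule X) {U V : X.Opens} (h : V ≤ U)
    (a b : A.presheaf.obj (op U)) :
    pairA A c τ V (resA A h a) (resA A h b) =
      (X.presheaf.map (homOfLE h).op).hom (pairA A c τ U a b) := by
  unfold pairA
  rw [map_mul, cU_res, ← map_mul, trF_res]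

theorem pairA_add_left (τ : A.toModule ⟶ Coh.structureModule X) (U : X.Opens)
    (a a' b : A.presheaf.obj (op U)) :
    pairA A c τ U (a + a') b = pairA A c τ U a b + pairA A c τ U a' b := by
  unfold pairA
  rw [add_mul, trF_add, mul_add]

theorem pairA_add_right (τ : A.toModule ⟶ Coh.structureModule X) (U : X.Opens)
    (a b b' : A.presheaf.obj (op U)) :
    pairA A c τ U a (b + b') = pairA A c τ U a b + pairA A c τ U a b' := by
  unfold pairA
  rw [mul_add, trF_add, mul_add]

theorem pairA_smul_left (τ : A.toModule ⟶ Coh.structureModule X) (U : X.Opens) (r : Γ(X, U))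
    (a b : A.presheaf.obj (op U)) :
    pairA A c τ U ((A.str.app (op U)).hom r * a) b = r * pairA A c τ U a b := by
  unfold pairA
  rw [mul_assoc, trF_str_mul, mul_left_comm]

theorem pairA_smul_right (τ : A.toModule ⟶ Coh.structureModule X) (U : X.Opens) (r : Γ(X, U))
    (a b : A.presheaf.obj (op U)) :
    pairA A c τ U a ((A.str.app (op U)).hom r * b) = r * pairA A c τ U a b := by
  unfold pairA
  rw [mul_left_comm a, trF_str_mul, mul_left_comm]

end half

end Groth.Agent.Lib.helper15.FinCovTr
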