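import Mathlib
import Groth.Prelude.Def_FinCov
import Groth.Agent.Lib.Helper15.FinCovTr4

/-!
# A rank-two algebra with `2` invertible is `O ⊕ ker τ`: the pairing (helper15)
-/

set_option autoImplicit false
set_option linter.style.haveILetI false
universe u
open CategoryTheory CategoryTheory.Limits AlgebraicGeometry TopologicalSpace Opposite

namespace Groth.Agent.Lib.helper15.FinCovTr

open Groth.Agent.Lib.helper16.FLF Groth.Agent.Lib.helper7.KerSections
open Groth.Agent.Lib.helper28.TensorDesc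

variable {X : Scheme.{u}} (A : RelSpec.QCAlg X) (τ : A.toModule ⟶ Coh.structureModule X)

/-- the inclusion of the kernel of the trace, on sections, with values in the ring `A(U)` -/
noncomputable def ιK (U : X.Opens) (l : Γ(kernel τ, U)) : A.presheaf.obj (op U) :=
  ((kernel.ι τ).val.app (op U)).hom l

theorem ιK_add (U : X.Opens) (l l' : Γ(kernel τ, U)) :
    ιK A τ U (l + l') = ιK A τ U l + ιK A τ U l' :=
  map_add ((kernel.ι τ).val.app (op U)).hom l l'

theorem ιK_smul (U : X.Opens) (r : Γ(X, U)) (l : Γ(kernel τ, U)) :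
    ιK A τ U (r • l) = (A.str.app (op U)).hom r * ιK A τ U l :=
  ((kernel.ι τ).val.app (op U)).hom.map_smul r l

theorem ιK_res {U V : X.Opens} (h : V ≤ U) (l : Γ(kernel τ, U)) :
    ιK A τ V ((kernel τ).presheaf.map (homOfLE h).op l) = resA A h (ιK A τ U l) :=
  PresheafOfModules.naturality_apply (kernel.ι τ).val (homOfLE h).op l

theorem trF_ιK (U : X.Opens) (l : Γ(kernel τ, U)) : trF A τ U (ιK A τ U l) = 0 :=
  kernel_ι_app_comp τ U l

theorem ιK_injective (U : X.Opens) : Function.Injective (ιK A τ U) :=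
  kernel_ι_app_injective τ U

theorem exists_ιK (U : X.Opens) (a : A.presheaf.obj (op U)) (ha : trF A τ U a = 0) :
    ∃ l : Γ(kernel τ, U), ιK A τ U l = a :=
  exists_kernel_section τ U a ha

/-- the pairing on `ker τ` -/
noncomputable def pairK (c : Γ(X, ⊤)) :
    BiPair (kernel τ) (kernel τ) (Coh.structureModule X) where
  toFun U l l' := pairA A c τ U (ιK A τ U l) (ιK A τ U l')
  add_left U l l'' l' := by
    rw [ιK_add, pairA_add_left]
    rfl
  smul_left U r l l' := by
    rw [ιK_smul, pairA_smul_left]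
    rfl
  add_right U l l' l'' := by
    rw [ιK_add, pairA_add_right]
    rfl
  smul_right U r l l' := by
    rw [ιK_smul, pairA_smul_right]
    rfl
  res U V i l l' := by
    rw [ιK_res, ιK_res, pairA_res]
    rfl

/-- **a rank-two algebra with `2` invertible is `O ⊕ ker τ`** -/
theorem exists_isDblAlg (hA : FlatMod.IsFinLocFreeOfRank 2 A.toModule)
    (hτ : FinCov.IsTrace A τ) (h2 : IsUnit (2 : Γ(X, ⊤))) :
    ∃ m : CohB1.tensorMod (kernel τ) (kernel τ) ⟶ Coh.structureModule X,
      FinCov.IsDblAlg (kernel τ) m A (kernel.ι τ) := by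
  obtain ⟨u, hu⟩ := h2
  let c : Γ(X, ⊤) := ((u⁻¹ : Γ(X, ⊤)ˣ) : Γ(X, ⊤))
  have hc : c * 2 = 1 := by rw [← hu]; exact Units.inv_mul u
  have htr : ∀ (U : X.Opens) (s : Γ(X, U)), trF A τ U ((A.str.app (op U)).hom s) = 2 * s := by
    intro U s
    have := trF_str A 2 hA τ hτ U s
    rwa [Nat.cast_ofNat] at this
  have hcancel : ∀ (U : X.Opens) (s : Γ(X, U)), cU c U * (2 * s) = s := by
    intro U s
    rw [← mul_assoc, cU_mul_two c hc, one_mul]
  refine ⟨(pairK A τ c).desc, ?_, ?_⟩
  · intro U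
    constructor
    · rintro ⟨s, l₀⟩ ⟨s', l₀'⟩ h
      obtain ⟨l, rfl⟩ : ∃ l : Γ(kernel τ, U), l = l₀ := ⟨l₀, rfl⟩
      obtain ⟨l', rfl⟩ : ∃ l' : Γ(kernel τ, U), l' = l₀' := ⟨l₀', rfl⟩
      have h' : (A.str.app (op U)).hom s + ιK A τ U l =
          (A.str.app (op U)).hom s' + ιK A τ U l' := h
      have ht := congrArg (trF A τ U) h'
      rw [trF_add, trF_add, trF_ιK, trF_ιK, add_zero, add_zero, htr, htr] at ht
      have hs : s = s' := by
        have := congrArg (fun z => cU c U * z) ht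
        simp only [hcancel] at this
        exact this
      subst hs
      have hl : ιK A τ U l = ιK A τ U l' := add_left_cancel h'
      rw [ιK_injective A τ U hl]
    · intro a
      have h0 : trF A τ U (a - (A.str.app (op U)).hom (cU c U * trF A τ U a)) = 0 := by
        have h1 : trF A τ U a = trF A τ U (a - (A.str.app (op U)).hom (cU c U * trF A τ U a)) +
            trF A τ U ((A.str.app (op U)).hom (cU c U * trF A τ U a)) := by
          rw [← trF_add, sub_add_cancel]
        rw [htr, mul_left_comm, hcancel] at h1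
        exact (add_eq_right.mp h1.symm)
      obtain ⟨l, hl⟩ := exists_ιK A τ U _ h0
      refine ⟨(cU c U * trF A τ U a, l), ?_⟩
      change (A.str.app (op U)).hom (cU c U * trF A τ U a) + ιK A τ U l = a
      rw [hl, add_sub_cancel]
  · intro U l₀ l₀'
    rw [BiPair.desc_tmul]
    obtain ⟨l, rfl⟩ : ∃ l : Γ(kernel τ, U), l = l₀ := ⟨l₀, rfl⟩
    obtain ⟨l', rfl⟩ : ∃ l' : Γ(kernel τ, U), l' = l₀' := ⟨l₀', rfl⟩
    change ιK A τ U l * ιK A τ U l' =
      (A.str.app (op U)).hom (pairA A c τ U (ιK A τ U l) (ιK A τ U l'))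
    have h := two_mul_of_trF_zero A hA τ hτ U _ _ (trF_ιK A τ U l) (trF_ιK A τ U l')
    unfold pairA
    rw [map_mul, ← h, ← mul_assoc, ← map_ofNat (A.str.app (op U)).hom 2, ← map_mul,
      cU_mul_two c hc, map_one, one_mul]

end Groth.Agent.Lib.helper15.FinCovTr
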