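import Mathlib
import Groth.Prelude.Def_FinCov
import Groth.Agent.Lib.Helper15.FinCovTr1
import Groth.Agent.Lib.Helper16.QCAlg1

/-!
# The algebra `O ⊕ L` is locally free of rank two (helper15)
-/

set_option autoImplicit false
set_option linter.style.haveILetI false
universe u
open CategoryTheory CategoryTheory.Limits AlgebraicGeometry TopologicalSpace Opposite

namespace Groth.Agent.Lib.helper15.FinCovTr

open Groth.Agent.Lib.helper16.FLF

variable {X : Scheme.{u}}

/-- the linear equivalence `Γ(X,U) × L(U) ≃ A(U)` of a double algebra -/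
noncomputable def dblEquiv (L : X.Modules)
    (m : CohB1.tensorMod L L ⟶ Coh.structureModule X) (A : RelSpec.QCAlg X) (j : L ⟶ A.toModule)
    (h : FinCov.IsDblAlg L m A j) (U : X.Opens) :
    (Γ(Coh.structureModule X, U) × Γ(L, U)) ≃ₗ[Γ(X, U)] Γ(A.toModule, U) :=
  LinearEquiv.ofBijective
    (((FinCov.strMod A).val.app (op U)).hom.coprod ((j.val.app (op U)).hom))
    (by
      have := h.1 U
      exact this)

theorem dblEquiv_apply (L : X.Modules)
    (m : CohB1.tensorMod L L ⟶ Coh.structureModule X) (A : RelSpec.QCAlg X) (j : L ⟶ A.toModule)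
    (h : FinCov.IsDblAlg L m A j) (U : X.Opens) (s : Γ(X, U)) (l : Γ(L, U)) :
    FinCov.toSec A (dblEquiv L m A j h U (s, l)) =
      (A.str.app (op U)).hom s + FinCov.toSec A ((j.val.app (op U)).hom l) := rfl

/-- sections of `O ⊕ L` are free of rank two where `L` is free of rank one -/
noncomputable def dblFree (L : X.Modules)
    (m : CohB1.tensorMod L L ⟶ Coh.structureModule X) (A : RelSpec.QCAlg X) (j : L ⟶ A.toModule)
    (h : FinCov.IsDblAlg L m A j) (U : X.Opens) (eL : Γ(L, U) ≃ₗ[Γ(X, U)] (Fin 1 → Γ(X, U))) :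
    Γ(A.toModule, U) ≃ₗ[Γ(X, U)] (Fin 2 → Γ(X, U)) :=
  let e3 : Γ(Coh.structureModule X, U) ≃ₗ[Γ(X, U)] Γ(X, U) := LinearEquiv.refl _ _
  (dblEquiv L m A j h U).symm ≪≫ₗ
    (LinearEquiv.prodCongr e3 (eL ≪≫ₗ LinearEquiv.funUnique (Fin 1) Γ(X, U) Γ(X, U))) ≪≫ₗ
    (LinearEquiv.finTwoArrow Γ(X, U) Γ(X, U)).symm

theorem isFinLocFreeOfRank_two_of_isDblAlg (L : X.Modules) (hL : PicF.IsInvertible L)
    (m : CohB1.tensorMod L L ⟶ Coh.structureModule X) (A : RelSpec.QCAlg X) (j : L ⟶ A.toModule)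
    (h : FinCov.IsDblAlg L m A j) : FlatMod.IsFinLocFreeOfRank 2 A.toModule := by
  haveI : A.toModule.IsQuasicoherent := Groth.Agent.Lib.helper16.QCAlg.isQuasicoherent_toModule A
  rw [isFinLocFreeOfRank_iff_sections]
  intro x
  have hL1 := (isInvertible_iff_isFinLocFreeOfRank_one L).mp hL
  obtain ⟨U, hU, hxU, -, ⟨eL⟩⟩ := exists_affine_free_sections_of_isFinLocFreeOfRank L hL1 x
  exact ⟨U, hU, hxU, ⟨dblFree L m A j h U eL⟩⟩

end Groth.Agent.Lib.helper15.FinCovTr
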