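import Mathlib
import Groth.Prelude.Def_FinCov
import Groth.Agent.Lib.Helper15.FinCovTr4
import Groth.Agent.Lib.Helper15.FinCovTr6

/-!
# The kernel of the trace of `O ⊕ L` is `L` (helper15)
-/

set_option autoImplicit false
set_option linter.style.haveILetI false
universe u
open CategoryTheory CategoryTheory.Limits AlgebraicGeometry TopologicalSpace Opposite

namespace Groth.Agent.Lib.helper15.FinCovTr

open Groth.Agent.Lib.helper16.FLF

variable {X : Scheme.{u}} (L : X.Modules)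
  (m : CohB1.tensorMod L L ⟶ Coh.structureModule X) (A : RelSpec.QCAlg X) (j : L ⟶ A.toModule)

/-- `j` on sections with values in the ring `A(U)` -/
noncomputable def jS (U : X.Opens) (l : Γ(L, U)) : A.presheaf.obj (op U) :=
  (j.val.app (op U)).hom l

theorem jS_smul (U : X.Opens) (r : Γ(X, U)) (l : Γ(L, U)) :
    jS L A j U (r • l) = (A.str.app (op U)).hom r * jS L A j U l :=
  (j.val.app (op U)).hom.map_smul r l

theorem jS_zero (U : X.Opens) : jS L A j U 0 = 0 := map_zero (j.val.app (op U)).hom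

theorem jS_res {U V : X.Opens} (h : V ≤ U) (l : Γ(L, U)) :
    jS L A j V (L.presheaf.map (homOfLE h).op l) = resA A h (jS L A j U l) :=
  PresheafOfModules.naturality_apply j.val (homOfLE h).op l

/-- the trace of `j(e)` vanishes for a local generator `e` -/
theorem trF_jS_gen (h : FinCov.IsDblAlg L m A j) (h2 : IsUnit (2 : Γ(X, ⊤)))
    (τ : A.toModule ⟶ Coh.structureModule X) (hτ : FinCov.IsTrace A τ)
    (V : X.Opens) (hV : IsAffineOpen V) (eL : Γ(L, V) ≃ₗ[Γ(X, V)] (Fin 1 → Γ(X, V)))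
    (eA : Γ(A.toModule, V) ≃ₗ[Γ(X, V)] (Fin 2 → Γ(X, V))) :
    trF A τ V (jS L A j V (eL.symm (fun _ => 1))) = 0 := by
  letI : Algebra Γ(X, V) (A.presheaf.obj (op V)) := (A.str.app (op V)).hom.toAlgebra
  have e' : (A.presheaf.obj (op V)) ≃ₗ[Γ(X, V)] (Fin 2 → Γ(X, V)) := eA
  haveI : Module.Free Γ(X, V) (A.presheaf.obj (op V)) := Module.Free.of_equiv e'.symm
  haveI : Module.Finite Γ(X, V) (A.presheaf.obj (op V)) := Module.Finite.equiv e'.symm
  have bas : Module.Basis (Fin 2) Γ(X, V) (A.presheaf.obj (op V)) := Module.Basis.ofEquivFun e'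
  have htr : ∀ a : A.presheaf.obj (op V),
      trF A τ V a = Algebra.trace Γ(X, V) (A.presheaf.obj (op V)) a :=
    fun a => hτ V hV inferInstance inferInstance a
  set e : Γ(L, V) := eL.symm (fun _ => 1) with he
  set x₀ : A.presheaf.obj (op V) := jS L A j V e with hx₀
  obtain ⟨t, ht⟩ : ∃ t : Γ(X, V), x₀ * x₀ = (A.str.app (op V)).hom t :=
    ⟨(m.val.app (op V)).hom (SecTwist.tmul L L V e e), h.2 V e e⟩
  set w : Γ(X, V) := Algebra.trace Γ(X, V) (A.presheaf.obj (op V)) x₀ with hw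
  have key := DblInv.two_mul_mul bas x₀ x₀
  rw [ht] at key
  have h1 : Algebra.trace Γ(X, V) (A.presheaf.obj (op V)) ((A.str.app (op V)).hom t) = 2 * t :=
    DblInv.trace_algebraMap_of_basis bas t
  rw [h1, ← hw] at key
  -- key : 2 * str t = w • x₀ + w • x₀ - (w * w - 2 * t) • 1
  have h3 : (A.str.app (op V)).hom (w * w) = jS L A j V ((2 * w) • e) := by
    rw [jS_smul, map_mul, map_mul, map_ofNat]
    simp only [Algebra.smul_def, mul_one] at key
    have h4 : algebraMap Γ(X, V) (A.presheaf.obj (op V)) (w * w - 2 * t) =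
        (A.str.app (op V)).hom w * (A.str.app (op V)).hom w - 2 * (A.str.app (op V)).hom t := by
      change (A.str.app (op V)).hom (w * w - 2 * t) = _
      rw [map_sub, map_mul, map_mul, map_ofNat]
    have h5 : algebraMap Γ(X, V) (A.presheaf.obj (op V)) w = (A.str.app (op V)).hom w := rfl
    rw [h4, h5] at key
    linear_combination key
  -- uniqueness of the decomposition
  have hinj := (h.1 V).1
  have h6 : ((w * w : Γ(X, V)), (0 : L.val.obj (op V))) =
      ((0 : Γ(X, V)), ((2 * w) • e : L.val.obj (op V))) := by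
    apply hinj
    change (A.str.app (op V)).hom (w * w) + jS L A j V 0 =
      (A.str.app (op V)).hom 0 + jS L A j V ((2 * w) • e)
    rw [jS_zero, add_zero, map_zero, zero_add, h3]
  have h7 : (2 * w) • e = 0 := (congrArg Prod.snd h6).symm
  have h8 : 2 * w = 0 := by
    have := congrArg (fun l => eL l 0) h7
    simp only [map_smul, map_zero, Pi.smul_apply, Pi.zero_apply, he,
      LinearEquiv.apply_symm_apply, smul_eq_mul, mul_one] at this
    exact this
  have h9 : w = 0 := by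
    have hu := Groth.Agent.Lib.helper15.FinCovTr.isUnit_natCast_of_top 2 (by
      rwa [Nat.cast_ofNat]) V
    rw [Nat.cast_ofNat] at hu
    exact (hu.mul_right_eq_zero).mp h8
  rw [htr, ← hw, h9]

/-- the trace of `j(l)` vanishes, on opens where `L` and `A` are free -/
theorem trF_jS_free (h : FinCov.IsDblAlg L m A j) (h2 : IsUnit (2 : Γ(X, ⊤)))
    (τ : A.toModule ⟶ Coh.structureModule X) (hτ : FinCov.IsTrace A τ)
    (V : X.Opens) (hV : IsAffineOpen V) (eL : Γ(L, V) ≃ₗ[Γ(X, V)] (Fin 1 → Γ(X, V)))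
    (eA : Γ(A.toModule, V) ≃ₗ[Γ(X, V)] (Fin 2 → Γ(X, V))) (l : Γ(L, V)) :
    trF A τ V (jS L A j V l) = 0 := by
  have hl : l = (eL l 0) • eL.symm (fun _ => 1) := by
    apply eL.injective
    rw [map_smul, LinearEquiv.apply_symm_apply]
    ext i
    fin_cases i
    simp
  rw [hl, jS_smul, trF_str_mul, trF_jS_gen L m A j h h2 τ hτ V hV eL eA, mul_zero]

/-- the trace of `j(l)` vanishes -/
theorem trF_jS (hL : PicF.IsInvertible L) (h : FinCov.IsDblAlg L m A j)
    (h2 : IsUnit (2 : Γ(X, ⊤)))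
    (τ : A.toModule ⟶ Coh.structureModule X) (hτ : FinCov.IsTrace A τ)
    (U : X.Opens) (l : Γ(L, U)) : trF A τ U (jS L A j U l) = 0 := by
  have hA := isFinLocFreeOfRank_two_of_isDblAlg L hL m A j h
  have hL1 := (isInvertible_iff_isFinLocFreeOfRank_one L).mp hL
  have hex : ∀ x : U, ∃ V : X.Opens, IsAffineOpen V ∧ x.1 ∈ V ∧ V ≤ U ∧
      Nonempty (Γ(L, V) ≃ₗ[Γ(X, V)] (Fin 1 → Γ(X, V))) ∧
      Nonempty (Γ(A.toModule, V) ≃ₗ[Γ(X, V)] (Fin 2 → Γ(X, V))) := by
    intro x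
    obtain ⟨U₁, hx₁, ⟨iso₁⟩⟩ := hA x.1
    obtain ⟨U₂, hx₂, ⟨iso₂⟩⟩ := hL1 x.1
    obtain ⟨V, hV, hxV, hVU⟩ := Opens.isBasis_iff_nbhd.mp X.isBasis_affineOpens
      (show x.1 ∈ U₁ ⊓ U₂ ⊓ U from ⟨⟨hx₁, hx₂⟩, x.2⟩)
    obtain ⟨iso₁'⟩ := restrict_iso_freeMod_of_le A.toModule
      (hVU.trans (inf_le_left.trans inf_le_left)) 2 iso₁
    obtain ⟨iso₂'⟩ := restrict_iso_freeMod_of_le L
      (hVU.trans (inf_le_left.trans inf_le_right)) 1 iso₂
    exact ⟨V, hV, hxV, hVU.trans inf_le_right,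
      sections_of_restrict_iso_freeMod L hV 1 iso₂',
      sections_of_restrict_iso_freeMod A.toModule hV 2 iso₁'⟩
  choose V hV hxV hVU heL heA using hex
  refine X.sheaf.eq_of_locally_eq' (fun x : U => V x) U (fun x => homOfLE (hVU x)) ?_ _ _ ?_
  · intro y hy
    exact Opens.mem_iSup.mpr ⟨⟨y, hy⟩, hxV ⟨y, hy⟩⟩
  · intro x
    obtain ⟨eL⟩ := heL x
    obtain ⟨eA⟩ := heA x
    have h1 := trF_res A τ (hVU x) (jS L A j U l)
    rw [← jS_res, trF_jS_free L m A j h h2 τ hτ (V x) (hV x) eL eA] at h1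
    exact h1.symm.trans (map_zero (X.presheaf.map (homOfLE (hVU x)).op).hom).symm

/-- **the kernel of the trace of `O ⊕ L` is `L`** -/
theorem trace_eq_zero_iff (hL : PicF.IsInvertible L) (h : FinCov.IsDblAlg L m A j)
    (h2 : IsUnit (2 : Γ(X, ⊤)))
    (τ : A.toModule ⟶ Coh.structureModule X) (hτ : FinCov.IsTrace A τ)
    (U : X.Opens) (a : A.toModule.val.obj (op U)) :
    (τ.val.app (op U)).hom a = 0 ↔ a ∈ Set.range (j.val.app (op U)).hom := by
  have hA := isFinLocFreeOfRank_two_of_isDblAlg L hL m A j h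
  constructor
  · intro ha
    obtain ⟨⟨s, l₀⟩, hsl⟩ := (h.1 U).2 (FinCov.toSec A a)
    obtain ⟨l, rfl⟩ : ∃ l : Γ(L, U), l = l₀ := ⟨l₀, rfl⟩
    have hsl' : (A.str.app (op U)).hom s + jS L A j U l = FinCov.toSec A a := hsl
    have ha' : trF A τ U (FinCov.toSec A a) = 0 := ha
    rw [← hsl', trF_add, trF_jS L m A j hL h h2 τ hτ U l, add_zero, trF_str A 2 hA τ hτ U s,
      Nat.cast_ofNat] at ha'
    have hu := isUnit_natCast_of_top 2 (by rwa [Nat.cast_ofNat]) U
    rw [Nat.cast_ofNat] at hu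
    have hs : s = 0 := (hu.mul_right_eq_zero).mp ha'
    rw [hs, map_zero, zero_add] at hsl'
    exact ⟨l, hsl'⟩
  · rintro ⟨l₀, rfl⟩
    obtain ⟨l, rfl⟩ : ∃ l : Γ(L, U), l = l₀ := ⟨l₀, rfl⟩
    exact trF_jS L m A j hL h h2 τ hτ U l

end Groth.Agent.Lib.helper15.FinCovTr
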