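import Mathlib
import Groth.Prelude.Def_Coh
import Groth.Agent.Lib.Helper16.FLF3
import Groth.Agent.Lib.Helper16.QCohAffinePush

/-!
# The direct image `h_* O_X` of an affine morphism (helper15)

Light-weight copy of the first lemmas of `Helper15/TraceCover.lean` (few imports).
-/

set_option autoImplicit false
set_option linter.style.haveILetI false
universe u
open CategoryTheory CategoryTheory.Limits AlgebraicGeometry TopologicalSpace Opposite

namespace Groth.Agent.Lib.helper15.PushO

open Scheme.Modules Groth.Agent.Lib.helper16.CohStalk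

variable {X Y : Scheme.{u}} (h : X ⟶ Y)

/-- the pushforward `h_* O_X` of the structure sheaf -/
noncomputable abbrev pushO : Y.Modules :=
  (Scheme.Modules.pushforward h).obj (Coh.structureModule X)

theorem structureModule_qcoh : (Coh.structureModule X).IsQuasicoherent := by
  have h : (SheafOfModules.free (R := X.ringCatSheaf) PUnit.{u + 1}).IsQuasicoherent :=
    inferInstance
  let e : SheafOfModules.free (R := X.ringCatSheaf) PUnit.{u + 1} ≅
      SheafOfModules.unit X.ringCatSheaf :=
    coproductUniqueIso (fun _ : PUnit.{u + 1} => SheafOfModules.unit X.ringCatSheaf)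
  exact (SheafOfModules.isQuasicoherent X.ringCatSheaf).prop_of_iso e h

theorem isQuasicoherent_pushO [IsAffineHom h] : (pushO h).IsQuasicoherent := by
  haveI : (Coh.structureModule X).IsQuasicoherent := structureModule_qcoh
  exact Groth.Agent.Lib.helper16.QCohAffinePush.isQuasicoherent_push h (Coh.structureModule X)

theorem finite_sections [IsFinite h] {U : Y.Opens} (hU : IsAffineOpen U) :
    Module.Finite Γ(Y, U) Γ(pushO h, U) := h.finite_app U hU

theorem flat_sections [IsAffineHom h] [Flat h] {U : Y.Opens} (hU : IsAffineOpen U) :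
    Module.Flat Γ(Y, U) Γ(pushO h, U) := by
  have := h.flat_appLE hU (hU.preimage h) le_rfl
  rw [← Scheme.Hom.app_eq_appLE] at this
  exact this

/-- the rank of a free module of sections of `h_* O_X` is the degree of `h` -/
theorem finrank_eq_of_free [IsFinite h] [Flat h] {W : Y.Opens} (hW : IsAffineOpen W) (y : Y)
    (hy : y ∈ W) (n : ℕ) (e : Γ(pushO h, W) ≃ₗ[Γ(Y, W)] (Fin n → Γ(Y, W))) :
    h.finrank y = n := by
  have hV : IsAffineOpen (h ⁻¹ᵁ W) := hW.preimage h
  have hsq : hV.fromSpec ≫ h = Spec.map (h.app W) ≫ hW.fromSpec := by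
    rw [Scheme.Hom.app_eq_appLE]
    exact (hW.SpecMap_appLE_fromSpec h hV le_rfl).symm
  have hpb : IsPullback hV.fromSpec (Spec.map (h.app W)) h hW.fromSpec :=
    (IsOpenImmersion.isPullback (Spec.map (h.app W)) hV.fromSpec hW.fromSpec h hsq
      (by rw [hW.opensRange_fromSpec, hV.opensRange_fromSpec])).flip
  obtain ⟨t, ht⟩ : ∃ t, hW.fromSpec t = y := by
    have : y ∈ hW.fromSpec.opensRange := by rw [hW.opensRange_fromSpec]; exact hy
    exact this
  have h1 := Scheme.Hom.finrank_of_isPullback _ _ _ _ hpb t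
  rw [ht] at h1
  rw [← h1]
  have hfin : (h.app W).hom.Finite := h.finite_app W hW
  have hflat : (h.app W).hom.Flat := by
    have := h.flat_appLE hW hV le_rfl
    rwa [← Scheme.Hom.app_eq_appLE] at this
  rw [Scheme.Hom.finrank_SpecMap_eq_finrank hfin hflat]
  letI : Algebra Γ(Y, W) Γ(X, h ⁻¹ᵁ W) := (h.app W).hom.toAlgebra
  change Module.rankAtStalk (R := Γ(Y, W)) Γ(X, h ⁻¹ᵁ W) t = n
  haveI : Module.Free Γ(Y, W) Γ(X, h ⁻¹ᵁ W) := Module.Free.of_equiv e.symm
  haveI : Nonempty W := ⟨⟨y, hy⟩⟩
  haveI : Nontrivial Γ(Y, W) := Scheme.component_nontrivial Y W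
  rw [Module.rankAtStalk_eq_finrank_of_free]
  exact e.finrank_eq.trans (Module.finrank_fin_fun _)

end Groth.Agent.Lib.helper15.PushO
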