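import Mathlib
import Groth.Prelude.Def_FinCov
import Groth.Agent.Lib.Helper15.PushO
import Groth.Agent.Lib.Helper16.FLF8

/-!
# Covers of degree `d` and locally free direct images (helper15)
-/

set_option autoImplicit false
set_option linter.style.haveILetI false
universe u
open CategoryTheory CategoryTheory.Limits AlgebraicGeometry TopologicalSpace Opposite

namespace Groth.Agent.Lib.helper15.FinCovTr

open Groth.Agent.Lib.helper15.PushO Groth.Agent.Lib.helper16.CohStalk
open Groth.Agent.Lib.helper16.FLF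

variable {X Y : Scheme.{u}} (f : X ⟶ Y)

/-- local freeness of `f_* O_X` for `f` finite, flat and locally of finite presentation -/
theorem exists_free_sections_lfp [IsFinite f] [Flat f] [LocallyOfFinitePresentation f] (y : Y) :
    ∃ (W : Y.Opens) (n : ℕ), IsAffineOpen W ∧ y ∈ W ∧
      Nonempty (Γ(pushO f, W) ≃ₗ[Γ(Y, W)] (Fin n → Γ(Y, W))) := by
  haveI := isQuasicoherent_pushO f
  obtain ⟨U', hU', hy', -⟩ := Opens.isBasis_iff_nbhd.mp Y.isBasis_affineOpens
    (show y ∈ (⊤ : Y.Opens) from trivial)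
  haveI hfin : Module.Finite Γ(Y, U') Γ(pushO f, U') := finite_sections f hU'
  haveI hflat : Module.Flat Γ(Y, U') Γ(pushO f, U') := flat_sections f hU'
  haveI : Module.FinitePresentation Γ(Y, U') Γ(pushO f, U') := by
    have h1 := HasRingHomProperty.appLE (P := @LocallyOfFinitePresentation) f inferInstance
      ⟨U', hU'⟩ ⟨f ⁻¹ᵁ U', hU'.preimage f⟩ le_rfl
    rw [← Scheme.Hom.app_eq_appLE] at h1
    letI : Algebra Γ(Y, U') Γ(X, f ⁻¹ᵁ U') := (f.app U').hom.toAlgebra
    haveI : Algebra.FinitePresentation Γ(Y, U') Γ(X, f ⁻¹ᵁ U') := h1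
    haveI : Module.Finite Γ(Y, U') Γ(X, f ⁻¹ᵁ U') := hfin
    exact Module.FinitePresentation.of_finite_of_finitePresentation Γ(Y, U') Γ(X, f ⁻¹ᵁ U')
  have hfree : Module.Free (Y.presheaf.stalk y) ((pushO f).presheaf.stalk y) := by
    letI := TopCat.Presheaf.algebra_section_stalk Y.presheaf (⟨y, hy'⟩ : U')
    letI := modStalk (pushO f) y hy'
    haveI := isScalarTower_stalk (pushO f) y hy'
    haveI : IsLocalization.AtPrime (Y.presheaf.stalk y) (hU'.primeIdealOf ⟨y, hy'⟩).asIdeal :=
      hU'.isLocalization_stalk ⟨y, hy'⟩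
    haveI := isLocalizedModule_stalk (pushO f) hU' y hy'
    haveI : Module.Flat (Y.presheaf.stalk y) ((pushO f).presheaf.stalk y) :=
      Module.Flat.of_isLocalizedModule (Y.presheaf.stalk y)
        (hU'.primeIdealOf ⟨y, hy'⟩).asIdeal.primeCompl (germLin (pushO f) y hy')
    haveI : Module.Finite (Y.presheaf.stalk y) ((pushO f).presheaf.stalk y) :=
      Module.Finite.of_isLocalizedModule (hU'.primeIdealOf ⟨y, hy'⟩).asIdeal.primeCompl
        (germLin (pushO f) y hy')
    exact Module.free_of_flat_of_isLocalRing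
  obtain ⟨r, n, hyr, he⟩ := exists_basicOpen_free_sections (pushO f) hU' y hy' hfree
  exact ⟨Y.basicOpen r, n, hU'.basicOpen r, hyr, he⟩

/-- **covers of degree `d` are the affine morphisms with `f_* O_X` locally free of rank `d`** -/
theorem isCover_iff (d : ℕ) :
    FinCov.IsCover f d ↔ IsAffineHom f ∧ FlatMod.IsFinLocFreeOfRank d (pushO f) := by
  constructor
  · rintro ⟨⟨hfin, hflat, hlfp⟩, hrk⟩
    refine ⟨inferInstance, ?_⟩
    haveI := isQuasicoherent_pushO f
    rw [isFinLocFreeOfRank_iff_sections]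
    intro y
    obtain ⟨W, n, hW, hyW, ⟨e⟩⟩ := exists_free_sections_lfp f y
    have hn : n = d := by
      rw [← hrk y]; exact (finrank_eq_of_free f hW y hyW n e).symm
    subst hn
    exact ⟨W, hW, hyW, ⟨e⟩⟩
  · rintro ⟨haff, hlf⟩
    have hlf' := isFinLocFree_of_isFinLocFreeOfRank hlf
    have hproj : ∀ (U : Y.Opens), IsAffineOpen U →
        letI := (f.app U).hom.toAlgebra
        Module.Finite Γ(Y, U) Γ(X, f ⁻¹ᵁ U) ∧ Module.Projective Γ(Y, U) Γ(X, f ⁻¹ᵁ U) :=
      fun U hU => projective_sections_of_isFinLocFree (pushO f) hlf' hU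
    have hfin : IsFinite f := ⟨fun U hU => (hproj U hU).1⟩
    have hflat : Flat f := by
      rw [HasRingHomProperty.eq_affineLocally (P := @Flat)]
      refine ((targetAffineLocally_affineAnd_iff_affineLocally RingHom.Flat.propertyIsLocal f).mp
        ((targetAffineLocally_affineAnd_iff' RingHom.Flat.propertyIsLocal.respectsIso f).mpr
          ⟨haff, fun U hU => ?_⟩)).2
      letI := (f.app U).hom.toAlgebra
      haveI := (hproj U hU).2
      change Module.Flat Γ(Y, U) Γ(X, f ⁻¹ᵁ U)
      infer_instance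
    have hlfp : LocallyOfFinitePresentation f := by
      rw [HasRingHomProperty.eq_affineLocally (P := @LocallyOfFinitePresentation)]
      refine ((targetAffineLocally_affineAnd_iff_affineLocally
        RingHom.finitePresentation_isLocal f).mp
        ((targetAffineLocally_affineAnd_iff' RingHom.finitePresentation_isLocal.respectsIso f).mpr
          ⟨haff, fun U hU => ?_⟩)).2
      letI := (f.app U).hom.toAlgebra
      haveI := (hproj U hU).1
      haveI := (hproj U hU).2
      haveI : Module.FinitePresentation Γ(Y, U) Γ(X, f ⁻¹ᵁ U) :=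
        Module.finitePresentation_of_projective _ _
      change Algebra.FinitePresentation Γ(Y, U) Γ(X, f ⁻¹ᵁ U)
      infer_instance
    refine ⟨⟨hfin, hflat, hlfp⟩, fun y => ?_⟩
    obtain ⟨W, hW, hyW, -, ⟨e⟩⟩ := exists_affine_free_sections_of_isFinLocFreeOfRank _ hlf y
    exact finrank_eq_of_free f hW y hyW d e

end Groth.Agent.Lib.helper15.FinCovTr
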