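import Mathlib
import Groth.Prelude.Def_FinCov
import Groth.Agent.Lib.Helper16.FLF8
import Groth.Agent.Lib.Helper16.QCAlg1
import Groth.Agent.Lib.Helper28.RelSpecLocal

/-!
# The relative spectrum of a locally free algebra of rank `d` is a cover of degree `d` (helper15)
-/

set_option autoImplicit false
set_option linter.style.haveILetI false
universe u
open CategoryTheory CategoryTheory.Limits AlgebraicGeometry TopologicalSpace Opposite

namespace Groth.Agent.Lib.helper15.FinCovTr

open Groth.Agent.Lib.helper16.FLF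

variable {X : Scheme.{u}} (A : RelSpec.QCAlg X)

set_option backward.isDefEq.respectTransparency false in
theorem isCover_π (d : ℕ) (hA : FlatMod.IsFinLocFreeOfRank d A.toModule) :
    FinCov.IsCover A.π d := by
  have hlf' := isFinLocFree_of_isFinLocFreeOfRank hA
  have hproj : ∀ (U : X.Opens), IsAffineOpen U →
      letI := (A.str.app (op U)).hom.toAlgebra
      Module.Finite Γ(X, U) (A.presheaf.obj (op U)) ∧
        Module.Projective Γ(X, U) (A.presheaf.obj (op U)) :=
    fun U hU => projective_sections_of_isFinLocFree A.toModule hlf' hU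
  have hfinU : ∀ (U : X.Opens), IsAffineOpen U → (A.str.app (op U)).hom.Finite :=
    fun U hU => (hproj U hU).1
  have hflatU : ∀ (U : X.Opens), IsAffineOpen U → (A.str.app (op U)).hom.Flat := by
    intro U hU
    letI := (A.str.app (op U)).hom.toAlgebra
    haveI := (hproj U hU).2
    change Module.Flat Γ(X, U) (A.presheaf.obj (op U))
    infer_instance
  have hfin : IsFinite A.π :=
    Groth.Agent.Lib.helper28.RelSpecLocal.π_of_affine A @IsFinite
      (fun U => (IsFinite.SpecMap_iff _).mpr (hfinU U.1 U.2))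
  have hflat : Flat A.π :=
    Groth.Agent.Lib.helper28.RelSpecLocal.π_of_affine A @Flat
      (fun U => Flat.SpecMap_iff.mpr (hflatU U.1 U.2))
  have hlfp : LocallyOfFinitePresentation A.π := by
    refine Groth.Agent.Lib.helper28.RelSpecLocal.π_of_affine A @LocallyOfFinitePresentation
      (fun U => (LocallyOfFinitePresentation.SpecMap_iff _).mpr ?_)
    letI := (A.str.app (op U.1)).hom.toAlgebra
    haveI := (hproj U.1 U.2).1
    haveI := (hproj U.1 U.2).2
    haveI : Module.FinitePresentation Γ(X, U.1) (A.presheaf.obj (op U.1)) :=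
      Module.finitePresentation_of_projective _ _
    change Algebra.FinitePresentation Γ(X, U.1) (A.presheaf.obj (op U.1))
    infer_instance
  refine ⟨⟨hfin, hflat, hlfp⟩, fun y => ?_⟩
  obtain ⟨W, hW, hyW, -, ⟨e⟩⟩ := exists_affine_free_sections_of_isFinLocFreeOfRank _ hA y
  have hsq : A.ι W hW ≫ A.π = Spec.map (A.str.app (op W)) ≫ hW.fromSpec := A.ι_π W hW
  have hpb : IsPullback (A.ι W hW) (Spec.map (A.str.app (op W))) A.π hW.fromSpec :=
    (IsOpenImmersion.isPullback (Spec.map (A.str.app (op W))) (A.ι W hW) hW.fromSpec A.π hsq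
      (by rw [hW.opensRange_fromSpec, A.π_preimage W hW])).flip
  obtain ⟨t, ht⟩ : ∃ t, hW.fromSpec t = y := by
    have : y ∈ hW.fromSpec.opensRange := by rw [hW.opensRange_fromSpec]; exact hyW
    exact this
  have h1 := Scheme.Hom.finrank_of_isPullback _ _ _ _ hpb t
  rw [ht] at h1
  rw [← h1, Scheme.Hom.finrank_SpecMap_eq_finrank (hfinU W hW) (hflatU W hW)]
  letI : Algebra Γ(X, W) (A.presheaf.obj (op W)) := (A.str.app (op W)).hom.toAlgebra
  change Module.rankAtStalk (R := Γ(X, W)) (A.presheaf.obj (op W)) t = d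
  have e' : (A.presheaf.obj (op W)) ≃ₗ[Γ(X, W)] (Fin d → Γ(X, W)) := e
  haveI : Module.Free Γ(X, W) (A.presheaf.obj (op W)) := Module.Free.of_equiv e'.symm
  haveI : Nonempty W := ⟨⟨y, hyW⟩⟩
  haveI : Nontrivial Γ(X, W) := Scheme.component_nontrivial X W
  rw [Module.rankAtStalk_eq_finrank_of_free]
  exact e'.finrank_eq.trans (Module.finrank_fin_fun _)

end Groth.Agent.Lib.helper15.FinCovTr
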