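import Mathlib
import Groth.Agent.Lib.Helper15.FinGrpEtale
import Groth.Agent.Lib.Helper15.FinGrpSch

/-!
# Finite locally free group schemes of invertible order are étale (helper15)
-/

set_option autoImplicit false
set_option linter.style.haveILetI false
universe u
open CategoryTheory MonoidalCategory CartesianMonoidalCategory MonObj GrpObj AlgebraicGeometry Limits

namespace Groth.Agent.Lib.helper15.FinGrpEtaleSch

open Groth.Agent.Lib.helper15.HopfDict Groth.Agent.Lib.helper15.MultGa
open TensorProduct

attribute [local instance] Algebra.TensorProduct.rightAlgebra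

/-- a finite algebra with unramified fibres is unramified. -/
theorem formallyUnramified_of_fibers (R B : Type u) [CommRing R] [CommRing B] [Algebra R B]
    [Module.Finite R B]
    (H : ∀ p : PrimeSpectrum R, Algebra.FormallyUnramified p.asIdeal.ResidueField
      (p.asIdeal.ResidueField ⊗[R] B)) :
    Algebra.FormallyUnramified R B := by
  rw [Algebra.formallyUnramified_iff]
  haveI : Module.Finite B Ω[B⁄R] := inferInstance
  haveI : Module.Finite R Ω[B⁄R] := Module.Finite.trans B _
  rw [← Module.support_eq_empty_iff (R := R)]
  ext p
  simp only [Set.mem_empty_iff_false, iff_false]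
  rw [Module.mem_support_iff_nontrivial_residueField_tensorProduct,
    not_nontrivial_iff_subsingleton]
  have h1 := H p
  rw [Algebra.formallyUnramified_iff] at h1
  exact (KaehlerDifferential.tensorKaehlerEquivBase R p.asIdeal.ResidueField B
    (p.asIdeal.ResidueField ⊗[R] B)).toEquiv.subsingleton

/-- a finite locally free Hopf algebra whose rank is invertible in all residue fields is étale. -/
theorem etale_of_rank_ne_zero (R B : Type u) [CommRing R] [CommRing B] [HopfAlgebra R B]
    [Module.Finite R B] [Module.Flat R B] [Algebra.FinitePresentation R B]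
    (H : ∀ p : PrimeSpectrum R, (Module.rankAtStalk (R := R) B p : p.asIdeal.ResidueField) ≠ 0) :
    Algebra.Etale R B := by
  haveI : Algebra.FormallyUnramified R B := by
    apply formallyUnramified_of_fibers
    intro p
    have h1 : Module.finrank p.asIdeal.ResidueField (p.asIdeal.ResidueField ⊗[R] B) =
        Module.rankAtStalk (R := R) B p := (Module.rankAtStalk_eq p).symm
    haveI : Algebra.Etale p.asIdeal.ResidueField (p.asIdeal.ResidueField ⊗[R] B) := by
      apply FinGrpEtale.etale_of_finrank_ne_zero'
      rw [h1]
      exact H p
    infer_instance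
  exact Algebra.Etale.of_formallyUnramified_of_flat

section Chart

variable {S : Scheme.{u}} (G : Over S) [GrpObj G]

set_option backward.isDefEq.respectTransparency.types false in
theorem chart [IsFinite G.hom] [Flat G.hom]
    [LocallyOfFinitePresentation G.hom]
    (h : ∀ s : S, (Scheme.Hom.finrank G.hom s : S.residueField s) ≠ 0)
    (R : Type u) [CommRing R] (j : Spec (CommRingCat.of R) ⟶ S) [IsOpenImmersion j] :
    Etale (pullback.snd G.hom j) := by
  have hG'hom : ((Over.pullback j).obj G).hom = pullback.snd G.hom j := rfl
  haveI : IsFinite ((Over.pullback j).obj G).hom := by rw [hG'hom]; infer_instance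
  haveI : Flat ((Over.pullback j).obj G).hom := by rw [hG'hom]; infer_instance
  haveI : LocallyOfFinitePresentation ((Over.pullback j).obj G).hom := by
    rw [hG'hom]; infer_instance
  have hrk' : ∀ x, ((Over.pullback j).obj G).hom.finrank x = G.hom.finrank (j x) := fun x => by
    rw [hG'hom, Scheme.Hom.finrank_pullback_snd]
  haveI : IsAffine ((Over.pullback j).obj G).left :=
    isAffine_of_isAffineHom ((Over.pullback j).obj G).hom
  obtain ⟨B, _, _, e, he1, he2⟩ := exists_hopf_of_affine' R ((Over.pullback j).obj G)
  have hw : (GA R B).hom = e.inv.left ≫ ((Over.pullback j).obj G).hom := (Over.w e.inv).symm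
  have hw' : ((Over.pullback j).obj G).hom = e.hom.left ≫ (GA R B).hom := (Over.w e.hom).symm
  have hspec : (GA R B).hom = Spec.map (CommRingCat.ofHom (algebraMap R B)) := rfl
  haveI : IsIso e.inv.left := (Over.forget _).map_isIso e.inv
  haveI : IsIso e.hom.left := (Over.forget _).map_isIso e.hom
  have h0 : Spec.map (CommRingCat.ofHom (algebraMap R B)) =
      e.inv.left ≫ ((Over.pullback j).obj G).hom := hw
  have hfin' : IsFinite (Spec.map (CommRingCat.ofHom (algebraMap R B))) := by
    rw [h0]
    exact MorphismProperty.comp_mem _ _ _ (inferInstance : IsFinite e.inv.left) inferInstance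
  have hflat' : Flat (Spec.map (CommRingCat.ofHom (algebraMap R B))) := by
    rw [h0]
    exact MorphismProperty.comp_mem _ _ _ (inferInstance : Flat e.inv.left) inferInstance
  have hfp' : LocallyOfFinitePresentation (Spec.map (CommRingCat.ofHom (algebraMap R B))) := by
    rw [h0]
    exact MorphismProperty.comp_mem _ _ _
      (inferInstance : LocallyOfFinitePresentation e.inv.left) inferInstance
  haveI : Module.Finite R B := by
    rw [IsFinite.SpecMap_iff] at hfin'
    exact RingHom.finite_algebraMap.mp hfin'
  haveI : Module.Flat R B := by
    rw [Flat.SpecMap_iff] at hflat'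
    exact (RingHom.flat_algebraMap_iff).mp hflat'
  haveI : Algebra.FinitePresentation R B := by
    rw [LocallyOfFinitePresentation.SpecMap_iff] at hfp'
    exact RingHom.finitePresentation_algebraMap.mp hfp'
  have hrkB : ∀ p : PrimeSpectrum R, Module.rankAtStalk (R := R) B p = G.hom.finrank (j p) := by
    intro p
    have h1 : Scheme.Hom.finrank (Spec.map (CommRingCat.ofHom (algebraMap R B))) p =
        G.hom.finrank (j p) := by
      have hc := Scheme.Hom.finrank_comp_left_of_isIso e.inv.left ((Over.pullback j).obj G).hom
      calc Scheme.Hom.finrank (Spec.map (CommRingCat.ofHom (algebraMap R B))) p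
          = Scheme.Hom.finrank (e.inv.left ≫ ((Over.pullback j).obj G).hom) p :=
            congrArg (fun f : Spec (CommRingCat.of B) ⟶ Spec (CommRingCat.of R) =>
              Scheme.Hom.finrank f p) h0
        _ = Scheme.Hom.finrank ((Over.pullback j).obj G).hom p := congrFun hc p
        _ = _ := hrk' p
    rw [← Scheme.Hom.finrank_SpecMap_algebraMap R B p]
    exact h1
  have key : Algebra.Etale R B := by
    apply etale_of_rank_ne_zero
    intro p
    rw [hrkB p]
    let φ : S.residueField (j p) →+* p.asIdeal.ResidueField :=
      (Scheme.Spec.residueFieldIso (CommRingCat.of R) p).hom.hom.comp (j.residueFieldMap p).hom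
    have h2 := h (j p)
    have h3 : φ (G.hom.finrank (j p) : S.residueField (j p)) ≠ 0 := by
      rw [Ne, map_eq_zero_iff φ φ.injective]
      exact h2
    rwa [map_natCast] at h3
  have hE : Etale (Spec.map (CommRingCat.ofHom (algebraMap R B))) := by
    rw [HasRingHomProperty.Spec_iff (P := @Etale)]
    exact RingHom.etale_algebraMap.mpr key
  rw [← hG'hom, hw', hspec]
  exact MorphismProperty.comp_mem _ _ _ (inferInstance : Etale e.hom.left) hE

end Chart

set_option backward.isDefEq.respectTransparency.types false in
theorem etale_of_finrank_ne_zero {S : Scheme.{u}} (G : Over S) [GrpObj G]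
    [IsFinite G.hom] [Flat G.hom] [LocallyOfFinitePresentation G.hom]
    (h : ∀ s : S, (Scheme.Hom.finrank G.hom s : S.residueField s) ≠ 0) : Etale G.hom := by
  rw [IsZariskiLocalAtTarget.iff_of_openCover (P := @Etale) S.affineOpenCover.openCover]
  intro i
  exact @chart S G _ _ _ _ h (S.affineOpenCover.X i) _ (S.affineOpenCover.f i)
    (S.affineOpenCover.map_prop i)

end Groth.Agent.Lib.helper15.FinGrpEtaleSch
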