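import Mathlib
import Groth.Prelude.Def_Wider

/-!
# Self-equivalences of the category of finite length modules over a Noetherian local ring (helper15)
-/

set_option autoImplicit false
universe u
open CategoryTheory

namespace Groth.Agent.Lib.helper15.FinLenEquiv

variable {A : Type u} [CommRing A]

/-- the underlying linear map of a morphism of `FinLen A`. -/
def toLin {X Y : Dual.FinLen A} (f : X ⟶ Y) : X.obj →ₗ[A] Y.obj := f.hom.hom

/-- the morphism of `FinLen A` attached to a linear map. -/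
def homOf {X Y : Dual.FinLen A} (φ : X.obj →ₗ[A] Y.obj) : X ⟶ Y :=
  ObjectProperty.homMk (ModuleCat.ofHom φ)

@[simp] lemma toLin_homOf {X Y : Dual.FinLen A} (φ : X.obj →ₗ[A] Y.obj) : toLin (homOf φ) = φ := rfl

@[simp] lemma homOf_toLin {X Y : Dual.FinLen A} (f : X ⟶ Y) : homOf (toLin f) = f := rfl

lemma toLin_injective {X Y : Dual.FinLen A} : Function.Injective (toLin : (X ⟶ Y) → _) := by
  intro f g h
  rw [← homOf_toLin f, ← homOf_toLin g, h]

@[simp] lemma toLin_comp {X Y Z : Dual.FinLen A} (f : X ⟶ Y) (g : Y ⟶ Z) :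
    toLin (f ≫ g) = toLin g ∘ₗ toLin f := rfl

@[simp] lemma toLin_id (X : Dual.FinLen A) : toLin (𝟙 X) = LinearMap.id := rfl

lemma toLin_add {X Y : Dual.FinLen A} (f g : X ⟶ Y) : toLin (f + g) = toLin f + toLin g := rfl

lemma toLin_smul {X Y : Dual.FinLen A} (a : A) (f : X ⟶ Y) : toLin (a • f) = a • toLin f := rfl

lemma homOf_add {X Y : Dual.FinLen A} (φ ψ : X.obj →ₗ[A] Y.obj) :
    homOf (φ + ψ) = homOf φ + homOf ψ := rfl

lemma homOf_smul {X Y : Dual.FinLen A} (a : A) (φ : X.obj →ₗ[A] Y.obj) :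
    homOf (a • φ) = a • homOf φ := rfl

lemma homOf_comp {X Y Z : Dual.FinLen A} (φ : X.obj →ₗ[A] Y.obj) (ψ : Y.obj →ₗ[A] Z.obj) :
    homOf (ψ ∘ₗ φ) = homOf φ ≫ homOf ψ := rfl

section Fhom

variable (Φ : Dual.FinLen A ⥤ Dual.FinLen A) [Φ.Additive] [Φ.Linear A]

/-- the action of `Φ` on linear maps. -/
def Fhom {X Y : Dual.FinLen A} : (X.obj →ₗ[A] Y.obj) →ₗ[A] ((Φ.obj X).obj →ₗ[A] (Φ.obj Y).obj) where
  toFun φ := toLin (Φ.map (homOf φ))
  map_add' φ ψ := by rw [homOf_add, Φ.map_add, toLin_add]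
  map_smul' a φ := by rw [homOf_smul, Φ.map_smul, toLin_smul, RingHom.id_apply]

lemma Fhom_apply {X Y : Dual.FinLen A} (φ : X.obj →ₗ[A] Y.obj) :
    Fhom Φ φ = toLin (Φ.map (homOf φ)) := rfl

lemma Fhom_comp {X Y Z : Dual.FinLen A} (φ : X.obj →ₗ[A] Y.obj) (ψ : Y.obj →ₗ[A] Z.obj) :
    Fhom Φ (ψ ∘ₗ φ) = Fhom Φ ψ ∘ₗ Fhom Φ φ := by
  rw [Fhom_apply, homOf_comp, Φ.map_comp, toLin_comp]
  rfl

lemma Fhom_id (X : Dual.FinLen A) : Fhom Φ (LinearMap.id : X.obj →ₗ[A] X.obj) = LinearMap.id := by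
  rw [Fhom_apply]
  have : homOf (LinearMap.id : X.obj →ₗ[A] X.obj) = 𝟙 X := rfl
  rw [this, Φ.map_id, toLin_id]

lemma Fhom_injective [Φ.Faithful] {X Y : Dual.FinLen A} :
    Function.Injective (Fhom Φ : (X.obj →ₗ[A] Y.obj) → _) := by
  intro φ ψ h
  have h1 : Φ.map (homOf φ) = Φ.map (homOf ψ) := toLin_injective h
  have h2 := Φ.map_injective h1
  have h3 := congrArg toLin h2
  simpa using h3

lemma Fhom_surjective [Φ.Full] {X Y : Dual.FinLen A} :
    Function.Surjective (Fhom Φ : (X.obj →ₗ[A] Y.obj) → _) := by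
  intro ψ
  obtain ⟨f, hf⟩ := Φ.map_surjective (homOf ψ)
  refine ⟨toLin f, ?_⟩
  rw [Fhom_apply, homOf_toLin, hf, toLin_homOf]

end Fhom

section ModuleLemmas
variable [IsLocalRing A]
open IsLocalRing

/-- a nonzero element of a module killed by `m` is detected by a functional to the residue field. -/
lemma exists_functional {M : Type*} [AddCommGroup M] [Module A M]
    (hM : ∀ a ∈ maximalIdeal A, ∀ x : M, a • x = 0) {x : M} (hx : x ≠ 0) :
    ∃ l : M →ₗ[A] (A ⧸ maximalIdeal A), l x ≠ 0 := by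
  have hT : Module.IsTorsionBySet A M (maximalIdeal A) := fun x a => hM a.1 a.2 x
  let _ := hT.module
  let _ : Field (A ⧸ maximalIdeal A) := Ideal.Quotient.field _
  obtain ⟨φ, hφ⟩ := Module.Projective.exists_dual_ne_zero (A ⧸ maximalIdeal A) hx
  exact ⟨φ.restrictScalars A, hφ⟩

lemma smul_quot_eq_zero (c : A) (hc : c ∈ maximalIdeal A) (z : A ⧸ maximalIdeal A) : c • z = 0 := by
  obtain ⟨b, rfl⟩ := Ideal.Quotient.mk_surjective z
  rw [← Ideal.Quotient.mk_eq_mk, ← Submodule.Quotient.mk_smul, Submodule.Quotient.mk_eq_zero]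
  exact Ideal.mul_mem_right _ _ hc

lemma mem_of_smul_quot_eq_zero (c : A) {z : A ⧸ maximalIdeal A} (hz : z ≠ 0) (h : c • z = 0) :
    c ∈ maximalIdeal A := by
  by_contra hc
  have hu : IsUnit c := by
    by_contra h'
    exact hc ((IsLocalRing.mem_maximalIdeal c).mpr h')
  obtain ⟨u, rfl⟩ := hu
  apply hz
  have := congrArg (fun w => (↑u⁻¹ : A) • w) h
  simpa [smul_smul] using this

/-- cyclicity criterion. -/
lemma span_singleton_eq_top_of_functional {Y : Type*} [AddCommGroup Y] [Module A Y] [Module.Finite A Y]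
    (η : Y →ₗ[A] (A ⧸ maximalIdeal A))
    (hη : ∀ γ : Y →ₗ[A] (A ⧸ maximalIdeal A), ∃ c : A, γ = c • η)
    (e : Y) (he : η e ≠ 0) : Submodule.span A {e} = ⊤ := by
  set N : Submodule A Y := Submodule.span A {e} ⊔ (maximalIdeal A) • (⊤ : Submodule A Y) with hN
  have hNtop : N = ⊤ := by
    by_contra hne
    obtain ⟨y, hy⟩ : ∃ y : Y, y ∉ N := by
      by_contra h
      push Not at h
      exact hne (eq_top_iff.mpr fun y _ => h y)
    have hy' : (N.mkQ y) ≠ 0 := by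
      rwa [Ne, Submodule.mkQ_apply, Submodule.Quotient.mk_eq_zero]
    have hkill : ∀ a ∈ maximalIdeal A, ∀ z : Y ⧸ N, a • z = 0 := by
      intro a ha z
      obtain ⟨w, rfl⟩ := Submodule.Quotient.mk_surjective N z
      rw [← Submodule.Quotient.mk_smul, Submodule.Quotient.mk_eq_zero]
      exact Submodule.mem_sup_right (Submodule.smul_mem_smul ha Submodule.mem_top)
    obtain ⟨l, hl⟩ := exists_functional hkill hy'
    obtain ⟨c, hc⟩ := hη (l ∘ₗ N.mkQ)
    have h1 : (l ∘ₗ N.mkQ) e = 0 := by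
      have : N.mkQ e = 0 := by
        rw [Submodule.mkQ_apply, Submodule.Quotient.mk_eq_zero]
        exact Submodule.mem_sup_left (Submodule.mem_span_singleton_self e)
      rw [LinearMap.comp_apply, this, map_zero]
    rw [hc, LinearMap.smul_apply] at h1
    have hcm := mem_of_smul_quot_eq_zero c he h1
    apply hl
    have : (l ∘ₗ N.mkQ) y = 0 := by
      rw [hc, LinearMap.smul_apply]
      exact smul_quot_eq_zero c hcm _
    exact this
  have hle : (⊤ : Submodule A Y) ≤ Submodule.span A {e} := by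
    apply Submodule.le_of_le_smul_of_le_jacobson_bot (I := maximalIdeal A)
    · exact Module.Finite.fg_top
    · exact IsLocalRing.maximalIdeal_le_jacobson _
    · rw [← hN, hNtop]
  exact eq_top_iff.mpr hle

omit [IsLocalRing A] in
/-- a cyclic module is the quotient by its annihilator. -/
lemma exists_equiv_of_span_eq_top {Y : Type*} [AddCommGroup Y] [Module A Y] (I : Ideal A)
    (hI : ∀ a : A, (∀ y : Y, a • y = 0) ↔ a ∈ I) (e : Y) (he : Submodule.span A {e} = ⊤) :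
    ∃ θ : (A ⧸ I) ≃ₗ[A] Y, θ (Ideal.Quotient.mk I 1) = e := by
  have hker : LinearMap.ker (LinearMap.toSpanSingleton A Y e) = I := by
    ext a
    rw [LinearMap.mem_ker, LinearMap.toSpanSingleton_apply, ← hI]
    constructor
    · intro h y
      have hy : y ∈ Submodule.span A {e} := by rw [he]; trivial
      obtain ⟨b, rfl⟩ := Submodule.mem_span_singleton.mp hy
      rw [smul_comm, h, smul_zero]
    · intro h
      exact h e
  have hsurj : Function.Surjective (LinearMap.toSpanSingleton A Y e) := by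
    intro y
    have hy : y ∈ Submodule.span A {e} := by rw [he]; trivial
    obtain ⟨b, rfl⟩ := Submodule.mem_span_singleton.mp hy
    exact ⟨b, by simp⟩
  refine ⟨(Submodule.quotEquivOfEq _ _ hker.symm).trans
    ((LinearMap.toSpanSingleton A Y e).quotKerEquivOfSurjective hsurj), ?_⟩
  rw [LinearEquiv.trans_apply]
  have h1 : (Ideal.Quotient.mk I (1 : A)) = Submodule.Quotient.mk (p := I) (1 : A) := rfl
  rw [h1, Submodule.quotEquivOfEq_mk, LinearMap.quotKerEquivOfSurjective_apply_mk,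
    LinearMap.toSpanSingleton_apply, one_smul]

lemma exists_functional' (J : Ideal A) (hJ : J = maximalIdeal A) {M : Type*} [AddCommGroup M]
    [Module A M] (hM : ∀ a ∈ J, ∀ x : M, a • x = 0) {x : M} (hx : x ≠ 0) :
    ∃ l : M →ₗ[A] (A ⧸ J), l x ≠ 0 := by
  subst hJ
  exact exists_functional hM hx

lemma span_singleton_eq_top_of_functional' (J : Ideal A) (hJ : J = maximalIdeal A)
    {Y : Type*} [AddCommGroup Y] [Module A Y] [Module.Finite A Y]
    (η : Y →ₗ[A] (A ⧸ J)) (hη : ∀ γ : Y →ₗ[A] (A ⧸ J), ∃ c : A, γ = c • η)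
    (e : Y) (he : η e ≠ 0) : Submodule.span A {e} = ⊤ := by
  subst hJ
  exact span_singleton_eq_top_of_functional η hη e he

end ModuleLemmas

section Fx

variable (I : Ideal A) {M N : Type*} [AddCommGroup M] [Module A M] [AddCommGroup N] [Module A N]

/-- the linear map `A ⧸ I → M`, `1 ↦ x`, for a module killed by `I`. -/
def fx (hM : ∀ a ∈ I, ∀ x : M, a • x = 0) (x : M) : A ⧸ I →ₗ[A] M :=
  Submodule.liftQ I (LinearMap.toSpanSingleton A M x)
    (fun a ha => by rw [LinearMap.mem_ker, LinearMap.toSpanSingleton_apply]; exact hM a ha x)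

variable {I}

lemma fx_mk (hM : ∀ a ∈ I, ∀ x : M, a • x = 0) (x : M) (a : A) :
    fx I hM x (Ideal.Quotient.mk I a) = a • x := rfl

lemma fx_one (hM : ∀ a ∈ I, ∀ x : M, a • x = 0) (x : M) :
    fx I hM x (1 : A ⧸ I) = x := by
  have : (1 : A ⧸ I) = Ideal.Quotient.mk I 1 := rfl
  rw [this, fx_mk, one_smul]

lemma eq_fx (hM : ∀ a ∈ I, ∀ x : M, a • x = 0) (φ : A ⧸ I →ₗ[A] M) :
    φ = fx I hM (φ 1) := by
  apply LinearMap.ext
  intro z
  obtain ⟨a, rfl⟩ := Ideal.Quotient.mk_surjective z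
  rw [fx_mk, ← map_smul]
  congr 1
  rw [Algebra.smul_def, mul_one]
  rfl

lemma fx_add (hM : ∀ a ∈ I, ∀ x : M, a • x = 0) (x y : M) :
    fx I hM (x + y) = fx I hM x + fx I hM y := by
  apply LinearMap.ext
  intro z
  obtain ⟨a, rfl⟩ := Ideal.Quotient.mk_surjective z
  rw [LinearMap.add_apply, fx_mk, fx_mk, fx_mk, smul_add]

lemma fx_smul (hM : ∀ a ∈ I, ∀ x : M, a • x = 0) (b : A) (x : M) :
    fx I hM (b • x) = b • fx I hM x := by
  apply LinearMap.ext
  intro z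
  obtain ⟨a, rfl⟩ := Ideal.Quotient.mk_surjective z
  rw [LinearMap.smul_apply, fx_mk, fx_mk, smul_comm]

lemma comp_fx (hM : ∀ a ∈ I, ∀ x : M, a • x = 0) (hN : ∀ a ∈ I, ∀ x : N, a • x = 0)
    (g : M →ₗ[A] N) (x : M) : g ∘ₗ fx I hM x = fx I hN (g x) := by
  apply LinearMap.ext
  intro z
  obtain ⟨a, rfl⟩ := Ideal.Quotient.mk_surjective z
  rw [LinearMap.comp_apply, fx_mk, fx_mk, map_smul]

lemma fx_comp_factor {I' : Ideal A} (h : I' ≤ I) (hM : ∀ a ∈ I, ∀ x : M, a • x = 0)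
    (hM' : ∀ a ∈ I', ∀ x : M, a • x = 0) (x : M) :
    fx I hM x ∘ₗ Submodule.factor h = fx I' hM' x := by
  apply LinearMap.ext
  intro z
  obtain ⟨a, rfl⟩ := Ideal.Quotient.mk_surjective z
  rw [LinearMap.comp_apply, fx_mk]
  rfl

lemma smul_quot (b : A) (z : A ⧸ I) (hb : b ∈ I) : b • z = 0 := by
  obtain ⟨a, rfl⟩ := Ideal.Quotient.mk_surjective z
  rw [← Ideal.Quotient.mk_eq_mk, ← Submodule.Quotient.mk_smul, Submodule.Quotient.mk_eq_zero]
  exact Ideal.mul_mem_right _ _ hb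

lemma mem_of_smul_one_eq_zero (b : A) (h : b • (1 : A ⧸ I) = 0) : b ∈ I := by
  have : (1 : A ⧸ I) = Ideal.Quotient.mk I 1 := rfl
  rw [this, ← Ideal.Quotient.mk_eq_mk, ← Submodule.Quotient.mk_smul, Submodule.Quotient.mk_eq_zero] at h
  simpa using h

end Fx

section Noeth
variable [IsLocalRing A] [IsNoetherianRing A]
open IsLocalRing

lemma isFiniteLength_quot_pow (n : ℕ) : IsFiniteLength A (A ⧸ (maximalIdeal A) ^ (n + 1)) := by
  set I := (maximalIdeal A) ^ (n + 1) with hIdef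
  have hI : I ≠ ⊤ := by
    intro h
    have h1 : I ≤ maximalIdeal A := Ideal.pow_le_self (by omega)
    rw [h] at h1
    exact (IsLocalRing.maximalIdeal.isMaximal A).ne_top (top_le_iff.mp h1)
  have : Nontrivial (A ⧸ I) := Ideal.Quotient.nontrivial_iff.mpr hI
  have := IsLocalRing.of_surjective' (Ideal.Quotient.mk I) Ideal.Quotient.mk_surjective
  have := IsLocalHom.of_surjective (Ideal.Quotient.mk I) Ideal.Quotient.mk_surjective
  have hmap : (maximalIdeal A).map (Ideal.Quotient.mk I) = maximalIdeal (A ⧸ I) := by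
    ext x
    obtain ⟨x, rfl⟩ := Ideal.Quotient.mk_surjective x
    simp [sup_eq_left.mpr (le_maximalIdeal hI)]
  have hart : IsArtinianRing (A ⧸ I) := by
    rw [isArtinianRing_iff_isNilpotent_maximalIdeal]
    refine ⟨n + 1, ?_⟩
    rw [← hmap, ← Ideal.map_pow, Ideal.zero_eq_bot, Ideal.map_eq_bot_iff_le_ker, Ideal.mk_ker]
  rw [isFiniteLength_iff_isNoetherian_isArtinian]
  exact ⟨inferInstance,
    isArtinian_of_surjective_algebraMap (R := A ⧸ I) (S := A) Ideal.Quotient.mk_surjective⟩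

omit [IsNoetherianRing A] in
lemma exists_pow_kill {M : Type*} [AddCommGroup M] [Module A M] (h : IsFiniteLength A M) :
    ∃ n : ℕ, ∀ a ∈ (maximalIdeal A) ^ (n + 1), ∀ x : M, a • x = 0 := by
  obtain ⟨hN, hA⟩ := isFiniteLength_iff_isNoetherian_isArtinian.mp h
  let f : ℕ →o (Submodule A M)ᵒᵈ :=
    { toFun := fun n => OrderDual.toDual ((maximalIdeal A) ^ n • (⊤ : Submodule A M))
      monotone' := by
        intro n n' hnn'
        show (maximalIdeal A) ^ n' • (⊤ : Submodule A M) ≤ (maximalIdeal A) ^ n • ⊤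
        exact Submodule.smul_mono_left (Ideal.pow_le_pow_right hnn') }
  obtain ⟨n, hn⟩ := IsArtinian.monotone_stabilizes f
  have h1 : (maximalIdeal A) ^ n • (⊤ : Submodule A M) =
      (maximalIdeal A) ^ (n + 1) • (⊤ : Submodule A M) := by
    have := hn (n + 1) (Nat.le_succ n)
    exact congrArg OrderDual.ofDual this
  have h2 : (maximalIdeal A) ^ n • (⊤ : Submodule A M) = ⊥ := by
    apply Submodule.eq_bot_of_le_smul_of_le_jacobson_bot (maximalIdeal A)
    · exact IsNoetherian.noetherian _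
    · conv_lhs => rw [h1]
      rw [pow_succ', mul_smul]
    · exact IsLocalRing.maximalIdeal_le_jacobson _
  refine ⟨n, fun a ha x => ?_⟩
  have h3 : a • x ∈ (maximalIdeal A) ^ n • (⊤ : Submodule A M) :=
    Submodule.smul_mem_smul (Ideal.pow_le_pow_right (Nat.le_succ n) ha) Submodule.mem_top
  rw [h2] at h3
  exact (Submodule.mem_bot A).mp h3

end Noeth

section Main

variable [IsLocalRing A] [IsNoetherianRing A]
open IsLocalRing

variable (A) in
/-- the object `A ⧸ m^(n+1)` of `FinLen A`. -/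
abbrev X (n : ℕ) : Dual.FinLen A :=
  ⟨ModuleCat.of A (A ⧸ (maximalIdeal A) ^ (n + 1)), isFiniteLength_quot_pow n⟩

variable (Φ : Dual.FinLen A ⥤ Dual.FinLen A) [Φ.Additive] [Φ.Linear A]

omit [IsLocalRing A] [IsNoetherianRing A] in
lemma ann_iff [Φ.Faithful] (Z : Dual.FinLen A) (a : A) :
    (∀ x : Z.obj, a • x = 0) ↔ (∀ y : (Φ.obj Z).obj, a • y = 0) := by
  have h1 : (∀ x : Z.obj, a • x = 0) ↔ a • (LinearMap.id : Z.obj →ₗ[A] Z.obj) = 0 := by
    constructor
    · intro h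
      ext x
      simpa using h x
    · intro h x
      simpa using LinearMap.congr_fun h x
  have h2 : (∀ y : (Φ.obj Z).obj, a • y = 0) ↔
      a • (LinearMap.id : (Φ.obj Z).obj →ₗ[A] (Φ.obj Z).obj) = 0 := by
    constructor
    · intro h
      ext x
      simpa using h x
    · intro h x
      simpa using LinearMap.congr_fun h x
  rw [h1, h2]
  have h3 : Fhom Φ (a • (LinearMap.id : Z.obj →ₗ[A] Z.obj)) = a • LinearMap.id := by
    rw [map_smul, Fhom_id]
  constructor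
  · intro h
    rw [← h3, h, map_zero]
  · intro h
    apply Fhom_injective Φ
    rw [h3, h, map_zero]

instance finite_obj (Z : Dual.FinLen A) : Module.Finite A Z.obj := by
  have := (isFiniteLength_iff_isNoetherian_isArtinian.mp Z.property).1
  infer_instance

/-- the transition maps `A ⧸ m^(n'+1) → A ⧸ m^(n+1)`. -/
def tr {n n' : ℕ} (h : n ≤ n') : (X A n').obj →ₗ[A] (X A n).obj :=
  Submodule.factor (Ideal.pow_le_pow_right (Nat.succ_le_succ h))

lemma tr_comp {n n' n'' : ℕ} (h : n ≤ n') (h' : n' ≤ n'') :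
    (tr h : (X A n').obj →ₗ[A] (X A n).obj) ∘ₗ tr h' = tr (h.trans h') := by
  unfold tr
  exact Submodule.factor_comp _ _

lemma tr_refl (n : ℕ) : (tr (le_refl n) : (X A n).obj →ₗ[A] (X A n).obj) = LinearMap.id := by
  apply LinearMap.ext
  intro z
  obtain ⟨a, rfl⟩ := Ideal.Quotient.mk_surjective z
  rfl

lemma tr_one {n n' : ℕ} (h : n ≤ n') :
    (tr h : (X A n').obj →ₗ[A] (X A n).obj) (1 : A ⧸ (maximalIdeal A) ^ (n' + 1)) =
      (1 : A ⧸ (maximalIdeal A) ^ (n + 1)) := rfl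

omit [IsLocalRing A] [IsNoetherianRing A] in
lemma exists_smul_one {I : Ideal A} (z : A ⧸ I) : ∃ c : A, z = c • (1 : A ⧸ I) := by
  obtain ⟨c, rfl⟩ := Ideal.Quotient.mk_surjective z
  refine ⟨c, ?_⟩
  rw [Algebra.smul_def, mul_one]
  rfl

lemma kill_X (n : ℕ) : ∀ a ∈ (maximalIdeal A) ^ (n + 1), ∀ x : (X A n).obj, a • x = 0 :=
  fun a ha x => smul_quot a x ha

lemma ann_ΦX [Φ.Faithful] (n : ℕ) (a : A) :
    (∀ y : (Φ.obj (X A n)).obj, a • y = 0) ↔ a ∈ (maximalIdeal A) ^ (n + 1) := by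
  rw [← ann_iff]
  constructor
  · intro h
    exact mem_of_smul_one_eq_zero a (h (1 : A ⧸ (maximalIdeal A) ^ (n + 1)))
  · intro ha x
    exact smul_quot a x ha

lemma kill_ΦX [Φ.Faithful] (n : ℕ) :
    ∀ a ∈ (maximalIdeal A) ^ (n + 1), ∀ y : (Φ.obj (X A n)).obj, a • y = 0 :=
  fun a ha => (ann_ΦX Φ n a).mpr ha

/-- every map `X n' → X n` is a scalar multiple of the transition map. -/
lemma exists_eq_smul_tr {n n' : ℕ} (h : n ≤ n') (φ : (X A n').obj →ₗ[A] (X A n).obj) :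
    ∃ c : A, φ = c • tr h := by
  obtain ⟨c, hc⟩ := exists_smul_one (φ (1 : A ⧸ (maximalIdeal A) ^ (n' + 1)))
  refine ⟨c, ?_⟩
  apply LinearMap.ext
  intro z
  obtain ⟨b, rfl⟩ := exists_smul_one z
  rw [map_smul, hc, LinearMap.smul_apply, map_smul, tr_one, smul_comm]

omit [IsNoetherianRing A] in
lemma one_notMem_J0 : (1 : A) ∉ (maximalIdeal A) ^ (0 + 1) := by
  rw [zero_add, pow_one]
  exact (Ideal.ne_top_iff_one _).mp (IsLocalRing.maximalIdeal.isMaximal A).ne_top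

omit [IsNoetherianRing A] in
lemma J0_eq : (maximalIdeal A) ^ (0 + 1) = maximalIdeal A := by rw [zero_add, pow_one]

omit [IsNoetherianRing A] in
lemma isUnit_of_notMem_J0 {c : A} (hc : c ∉ (maximalIdeal A) ^ (0 + 1)) : IsUnit c := by
  rw [J0_eq] at hc
  by_contra hcn
  exact hc ((mem_maximalIdeal c).mpr hcn)

lemma exists_equiv_zero [Φ.Full] [Φ.Faithful] :
    Nonempty ((A ⧸ (maximalIdeal A) ^ (0 + 1)) ≃ₗ[A] (Φ.obj (X A 0)).obj) := by
  have hkill := kill_ΦX Φ 0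
  -- nonzero element
  obtain ⟨y0, hy0⟩ : ∃ y0 : (Φ.obj (X A 0)).obj, y0 ≠ 0 := by
    by_contra h
    push Not at h
    apply one_notMem_J0 (A := A)
    rw [← ann_ΦX Φ 0]
    intro y
    rw [h y, smul_zero]
  -- every endomorphism is scalar
  have hend : ∀ ψ : (Φ.obj (X A 0)).obj →ₗ[A] (Φ.obj (X A 0)).obj,
      ∃ a : A, ψ = a • LinearMap.id := by
    intro ψ
    obtain ⟨φ, rfl⟩ := Fhom_surjective Φ ψ
    obtain ⟨a, ha⟩ := exists_eq_smul_tr (le_refl 0) φ
    refine ⟨a, ?_⟩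
    rw [ha, map_smul, tr_refl, Fhom_id]
  -- span
  have hspan : Submodule.span A {y0} = ⊤ := by
    rw [eq_top_iff]
    intro y _
    obtain ⟨l, hl⟩ := exists_functional' _ J0_eq hkill hy0
    obtain ⟨a, ha⟩ := hend (fx _ hkill y ∘ₗ l)
    obtain ⟨c, hc⟩ := exists_smul_one (l y0)
    have hcu : IsUnit c := by
      apply isUnit_of_notMem_J0
      intro hcJ
      apply hl
      rw [hc]
      exact smul_quot c 1 hcJ
    have h1 : c • y = a • y0 := by
      have := LinearMap.congr_fun ha y0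
      rw [LinearMap.comp_apply, hc, map_smul, fx_one, LinearMap.smul_apply,
        LinearMap.id_apply] at this
      exact this
    obtain ⟨u, rfl⟩ := hcu
    rw [Submodule.mem_span_singleton]
    refine ⟨↑u⁻¹ * a, ?_⟩
    rw [mul_smul, ← h1, smul_smul, Units.inv_mul, one_smul]
  obtain ⟨θ, _⟩ := exists_equiv_of_span_eq_top _ (ann_ΦX Φ 0) y0 hspan
  exact ⟨θ⟩

section Eta

variable [Φ.Full] [Φ.Faithful]
variable (θ0 : (A ⧸ (maximalIdeal A) ^ (0 + 1)) ≃ₗ[A] (Φ.obj (X A 0)).obj)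

/-- the functional on `Φ(X n)` with values in the residue field. -/
def eta (n : ℕ) : (Φ.obj (X A n)).obj →ₗ[A] (A ⧸ (maximalIdeal A) ^ (0 + 1)) :=
  θ0.symm.toLinearMap ∘ₗ Fhom Φ (tr (Nat.zero_le n))

omit [Φ.Full] [Φ.Faithful] in
lemma eta_tr {n n' : ℕ} (h : n ≤ n') : eta Φ θ0 n ∘ₗ Fhom Φ (tr h) = eta Φ θ0 n' := by
  unfold eta
  rw [LinearMap.comp_assoc, ← Fhom_comp, tr_comp]

omit [Φ.Faithful] in
lemma eta_gen (n : ℕ) (γ : (Φ.obj (X A n)).obj →ₗ[A] (A ⧸ (maximalIdeal A) ^ (0 + 1))) :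
    ∃ c : A, γ = c • eta Φ θ0 n := by
  obtain ⟨φ, hφ⟩ := Fhom_surjective Φ (θ0.toLinearMap ∘ₗ γ)
  obtain ⟨c, hc⟩ := exists_eq_smul_tr (Nat.zero_le n) φ
  refine ⟨c, ?_⟩
  apply LinearMap.ext
  intro y
  have h1 : θ0 (γ y) = Fhom Φ φ y := by rw [hφ]; rfl
  have h2 : γ y = θ0.symm (Fhom Φ φ y) := by rw [← h1, LinearEquiv.symm_apply_apply]
  rw [h2, hc, map_smul, LinearMap.smul_apply, map_smul, LinearMap.smul_apply]
  rfl

omit [Φ.Full] in
lemma exists_eta_ne (n : ℕ) : ∃ e : (Φ.obj (X A n)).obj, eta Φ θ0 n e ≠ 0 := by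
  by_contra h
  push Not at h
  have h1 : Fhom Φ (tr (Nat.zero_le n) : (X A n).obj →ₗ[A] (X A 0).obj) = 0 := by
    apply LinearMap.ext
    intro y
    have := h y
    unfold eta at this
    rw [LinearMap.comp_apply] at this
    have h2 := congrArg θ0 this
    rw [LinearEquiv.coe_coe, LinearEquiv.apply_symm_apply, map_zero] at h2
    rw [h2, LinearMap.zero_apply]
  have h3 : (tr (Nat.zero_le n) : (X A n).obj →ₗ[A] (X A 0).obj) = 0 := by
    apply Fhom_injective Φ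
    rw [h1, map_zero]
  have h4 := LinearMap.congr_fun h3 (1 : A ⧸ (maximalIdeal A) ^ (n + 1))
  rw [tr_one, LinearMap.zero_apply] at h4
  apply one_notMem_J0 (A := A)
  apply mem_of_smul_one_eq_zero
  rw [one_smul]
  exact h4

omit [Φ.Faithful] in
lemma span_of_eta_ne (n : ℕ) (e : (Φ.obj (X A n)).obj) (he : eta Φ θ0 n e ≠ 0) :
    Submodule.span A {e} = ⊤ :=
  span_singleton_eq_top_of_functional' _ J0_eq (eta Φ θ0 n) (eta_gen Φ θ0 n) e he

omit [Φ.Full] in
lemma eta_ne_of_span (n : ℕ) (e : (Φ.obj (X A n)).obj) (he : Submodule.span A {e} = ⊤) :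
    eta Φ θ0 n e ≠ 0 := by
  intro h0
  obtain ⟨e', he'⟩ := exists_eta_ne Φ θ0 n
  apply he'
  have hmem : e' ∈ Submodule.span A {e} := by rw [he]; trivial
  obtain ⟨b, rfl⟩ := Submodule.mem_span_singleton.mp hmem
  rw [map_smul, h0, smul_zero]

lemma exists_lift (n : ℕ) (e : (Φ.obj (X A n)).obj) (he : eta Φ θ0 n e ≠ 0) :
    ∃ e' : (Φ.obj (X A (n + 1))).obj, eta Φ θ0 (n + 1) e' ≠ 0 ∧
      Fhom Φ (tr (Nat.le_succ n)) e' = e := by
  obtain ⟨e'', he''⟩ := exists_eta_ne Φ θ0 (n + 1)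
  have hspan := span_of_eta_ne Φ θ0 n e he
  have hmem : Fhom Φ (tr (Nat.le_succ n)) e'' ∈ Submodule.span A {e} := by rw [hspan]; trivial
  obtain ⟨u, hu⟩ := Submodule.mem_span_singleton.mp hmem
  have h1 : u • eta Φ θ0 n e = eta Φ θ0 (n + 1) e'' := by
    rw [← map_smul, hu, ← eta_tr Φ θ0 (Nat.le_succ n)]
    rfl
  have huu : IsUnit u := by
    apply isUnit_of_notMem_J0
    intro huJ
    apply he''
    rw [← h1]
    exact smul_quot u _ huJ
  obtain ⟨v, rfl⟩ := huu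
  refine ⟨(↑v⁻¹ : A) • e'', ?_, ?_⟩
  · rw [map_smul]
    intro h0
    apply he''
    have := congrArg (fun w => (v : A) • w) h0
    simpa [smul_smul] using this
  · rw [map_smul, ← hu, smul_smul, Units.inv_mul, one_smul]

lemma exists_seq : ∃ e : ∀ n, (Φ.obj (X A n)).obj, (∀ n, eta Φ θ0 n (e n) ≠ 0) ∧
    ∀ n, Fhom Φ (tr (Nat.le_succ n)) (e (n + 1)) = e n := by
  obtain ⟨e0, he0⟩ := exists_eta_ne Φ θ0 0
  let E : ∀ n, {e : (Φ.obj (X A n)).obj // eta Φ θ0 n e ≠ 0} := fun n =>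
    Nat.rec ⟨e0, he0⟩ (fun n prev =>
      ⟨Classical.choose (exists_lift Φ θ0 n prev.1 prev.2),
        (Classical.choose_spec (exists_lift Φ θ0 n prev.1 prev.2)).1⟩) n
  refine ⟨fun n => (E n).1, fun n => (E n).2, fun n => ?_⟩
  exact (Classical.choose_spec (exists_lift Φ θ0 n (E n).1 (E n).2)).2

omit [Φ.Full] [Φ.Faithful] in
lemma seq_compat (e : ∀ n, (Φ.obj (X A n)).obj)
    (hcompat : ∀ n, Fhom Φ (tr (Nat.le_succ n)) (e (n + 1)) = e n) {n n' : ℕ} (h : n ≤ n') :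
    Fhom Φ (tr h) (e n') = e n := by
  induction n', h using Nat.le_induction with
  | base => rw [tr_refl, Fhom_id]; rfl
  | succ n' hnn' ih =>
    have : (tr (hnn'.trans (Nat.le_succ n')) : (X A (n' + 1)).obj →ₗ[A] (X A n).obj) =
        tr hnn' ∘ₗ tr (Nat.le_succ n') := (tr_comp _ _).symm
    rw [this, Fhom_comp, LinearMap.comp_apply, hcompat, ih]

end Eta

section NatIso

variable [Φ.Full] [Φ.Faithful]
variable (e : ∀ n, (Φ.obj (X A n)).obj)

/-- the comparison map `M → Φ M` at level `n`. -/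
def etaFun (M : Dual.FinLen A) (n : ℕ)
    (hM : ∀ a ∈ (maximalIdeal A) ^ (n + 1), ∀ x : M.obj, a • x = 0) :
    M.obj →ₗ[A] (Φ.obj M).obj where
  toFun x := Fhom Φ (fx _ hM x : (X A n).obj →ₗ[A] M.obj) (e n)
  map_add' x y := by rw [fx_add, map_add, LinearMap.add_apply]
  map_smul' b x := by rw [fx_smul, map_smul, LinearMap.smul_apply, RingHom.id_apply]

omit [Φ.Full] [Φ.Faithful] in
lemma etaFun_apply (M : Dual.FinLen A) (n : ℕ)
    (hM : ∀ a ∈ (maximalIdeal A) ^ (n + 1), ∀ x : M.obj, a • x = 0) (x : M.obj) :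
    etaFun Φ e M n hM x = Fhom Φ (fx _ hM x : (X A n).obj →ₗ[A] M.obj) (e n) := rfl

omit [Φ.Full] [Φ.Faithful] in
lemma etaFun_eq_of_le (hcompat : ∀ n, Fhom Φ (tr (Nat.le_succ n)) (e (n + 1)) = e n)
    (M : Dual.FinLen A) {n n' : ℕ} (h : n ≤ n')
    (hM : ∀ a ∈ (maximalIdeal A) ^ (n + 1), ∀ x : M.obj, a • x = 0)
    (hM' : ∀ a ∈ (maximalIdeal A) ^ (n' + 1), ∀ x : M.obj, a • x = 0) :
    etaFun Φ e M n hM = etaFun Φ e M n' hM' := by
  apply LinearMap.ext
  intro x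
  rw [etaFun_apply, etaFun_apply]
  have : (fx _ hM' x : (X A n').obj →ₗ[A] M.obj) =
      (fx _ hM x : (X A n).obj →ₗ[A] M.obj) ∘ₗ tr h :=
    (fx_comp_factor (Ideal.pow_le_pow_right (Nat.succ_le_succ h)) hM hM' x).symm
  rw [this, Fhom_comp Φ (X := X A n') (Y := X A n) (Z := M), LinearMap.comp_apply,
    seq_compat Φ e hcompat h]

omit [Φ.Full] [Φ.Faithful] in
lemma etaFun_eq (hcompat : ∀ n, Fhom Φ (tr (Nat.le_succ n)) (e (n + 1)) = e n)
    (M : Dual.FinLen A) (n n' : ℕ)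
    (hM : ∀ a ∈ (maximalIdeal A) ^ (n + 1), ∀ x : M.obj, a • x = 0)
    (hM' : ∀ a ∈ (maximalIdeal A) ^ (n' + 1), ∀ x : M.obj, a • x = 0) :
    etaFun Φ e M n hM = etaFun Φ e M n' hM' := by
  rcases le_total n n' with h | h
  · exact etaFun_eq_of_le Φ e hcompat M h hM hM'
  · exact (etaFun_eq_of_le Φ e hcompat M h hM' hM).symm

omit [Φ.Full] [Φ.Faithful] in
lemma etaFun_natural (M N : Dual.FinLen A) (g : M.obj →ₗ[A] N.obj) (n : ℕ)
    (hM : ∀ a ∈ (maximalIdeal A) ^ (n + 1), ∀ x : M.obj, a • x = 0)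
    (hN : ∀ a ∈ (maximalIdeal A) ^ (n + 1), ∀ x : N.obj, a • x = 0) :
    Fhom Φ g ∘ₗ etaFun Φ e M n hM = etaFun Φ e N n hN ∘ₗ g := by
  apply LinearMap.ext
  intro x
  rw [LinearMap.comp_apply, etaFun_apply, LinearMap.comp_apply, etaFun_apply,
    ← LinearMap.comp_apply, ← Fhom_comp, comp_fx hM hN]

omit [Φ.Full] in
lemma etaFun_injective (hgen : ∀ n, Submodule.span A {e n} = ⊤) (M : Dual.FinLen A) (n : ℕ)
    (hM : ∀ a ∈ (maximalIdeal A) ^ (n + 1), ∀ x : M.obj, a • x = 0) :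
    Function.Injective (etaFun Φ e M n hM) := by
  rw [← LinearMap.ker_eq_bot, LinearMap.ker_eq_bot']
  intro x hx
  rw [etaFun_apply] at hx
  have h1 : Fhom Φ (X := X A n) (Y := M) (fx _ hM x) = 0 := by
    apply LinearMap.ext
    intro y
    have hy : y ∈ Submodule.span A {e n} := by rw [hgen n]; trivial
    obtain ⟨b, rfl⟩ := Submodule.mem_span_singleton.mp hy
    rw [map_smul, hx, smul_zero, LinearMap.zero_apply]
  have h2 : (fx _ hM x : (X A n).obj →ₗ[A] M.obj) = 0 := by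
    apply Fhom_injective Φ (X := X A n) (Y := M)
    rw [h1, map_zero]
  have h3 := LinearMap.congr_fun h2 (1 : A ⧸ (maximalIdeal A) ^ (n + 1))
  rw [fx_one, LinearMap.zero_apply] at h3
  exact h3

lemma etaFun_surjective (hgen : ∀ n, Submodule.span A {e n} = ⊤) (M : Dual.FinLen A) (n : ℕ)
    (hM : ∀ a ∈ (maximalIdeal A) ^ (n + 1), ∀ x : M.obj, a • x = 0) :
    Function.Surjective (etaFun Φ e M n hM) := by
  intro y
  have hΦM : ∀ a ∈ (maximalIdeal A) ^ (n + 1), ∀ z : (Φ.obj M).obj, a • z = 0 :=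
    fun a ha => (ann_iff Φ M a).mp (hM a ha)
  obtain ⟨θ, hθ⟩ := exists_equiv_of_span_eq_top _ (ann_ΦX Φ n) (e n) (hgen n)
  obtain ⟨g, hg⟩ := Fhom_surjective Φ (X := X A n) (Y := M)
    (fx _ hΦM y ∘ₗ θ.symm.toLinearMap)
  refine ⟨g (1 : A ⧸ (maximalIdeal A) ^ (n + 1)), ?_⟩
  rw [etaFun_apply, ← eq_fx hM g, hg, LinearMap.comp_apply]
  have : θ.symm (e n) = 1 := by
    rw [← hθ, LinearEquiv.symm_apply_apply]
    rfl
  rw [LinearEquiv.coe_coe, this, fx_one]

end NatIso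

/-- **Main theorem**: a fully faithful additive `A`-linear endofunctor of the category of finite
length modules over a Noetherian local ring is isomorphic to the identity. -/
theorem nonempty_iso_id [Φ.Full] [Φ.Faithful] : Nonempty (Φ ≅ 𝟭 (Dual.FinLen A)) := by
  obtain ⟨θ0⟩ := exists_equiv_zero Φ
  obtain ⟨e, he, hcompat⟩ := exists_seq Φ θ0
  have hgen : ∀ n, Submodule.span A {e n} = ⊤ := fun n => span_of_eta_ne Φ θ0 n (e n) (he n)
  have hN : ∀ M : Dual.FinLen A, ∃ n : ℕ,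
      ∀ a ∈ (maximalIdeal A) ^ (n + 1), ∀ x : M.obj, a • x = 0 :=
    fun M => exists_pow_kill M.property
  choose nn hnn using hN
  let η : ∀ M : Dual.FinLen A, M.obj ≃ₗ[A] (Φ.obj M).obj := fun M =>
    LinearEquiv.ofBijective (etaFun Φ e M (nn M) (hnn M))
      ⟨etaFun_injective Φ e hgen M _ _, etaFun_surjective Φ e hgen M _ _⟩
  let iso : ∀ M : Dual.FinLen A, M ≅ Φ.obj M := fun M =>
    { hom := homOf (η M).toLinearMap
      inv := homOf (η M).symm.toLinearMap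
      hom_inv_id := by
        apply toLin_injective
        rw [toLin_comp, toLin_homOf, toLin_homOf, toLin_id]
        exact (η M).symm_comp
      inv_hom_id := by
        apply toLin_injective
        rw [toLin_comp, toLin_homOf, toLin_homOf, toLin_id]
        exact (η M).comp_symm }
  refine ⟨(NatIso.ofComponents iso ?_).symm⟩
  intro M N f
  apply toLin_injective
  have h1 : toLin ((𝟭 (Dual.FinLen A)).map f ≫ (iso N).hom) = (η N).toLinearMap ∘ₗ toLin f := rfl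
  have h2 : toLin ((iso M).hom ≫ Φ.map f) = Fhom Φ (toLin f) ∘ₗ (η M).toLinearMap := rfl
  rw [h1, h2]
  set n := max (nn M) (nn N) with hn
  have hM : ∀ a ∈ (maximalIdeal A) ^ (n + 1), ∀ x : M.obj, a • x = 0 := fun a ha =>
    hnn M a (Ideal.pow_le_pow_right (Nat.succ_le_succ (le_max_left _ _)) ha)
  have hN : ∀ a ∈ (maximalIdeal A) ^ (n + 1), ∀ x : N.obj, a • x = 0 := fun a ha =>
    hnn N a (Ideal.pow_le_pow_right (Nat.succ_le_succ (le_max_right _ _)) ha)
  have h3 : (η M).toLinearMap = etaFun Φ e M n hM := etaFun_eq Φ e hcompat M _ _ _ _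
  have h4 : (η N).toLinearMap = etaFun Φ e N n hN := etaFun_eq Φ e hcompat N _ _ _ _
  rw [h3, h4]
  exact (etaFun_natural Φ e M N (toLin f) n hM hN).symm

end Main

end Groth.Agent.Lib.helper15.FinLenEquiv
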