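import Mathlib
import Groth.Prelude.Def_Red2
import Groth.Agent.Lib.Helper15.GaGm
import Groth.Agent.Lib.Helper15.HopfDict
import Groth.Agent.Lib.Helper15.SekSuwaActSch

/-!
# The Hopf algebra of `𝔾_a` over `Spec k` is a polynomial ring on a primitive element (helper15)

If `e : Red.Ga (Spec k) ≅ Spec A` is an isomorphism of group schemes (`A` a Hopf algebra over `k`),
then there is a primitive `t : A` with `k[X] → A`, `X ↦ t`, bijective.  (Yoneda, via `gaFn`.)
-/

set_option autoImplicit false
universe u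

namespace Groth.Agent.Lib.helper15.GaBridge

open CategoryTheory MonoidalCategory CartesianMonoidalCategory MonObj GrpObj AlgebraicGeometry Limits
open scoped TensorProduct
open Groth.Agent.Lib.helper15.GaGm Groth.Agent.Lib.helper15.HopfDict WithConv

variable {k : Type u} [CommRing k] {A : Type u} [CommRing A] [HopfAlgebra k A]
  (e : Red.Ga (Spec (CommRingCat.of k)) ≅ HopfDict.GA k A)

/-- the element of `D` attached to a `D`-valued point of `Spec A ≅ 𝔾_a`. -/
noncomputable def Phi (D : Type u) [CommRing D] [Algebra k D] (a : A →ₐ[k] D) : D :=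
  (Scheme.ΓSpecIso (CommRingCat.of D)).hom
    (Red.gaFn (Spec.mapMulEquiv (R := k) (S := A) (T := D) (toConv a) ≫ e.inv))

lemma Phi_comp {D D' : Type u} [CommRing D] [Algebra k D] [CommRing D'] [Algebra k D']
    (g : D →ₐ[k] D') (a : A →ₐ[k] D) : Phi e D' (g.comp a) = g (Phi e D a) := by
  unfold Phi
  have h1 := Groth.Agent.Lib.helper15.SekSuwaActSch.mapMulEquiv_comp (R := k) g (toConv a)
  rw [ofConv_toConv] at h1
  rw [h1, Category.assoc, gaFn_comp]
  have h2 := Scheme.ΓSpecIso_naturality (CommRingCat.ofHom g.toRingHom)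
  have h3 := congrArg (fun φ => φ.hom (Red.gaFn (Spec.mapMulEquiv (R := k) (S := A) (T := D)
    (toConv a) ≫ e.inv))) h2
  exact h3

lemma Phi_mul [IsMonHom e.inv] (D : Type u) [CommRing D] [Algebra k D] (a a' : A →ₐ[k] D) :
    Phi e D (ofConv (toConv a * toConv a')) = Phi e D a + Phi e D a' := by
  have h1 : Red.gaFn (Spec.mapMulEquiv (R := k) (S := A) (T := D)
      (toConv (ofConv (toConv a * toConv a'))) ≫ e.inv) =
      Red.gaFn (Spec.mapMulEquiv (R := k) (S := A) (T := D) (toConv a) ≫ e.inv) +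
      Red.gaFn (Spec.mapMulEquiv (R := k) (S := A) (T := D) (toConv a') ≫ e.inv) := by
    rw [toConv_ofConv, map_mul, MonObj.mul_comp (Spec.mapMulEquiv (R := k) (S := A) (T := D)
      (toConv a)) (Spec.mapMulEquiv (R := k) (S := A) (T := D) (toConv a')) e.inv, gaFn_mul]
  unfold Phi
  exact (congrArg _ h1).trans (map_add _ _ _)

lemma Phi_injective (D : Type u) [CommRing D] [Algebra k D] :
    Function.Injective (Phi e D) := by
  intro a a' h
  unfold Phi at h
  have h1 : Function.Injective (Scheme.ΓSpecIso (CommRingCat.of D)).hom := by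
    intro x y hxy
    have := congrArg (Scheme.ΓSpecIso (CommRingCat.of D)).inv hxy
    simpa using this
  have h2 := gaFn_injective (h1 h)
  have h3 := (cancel_mono e.inv).mp h2
  exact toConv_injective (Spec.mapMulEquiv.injective h3)

lemma Phi_surjective (D : Type u) [CommRing D] [Algebra k D] :
    Function.Surjective (Phi e D) := by
  intro d
  obtain ⟨x, hx⟩ := exists_gaFn_eq (S := Spec (CommRingCat.of k))
    (X := HopfDict.GA k D) ((Scheme.ΓSpecIso (CommRingCat.of D)).inv d)
  refine ⟨ofConv (Spec.mapMulEquiv.symm (x ≫ e.hom)), ?_⟩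
  unfold Phi
  rw [toConv_ofConv, MulEquiv.apply_symm_apply, Category.assoc, e.hom_inv_id, Category.comp_id, hx]
  exact Iso.inv_hom_id_apply (C := CommRingCat) _ _

/-- the universal element (the coordinate of `𝔾_a` in `A`). -/
noncomputable def tEl : A := Phi e A (AlgHom.id k A)

lemma Phi_eq (D : Type u) [CommRing D] [Algebra k D] (a : A →ₐ[k] D) :
    Phi e D a = a (tEl e) := by
  have h := Phi_comp e a (AlgHom.id k A)
  rwa [AlgHom.comp_id] at h

lemma comulAlgHom_eq_conv :
    Bialgebra.comulAlgHom k A =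
      ofConv (toConv (Algebra.TensorProduct.includeLeft : A →ₐ[k] A ⊗[k] A) *
        toConv (Algebra.TensorProduct.includeRight : A →ₐ[k] A ⊗[k] A)) := by
  ext a
  change _ = (toConv (Algebra.TensorProduct.includeLeft : A →ₐ[k] A ⊗[k] A) *
        toConv (Algebra.TensorProduct.includeRight : A →ₐ[k] A ⊗[k] A)) a
  rw [AlgHom.convMul_apply]
  have h : Algebra.TensorProduct.lift (Algebra.TensorProduct.includeLeft : A →ₐ[k] A ⊗[k] A)
      (Algebra.TensorProduct.includeRight : A →ₐ[k] A ⊗[k] A) (fun _ _ => .all ..) =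
      AlgHom.id k (A ⊗[k] A) := by
    ext x
    · simp
    · simp
  rw [h]
  rfl

lemma comul_tEl [IsMonHom e.inv] :
    Coalgebra.comul (R := k) (tEl e) = tEl e ⊗ₜ[k] 1 + 1 ⊗ₜ[k] tEl e := by
  have h1 : Phi e (A ⊗[k] A) (Bialgebra.comulAlgHom k A) = Coalgebra.comul (R := k) (tEl e) :=
    Phi_eq e _ _
  rw [← h1, comulAlgHom_eq_conv, Phi_mul, Phi_eq, Phi_eq]
  rfl

/-- `A` is the polynomial ring on `tEl`. -/
theorem aeval_tEl_bijective :
    Function.Bijective (Polynomial.aeval (R := k) (tEl e)) := by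
  obtain ⟨σ, hσ⟩ := Phi_surjective e (Polynomial k) Polynomial.X
  rw [Phi_eq] at hσ
  have h1 : (Polynomial.aeval (R := k) (tEl e)).comp σ = AlgHom.id k A := by
    apply Phi_injective e A
    rw [Phi_eq, Phi_eq, AlgHom.comp_apply, hσ, Polynomial.aeval_X]
    rfl
  have h2 : σ.comp (Polynomial.aeval (R := k) (tEl e)) = AlgHom.id k (Polynomial k) := by
    apply Polynomial.algHom_ext
    rw [AlgHom.comp_apply, Polynomial.aeval_X, hσ]
    rfl
  refine ⟨?_, ?_⟩
  · intro x y hxy
    have := congrArg σ hxy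
    rw [← AlgHom.comp_apply, ← AlgHom.comp_apply, h2] at this
    exact this
  · intro a
    refine ⟨σ a, ?_⟩
    rw [← AlgHom.comp_apply, h1]
    rfl

end Groth.Agent.Lib.helper15.GaBridge
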