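import Mathlib
import Groth.Agent.Lib.Helper15.HopfSubPoly
import Groth.Agent.Lib.Helper15.QuotHopf

/-!
# Finite quotients of the Hopf algebra `k[t]` of `𝔾_a` (helper15)

`A = k[t]` with `t` primitive, `π : A → C` a surjective bialgebra map onto a finite-dimensional
Hopf algebra.  Then `ker π = (P)` with `P` primitive and nonzero, and the bialgebra endomorphism
`ψ : t ↦ P` is injective with `π ∘ ψ` trivial and `ker π ⊆ A ψ(A⁺)`.
-/

set_option autoImplicit false
set_option linter.unusedSectionVars false
universe u v w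
open TensorProduct Polynomial

namespace Groth.Agent.Lib.helper15.GaQuot

open Groth.Agent.Lib.helper15.HopfSubalg Groth.Agent.Lib.helper15.LieInv
  Groth.Agent.Lib.helper15.HopfSubPoly Groth.Agent.Lib.helper15.QuotHopf

variable {k : Type u} [Field k] {A : Type v} [CommRing A] [HopfAlgebra k A]
  {C : Type w} [CommRing C] [HopfAlgebra k C]

/-- the generator of the kernel of a bialgebra map out of `k[t]` is primitive. -/
theorem isPrim_of_ker_eq_span {t : A} (ht : IsPrim (k := k) t)
    (hbij : Function.Bijective (Polynomial.aeval (R := k) t)) (π : A →ₐc[k] C) (p : k[X])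
    (hI : ∀ y, π y = 0 ↔ y ∈ Ideal.span {Polynomial.aeval t p}) :
    IsPrim (k := k) (Polynomial.aeval t p) := by
  by_cases hp : p = 0
  · subst hp
    rw [map_zero, isPrim_iff_primDefect, map_zero]
  have hPI : π (Polynomial.aeval t p) = 0 := (hI _).2 (Ideal.subset_span rfl)
  have hp0 : p.coeff 0 = 0 := by
    have h1 : Coalgebra.counit (R := k) (Polynomial.aeval t p) = 0 := by
      rw [← CoalgHomClass.counit_comp_apply π, hPI, map_zero]
    have h1' : Bialgebra.counitAlgHom k A (Polynomial.aeval t p) = 0 := h1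
    rw [← Polynomial.aeval_algHom_apply] at h1'
    have h2 : Bialgebra.counitAlgHom k A t = 0 := counit_of_isPrim ht
    rw [h2, ← Polynomial.coeff_zero_eq_aeval_zero] at h1'
    exact h1'
  rw [isPrim_iff_primDefect]
  obtain ⟨w, hw⟩ := primDefect_aeval_mem ht (Vd t p.natDegree) p
    (fun i hi => pow_mem_Vd t _ i hi) hp0
  set πa : A →ₐ[k] C := (π : A →ₐ[k] C) with hπa
  have h0 : Algebra.TensorProduct.map πa πa (primDefect (k := k) (Polynomial.aeval t p)) = 0 := by
    rw [primDefect_apply, map_sub, map_sub, Algebra.TensorProduct.map_tmul,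
      Algebra.TensorProduct.map_tmul]
    have h1 : πa (Polynomial.aeval t p) = 0 := hPI
    rw [h1, TensorProduct.zero_tmul, TensorProduct.tmul_zero, sub_zero, sub_zero]
    have h2 := CoalgHomClass.map_comp_comul_apply π (Polynomial.aeval t p)
    rw [hPI, map_zero] at h2
    rw [← h2]
    induction Coalgebra.comul (R := k) (Polynomial.aeval t p) using TensorProduct.induction_on with
    | zero => simp
    | tmul x y => rfl
    | add x y hx hy => rw [map_add, map_add, hx, hy]
  set Vs := (Vd (k := k) t p.natDegree).subtype with hVs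
  have hinj : Function.Injective (πa.toLinearMap ∘ₗ Vs) := by
    rw [← LinearMap.ker_eq_bot, LinearMap.ker_eq_bot']
    intro v hv
    have hv1 : (v : A) ∈ Ideal.span {Polynomial.aeval t p} := (hI _).1 hv
    exact Subtype.ext (eq_zero_of_mem_Vd_of_mem_span hbij p hp v v.2 hv1)
  have hinj2 := TensorProduct.map_injective_of_flat_flat _ _ hinj hinj
  have hw0 : w = 0 := by
    apply hinj2
    rw [map_zero, TensorProduct.map_comp]
    change Algebra.TensorProduct.map πa πa (TensorProduct.map Vs Vs w) = 0
    rw [hw, h0]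
  rw [← hw, hw0, map_zero]

/-- **Finite subgroups of `𝔾_a`**: an injective bialgebra endomorphism of `k[t]` whose "kernel" is
the given finite quotient. -/
theorem exists_endo [Module.Finite k C] {t : A} (ht : IsPrim (k := k) t)
    (hbij : Function.Bijective (Polynomial.aeval (R := k) t)) (π : A →ₐc[k] C)
    (hπ : Function.Surjective π) :
    ∃ ψ : A →ₐc[k] A, Function.Injective ψ ∧ (∀ y, π y = 0 → y ∈ augI ψ) ∧
      ∀ b, π (ψ b) = algebraMap k C (Coalgebra.counit (R := k) b) := by
  have hpid : IsPrincipalIdealRing A :=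
    IsPrincipalIdealRing.of_surjective (Polynomial.aeval (R := k) t).toRingHom hbij.2
  obtain ⟨P, hP⟩ := (IsPrincipalIdealRing.principal
    (RingHom.ker ((π : A →ₐ[k] C) : A →+* C))).principal
  obtain ⟨p, rfl⟩ := hbij.2 P
  have hI : ∀ y, π y = 0 ↔ y ∈ Ideal.span {Polynomial.aeval t p} := by
    intro y
    have : y ∈ RingHom.ker ((π : A →ₐ[k] C) : A →+* C) ↔ π y = 0 := RingHom.mem_ker
    rw [← this, hP]
  have hprim := isPrim_of_ker_eq_span ht hbij π p hI
  have hP0 : Polynomial.aeval t p ≠ 0 := by
    intro h0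
    have hinj : Function.Injective π := by
      rw [injective_iff_map_eq_zero]
      intro y hy
      have := (hI y).1 hy
      rw [h0, Ideal.mem_span_singleton, zero_dvd_iff] at this
      exact this
    have : Module.Finite k A := Module.Finite.of_injective (π : A →ₐ[k] C).toLinearMap hinj
    have h6 : IsIntegral k t := Algebra.IsIntegral.isIntegral t
    obtain ⟨q, hq, hq0⟩ := h6
    have h7 : Polynomial.aeval t q = 0 := hq0
    have h8 : q = 0 := hbij.1 (by rw [h7, map_zero])
    exact hq.ne_zero h8
  refine ⟨sigma ht hbij hprim, sigmaAlg_injective ht hbij hprim hP0, ?_, ?_⟩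
  · intro y hy
    have h1 := (hI y).1 hy
    rw [Ideal.mem_span_singleton] at h1
    obtain ⟨c, rfl⟩ := h1
    rw [mul_comm]
    refine Ideal.mul_mem_left _ _ (Ideal.subset_span ⟨t, counit_of_isPrim ht, ?_⟩)
    rw [sigma_apply, sigmaAlg_t]
  · have h1 : (π : A →ₐ[k] C).comp ((sigma ht hbij hprim : A →ₐc[k] A) : A →ₐ[k] A) =
        (Algebra.ofId k C).comp (Bialgebra.counitAlgHom k A) := by
      apply algHom_ext_of_aeval_surjective hbij.2
      change π (sigma ht hbij hprim t) = algebraMap k C (Coalgebra.counit (R := k) t)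
      rw [sigma_apply, sigmaAlg_t, (hI _).2 (Ideal.subset_span rfl), counit_of_isPrim ht,
        map_zero]
    intro b
    exact AlgHom.congr_fun h1 b

end Groth.Agent.Lib.helper15.GaQuot
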