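import Mathlib
import Groth.Agent.Lib.Helper15.QuotHopf

/-!
# Finite quotients of the Hopf algebra `k[ℤ]` of `𝔾_m` (helper15)

`L = k[ℤ]`, `π : L → C` a bialgebra map onto a finite-dimensional Hopf algebra.  Then there is
`n > 0` such that the bialgebra endomorphism `ψ : T ↦ T^n` is injective with `π ∘ ψ` trivial and
`ker π ⊆ L ψ(L⁺)`.
-/

set_option autoImplicit false
set_option linter.unusedSectionVars false
universe u v w
open TensorProduct

namespace Groth.Agent.Lib.helper15.GmQuot

open Groth.Agent.Lib.helper15.QuotHopf MonoidAlgebra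

variable {k : Type u} [Field k] {C : Type w} [CommRing C] [HopfAlgebra k C] [Module.Finite k C]

/-- the group `ℤ`, written multiplicatively. -/
abbrev ZG : Type := Multiplicative ℤ

/-- the group algebra `k[ℤ]`. -/
abbrev LZ (k : Type u) [Field k] : Type u := MonoidAlgebra k (Multiplicative ℤ)

/-- the basis element `T^m`. -/
noncomputable def e (m : ℤ) : LZ k := single (Multiplicative.ofAdd m) (1 : k)

lemma e_add (a b : ℤ) : e (k := k) (a + b) = e a * e b := by
  unfold e
  rw [single_mul_single, ofAdd_add, one_mul]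

lemma e_zero : e (k := k) 0 = 1 := rfl

variable (π : LZ k →ₐc[k] C)

/-- `m ↦ π(T^m)`. -/
noncomputable def uHom : ZG →* C := ((π : LZ k →ₐ[k] C) : LZ k →* C).comp (of k ZG)

lemma uHom_apply (g : ZG) : uHom π g = π (single g (1 : k)) := rfl

lemma isGroupLike_uHom (g : ZG) : IsGroupLikeElem k (uHom π g) :=
  IsGroupLikeElem.map π
    (isGroupLikeElem_single_one (R := k) (A := k) g : IsGroupLikeElem k (single g (1 : k) : LZ k))

lemma pi_eq_linearCombination (z : LZ k) :
    π z = Finsupp.linearCombination k (fun g : ZG => uHom π g) z.coeff := by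
  induction z using MonoidAlgebra.induction_linear with
  | zero => simp
  | add x y hx hy => rw [map_add, hx, hy, coeff_add, map_add]
  | single g c =>
    rw [coeff_single, Finsupp.linearCombination_single, uHom_apply]
    have : single g c = c • single g (1 : k) := by
      rw [smul_single, smul_eq_mul, mul_one]
    rw [this, map_smul]

/-- there is a positive `n` with `π(T^n) = 1`. -/
lemma exists_pos_uHom_eq_one : ∃ n : ℕ, 0 < n ∧ uHom π (Multiplicative.ofAdd (n : ℤ)) = 1 := by
  have hli : LinearIndependent k (GroupLike.val (R := k) (A := C)) := linearIndep_groupLikeVal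
  have : Finite (GroupLike k C) := hli.finite
  let f : ℕ → GroupLike k C := fun m => ⟨uHom π (Multiplicative.ofAdd (m : ℤ)), isGroupLike_uHom π _⟩
  obtain ⟨a, b, hab, hf⟩ := Finite.exists_ne_map_eq_of_infinite f
  have hval : uHom π (Multiplicative.ofAdd (a : ℤ)) = uHom π (Multiplicative.ofAdd (b : ℤ)) :=
    congrArg GroupLike.val hf
  -- wlog a < b
  have key : ∀ a b : ℕ, a < b →
      uHom π (Multiplicative.ofAdd (a : ℤ)) = uHom π (Multiplicative.ofAdd (b : ℤ)) →
      ∃ n : ℕ, 0 < n ∧ uHom π (Multiplicative.ofAdd (n : ℤ)) = 1 := by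
    intro a b hlt h
    refine ⟨b - a, Nat.sub_pos_of_lt hlt, ?_⟩
    have h1 : (Multiplicative.ofAdd ((b - a : ℕ) : ℤ) : ZG) =
        Multiplicative.ofAdd (b : ℤ) * Multiplicative.ofAdd (-(a : ℤ)) := by
      rw [← ofAdd_add]
      congr 1
      omega
    have h2 : uHom π (Multiplicative.ofAdd (a : ℤ)) * uHom π (Multiplicative.ofAdd (-(a : ℤ))) = 1 := by
      rw [← map_mul, ← ofAdd_add, add_neg_cancel]
      exact map_one _
    rw [h1, map_mul, ← h, h2]
  rcases lt_or_gt_of_ne hab with h | h
  · exact key a b h hval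
  · exact key b a h hval.symm

lemma pi_single (g : ZG) (c : k) : π (single g c) = c • uHom π g := by
  have : single g c = c • single g (1 : k) := by
    rw [smul_single, smul_eq_mul, mul_one]
  rw [this, map_smul, uHom_apply]

/-- **Finite subgroups of `𝔾_m`**: an injective bialgebra endomorphism of `k[ℤ]` whose "kernel" is
the given finite quotient. -/
theorem exists_endo :
    ∃ ψ : LZ k →ₐc[k] LZ k, Function.Injective ψ ∧ (∀ y, π y = 0 → y ∈ augI ψ) ∧
      ∀ b, π (ψ b) = algebraMap k C (Coalgebra.counit (R := k) b) := by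
  classical
  have hex := exists_pos_uHom_eq_one π
  set n := Nat.find hex with hn
  obtain ⟨hn0, hn1⟩ := Nat.find_spec hex
  have hmin : ∀ m : ℕ, 0 < m → m < n → uHom π (Multiplicative.ofAdd (m : ℤ)) ≠ 1 :=
    fun m h0 hlt h1 => Nat.find_min hex hlt ⟨h0, h1⟩
  have hnz : (n : ℤ) ≠ 0 := by exact_mod_cast hn0.ne'
  have hnpos : (0 : ℤ) < n := by exact_mod_cast hn0
  let ψ : LZ k →ₐc[k] LZ k := mapDomainBialgHom k (powMonoidHom n : ZG →* ZG)
  have hψs : ∀ (g : ZG) (c : k), ψ (single g c) = single (g ^ n) c := fun g c =>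
    mapDomainBialgHom_single (powMonoidHom n : ZG →* ZG) g c
  let uU : ZG →* Cˣ := (uHom π).toHomUnits
  have huU : ∀ g, ((uU g : Cˣ) : C) = uHom π g := fun g => rfl
  have hpow : ∀ g : ZG, uHom π (g ^ n) = 1 := by
    intro g
    have h1 : g ^ n = (Multiplicative.ofAdd (n : ℤ)) ^ (Multiplicative.toAdd g) := by
      apply Multiplicative.toAdd.injective
      rw [toAdd_pow, toAdd_zpow, toAdd_ofAdd, nsmul_eq_mul, smul_eq_mul, mul_comm]
    have h2 : uU (Multiplicative.ofAdd (n : ℤ)) = 1 := Units.ext hn1
    rw [h1, ← huU, map_zpow, h2, one_zpow]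
    rfl
  have hcomp : ∀ b, π (ψ b) = algebraMap k C (Coalgebra.counit (R := k) b) := by
    intro b
    induction b using MonoidAlgebra.induction_linear with
    | zero => simp
    | add x y hx hy => rw [map_add, map_add, hx, hy, map_add, map_add]
    | single g c =>
      rw [hψs, pi_single, hpow, MonoidAlgebra.counit_single, Algebra.algebraMap_eq_smul_one]
      rfl
  have hJπ : ∀ z ∈ augI ψ, π z = 0 := by
    intro z hz
    refine Submodule.span_induction (p := fun z _ => π z = 0) ?_ ?_ ?_ ?_ hz
    · rintro _ ⟨b, hb0, rfl⟩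
      rw [hcomp, hb0, map_zero]
    · exact map_zero _
    · intro x y _ _ hx hy
      rw [map_add, hx, hy, add_zero]
    · intro a x _ hx
      rw [smul_eq_mul, map_mul, hx, mul_zero]
  have hψe : ∀ q : ℤ, ψ (e q) = e ((n : ℤ) * q) := by
    intro q
    unfold e
    rw [hψs]
    congr 1
  have hb : ∀ m : ℤ, e (k := k) m - e (m % n) ∈ augI ψ := by
    intro m
    have h1 : e (k := k) m = e (m % n) * ψ (e (m / n)) := by
      rw [hψe, ← e_add, Int.emod_add_mul_ediv]
    have h2 : e (k := k) m - e (m % n) = e (m % n) * ψ (e (m / n) - 1) := by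
      rw [map_sub, map_one, mul_sub, mul_one, ← h1]
    rw [h2]
    refine Ideal.mul_mem_left _ _ (Ideal.subset_span ⟨e (m / n) - 1, ?_, rfl⟩)
    unfold e
    rw [map_sub, MonoidAlgebra.counit_single, Bialgebra.counit_one, Bialgebra.counit_one,
      sub_self]
  let ρ : ZG → ZG := fun g => Multiplicative.ofAdd (Multiplicative.toAdd g % (n : ℤ))
  have hc : ∀ y : LZ k, y - mapDomain ρ y ∈ augI ψ := by
    intro y
    induction y using MonoidAlgebra.induction_linear with
    | zero => rw [mapDomain_zero, sub_zero]; exact zero_mem _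
    | add x y hx hy =>
      rw [mapDomain_add]
      have : x + y - (mapDomain ρ x + mapDomain ρ y) = (x - mapDomain ρ x) + (y - mapDomain ρ y) := by
        abel
      rw [this]
      exact add_mem hx hy
    | single g c =>
      rw [mapDomain_single]
      have h1 : single g c - single (ρ g) c =
          c • (e (k := k) (Multiplicative.toAdd g) - e (Multiplicative.toAdd g % n)) := by
        unfold e
        rw [smul_sub, smul_single, smul_single, smul_eq_mul, mul_one]
        rfl
      rw [h1]
      exact Submodule.smul_of_tower_mem _ c (hb _)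
  -- the reduced representatives are linearly independent
  let S : Set ZG := {g | 0 ≤ Multiplicative.toAdd g ∧ Multiplicative.toAdd g < n}
  have hinjS : Set.InjOn (fun g : ZG => uHom π g) S := by
    -- key: if `0 ≤ a < b < n` then `u a ≠ u b`
    have key : ∀ a b : ℤ, 0 ≤ a → a < b → b < n →
        uHom π (Multiplicative.ofAdd a) ≠ uHom π (Multiplicative.ofAdd b) := by
      intro a b ha hab hbn h
      have h3 : uU (Multiplicative.ofAdd (b - a)) = 1 := by
        have h4 : (Multiplicative.ofAdd (b - a) : ZG) =
            Multiplicative.ofAdd b * (Multiplicative.ofAdd a)⁻¹ := by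
          rw [sub_eq_add_neg, ofAdd_add, ofAdd_neg]
        rw [h4, map_mul, map_inv]
        have h5 : uU (Multiplicative.ofAdd a) = uU (Multiplicative.ofAdd b) := Units.ext h
        rw [h5, mul_inv_cancel]
      have h6 : uHom π (Multiplicative.ofAdd (((b - a).toNat : ℕ) : ℤ)) = 1 := by
        rw [Int.toNat_of_nonneg (by omega)]
        have := congrArg (fun x : Cˣ => (x : C)) h3
        exact this
      exact hmin (b - a).toNat (by omega) (by omega) h6
    intro g hg g' hg' h
    apply Multiplicative.toAdd.injective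
    by_contra hne
    rcases lt_or_gt_of_ne hne with hlt | hlt
    · exact key _ _ hg.1 hlt hg'.2 (by simpa using h)
    · exact key _ _ hg'.1 hlt hg.2 (by simpa using h.symm)
  have hli : LinearIndepOn k (fun g : ZG => uHom π g) S := by
    rw [linearIndepOn_iff_image hinjS]
    refine linearIndepOn_isGroupLikeElem.mono ?_
    rintro _ ⟨g, -, rfl⟩
    exact isGroupLike_uHom π g
  refine ⟨ψ, ?_, ?_, hcomp⟩
  · have hinj : Function.Injective (powMonoidHom n : ZG →* ZG) := by
      intro a b hab
      apply Multiplicative.toAdd.injective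
      have h1 := congrArg Multiplicative.toAdd hab
      change Multiplicative.toAdd (a ^ n) = Multiplicative.toAdd (b ^ n) at h1
      rw [toAdd_pow, toAdd_pow, nsmul_eq_mul, nsmul_eq_mul] at h1
      exact mul_left_cancel₀ hnz h1
    intro x y hxy
    exact mapDomain_injective hinj hxy
  · intro y hy
    have h1 := hc y
    have h2 : π (mapDomain ρ y) = 0 := by
      have : mapDomain ρ y = y - (y - mapDomain ρ y) := by abel
      rw [this, map_sub, hy, hJπ _ h1, sub_zero]
    rw [pi_eq_linearCombination] at h2
    have h3 : (mapDomain ρ y).coeff ∈ Finsupp.supported k k S := by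
      rw [Finsupp.mem_supported]
      intro g hg
      have h4 : (mapDomain ρ y).coeff = Finsupp.mapDomain ρ y.coeff := rfl
      rw [h4] at hg
      have h5 := Finsupp.mapDomain_support hg
      rw [Finset.mem_image] at h5
      obtain ⟨g', -, rfl⟩ := h5
      exact ⟨Int.emod_nonneg _ hnz, Int.emod_lt_of_pos _ hnpos⟩
    have h6 := (linearIndepOn_iff.mp hli) _ h3 h2
    have h7 : mapDomain ρ y = 0 := coeff_injective (by rw [h6]; rfl)
    rw [h7, sub_zero] at h1
    exact h1

end Groth.Agent.Lib.helper15.GmQuot
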