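import Mathlib
import Groth.Prelude.Def_AlgGrp
import Groth.Agent.Lib.Helper15.QuotHopf
import Groth.Agent.Lib.Helper15.HopfDict
import Groth.Agent.Lib.Helper15.HopfSubPoly
import Groth.Agent.Lib.Helper15.BTExactSch

/-!
# Kernels and faithfully flat homomorphisms of affine group schemes from Hopf algebra data (helper15)

* `isKernel_specMap`: `π : A → C` surjective, `ψ : B → A` bialgebra maps with `π ∘ ψ` trivial and
  `ker π ⊆ A ψ(B⁺)`; then `Spec π` is the kernel of `Spec ψ` (`AlgGrp.IsKernel`).
* `flat_surjective_specMap`: over a field, `Spec` of an injective bialgebra map of commutative Hopf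
  algebras is flat and surjective (Takeuchi).
-/

set_option autoImplicit false
set_option linter.unusedSectionVars false
set_option linter.style.haveILetI false
universe u
open CategoryTheory CategoryTheory.Limits MonoidalCategory CartesianMonoidalCategory MonObj GrpObj
  AlgebraicGeometry

namespace Groth.Agent.Lib.helper15.KerSpec

open Groth.Agent.Lib.helper15.HopfDict Groth.Agent.Lib.helper15.QuotHopf

section Pushout

variable {R : Type u} [CommRing R] {A B C : Type u} [CommRing A] [CommRing B] [CommRing C]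
  [HopfAlgebra R A] [HopfAlgebra R B] [HopfAlgebra R C]
  (ψ : B →ₐc[R] A) (π : A →ₐc[R] C)

/-- the ring-level pushout square `C = A ⊗_B R`. -/
theorem isPushout_of_ker (hπ : Function.Surjective π)
    (hker : ∀ y, π y = 0 → y ∈ augI ψ)
    (hcomp : ∀ b, π (ψ b) = algebraMap R C (Coalgebra.counit (R := R) b)) :
    IsPushout (CommRingCat.ofHom (ψ : B →ₐ[R] A).toRingHom)
      (CommRingCat.ofHom (Bialgebra.counitAlgHom R B).toRingHom)
      (CommRingCat.ofHom (π : A →ₐ[R] C).toRingHom)
      (CommRingCat.ofHom (algebraMap R C)) := by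
  have hw : CommRingCat.ofHom (ψ : B →ₐ[R] A).toRingHom ≫
      CommRingCat.ofHom (π : A →ₐ[R] C).toRingHom =
      CommRingCat.ofHom (Bialgebra.counitAlgHom R B).toRingHom ≫
        CommRingCat.ofHom (algebraMap R C) := by
    ext b
    exact hcomp b
  -- the descent of a cocone
  have hkill : ∀ (D : CommRingCat.{u}) (u : CommRingCat.of A ⟶ D) (v : CommRingCat.of R ⟶ D),
      CommRingCat.ofHom (ψ : B →ₐ[R] A).toRingHom ≫ u =
        CommRingCat.ofHom (Bialgebra.counitAlgHom R B).toRingHom ≫ v →
      ∀ y, π y = 0 → u.hom y = 0 := by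
    intro D u v huv y hy
    have hy' := hker y hy
    refine Submodule.span_induction (p := fun y _ => u.hom y = 0) ?_ ?_ ?_ ?_ hy'
    · rintro _ ⟨b, hb0, rfl⟩
      have h1 := congrArg (fun f => f.hom b) huv
      change u.hom (ψ b) = v.hom (Coalgebra.counit (R := R) b) at h1
      rw [h1, hb0, map_zero]
    · exact map_zero _
    · intro x y _ _ hx hy
      rw [map_add, hx, hy, add_zero]
    · intro a x _ hx
      rw [smul_eq_mul, map_mul, hx, mul_zero]
  have hrinv : Function.RightInverse (Function.surjInv hπ) (π : A →ₐ[R] C).toRingHom :=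
    Function.surjInv_eq hπ
  let desc : ∀ s : PushoutCocone (CommRingCat.ofHom (ψ : B →ₐ[R] A).toRingHom)
      (CommRingCat.ofHom (Bialgebra.counitAlgHom R B).toRingHom), C →+* s.pt := fun s =>
    (π : A →ₐ[R] C).toRingHom.liftOfRightInverse (Function.surjInv hπ) hrinv
      ⟨s.inl.hom, fun y hy => hkill _ s.inl s.inr s.condition y hy⟩
  have hdesc : ∀ s a, desc s (π a) = s.inl.hom a := fun s a =>
    RingHom.liftOfRightInverse_comp_apply (π : A →ₐ[R] C).toRingHom (Function.surjInv hπ) hrinv
      ⟨s.inl.hom, fun y hy => hkill _ s.inl s.inr s.condition y hy⟩ a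
  refine ⟨⟨hw⟩, ⟨PushoutCocone.IsColimit.mk _ (fun s => CommRingCat.ofHom (desc s))
    (fun s => ?_) (fun s => ?_) (fun s m hm1 hm2 => ?_)⟩⟩
  · ext a
    exact hdesc s a
  · ext r
    change desc s (algebraMap R C r) = s.inr.hom r
    have h1 : algebraMap R C r = π (algebraMap R A r) :=
      ((π : A →ₐ[R] C).commutes r).symm
    rw [h1, hdesc]
    have h2 := congrArg (fun f => f.hom (algebraMap R B r)) s.condition
    change s.inl.hom (ψ (algebraMap R B r)) = s.inr.hom (Coalgebra.counit (R := R)
      (algebraMap R B r)) at h2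
    have h3 : ψ (algebraMap R B r) = algebraMap R A r := (ψ : B →ₐ[R] A).commutes r
    rw [h3, Bialgebra.counit_algebraMap] at h2
    exact h2
  · ext c
    obtain ⟨a, rfl⟩ := hπ c
    have h1 := congrArg (fun f => f.hom a) hm1
    change m.hom (π a) = s.inl.hom a at h1
    rw [h1]
    exact (hdesc s a).symm

end Pushout

section Kernel

variable {R : Type u} [CommRing R] {A B C : Type u} [CommRing A] [CommRing B] [CommRing C]
  [HopfAlgebra R A] [HopfAlgebra R B] [HopfAlgebra R C]
  (ψ : B →ₐc[R] A) (π : A →ₐc[R] C)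

/-- `Spec π` is the kernel of `Spec ψ`. -/
theorem isKernel_specMap (hπ : Function.Surjective π)
    (hker : ∀ y, π y = 0 → y ∈ augI ψ)
    (hcomp : ∀ b, π (ψ b) = algebraMap R C (Coalgebra.counit (R := R) b)) :
    AlgGrp.IsKernel (specMap (π : A →ₐ[R] C)) (specMap (ψ : B →ₐ[R] A)) := by
  have hpo := isPushout_of_ker ψ π hπ hker hcomp
  have hpb := isPullback_SpecMap_of_isPushout _ _ _ _ hpo
  have comm : specMap (π : A →ₐ[R] C) ≫ specMap (ψ : B →ₐ[R] A) =
      toUnit (GA R C) ≫ η[GA R B] := by
    rw [← Hom.one_def, ← specMap_comp, BTExactSch.specMap_eq_one_iff]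
    exact hcomp
  unfold AlgGrp.IsKernel
  apply IsPullback.of_map (Over.forget _) comm
  exact hpb

end Kernel

section FF

variable {k : Type u} [Field k] {A B : Type u} [CommRing A] [CommRing B]
  [HopfAlgebra k A] [HopfAlgebra k B] (ψ : B →ₐc[k] A)

/-- Takeuchi: an injective map of commutative Hopf algebras over a field is faithfully flat. -/
theorem faithfullyFlat_of_injective (hψ : Function.Injective ψ) :
    (ψ : B →ₐ[k] A).toRingHom.FaithfullyFlat := by
  letI : Algebra B A := (ψ : B →ₐ[k] A).toRingHom.toAlgebra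
  haveI : IsScalarTower k B A :=
    IsScalarTower.of_algebraMap_eq fun r => ((ψ : B →ₐ[k] A).commutes r).symm
  exact HopfFF.faithfullyFlat_of_injective ψ (fun _ => rfl) hψ

theorem flat_surjective_specMap (hψ : Function.Injective ψ) :
    Flat (specMap (ψ : B →ₐ[k] A)).left ∧ Surjective (specMap (ψ : B →ₐ[k] A)).left := by
  change Flat (Spec.map (CommRingCat.ofHom (ψ : B →ₐ[k] A).toRingHom)) ∧
    Surjective (Spec.map (CommRingCat.ofHom (ψ : B →ₐ[k] A).toRingHom))
  exact (flat_and_surjective_SpecMap_iff _).mpr (faithfullyFlat_of_injective ψ hψ)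

end FF

end Groth.Agent.Lib.helper15.KerSpec
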