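import Mathlib
import Groth.Prelude.Def_AlgGrp
import Groth.Prelude.Def_Red2
import Groth.Agent.Lib.Helper15.KerSpec
import Groth.Agent.Lib.Helper15.GaQuot
import Groth.Agent.Lib.Helper15.GmQuot
import Groth.Agent.Lib.Helper15.GaBridge
import Groth.Agent.Lib.Helper15.GmBridge

/-!
# Quotients of `𝔾_a` and `𝔾_m` over a field by finite subgroup schemes (helper15)

* `main`: if `G ≅ Spec A` as group schemes and every finite Hopf quotient `π : A → C` admits an injective
  bialgebra endomorphism `ψ` of `A` with `ker π = A ψ(A⁺)`, then every finite subgroup scheme of `G` is the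
  kernel of a faithfully flat endomorphism of `G`.
* `main_Ga`, `main_Gm`: this applies to `𝔾_a` and `𝔾_m`.
-/

set_option autoImplicit false
set_option linter.unusedSectionVars false
set_option linter.style.haveILetI false
universe u
open CategoryTheory CategoryTheory.Limits MonoidalCategory CartesianMonoidalCategory MonObj GrpObj
  AlgebraicGeometry

namespace Groth.Agent.Lib.helper15.FinSubGaGm

open Groth.Agent.Lib.helper15.HopfDict Groth.Agent.Lib.helper15.QuotHopf
  Groth.Agent.Lib.helper15.KerSpec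

variable {k : Type u} [Field k]

theorem main {A : Type u} [CommRing A] [HopfAlgebra k A]
    (G H : Over (Spec (CommRingCat.of k))) [GrpObj G] [GrpObj H]
    (hG : Nonempty (Grp.mk G ≅ Grp.mk (GA k A)))
    (i : H ⟶ G) [IsMonHom i] [Mono i] [IsFinite H.hom]
    (hA : ∀ (C : Type u) [CommRing C] [HopfAlgebra k C] [Module.Finite k C] (π : A →ₐc[k] C),
      Function.Surjective π → ∃ ψ : A →ₐc[k] A, Function.Injective ψ ∧
        (∀ y, π y = 0 → y ∈ augI ψ) ∧
        ∀ b, π (ψ b) = algebraMap k C (Coalgebra.counit (R := k) b)) :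
    ∃ φ : G ⟶ G, IsMonHom φ ∧ AlgGrp.IsKernel i φ ∧ Flat φ.left ∧ Surjective φ.left := by
  obtain ⟨ε⟩ := hG
  obtain ⟨eG, heG1, heG2⟩ := exists_iso_of_grpIso ε
  haveI := heG1
  haveI := heG2
  haveI : IsAffine H.left := isAffine_of_isAffineHom H.hom
  obtain ⟨C, _, _, eH, heH1, heH2⟩ := exists_hopf_of_affine' k H
  haveI := heH1
  haveI := heH2
  have hw : (GA k C).hom = eH.inv.left ≫ H.hom := (Over.w eH.inv).symm
  haveI : IsIso eH.inv.left := (Over.forget _).map_isIso eH.inv
  have h0 : Spec.map (CommRingCat.ofHom (algebraMap k C)) = eH.inv.left ≫ H.hom := hw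
  have hfin' : IsFinite (Spec.map (CommRingCat.ofHom (algebraMap k C))) := by
    rw [h0]
    exact MorphismProperty.comp_mem _ _ _ (inferInstance : IsFinite eH.inv.left) inferInstance
  haveI : Module.Finite k C := by
    rw [IsFinite.SpecMap_iff] at hfin'
    exact RingHom.finite_algebraMap.mp hfin'
  let i' : GA k C ⟶ GA k A := eH.inv ≫ i ≫ eG.hom
  haveI : IsMonHom i' := inferInstance
  haveI : Mono i' := inferInstance
  obtain ⟨π, hπ⟩ := exists_bialgHom_of_isMonHom i'
  haveI : Mono (specMap (π : A →ₐ[k] C)) := hπ ▸ inferInstance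
  have hsurj : Function.Surjective π := by
    haveI hm : Mono (specMap (π : A →ₐ[k] C)).left := inferInstance
    have hm' : Mono (Spec.map (CommRingCat.ofHom (π : A →ₐ[k] C).toRingHom)) := hm
    haveI : Epi (CommRingCat.ofHom (π : A →ₐ[k] C).toRingHom) := by
      refine ⟨fun {D} u v huv => ?_⟩
      apply Spec.map_injective
      rw [← cancel_mono (Spec.map (CommRingCat.ofHom (π : A →ₐ[k] C).toRingHom)),
        ← Spec.map_comp, ← Spec.map_comp, huv]
    have hfin : (CommRingCat.ofHom (π : A →ₐ[k] C).toRingHom).hom.Finite := by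
      change ((π : A →ₐ[k] C).toRingHom).Finite
      letI : Algebra A C := (π : A →ₐ[k] C).toRingHom.toAlgebra
      haveI : IsScalarTower k A C :=
        IsScalarTower.of_algebraMap_eq fun r => ((π : A →ₐ[k] C).commutes r).symm
      exact Module.Finite.of_restrictScalars_finite k A C
    exact RingHom.surjective_of_epi_of_finite _ hfin
  obtain ⟨ψ, hinj, hker, hcomp⟩ := hA C π hsurj
  have hK := isKernel_specMap ψ π hsurj hker hcomp
  obtain ⟨hfl, hsu⟩ := flat_surjective_specMap ψ hinj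
  haveI : IsMonHom (specMap (ψ : A →ₐ[k] A)) :=
    Groth.Agent.Lib.helper15.DSMap.isMonHom_specMap ψ
  refine ⟨eG.hom ≫ specMap (ψ : A →ₐ[k] A) ≫ eG.inv, inferInstance, ?_, ?_, ?_⟩
  · unfold AlgGrp.IsKernel at hK ⊢
    refine IsPullback.of_iso hK eH.symm eG.symm (Iso.refl _) eG.symm ?_ ?_ ?_ ?_
    · change specMap (π : A →ₐ[k] C) ≫ eG.inv = eH.inv ≫ i
      rw [← hπ]
      simp [i']
    · exact toUnit_unique _ _
    · change specMap (ψ : A →ₐ[k] A) ≫ eG.inv = eG.inv ≫ eG.hom ≫ specMap (ψ : A →ₐ[k] A) ≫ eG.inv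
      simp
    · change η[GA k A] ≫ eG.inv = 𝟙 _ ≫ η[G]
      rw [Category.id_comp]
      exact IsMonHom.one_hom eG.inv
  · haveI : IsIso eG.hom.left := (Over.forget _).map_isIso eG.hom
    haveI : IsIso eG.inv.left := (Over.forget _).map_isIso eG.inv
    haveI := hfl
    change Flat (eG.hom.left ≫ (specMap (ψ : A →ₐ[k] A)).left ≫ eG.inv.left)
    infer_instance
  · haveI : IsIso eG.hom.left := (Over.forget _).map_isIso eG.hom
    haveI : IsIso eG.inv.left := (Over.forget _).map_isIso eG.inv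
    haveI := hsu
    change Surjective (eG.hom.left ≫ (specMap (ψ : A →ₐ[k] A)).left ≫ eG.inv.left)
    infer_instance

/-- finite subgroup schemes of `𝔾_a` over a field are kernels of faithfully flat endomorphisms. -/
theorem main_Ga (G H : Over (Spec (CommRingCat.of k))) [GrpObj G] [GrpObj H]
    (hG : Nonempty (Grp.mk G ≅ Grp.mk (Red.Ga (Spec (CommRingCat.of k)))))
    (i : H ⟶ G) [IsMonHom i] [Mono i] [IsFinite H.hom] :
    ∃ φ : G ⟶ G, IsMonHom φ ∧ AlgGrp.IsKernel i φ ∧ Flat φ.left ∧ Surjective φ.left := by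
  obtain ⟨ε0⟩ := hG
  haveI : IsAffine (Red.Ga (Spec (CommRingCat.of k))).left := by
    change IsAffine (Limits.pullback _ _)
    infer_instance
  obtain ⟨A, _, _, ⟨ε⟩⟩ := exists_hopf_of_affine k (Red.Ga (Spec (CommRingCat.of k)))
  obtain ⟨e, he1, he2⟩ := exists_iso_of_grpIso ε
  haveI := he2
  refine main G H ⟨ε0 ≪≫ ε⟩ i ?_
  intro C _ _ _ π hπ
  exact GaQuot.exists_endo (GaBridge.comul_tEl e) (GaBridge.aeval_tEl_bijective e) π hπ

/-- finite subgroup schemes of `𝔾_m` over a field are kernels of faithfully flat endomorphisms. -/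
theorem main_Gm (G H : Over (Spec (CommRingCat.of k))) [GrpObj G] [GrpObj H]
    (hG : Nonempty (Grp.mk G ≅ Grp.mk (Red.Gm (Spec (CommRingCat.of k)))))
    (i : H ⟶ G) [IsMonHom i] [Mono i] [IsFinite H.hom] :
    ∃ φ : G ⟶ G, IsMonHom φ ∧ AlgGrp.IsKernel i φ ∧ Flat φ.left ∧ Surjective φ.left := by
  obtain ⟨ε0⟩ := hG
  haveI : IsAffine (Red.Gm (Spec (CommRingCat.of k))).left := by
    change IsAffine (Limits.pullback _ _)
    infer_instance
  obtain ⟨A, _, _, ⟨ε⟩⟩ := exists_hopf_of_affine k (Red.Gm (Spec (CommRingCat.of k)))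
  obtain ⟨e, he1, he2⟩ := exists_iso_of_grpIso ε
  haveI := he2
  refine main (A := GmQuot.LZ k) G H
    ⟨ε0 ≪≫ ε ≪≫ grpIso_of_bialgEquiv (GmBridge.tauEquiv e)⟩ i ?_
  intro C _ _ _ π hπ
  exact GmQuot.exists_endo π

end Groth.Agent.Lib.helper15.FinSubGaGm
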