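import Mathlib
import Groth.Prelude.Def_Fitting
import Groth.Agent.Lib.Helper15.Fitting

set_option autoImplicit false
universe u v w
open TensorProduct

namespace Groth.Agent.Lib.helper15.FittLink
open Fitting

section Sup
variable {R : Type u} [CommRing R] {ι : Type v} [Fintype ι]

theorem detIdeal_sup_span_singleton_le (K : Submodule R (ι → R)) (w : ι → R) (j : ℕ) :
    detIdeal (K ⊔ Submodule.span R {w}) (j + 1) ≤ detIdeal K j := by
  classical
  let g : (Option ι → R) →ₗ[R] (ι → R) :=
    LinearMap.funLeft R R (some : ι → Option ι) +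
      (LinearMap.proj (none : Option ι)).smulRight w
  have hg : ∀ v : Option ι → R, g v = (fun i => v (some i)) + v none • w := fun v => rfl
  have hle : K ⊔ Submodule.span R {w} ≤ (addFree K).map g := by
    apply sup_le
    · intro u hu
      refine ⟨fun o => Option.elim o 0 u, ?_, ?_⟩
      · show (fun i => Option.elim (some i) 0 u) ∈ K
        exact hu
      · rw [hg]
        ext i
        simp
    · rw [Submodule.span_singleton_le_iff_mem]
      refine ⟨fun o => Option.elim o 1 (fun _ => 0), ?_, ?_⟩
      · show (fun i => Option.elim (some i) (1 : R) (fun _ => 0)) ∈ K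
        exact K.zero_mem
      · rw [hg]
        ext i
        simp
  calc detIdeal (K ⊔ Submodule.span R {w}) (j + 1)
      ≤ detIdeal ((addFree K).map g) (j + 1) := detIdeal_mono hle _
    _ ≤ detIdeal (addFree K) (j + 1) := detIdeal_map_le _ g _
    _ = detIdeal K j := detIdeal_addFree K j

theorem detIdeal_sup_span_range_le (K : Submodule R (ι → R)) :
    ∀ (k : ℕ) (w : Fin k → (ι → R)) (j : ℕ),
      detIdeal (K ⊔ Submodule.span R (Set.range w)) (j + k) ≤ detIdeal K j := by
  intro k
  induction k with
  | zero =>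
    intro w j
    have : Set.range w = ∅ := Set.range_eq_empty w
    rw [this, Submodule.span_empty, sup_bot_eq]
    exact le_rfl
  | succ k ih =>
    intro w j
    have hr : Set.range w = insert (w 0) (Set.range (Fin.tail w)) := by
      ext v
      constructor
      · rintro ⟨i, rfl⟩
        refine Fin.cases ?_ (fun i => ?_) i
        · exact Set.mem_insert _ _
        · exact Set.mem_insert_of_mem _ ⟨i, rfl⟩
      · rintro (rfl | ⟨i, rfl⟩)
        · exact ⟨0, rfl⟩
        · exact ⟨i.succ, rfl⟩
    have : K ⊔ Submodule.span R (Set.range w) =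
        (K ⊔ Submodule.span R (Set.range (Fin.tail w))) ⊔ Submodule.span R {w 0} := by
      rw [hr, Submodule.span_insert, sup_assoc, sup_comm (Submodule.span R {w 0})]
    rw [this, ← add_assoc]
    exact (detIdeal_sup_span_singleton_le _ _ _).trans (ih (Fin.tail w) j)

theorem det_mem_detIdeal {n : ℕ} (a : Matrix (Fin n) (Fin n) R) (K : Submodule R (Fin n → R))
    (h : ∀ i, a i ∈ K) : a.det ∈ detIdeal K n := by
  have := minor_mem K n (fun b => a b) id h
  have h2 : (Matrix.of fun c b => a b (id c)) = a.transpose := rfl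
  rwa [h2, Matrix.det_transpose] at this

end Sup

section Link
variable {R : Type u} [CommRing R] {M : Type v} [AddCommGroup M] [Module R M]

/-- a determinant with the first `n' - k` rows relations lies in the minors ideal. -/
theorem det_mem_of_rel {n' : ℕ} (x' : Fin n' → M) (a : Matrix (Fin n') (Fin n') R) (k : ℕ)
    (hrel : ∀ i : Fin n', (i : ℕ) < n' - k → ∑ j, a i j • x' j = 0) :
    a.det ∈ detIdeal (rel R x') (n' - k) := by
  classical
  set j := n' - k with hj
  set k' := n' - j with hk'
  have hjk : j + k' = n' := by omega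
  let w : Fin k' → (Fin n' → R) := fun l => a ⟨j + l, by omega⟩
  have hrows : ∀ i, a i ∈ rel R x' ⊔ Submodule.span R (Set.range w) := by
    intro i
    by_cases hi : (i : ℕ) < j
    · exact Submodule.mem_sup_left (mem_rel.mpr (hrel i hi))
    · apply Submodule.mem_sup_right
      apply Submodule.subset_span
      refine ⟨⟨i - j, by omega⟩, ?_⟩
      show a ⟨j + (i - j), _⟩ = a i
      congr 1
      ext
      show j + (i - j) = i
      omega
  have h1 := det_mem_detIdeal a _ hrows
  have h2 := detIdeal_sup_span_range_le (rel R x') k' w j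
  rw [hjk] at h2
  exact h2 h1

theorem fitt_le {n : ℕ} (x : Fin n → M) (hx : Submodule.span R (Set.range x) = ⊤) (k : ℕ) :
    Fitt.ideal R M k ≤ detIdeal (rel R x) (n - k) := by
  apply Ideal.span_le.mpr
  rintro d ⟨n', x', a, hx', hrel, rfl⟩
  by_cases hkn : n ≤ k
  · have : n - k = 0 := by omega
    rw [this, detIdeal_zero]
    trivial
  · have h1 := det_mem_of_rel x' a k hrel
    refine detIdeal_rel_le x hx x' hx' ?_ h1
    simp only [Fintype.card_fin]
    omega

/-- extend an injective map `Fin j → Fin n` to a permutation of `Fin n`. -/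
theorem exists_perm_extend {j n : ℕ} (e : Fin j → Fin n) (he : Function.Injective e) (_hjn : j ≤ n) :
    ∃ τ : Equiv.Perm (Fin n), ∀ (i : Fin n) (h : (i : ℕ) < j), τ i = e ⟨i, h⟩ := by
  classical
  let f : Fin n → Fin n := fun i => if h : (i : ℕ) < j then e ⟨i, h⟩ else i
  have hinj : Set.InjOn f {i | (i : ℕ) < j} := by
    intro a ha b hb hab
    simp only [Set.mem_ofPred_eq] at ha hb
    simp only [f, dif_pos ha, dif_pos hb] at hab
    have := he hab
    exact Fin.ext (by simpa using congrArg Fin.val this)
  obtain ⟨g, hg⟩ := Set.MapsTo.exists_equiv_extend_of_card_eq (α := Fin n) (β := Fin n)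
    (t := Finset.univ) (by simp) (s := {i | (i : ℕ) < j}) (f := f)
    (fun _ _ => Finset.mem_coe.mpr (Finset.mem_univ _)) hinj
  refine ⟨g.trans (Equiv.subtypeUnivEquiv (fun x => Finset.mem_univ x)), fun i h => ?_⟩
  have := hg i h
  simp only [f, dif_pos h] at this
  simpa using this

theorem minor_mem_fitt_aux {n j k' : ℕ} (hjk : j + k' = n) (x : Fin n → M)
    (hx : Submodule.span R (Set.range x) = ⊤) (k : ℕ) (hle : n - k ≤ j)
    (z : Fin j → (Fin n → R)) (e : Fin j → Fin n) (hz : ∀ b, z b ∈ rel R x) :
    (Matrix.of fun a b => z b (e a)).det ∈ Fitt.ideal R M k := by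
  classical
  by_cases he : Function.Injective e
  swap
  · rw [det_eq_zero_of_not_injective z e he]
    exact Ideal.zero_mem _
  obtain ⟨τ, hτ⟩ := exists_perm_extend e he (by omega)
  let a : Matrix (Fin n) (Fin n) R := fun i =>
    if h : (i : ℕ) < j then z ⟨i, h⟩ else Pi.single (τ i) 1
  have ha : a.det ∈ Fitt.ideal R M k := by
    apply Ideal.subset_span
    refine ⟨n, x, a, hx, ?_, rfl⟩
    intro i hi
    have hi' : (i : ℕ) < j := by omega
    have : a i = z ⟨i, hi'⟩ := by simp only [a, dif_pos hi']
    rw [this]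
    exact mem_rel.mp (hz _)
  let ρ : Fin j ⊕ Fin k' ≃ Fin n := finSumFinEquiv.trans (finCongr hjk)
  have hρl : ∀ i : Fin j, ((ρ (Sum.inl i) : Fin n) : ℕ) = i := fun i => by
    simp [ρ]
  have hρr : ∀ i : Fin k', ((ρ (Sum.inr i) : Fin n) : ℕ) = j + i := fun i => by
    simp [ρ]
  let A : Matrix (Fin j) (Fin j) R := Matrix.of fun i i' => z i (e i')
  let B : Matrix (Fin j) (Fin k') R := Matrix.of fun i l => z i (τ (ρ (Sum.inr l)))
  have hblock : (a.submatrix id τ).submatrix ρ ρ = Matrix.fromBlocks A B 0 1 := by
    ext r c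
    rcases r with r | r <;> rcases c with c | c
    · simp only [Matrix.submatrix_apply, id_eq, Matrix.fromBlocks_apply₁₁]
      have h1 : ((ρ (Sum.inl r) : Fin n) : ℕ) < j := by rw [hρl]; exact r.2
      have h2 : ((ρ (Sum.inl c) : Fin n) : ℕ) < j := by rw [hρl]; exact c.2
      have h3 : a (ρ (Sum.inl r)) = z ⟨ρ (Sum.inl r), h1⟩ := by simp only [a, dif_pos h1]
      rw [h3, hτ _ h2]
      have e1 : (⟨(ρ (Sum.inl r) : Fin n), h1⟩ : Fin j) = r := Fin.ext (hρl r)
      have e2 : (⟨(ρ (Sum.inl c) : Fin n), h2⟩ : Fin j) = c := Fin.ext (hρl c)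
      rw [e1, e2]
      rfl
    · simp only [Matrix.submatrix_apply, id_eq, Matrix.fromBlocks_apply₁₂]
      have h1 : ((ρ (Sum.inl r) : Fin n) : ℕ) < j := by rw [hρl]; exact r.2
      have h3 : a (ρ (Sum.inl r)) = z ⟨ρ (Sum.inl r), h1⟩ := by simp only [a, dif_pos h1]
      rw [h3]
      have e1 : (⟨(ρ (Sum.inl r) : Fin n), h1⟩ : Fin j) = r := Fin.ext (hρl r)
      rw [e1]
      rfl
    · simp only [Matrix.submatrix_apply, id_eq, Matrix.fromBlocks_apply₂₁, Matrix.zero_apply]
      have h1 : ¬ ((ρ (Sum.inr r) : Fin n) : ℕ) < j := by rw [hρr]; omega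
      have h3 : a (ρ (Sum.inr r)) = Pi.single (τ (ρ (Sum.inr r))) 1 := by simp only [a, dif_neg h1]
      rw [h3, Pi.single_apply, if_neg]
      intro h
      have := ρ.injective (τ.injective h)
      cases this
    · simp only [Matrix.submatrix_apply, id_eq, Matrix.fromBlocks_apply₂₂]
      have h1 : ¬ ((ρ (Sum.inr r) : Fin n) : ℕ) < j := by rw [hρr]; omega
      have h3 : a (ρ (Sum.inr r)) = Pi.single (τ (ρ (Sum.inr r))) 1 := by simp only [a, dif_neg h1]
      rw [h3, Pi.single_apply, Matrix.one_apply]
      by_cases hrc : r = c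
      · subst hrc
        simp
      · rw [if_neg, if_neg hrc]
        intro h
        have := ρ.injective (τ.injective h)
        exact hrc (Sum.inr_injective this).symm
  have hdet : (a.submatrix id τ).det = A.det := by
    rw [← Matrix.det_submatrix_equiv_self ρ, hblock, Matrix.det_fromBlocks_zero₂₁, Matrix.det_one,
      mul_one]
  rw [Matrix.det_permute'] at hdet
  have hA : (Matrix.of fun c b => z b (e c)).det = A.det := by
    rw [← Matrix.det_transpose]
    rfl
  rw [hA, ← hdet]
  exact Ideal.mul_mem_left _ _ ha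

theorem minor_mem_fitt {n : ℕ} (x : Fin n → M) (hx : Submodule.span R (Set.range x) = ⊤) (k : ℕ)
    (z : Fin (n - k) → (Fin n → R)) (e : Fin (n - k) → Fin n) (hz : ∀ b, z b ∈ rel R x) :
    (Matrix.of fun a b => z b (e a)).det ∈ Fitt.ideal R M k :=
  minor_mem_fitt_aux (j := n - k) (k' := n - (n - k)) (by omega) x hx k le_rfl z e hz

theorem le_fitt {n : ℕ} (x : Fin n → M) (hx : Submodule.span R (Set.range x) = ⊤) (k : ℕ) :
    detIdeal (rel R x) (n - k) ≤ Fitt.ideal R M k := by
  apply Ideal.span_le.mpr
  rintro d ⟨z, e, hz, rfl⟩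
  exact minor_mem_fitt x hx k z e hz

/-- **Fitting's lemma**: the Prelude's Fitting ideal is the ideal of `(n-k)`-minors of the relation
module of any generating `n`-tuple. -/
theorem fitt_eq {n : ℕ} (x : Fin n → M) (hx : Submodule.span R (Set.range x) = ⊤) (k : ℕ) :
    Fitt.ideal R M k = detIdeal (rel R x) (n - k) :=
  le_antisymm (fitt_le x hx k) (le_fitt x hx k)

end Link

section SpanFG
variable {R : Type u} [CommRing R] {ι : Type v} [Fintype ι]

theorem detIdeal_span (S : Set (ι → R)) (j : ℕ) :
    detIdeal (Submodule.span R S) j = Ideal.span {d | ∃ (z : Fin j → (ι → R)) (e : Fin j → ι),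
      (∀ b, z b ∈ S) ∧ d = (Matrix.of fun a b => z b (e a)).det} := by
  apply le_antisymm
  · apply Ideal.span_le.mpr
    rintro d ⟨z, e, hz, rfl⟩
    rw [← minorForm_apply]
    refine multilinear_mem_of_span (minorForm (R := R) j e).toMultilinearMap S _ ?_ z hz
    intro s hs
    apply Ideal.subset_span
    exact ⟨s, e, hs, minorForm_apply j e s⟩
  · apply Ideal.span_le.mpr
    rintro d ⟨z, e, hz, rfl⟩
    exact minor_mem _ j z e (fun b => Submodule.subset_span (hz b))

theorem detIdeal_fg {K : Submodule R (ι → R)} (hK : K.FG) (j : ℕ) : (detIdeal K j).FG := by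
  classical
  obtain ⟨S, rfl⟩ := hK
  rw [detIdeal_span]
  apply Submodule.fg_span
  have hfin : (Set.image (fun p : (Fin j → (ι → R)) × (Fin j → ι) =>
      (Matrix.of fun a b => p.1 b (p.2 a)).det)
      ((Set.pi Set.univ (fun _ : Fin j => (S : Set (ι → R)))) ×ˢ Set.univ)).Finite := by
    apply Set.Finite.image
    apply Set.Finite.prod
    · exact Set.Finite.pi (fun _ => S.finite_toSet)
    · exact Set.finite_univ
  refine hfin.subset ?_
  rintro d ⟨z, e, hz, rfl⟩
  exact ⟨(z, e), ⟨fun b _ => hz b, Set.mem_univ _⟩, rfl⟩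

end SpanFG

section Basic
variable {R : Type u} [CommRing R] {M : Type v} [AddCommGroup M] [Module R M]

theorem fitt_eq_top_of_span {n : ℕ} (x : Fin n → M) (hx : Submodule.span R (Set.range x) = ⊤)
    {k : ℕ} (hk : n ≤ k) : Fitt.ideal R M k = ⊤ := by
  rw [fitt_eq x hx k]
  have : n - k = 0 := by omega
  rw [this, detIdeal_zero]

theorem fitt_fg [Module.FinitePresentation R M] (k : ℕ) : (Fitt.ideal R M k).FG := by
  obtain ⟨n, x, hx⟩ := Module.Finite.exists_fin (R := R) (M := M)
  rw [fitt_eq x hx k]
  apply detIdeal_fg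
  apply Module.FinitePresentation.fg_ker
  rw [← LinearMap.range_eq_top, Fintype.range_linearCombination]
  exact hx

theorem fitt_le_of_surjective {M' : Type w} [AddCommGroup M'] [Module R M'] [Module.Finite R M]
    (f : M →ₗ[R] M') (hf : Function.Surjective f) (k : ℕ) :
    Fitt.ideal R M k ≤ Fitt.ideal R M' k := by
  obtain ⟨n, x, hx⟩ := Module.Finite.exists_fin (R := R) (M := M)
  have hx' : Submodule.span R (Set.range fun i => f (x i)) = ⊤ := by
    have : (Set.range fun i => f (x i)) = f '' Set.range x := by
      rw [← Set.range_comp]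
      rfl
    rw [this, ← Submodule.map_span, hx, Submodule.map_top, LinearMap.range_eq_top]
    exact hf
  rw [fitt_eq x hx k, fitt_eq (fun i => f (x i)) hx' k]
  apply detIdeal_mono
  intro v hv
  rw [mem_rel] at hv ⊢
  have : ∑ i, v i • f (x i) = f (∑ i, v i • x i) := by
    rw [map_sum]
    exact Finset.sum_congr rfl fun i _ => (map_smul f _ _).symm
  rw [this, hv, map_zero]

end Basic

section BCGen
variable {R : Type u} [CommRing R] {R' : Type w} [CommRing R'] [Algebra R R']
  {N : Type*} [AddCommGroup N] [Module R N] {ι : Type v} [Fintype ι] (x : ι → N)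

/-- base change of the relation module along an arbitrary ring map, for a generating family
(right exactness of the tensor product). -/
theorem rel_baseChange_of_span (hx : Submodule.span R (Set.range x) = ⊤) :
    rel R' (fun i => (1 : R') ⊗ₜ[R] x i) = extend (algebraMap R R') (rel R x) := by
  classical
  let π : (ι → R) →ₗ[R] N := Fintype.linearCombination R x
  have hπ : Function.Surjective π := by
    rw [← LinearMap.range_eq_top, Fintype.range_linearCombination]
    exact hx
  have hex : Function.Exact (rel R x).subtype π := LinearMap.exact_subtype_ker_map π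
  have hex' := lTensor_exact R' hex hπ
  let Ψ := TensorProduct.piScalarRight R R' R' ι
  have hΨ : ∀ (r' : R') (v : ι → R), Ψ (r' ⊗ₜ v) = fun i => v i • r' := fun r' v => by
    simp [Ψ]
  have key : ∀ t : R' ⊗[R] (ι → R),
      (π.lTensor R') t = ∑ i, (Ψ t) i • ((1 : R') ⊗ₜ[R] x i) := by
    intro t
    induction t with
    | zero => simp
    | add a b ha hb =>
      rw [map_add, ha, hb, map_add, ← Finset.sum_add_distrib]
      simp [add_smul]
    | tmul r' v =>
      rw [LinearMap.lTensor_tmul, hΨ]
      simp only [π, Fintype.linearCombination_apply, tmul_sum, tmul_smul]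
      apply Finset.sum_congr rfl
      intro i _
      rw [smul_tmul', smul_tmul', smul_eq_mul, mul_one]
  apply le_antisymm
  · intro v' hv'
    rw [mem_rel] at hv'
    have h0 : (π.lTensor R') (Ψ.symm v') = 0 := by
      rw [key, LinearEquiv.apply_symm_apply]
      exact hv'
    obtain ⟨s, hs⟩ := (hex' (Ψ.symm v')).mp h0
    have hv : v' = Ψ (((rel R x).subtype.lTensor R') s) := by
      rw [hs, LinearEquiv.apply_symm_apply]
    rw [hv]
    clear hs hv h0 hv'
    induction s with
    | zero => simp
    | add a b ha hb =>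
      rw [map_add, map_add]
      exact Submodule.add_mem _ ha hb
    | tmul r' k =>
      rw [LinearMap.lTensor_tmul, Submodule.subtype_apply, hΨ]
      have : (fun i => (k : ι → R) i • r') = r' • (fun i => algebraMap R R' ((k : ι → R) i)) := by
        ext i
        simp [Algebra.smul_def, mul_comm]
      rw [this]
      exact Submodule.smul_mem _ _ (Submodule.subset_span ⟨k, k.2, rfl⟩)
  · apply Submodule.span_le.mpr
    rintro _ ⟨v, hv, rfl⟩
    rw [SetLike.mem_coe, mem_rel] at hv ⊢
    have : ∑ i, algebraMap R R' (v i) • ((1 : R') ⊗ₜ[R] x i) = (1 : R') ⊗ₜ[R] (∑ i, v i • x i) := by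
      rw [tmul_sum]
      apply Finset.sum_congr rfl
      intro i _
      rw [tmul_smul, algebraMap_smul]
    rw [this, hv, tmul_zero]

theorem span_one_tmul (hx : Submodule.span R (Set.range x) = ⊤) :
    Submodule.span R' (Set.range fun i => (1 : R') ⊗ₜ[R] x i) = ⊤ := by
  rw [eq_top_iff]
  rintro t -
  induction t with
  | zero => exact Submodule.zero_mem _
  | add a b ha hb => exact Submodule.add_mem _ ha hb
  | tmul r' n =>
    have hn : n ∈ Submodule.span R (Set.range x) := by rw [hx]; trivial
    obtain ⟨c, rfl⟩ := (Submodule.mem_span_range_iff_exists_fun R).mp hn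
    rw [tmul_sum]
    apply Submodule.sum_mem
    intro i _
    have : r' ⊗ₜ[R] (c i • x i) = (c i • r') • ((1 : R') ⊗ₜ[R] x i) := by
      rw [tmul_smul, smul_tmul', smul_tmul', smul_eq_mul, mul_one]
    rw [this]
    exact Submodule.smul_mem _ _ (Submodule.subset_span ⟨i, rfl⟩)

/-- Fitting ideals commute with arbitrary base change. -/
theorem fitt_baseChange {M : Type*} [AddCommGroup M] [Module R M] [Module.Finite R M] (k : ℕ) :
    Fitt.ideal R' (R' ⊗[R] M) k = (Fitt.ideal R M k).map (algebraMap R R') := by
  obtain ⟨n, x, hx⟩ := Module.Finite.exists_fin (R := R) (M := M)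
  rw [fitt_eq x hx k, fitt_eq (fun i => (1 : R') ⊗ₜ[R] x i) (span_one_tmul x hx) k,
    rel_baseChange_of_span x hx, detIdeal_extend]

end BCGen

section Free
variable {R : Type u} [CommRing R]

theorem detIdeal_bot {ι : Type v} [Fintype ι] {j : ℕ} (hj : 0 < j) :
    detIdeal (⊥ : Submodule R (ι → R)) j = ⊥ := by
  rw [eq_bot_iff]
  apply Ideal.span_le.mpr
  rintro d ⟨z, e, hz, rfl⟩
  rw [SetLike.mem_coe, Ideal.mem_bot]
  apply Matrix.det_eq_zero_of_column_eq_zero (⟨0, hj⟩ : Fin j)
  intro a
  have : z ⟨0, hj⟩ = 0 := (Submodule.mem_bot R).mp (hz _)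
  simp [this]

variable {M : Type v} [AddCommGroup M] [Module R M]

theorem fitt_congr {M' : Type w} [AddCommGroup M'] [Module R M'] (e : M ≃ₗ[R] M') (k : ℕ) :
    Fitt.ideal R M k = Fitt.ideal R M' k := by
  have key : ∀ {N : Type v} {N' : Type w} [AddCommGroup N] [Module R N] [AddCommGroup N']
      [Module R N'] (e : N ≃ₗ[R] N'), Fitt.ideal R N k ≤ Fitt.ideal R N' k := by
    intro N N' _ _ _ _ e
    apply Ideal.span_mono
    rintro d ⟨n, x, a, hx, hrel, rfl⟩
    refine ⟨n, fun i => e (x i), a, ?_, ?_, rfl⟩
    · have : (Set.range fun i => e (x i)) = (e : N →ₗ[R] N') '' Set.range x := by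
        rw [← Set.range_comp]
        rfl
      rw [this, ← Submodule.map_span, hx, Submodule.map_top, LinearMap.range_eq_top]
      exact e.surjective
    · intro i hi
      have : ∑ j, a i j • e (x j) = e (∑ j, a i j • x j) := by
        rw [map_sum]
        exact Finset.sum_congr rfl fun j _ => (map_smul e _ _).symm
      rw [this, hrel i hi, map_zero]
  apply le_antisymm (key e)
  have key' : ∀ {N : Type w} {N' : Type v} [AddCommGroup N] [Module R N] [AddCommGroup N']
      [Module R N'] (e : N ≃ₗ[R] N'), Fitt.ideal R N k ≤ Fitt.ideal R N' k := by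
    intro N N' _ _ _ _ e
    apply Ideal.span_mono
    rintro d ⟨n, x, a, hx, hrel, rfl⟩
    refine ⟨n, fun i => e (x i), a, ?_, ?_, rfl⟩
    · have : (Set.range fun i => e (x i)) = (e : N →ₗ[R] N') '' Set.range x := by
        rw [← Set.range_comp]
        rfl
      rw [this, ← Submodule.map_span, hx, Submodule.map_top, LinearMap.range_eq_top]
      exact e.surjective
    · intro i hi
      have : ∑ j, a i j • e (x j) = e (∑ j, a i j • x j) := by
        rw [map_sum]
        exact Finset.sum_congr rfl fun j _ => (map_smul e _ _).symm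
      rw [this, hrel i hi, map_zero]
  exact key' e.symm

theorem fitt_eq_bot_of_basis {n : ℕ} (b : Module.Basis (Fin n) R M) {k : ℕ} (hk : k < n) :
    Fitt.ideal R M k = ⊥ := by
  rw [fitt_eq b b.span_eq k]
  have hrel : rel R b = ⊥ := by
    rw [eq_bot_iff]
    intro v hv
    rw [mem_rel] at hv
    rw [Submodule.mem_bot]
    ext i
    exact Fintype.linearIndependent_iff.mp b.linearIndependent v hv i
  rw [hrel]
  exact detIdeal_bot (by omega)

theorem fitt_eq_top_of_basis {n : ℕ} (b : Module.Basis (Fin n) R M) {k : ℕ} (hk : n ≤ k) :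
    Fitt.ideal R M k = ⊤ :=
  fitt_eq_top_of_span b b.span_eq hk

theorem fitt_of_isBaseChange {R' : Type w} [CommRing R'] [Algebra R R'] {M' : Type*}
    [AddCommGroup M'] [Module R M'] [Module R' M'] [IsScalarTower R R' M'] [Module.Finite R M]
    (f : M →ₗ[R] M') (hf : IsBaseChange R' f) (k : ℕ) :
    Fitt.ideal R' M' k = (Fitt.ideal R M k).map (algebraMap R R') := by
  rw [← fitt_baseChange (R' := R') (M := M) k]
  exact (fitt_congr hf.equiv k).symm

theorem fitt_eq_bot_of_projective [Module.Finite R M] [Module.Projective R M] {k : ℕ}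
    (h : ∀ p, Module.rankAtStalk (R := R) M p = k) {j : ℕ} (hj : j < k) :
    Fitt.ideal R M j = ⊥ := by
  apply ideal_eq_bot_of_localization'
  intro J hJ
  haveI := hJ.isPrime
  rw [← fitt_of_isBaseChange (LocalizedModule.mkLinearMap J.primeCompl M)
    (IsLocalizedModule.isBaseChange J.primeCompl (Localization.AtPrime J) _) j]
  haveI : Module.Free (Localization.AtPrime J) (LocalizedModule J.primeCompl M) :=
    Module.free_of_flat_of_isLocalRing
  have hr : Module.finrank (Localization.AtPrime J) (LocalizedModule J.primeCompl M) = k :=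
    h ⟨J, hJ.isPrime⟩
  let b := Module.finBasis (Localization.AtPrime J) (LocalizedModule J.primeCompl M)
  exact fitt_eq_bot_of_basis b (by rw [hr]; exact hj)

end Free

section Cramer
variable {R : Type u} [CommRing R] {M : Type v} [AddCommGroup M] [Module R M]

open Classical in
/-- **Cramer's rule for relations**: if `d` is the minor of relation rows `z` with (injective) column
selection `e`, then `d • x (e c)` is a combination of the `x i`, `i ∉ range e`, with coefficients
minors of the same rows. -/
theorem cramer_rel {n j : ℕ} (x : Fin n → M) (z : Fin j → (Fin n → R))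
    (hz : ∀ b, z b ∈ rel R x) (e : Fin j → Fin n) (he : Function.Injective e) (c : Fin j) :
    ∃ cf : Fin n → R, (∀ i, cf i ∈ detIdeal (rel R x) j) ∧
      (Matrix.of fun a b => z b (e a)).det • x (e c) =
        ∑ i, if i ∈ Set.range e then 0 else cf i • x i := by
  let A : Matrix (Fin j) (Fin j) R := Matrix.of fun b a => z b (e a)
  have hdet : (Matrix.of fun a b => z b (e a)).det = A.det := by
    rw [← Matrix.det_transpose]
    rfl
  -- the relation, split along `range e`
  have h1 : ∀ b, ∑ a, A b a • x (e a) + ∑ i, (if i ∈ Set.range e then 0 else z b i • x i) = 0 := by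
    intro b
    have hb := mem_rel.mp (hz b)
    have hsplit : ∑ i, z b i • x i = ∑ i, (if i ∈ Set.range e then z b i • x i else 0) +
        ∑ i, (if i ∈ Set.range e then 0 else z b i • x i) := by
      rw [← Finset.sum_add_distrib]
      apply Finset.sum_congr rfl
      intro i _
      by_cases hi : i ∈ Set.range e
      · rw [if_pos hi, if_pos hi, add_zero]
      · rw [if_neg hi, if_neg hi, zero_add]
    have himg : ∑ i, (if i ∈ Set.range e then z b i • x i else 0) = ∑ a, A b a • x (e a) := by
      have h2 : ∑ a, A b a • x (e a) = ∑ i ∈ Finset.univ.image e, z b i • x i := by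
        rw [Finset.sum_image (fun a _ a' _ h => he h)]
        rfl
      rw [h2, ← Finset.sum_filter]
      apply Finset.sum_congr _ (fun _ _ => rfl)
      ext i
      simp
    rw [← himg, ← hsplit, hb]
  refine ⟨fun i => - ∑ b, A.adjugate c b * z b i, fun i => ?_, ?_⟩
  · -- the coefficient is a minor
    apply Submodule.neg_mem
    have h2 : ∑ b, A.adjugate c b * z b i = (A.updateCol c (fun b => z b i)).det := by
      rw [← Matrix.cramer_apply, Matrix.cramer_eq_adjugate_mulVec]
      rfl
    rw [h2]
    have h3 : A.updateCol c (fun b => z b i) =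
        (Matrix.of fun a b => z b (Function.update e c i a)).transpose := by
      ext b a
      rw [Matrix.updateCol_apply, Matrix.transpose_apply, Matrix.of_apply]
      by_cases hac : a = c
      · rw [if_pos hac, hac, Function.update_self]
      · rw [if_neg hac, Function.update_of_ne hac]
        rfl
    rw [h3, Matrix.det_transpose]
    exact minor_mem _ j z _ hz
  · rw [hdet]
    have h4 : A.det • x (e c) = ∑ b, A.adjugate c b • ∑ a, A b a • x (e a) := by
      have : ∀ b, A.adjugate c b • ∑ a, A b a • x (e a) =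
          ∑ a, (A.adjugate c b * A b a) • x (e a) := by
        intro b
        rw [Finset.smul_sum]
        exact Finset.sum_congr rfl fun a _ => by rw [mul_smul]
      simp_rw [this]
      rw [Finset.sum_comm]
      have h5 : ∀ a, ∑ b, (A.adjugate c b * A b a) • x (e a) =
          ((A.adjugate * A) c a) • x (e a) := by
        intro a
        rw [Matrix.mul_apply, Finset.sum_smul]
      simp_rw [h5, Matrix.adjugate_mul]
      simp only [Matrix.smul_apply, Matrix.one_apply, smul_eq_mul, mul_ite, mul_one, mul_zero,
        ite_smul, zero_smul]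
      rw [Finset.sum_ite_eq]
      simp
    rw [h4]
    have h6 : ∀ b, ∑ a, A b a • x (e a) =
        - ∑ i, (if i ∈ Set.range e then 0 else z b i • x i) := fun b =>
      eq_neg_of_add_eq_zero_left (h1 b)
    simp_rw [h6]
    simp only [smul_neg, Finset.smul_sum, smul_ite, smul_zero, Finset.sum_neg_distrib]
    rw [Finset.sum_comm, ← Finset.sum_neg_distrib]
    apply Finset.sum_congr rfl
    intro i _
    by_cases hi : i ∈ Set.range e
    · simp [hi]
    · simp only [hi, if_false, neg_smul, Finset.sum_smul, mul_smul]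

end Cramer

section LocalGen
variable {R : Type u} [CommRing R] {M : Type v} [AddCommGroup M] [Module R M]

/-- if `Fitt_k M ⊄ p` then, after inverting some `d ∉ p`, `M` is generated by `k` elements:
`d • M ⊆ span (range g)`. -/
theorem exists_smul_mem_span_of_not_le [Module.Finite R M] (k : ℕ) (p : Ideal R)
    (hp : ¬ Fitt.ideal R M k ≤ p) :
    ∃ d : R, d ∉ p ∧ d ∈ Fitt.ideal R M k ∧ ∃ g : Fin k → M,
      ∀ m : M, d • m ∈ Submodule.span R (Set.range g) := by
  classical
  obtain ⟨n, x, hx⟩ := Module.Finite.exists_fin (R := R) (M := M)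
  rw [fitt_eq x hx k] at hp ⊢
  -- find a minor outside p
  have : ∃ d, d ∉ p ∧ ∃ (z : Fin (n - k) → (Fin n → R)) (e : Fin (n - k) → Fin n),
      (∀ b, z b ∈ rel R x) ∧ d = (Matrix.of fun a b => z b (e a)).det := by
    by_contra hcon
    push Not at hcon
    apply hp
    apply Ideal.span_le.mpr
    rintro d ⟨z, e, hz, rfl⟩
    by_contra hd
    exact hcon _ hd z e hz rfl
  obtain ⟨d, hdp, z, e, hz, rfl⟩ := this
  have he : Function.Injective e := by
    by_contra he
    rw [det_eq_zero_of_not_injective z e he] at hdp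
    exact hdp p.zero_mem
  obtain ⟨τ, hτ⟩ := exists_perm_extend e he (by omega)
  let g : Fin k → M := fun l => if h : (n - k) + (l : ℕ) < n then x (τ ⟨(n - k) + l, h⟩) else 0
  refine ⟨_, hdp, minor_mem _ _ z e hz, g, ?_⟩
  -- generators outside the range of e are among the g
  have hgen : ∀ i, i ∉ Set.range e → x i ∈ Submodule.span R (Set.range g) := by
    intro i hi
    obtain ⟨i', rfl⟩ := τ.surjective i
    have hi' : ¬ ((i' : ℕ) < n - k) := by
      intro h
      exact hi ⟨⟨i', h⟩, (hτ i' h).symm⟩
    have hl : (i' : ℕ) - (n - k) < k := by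
      have := i'.2
      omega
    apply Submodule.subset_span
    refine ⟨⟨(i' : ℕ) - (n - k), hl⟩, ?_⟩
    have h1 : (n - k) + ((i' : ℕ) - (n - k)) < n := by
      have := i'.2
      omega
    simp only [g, dif_pos h1]
    congr 2
    ext
    simp only
    omega
  have hxi : ∀ i, (Matrix.of fun a b => z b (e a)).det • x i ∈ Submodule.span R (Set.range g) := by
    intro i
    by_cases hi : i ∈ Set.range e
    · obtain ⟨c, rfl⟩ := hi
      obtain ⟨cf, -, hcf⟩ := cramer_rel x z hz e he c
      rw [hcf]
      apply Submodule.sum_mem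
      intro i _
      by_cases hi : i ∈ Set.range e
      · rw [if_pos hi]
        exact Submodule.zero_mem _
      · rw [if_neg hi]
        exact Submodule.smul_mem _ _ (hgen i hi)
    · exact Submodule.smul_mem _ _ (hgen i hi)
  intro m
  have hm : m ∈ Submodule.span R (Set.range x) := by rw [hx]; trivial
  obtain ⟨c, rfl⟩ := (Submodule.mem_span_range_iff_exists_fun R).mp hm
  rw [Finset.smul_sum]
  apply Submodule.sum_mem
  intro i _
  rw [smul_comm]
  exact Submodule.smul_mem _ _ (hxi i)

/-- if `d • M ⊆ span (range g)` with `d ∈ S`, then `S⁻¹M` is generated by the images of `g`. -/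
theorem span_localizedModule_eq_top (S : Submonoid R) {k : ℕ} (g : Fin k → M) (d : R) (hd : d ∈ S)
    (h : ∀ m : M, d • m ∈ Submodule.span R (Set.range g)) :
    Submodule.span (Localization S)
      (Set.range fun l => LocalizedModule.mkLinearMap S M (g l)) = ⊤ := by
  rw [eq_top_iff]
  rintro y -
  induction y using LocalizedModule.induction_on with
  | h m s =>
    have h1 : LocalizedModule.mk m s =
        (Localization.mk 1 (s * ⟨d, hd⟩)) • LocalizedModule.mkLinearMap S M (d • m) := by
      rw [LocalizedModule.mkLinearMap_apply, LocalizedModule.mk_smul_mk, one_smul, mul_one]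
      rw [LocalizedModule.mk_eq]
      refine ⟨1, ?_⟩
      simp only [one_smul]
      rw [Submonoid.smul_def, Submonoid.smul_def]
      simp only [Submonoid.coe_mul]
      rw [mul_smul, smul_comm]
    rw [h1]
    apply Submodule.smul_mem
    have h2 := h m
    obtain ⟨c, hc⟩ := (Submodule.mem_span_range_iff_exists_fun R).mp h2
    rw [← hc, map_sum]
    apply Submodule.sum_mem
    intro l _
    rw [map_smul, ← algebraMap_smul (Localization S) (c l)]
    exact Submodule.smul_mem _ _ (Submodule.subset_span ⟨l, rfl⟩)

/-- if `S⁻¹M` is generated by `k` elements then `Fitt_k M` meets `S`. -/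
theorem exists_mem_fitt_of_span_localizedModule [Module.Finite R M] (S : Submonoid R) {k : ℕ}
    (g : Fin k → LocalizedModule S M)
    (hg : Submodule.span (Localization S) (Set.range g) = ⊤) :
    ∃ s ∈ S, s ∈ Fitt.ideal R M k := by
  have h1 : Fitt.ideal (Localization S) (LocalizedModule S M) k = ⊤ :=
    fitt_eq_top_of_span g hg le_rfl
  rw [fitt_of_isBaseChange (LocalizedModule.mkLinearMap S M)
    (IsLocalizedModule.isBaseChange S (Localization S) _) k] at h1
  by_contra hcon
  push Not at hcon
  have hdisj : Disjoint (S : Set R) (Fitt.ideal R M k : Set R) := by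
    rw [Set.disjoint_left]
    intro s hs hs'
    exact hcon s hs hs'
  exact (IsLocalization.map_algebraMap_ne_top_iff_disjoint S (Localization S) _).mpr hdisj h1

end LocalGen

section LocFree
variable {R : Type u} [CommRing R]

theorem eq_bot_of_detIdeal_one {ι : Type v} [Fintype ι] {K : Submodule R (ι → R)}
    (h : detIdeal K 1 = ⊥) : K = ⊥ := by
  rw [eq_bot_iff]
  intro v hv
  rw [Submodule.mem_bot]
  ext i
  have h1 := minor_mem K 1 (fun _ => v) (fun _ => i) (fun _ => hv)
  rw [h, Ideal.mem_bot, Matrix.det_unique] at h1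
  exact h1

variable {M : Type v} [AddCommGroup M] [Module R M]

/-- a generating family of `r` elements of a module with `Fitt_{r-1} = 0` is a basis. -/
theorem linearIndependent_of_fitt_eq_bot {r : ℕ} (g : Fin r → M)
    (hg : Submodule.span R (Set.range g) = ⊤) (h : ∀ k, k < r → Fitt.ideal R M k = ⊥) :
    LinearIndependent R g := by
  rcases Nat.eq_zero_or_pos r with rfl | hr
  · exact linearIndependent_empty_type
  · have h1 := h (r - 1) (by omega)
    rw [fitt_eq g hg (r - 1)] at h1
    have h2 : r - (r - 1) = 1 := by omega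
    rw [h2] at h1
    have h3 := eq_bot_of_detIdeal_one h1
    rw [Fintype.linearIndependent_iff]
    intro c hc i
    have : c ∈ rel R g := mem_rel.mpr hc
    rw [h3, Submodule.mem_bot] at this
    rw [this]
    rfl

theorem fitt_localizedModule [Module.Finite R M] (S : Submonoid R) (k : ℕ) :
    Fitt.ideal (Localization S) (LocalizedModule S M) k =
      (Fitt.ideal R M k).map (algebraMap R (Localization S)) :=
  fitt_of_isBaseChange (LocalizedModule.mkLinearMap S M)
    (IsLocalizedModule.isBaseChange S (Localization S) _) k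

/-- an ideal which vanishes Zariski-locally is zero. -/
theorem ideal_eq_bot_of_locally (I : Ideal R)
    (h : ∀ (p : Ideal R) [p.IsPrime], ∃ f : R, f ∉ p ∧
      I.map (algebraMap R (Localization.Away f)) = ⊥) : I = ⊥ := by
  rw [eq_bot_iff]
  intro x hx
  rw [Ideal.mem_bot]
  let N : Ideal R := LinearMap.ker (LinearMap.toSpanSingleton R R x)
  have hN : ∀ a, a ∈ N ↔ a * x = 0 := fun a => by
    simp [N, LinearMap.mem_ker, LinearMap.toSpanSingleton_apply]
  by_cases hNtop : N = ⊤
  · have : (1 : R) ∈ N := by rw [hNtop]; trivial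
    rw [hN, one_mul] at this
    exact this
  · exfalso
    obtain ⟨m, hm, hNm⟩ := Ideal.exists_le_maximal N hNtop
    haveI := hm.isPrime
    obtain ⟨f, hfm, hf⟩ := h m
    have h0 : algebraMap R (Localization.Away f) x = 0 := by
      have : algebraMap R (Localization.Away f) x ∈ I.map (algebraMap R (Localization.Away f)) :=
        Ideal.mem_map_of_mem _ hx
      rwa [hf, Ideal.mem_bot] at this
    obtain ⟨⟨_, n, rfl⟩, hn⟩ :=
      (IsLocalization.map_eq_zero_iff (Submonoid.powers f) (Localization.Away f) x).mp h0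
    have : f ^ n ∈ N := (hN _).mpr hn
    exact hfm (hm.isPrime.mem_of_pow_mem n (hNm this))

/-- an ideal which is the unit ideal Zariski-locally is the unit ideal. -/
theorem ideal_eq_top_of_locally (I : Ideal R)
    (h : ∀ (p : Ideal R) [p.IsPrime], ∃ f : R, f ∉ p ∧
      I.map (algebraMap R (Localization.Away f)) = ⊤) : I = ⊤ := by
  by_contra hI
  obtain ⟨m, hm, hIm⟩ := Ideal.exists_le_maximal I hI
  haveI := hm.isPrime
  obtain ⟨f, hfm, hf⟩ := h m
  have hnd : ¬ Disjoint ((Submonoid.powers f : Submonoid R) : Set R) (I : Set R) := by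
    intro hd
    exact (IsLocalization.map_algebraMap_ne_top_iff_disjoint (Submonoid.powers f)
      (Localization.Away f) I).mpr hd hf
  rw [Set.not_disjoint_iff] at hnd
  obtain ⟨_, ⟨n, rfl⟩, hn⟩ := hnd
  exact hfm (hm.isPrime.mem_of_pow_mem n (hIm hn))

theorem nontrivial_away_of_notMem (p : Ideal R) [hp : p.IsPrime] {d : R} (hdp : d ∉ p) :
    Nontrivial (Localization.Away d) := by
  have h0 : (0 : R) ∉ Submonoid.powers d := by
    rintro ⟨n, hn⟩
    have hn' : d ^ n = 0 := hn
    exact hdp (hp.mem_of_pow_mem n (by rw [hn']; exact p.zero_mem))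
  rw [← not_subsingleton_iff_nontrivial]
  intro h
  exact h0 ((IsLocalization.subsingleton_iff (M := Submonoid.powers d)
    (S := Localization.Away d)).mp h)

/-- **Fitting ideals detect finite local freeness of constant rank.** -/
theorem locFree_iff_fitt [Module.Finite R M] (r : ℕ) :
    (∀ (p : Ideal R) [p.IsPrime], ∃ f : R, f ∉ p ∧
      Module.Free (Localization.Away f) (LocalizedModule (Submonoid.powers f) M) ∧
        Module.finrank (Localization.Away f) (LocalizedModule (Submonoid.powers f) M) = r) ↔
    ((∀ k, k < r → Fitt.ideal R M k = ⊥) ∧ (∀ k, r ≤ k → Fitt.ideal R M k = ⊤)) := by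
  constructor
  · intro h
    constructor
    · intro k hk
      apply ideal_eq_bot_of_locally
      intro p _
      obtain ⟨f, hfp, hfree, hrank⟩ := h p
      refine ⟨f, hfp, ?_⟩
      haveI := nontrivial_away_of_notMem p hfp
      rw [← fitt_localizedModule]
      let b := Module.finBasis (Localization.Away f) (LocalizedModule (Submonoid.powers f) M)
      exact fitt_eq_bot_of_basis b (by rw [hrank]; exact hk)
    · intro k hk
      apply ideal_eq_top_of_locally
      intro p _
      obtain ⟨f, hfp, hfree, hrank⟩ := h p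
      refine ⟨f, hfp, ?_⟩
      haveI := nontrivial_away_of_notMem p hfp
      rw [← fitt_localizedModule]
      let b := Module.finBasis (Localization.Away f) (LocalizedModule (Submonoid.powers f) M)
      exact fitt_eq_top_of_basis b (by rw [hrank]; exact hk)
  · rintro ⟨hbot, htop⟩ p hp
    have hnle : ¬ Fitt.ideal R M r ≤ p := by
      rw [htop r le_rfl]
      intro h
      exact hp.ne_top (top_le_iff.mp h)
    obtain ⟨d, hdp, -, g, hg⟩ := exists_smul_mem_span_of_not_le r p hnle
    have hspan := span_localizedModule_eq_top (Submonoid.powers d) g d (Submonoid.mem_powers d) hg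
    have hli := linearIndependent_of_fitt_eq_bot _ hspan (fun k hk => by
      rw [fitt_localizedModule, hbot k hk, Ideal.map_bot])
    let b := Module.Basis.mk hli hspan.ge
    haveI : Nontrivial (Localization.Away d) := nontrivial_away_of_notMem p hdp
    refine ⟨d, hdp, Module.Free.of_basis b, ?_⟩
    rw [Module.finrank_eq_card_basis b, Fintype.card_fin]

end LocFree

section Principal
variable {R : Type u} [CommRing R] {M : Type v} [AddCommGroup M] [Module R M]

/-- enumerate (with padding) the members of a family outside the range of an injective selection. -/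
theorem exists_enum_compl {N : Type*} [Zero N] {n k : ℕ} (e : Fin (n - k) → Fin n)
    (he : Function.Injective e) (x : Fin n → N) :
    ∃ g : Fin k → N, ∀ i, i ∉ Set.range e → x i ∈ Set.range g := by
  classical
  obtain ⟨τ, hτ⟩ := exists_perm_extend e he (by omega)
  let g : Fin k → N := fun l => if h : (n - k) + (l : ℕ) < n then x (τ ⟨(n - k) + l, h⟩) else 0
  refine ⟨g, ?_⟩
  intro i hi
  obtain ⟨i', rfl⟩ := τ.surjective i
  have hi' : ¬ ((i' : ℕ) < n - k) := by
    intro h
    exact hi ⟨⟨i', h⟩, (hτ i' h).symm⟩
  have hl : (i' : ℕ) - (n - k) < k := by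
    have := i'.2
    omega
  refine ⟨⟨(i' : ℕ) - (n - k), hl⟩, ?_⟩
  have h1 : (n - k) + ((i' : ℕ) - (n - k)) < n := by
    have := i'.2
    omega
  simp only [g, dif_pos h1]
  congr 2
  ext
  simp only
  omega

theorem exists_span_quot_ker_smul [IsLocalRing R] [Module.Finite R M] (k : ℕ) (f : R)
    (hf : Fitt.ideal R M k = Ideal.span {f}) :
    ∃ g : Fin k → M ⧸ LinearMap.ker (f • (LinearMap.id : M →ₗ[R] M)),
      Submodule.span R (Set.range g) = ⊤ := by
  classical
  obtain ⟨n, x, hx⟩ := Module.Finite.exists_fin (R := R) (M := M)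
  rw [fitt_eq x hx k] at hf
  set P := LinearMap.ker (f • (LinearMap.id : M →ₗ[R] M)) with hP
  have hPmem : ∀ m : M, m ∈ P ↔ f • m = 0 := fun m => by
    rw [hP, LinearMap.mem_ker, LinearMap.smul_apply, LinearMap.id_apply]
  -- the images of the generators span the quotient
  have hxq : Submodule.span R (Set.range fun i => P.mkQ (x i)) = ⊤ := by
    have : (Set.range fun i => P.mkQ (x i)) = P.mkQ '' Set.range x := by
      rw [← Set.range_comp]
      rfl
    rw [this, ← Submodule.map_span, hx, Submodule.map_top, Submodule.range_mkQ]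
  by_cases hf0 : f = 0
  · -- trivial quotient
    have hPtop : P = ⊤ := by
      rw [eq_top_iff]
      intro m _
      rw [hPmem, hf0, zero_smul]
    refine ⟨fun _ => 0, ?_⟩
    rw [eq_top_iff]
    rintro y -
    obtain ⟨m, rfl⟩ := P.mkQ_surjective y
    have : P.mkQ m = 0 := by
      rw [Submodule.mkQ_apply, Submodule.Quotient.mk_eq_zero, hPtop]
      trivial
    rw [this]
    exact Submodule.zero_mem _
  -- some minor is a unit multiple of f
  have hunit : ∃ (z : Fin (n - k) → (Fin n → R)) (e : Fin (n - k) → Fin n) (u : R),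
      (∀ b, z b ∈ rel R x) ∧ IsUnit u ∧ (Matrix.of fun a b => z b (e a)).det = u * f := by
    by_contra hcon
    push Not at hcon
    apply hf0
    -- all minors lie in 𝔪 • (f)
    have hle' : detIdeal (rel R x) (n - k) ≤ IsLocalRing.maximalIdeal R • Ideal.span {f} := by
      apply Ideal.span_le.mpr
      rintro d ⟨z, e, hz, rfl⟩
      have hd : (Matrix.of fun a b => z b (e a)).det ∈ Ideal.span {f} := by
        rw [← hf]
        exact minor_mem _ _ z e hz
      obtain ⟨u, hu⟩ := Ideal.mem_span_singleton'.mp hd
      have hnu : ¬ IsUnit u := fun h => hcon z e u hz h hu.symm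
      rw [← hu]
      exact Submodule.smul_mem_smul ((IsLocalRing.mem_maximalIdeal u).mpr hnu)
        (Ideal.subset_span rfl)
    have hle : Ideal.span {f} ≤ IsLocalRing.maximalIdeal R • Ideal.span {f} :=
      hf.symm.le.trans hle'
    have := Submodule.eq_bot_of_le_smul_of_le_jacobson_bot (IsLocalRing.maximalIdeal R)
      (Ideal.span {f}) (Submodule.fg_span_singleton f) hle
      (IsLocalRing.maximalIdeal_le_jacobson _)
    exact Ideal.span_singleton_eq_bot.mp this
  obtain ⟨z, e, u, hz, hu, hdet⟩ := hunit
  have he : Function.Injective e := by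
    by_contra he
    rw [det_eq_zero_of_not_injective z e he] at hdet
    exact hf0 ((hu.mul_right_eq_zero).mp hdet.symm)
  obtain ⟨g, hg⟩ := exists_enum_compl (k := k) e he (fun i => P.mkQ (x i))
  refine ⟨g, ?_⟩
  rw [eq_top_iff, ← hxq]
  apply Submodule.span_le.mpr
  rintro _ ⟨i, rfl⟩
  by_cases hi : i ∈ Set.range e
  swap
  · exact Submodule.subset_span (hg i hi)
  obtain ⟨c, rfl⟩ := hi
  obtain ⟨cf, hcf, hsum⟩ := cramer_rel x z hz e he c
  rw [hdet] at hsum
  -- divide the coefficients by f
  have hcf' : ∀ i, ∃ c' : R, c' * f = cf i := fun i => by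
    have := hcf i
    rw [hf] at this
    exact Ideal.mem_span_singleton'.mp this
  choose c' hc' using hcf'
  have hker : u • x (e c) - ∑ i, (if i ∈ Set.range e then 0 else c' i • x i) ∈ P := by
    rw [hPmem, smul_sub, smul_smul, mul_comm f u, hsum, Finset.smul_sum, sub_eq_zero]
    apply Finset.sum_congr rfl
    intro i _
    by_cases hi : i ∈ Set.range e
    · rw [if_pos hi, if_pos hi, smul_zero]
    · rw [if_neg hi, if_neg hi, smul_smul, mul_comm, hc']
  have hq : u • P.mkQ (x (e c)) = ∑ i, (if i ∈ Set.range e then 0 else c' i • P.mkQ (x i)) := by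
    have := (Submodule.Quotient.mk_eq_zero P).mpr hker
    rw [Submodule.Quotient.mk_sub, sub_eq_zero] at this
    rw [← map_smul, Submodule.mkQ_apply, this, ← Submodule.mkQ_apply, map_sum]
    apply Finset.sum_congr rfl
    intro i _
    by_cases hi : i ∈ Set.range e
    · rw [if_pos hi, if_pos hi, map_zero]
    · rw [if_neg hi, if_neg hi, map_smul]
  obtain ⟨v, hv⟩ := hu.exists_left_inv
  have hfin : P.mkQ (x (e c)) = v • ∑ i, (if i ∈ Set.range e then 0 else c' i • P.mkQ (x i)) := by
    rw [← hq, smul_smul, hv, one_smul]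
  show P.mkQ (x (e c)) ∈ Submodule.span R (Set.range g)
  rw [hfin]
  apply Submodule.smul_mem
  apply Submodule.sum_mem
  intro i _
  by_cases hi : i ∈ Set.range e
  · rw [if_pos hi]
    exact Submodule.zero_mem _
  · rw [if_neg hi]
    exact Submodule.smul_mem _ _ (Submodule.subset_span (hg i hi))

end Principal

end Groth.Agent.Lib.helper15.FittLink
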