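import Mathlib

/-!
# Flatness modulo a nilpotent thickening from flatness at the points of the closed fibre

`flat_quot_tensor`: if `C` is an `A`-algebra whose localisations at the primes containing `I C`
are flat over `A`, and `I ^ m ≤ K`, then `(A ⧸ K) ⊗[A] C` is flat over `A ⧸ K`.
-/

set_option autoImplicit false
universe u
open TensorProduct

namespace Groth.Agent.Lib.helper15.FlatNil

/-- Tensoring an injection of `A`-modules whose source is killed by `I ^ m` with an algebra `C`
that is flat over `A` at the primes containing `I C` stays injective. -/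
theorem lTensor_injective_of_flat_at {A : Type u} [CommRing A] (I : Ideal A)
    {C : Type u} [CommRing C] [Algebra A C]
    (hfl : ∀ (q : Ideal C) [q.IsPrime], Ideal.map (algebraMap A C) I ≤ q →
      Module.Flat A (Localization.AtPrime q))
    {N N' : Type u} [AddCommGroup N] [Module A N] [AddCommGroup N'] [Module A N']
    (m : ℕ) (hN : ∀ a ∈ I ^ m, ∀ x : N, a • x = 0)
    (f : N →ₗ[A] N') (hf : Function.Injective f) : Function.Injective (f.lTensor C) := by
  rw [← AlgebraTensorModule.coe_lTensor (A := C)]
  refine injective_of_isLocalized_maximal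
    (fun (q : Ideal C) [q.IsMaximal] => Localization.AtPrime q ⊗[A] N)
    (fun q _ ↦ AlgebraTensorModule.rTensor A _ (Algebra.linearMap C (Localization.AtPrime q)))
    (fun (q : Ideal C) [q.IsMaximal] => Localization.AtPrime q ⊗[A] N')
    (fun q _ ↦ AlgebraTensorModule.rTensor A _ (Algebra.linearMap C (Localization.AtPrime q)))
    _ fun q hq ↦ ?_
  rw [IsLocalizedModule.map_lTensor]
  by_cases h : Ideal.map (algebraMap A C) I ≤ q
  · have := hfl q h
    exact Module.Flat.lTensor_preserves_injective_linearMap f hf
  · rw [Ideal.map_le_iff_le_comap] at h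
    obtain ⟨a, haI, haq⟩ := Set.not_subset.mp h
    have hu : IsUnit (algebraMap A (Localization.AtPrime q) (a ^ m)) := by
      rw [map_pow]
      refine IsUnit.pow _ ?_
      rw [IsScalarTower.algebraMap_apply A C]
      exact IsLocalization.map_units (Localization.AtPrime q)
        (⟨algebraMap A C a, haq⟩ : q.primeCompl)
    have hsub : Subsingleton (Localization.AtPrime q ⊗[A] N) := by
      refine ⟨fun x y => ?_⟩
      have key : ∀ z : Localization.AtPrime q ⊗[A] N, z = 0 := by
        intro z
        have h0 : (a ^ m) • z = 0 := by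
          induction z using TensorProduct.induction_on with
          | zero => simp
          | tmul x n =>
            rw [TensorProduct.smul_tmul', TensorProduct.smul_tmul,
              hN _ (Ideal.pow_mem_pow haI m), tmul_zero]
          | add x y hx hy => rw [smul_add, hx, hy, add_zero]
        obtain ⟨v, hv⟩ := hu
        have h1 : (algebraMap A (Localization.AtPrime q) (a ^ m)) • z = 0 := by
          rw [algebraMap_smul]; exact h0
        rw [← hv] at h1
        calc z = (v⁻¹ : (Localization.AtPrime q)ˣ) • (v • z) := by rw [inv_smul_smul]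
          _ = 0 := by rw [show (v • z) = ((v : Localization.AtPrime q) • z) from rfl, h1, smul_zero]
      rw [key x, key y]
    exact Function.injective_of_subsingleton _

/-- If `C` is flat over `A` at the primes containing `I C` and `I ^ m ≤ K`, then `(A ⧸ K) ⊗[A] C`
is flat over `A ⧸ K`. -/
theorem flat_quot_tensor {A : Type u} [CommRing A] (I K : Ideal A) (m : ℕ) (hK : I ^ m ≤ K)
    {C : Type u} [CommRing C] [Algebra A C]
    (hfl : ∀ (q : Ideal C) [q.IsPrime], Ideal.map (algebraMap A C) I ≤ q →
      Module.Flat A (Localization.AtPrime q)) :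
    Module.Flat (A ⧸ K) ((A ⧸ K) ⊗[A] C) := by
  rw [Module.Flat.iff_rTensor_preserves_injective_linearMapₛ.{u, u, u}]
  intro N N' _ _ _ _ f hf
  letI : AddCommGroup N := Module.addCommMonoidToAddCommGroup (A ⧸ K)
  letI : AddCommGroup N' := Module.addCommMonoidToAddCommGroup (A ⧸ K)
  letI : Module A N := Module.compHom N (algebraMap A (A ⧸ K))
  letI : Module A N' := Module.compHom N' (algebraMap A (A ⧸ K))
  haveI : IsScalarTower A (A ⧸ K) N := IsScalarTower.of_algebraMap_smul fun _ _ => rfl
  haveI : IsScalarTower A (A ⧸ K) N' := IsScalarTower.of_algebraMap_smul fun _ _ => rfl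
  let e := AlgebraTensorModule.cancelBaseChange A (A ⧸ K) (A ⧸ K) N C
  let e' := AlgebraTensorModule.cancelBaseChange A (A ⧸ K) (A ⧸ K) N' C
  let fA : N →ₗ[A] N' := f.restrictScalars A
  have hsq : ∀ z, e' (f.rTensor ((A ⧸ K) ⊗[A] C) z) = fA.rTensor C (e z) := by
    intro z
    induction z using TensorProduct.induction_on with
    | zero => simp
    | tmul n y =>
      induction y using TensorProduct.induction_on with
      | zero => simp
      | tmul r c =>
        simp only [LinearMap.rTensor_tmul, e, e', AlgebraTensorModule.cancelBaseChange_tmul, fA,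
          LinearMap.coe_restrictScalars, map_smul]
      | add y y' hy hy' => simp only [tmul_add, map_add, hy, hy']
    | add z z' hz hz' => simp only [map_add, hz, hz']
  have hN : ∀ a ∈ I ^ m, ∀ x : N, a • x = 0 := by
    intro a ha x
    have : algebraMap A (A ⧸ K) a = 0 := Ideal.Quotient.eq_zero_iff_mem.mpr (hK ha)
    rw [← algebraMap_smul (A ⧸ K) a x, this, zero_smul]
  have hinj : Function.Injective (fA.rTensor C) :=
    (fA.lTensor_inj_iff_rTensor_inj C).1 (lTensor_injective_of_flat_at I hfl m hN fA hf)
  intro z z' hzz'
  apply e.injective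
  apply hinj
  rw [← hsq, ← hsq, hzz']

end Groth.Agent.Lib.helper15.FlatNil
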