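import Mathlib
import Groth.Agent.Lib.Helper15.DefoDiag2

/-!
# Formal homomorphisms, part 0: adic generalities (helper15)

* `fac`, `red`: the transition maps `A/K → A/J` and `A/K ⊗ N → A/J ⊗ N` for `K ≤ J`.
* `tmul_eq_zero_iff`: `(1 : A/J) ⊗ x = 0 ↔ x ∈ J • ⊤`.
* `exists_limit_linearMap`: a compatible family of linear maps `C → A/I^(n+1) ⊗ N` into an adically
  complete module comes from a unique linear map `C → N`.
* `isAdicComplete_of_finite`: finite modules over complete Noetherian rings are complete.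
* `eq_zero_of_forall_tmul_eq_zero`: separatedness for modules that become free after a finite
  faithfully flat base change.
* `exists_retraction`: a finite projective faithfully flat algebra `A → R'` has an `A`-linear
  retraction.
-/

set_option autoImplicit false
set_option linter.unusedSectionVars false
set_option linter.style.haveILetI false
universe u
open TensorProduct

namespace Groth.Agent.Lib.helper15.FormalHom

section Basic

variable {A : Type*} [CommRing A]

/-- the transition map `A/K → A/J`. -/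
noncomputable def fac {K J : Ideal A} (h : K ≤ J) : A ⧸ K →ₗ[A] A ⧸ J :=
  (Ideal.Quotient.factorₐ A h).toLinearMap

@[simp] lemma fac_one {K J : Ideal A} (h : K ≤ J) : fac h 1 = 1 := by
  simp [fac]

/-- the transition map `A/K ⊗ N → A/J ⊗ N`. -/
noncomputable def red {K J : Ideal A} (h : K ≤ J) (N : Type*) [AddCommGroup N] [Module A N] :
    (A ⧸ K) ⊗[A] N →ₗ[A] (A ⧸ J) ⊗[A] N :=
  LinearMap.rTensor N (fac h)

@[simp] lemma red_one_tmul {K J : Ideal A} (h : K ≤ J) {N : Type*} [AddCommGroup N] [Module A N]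
    (x : N) : red h N ((1 : A ⧸ K) ⊗ₜ[A] x) = (1 : A ⧸ J) ⊗ₜ[A] x := by
  rw [red, LinearMap.rTensor_tmul, fac_one]

lemma mk_surjective' (J : Ideal A) : Function.Surjective (algebraMap A (A ⧸ J)) :=
  Ideal.Quotient.mk_surjective

lemma ker_algebraMap_quot (J : Ideal A) : RingHom.ker (algebraMap A (A ⧸ J)) = J := Ideal.mk_ker

lemma tmul_eq_zero_iff (J : Ideal A) {N : Type*} [AddCommGroup N] [Module A N] (x : N) :
    (1 : A ⧸ J) ⊗ₜ[A] x = 0 ↔ x ∈ J • (⊤ : Submodule A N) := by
  constructor
  · intro h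
    have := DefoDiag.mem_of_tmul_eq_zero (L := A ⧸ J) (mk_surjective' J) h
    rwa [ker_algebraMap_quot] at this
  · intro h
    apply DefoDiag.tmul_eq_zero_of_mem (L := A ⧸ J)
    rwa [ker_algebraMap_quot]

lemma exists_one_tmul_eq (J : Ideal A) {N : Type*} [AddCommGroup N] [Module A N]
    (y : (A ⧸ J) ⊗[A] N) : ∃ x : N, (1 : A ⧸ J) ⊗ₜ[A] x = y :=
  DefoDiag.exists_tmul_eq (mk_surjective' J) y

lemma tmul_eq_tmul_iff (J : Ideal A) {N : Type*} [AddCommGroup N] [Module A N] (x y : N) :
    (1 : A ⧸ J) ⊗ₜ[A] x = (1 : A ⧸ J) ⊗ₜ[A] y ↔ x - y ∈ J • (⊤ : Submodule A N) := by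
  rw [← tmul_eq_zero_iff, TensorProduct.tmul_sub, sub_eq_zero]

end Basic

section Limit

variable {A : Type*} [CommRing A] (I : Ideal A)

lemma pow_succ_le (n : ℕ) : I ^ (n + 1 + 1) ≤ I ^ (n + 1) := Ideal.pow_le_pow_right (Nat.le_succ _)

/-- a compatible family of linear maps into the truncations of a complete module has a limit. -/
theorem exists_limit_linearMap {N : Type*} [AddCommGroup N] [Module A N] [IsAdicComplete I N]
    {C : Type*} [AddCommGroup C] [Module A C]
    (g : ∀ n : ℕ, C →ₗ[A] (A ⧸ I ^ (n + 1)) ⊗[A] N)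
    (hg : ∀ n c, red (pow_succ_le I n) N (g (n + 1) c) = g n c) :
    ∃ u : C →ₗ[A] N, ∀ n c, (1 : A ⧸ I ^ (n + 1)) ⊗ₜ[A] u c = g n c := by
  let a : ℕ → ℕ := fun n => n + 1
  have ha : StrictMono a := fun m n h => Nat.succ_lt_succ h
  let f : ∀ n : ℕ, C →ₗ[A] N ⧸ (I ^ (a n) • ⊤ : Submodule A N) := fun n =>
    (TensorProduct.quotTensorEquivQuotSMul N (I ^ (n + 1))).toLinearMap ∘ₗ g n
  have hf : ∀ {m : ℕ}, Submodule.factorPow I N (ha.monotone m.le_succ) ∘ₗ f (m + 1) = f m := by
    intro m
    ext c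
    obtain ⟨x, hx⟩ := exists_one_tmul_eq (I ^ (m + 1 + 1)) (g (m + 1) c)
    have h1 : g m c = (1 : A ⧸ I ^ (m + 1)) ⊗ₜ[A] x := by
      rw [← hg m c, ← hx, red_one_tmul]
    have h2 : f (m + 1) c = Submodule.Quotient.mk x := by
      change TensorProduct.quotTensorEquivQuotSMul N (I ^ (m + 1 + 1)) (g (m + 1) c) = _
      rw [← hx, TensorProduct.quotTensorEquivQuotSMul_mk_one_tmul]
    have h3 : f m c = Submodule.Quotient.mk x := by
      change TensorProduct.quotTensorEquivQuotSMul N (I ^ (m + 1)) (g m c) = _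
      rw [h1, TensorProduct.quotTensorEquivQuotSMul_mk_one_tmul]
    rw [LinearMap.comp_apply, h2, h3]
    rfl
  refine ⟨IsAdicComplete.StrictMono.lift I ha f hf, fun n c => ?_⟩
  have h1 : (Submodule.Quotient.mk (IsAdicComplete.StrictMono.lift I ha f hf c) :
      N ⧸ (I ^ (a n) • ⊤ : Submodule A N)) = f n c :=
    IsAdicComplete.StrictMono.mk_lift I ha f hf c
  apply (TensorProduct.quotTensorEquivQuotSMul N (I ^ (n + 1))).injective
  rw [TensorProduct.quotTensorEquivQuotSMul_mk_one_tmul]
  exact h1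

/-- a finite module over a complete Noetherian ring is complete (same proof as helper4's
`RigClosed.isAdicComplete_of_finite`, copied to keep imports light). -/
theorem isAdicComplete_of_finite {S : Type u} [CommRing S] [IsNoetherianRing S] (J : Ideal S)
    [IsAdicComplete J S]
    (M : Type u) [AddCommGroup M] [Module S M] [Module.Finite S M] : IsAdicComplete J M := by
  rw [← AdicCompletion.of_bijective_iff]
  have h1 := AdicCompletion.ofTensorProduct_bijective_of_finite_of_isNoetherian J M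
  have h2 : Function.Bijective (LinearMap.rTensor M (AdicCompletion.of J S)) := by
    have hb : Function.Bijective (AdicCompletion.of J S) := AdicCompletion.of_bijective J S
    exact (LinearEquiv.rTensor M (LinearEquiv.ofBijective (AdicCompletion.of J S) hb)).bijective
  have hone : (AdicCompletion.of J S) 1 = 1 := rfl
  have h3 : ⇑(AdicCompletion.of J M) = (AdicCompletion.ofTensorProduct J M) ∘
      (LinearMap.rTensor M (AdicCompletion.of J S)) ∘ (TensorProduct.lid S M).symm := by
    funext x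
    simp [AdicCompletion.ofTensorProduct_tmul, hone]
  rw [h3]
  exact h1.comp (h2.comp (TensorProduct.lid S M).symm.bijective)

end Limit

section Sep

variable {A : Type*} [CommRing A] (I : Ideal A)

lemma one_tmul_mem_smul_top {R' : Type*} [CommRing R'] [Algebra A R'] {P : Type*} [AddCommGroup P]
    [Module A P] (J : Ideal A) {z : P} (hz : z ∈ J • (⊤ : Submodule A P)) :
    (1 : R') ⊗ₜ[A] z ∈ J • (⊤ : Submodule A (R' ⊗[A] P)) := by
  have := Submodule.mem_map_of_mem (f := TensorProduct.mk A R' P 1) hz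
  rw [Submodule.map_smul''] at this
  exact Submodule.smul_mono le_rfl le_top this

lemma map_mem_smul_top {P Q : Type*} [AddCommGroup P] [Module A P] [AddCommGroup Q] [Module A Q]
    (f : P →ₗ[A] Q) (J : Ideal A) {z : P} (hz : z ∈ J • (⊤ : Submodule A P)) :
    f z ∈ J • (⊤ : Submodule A Q) := by
  have := Submodule.mem_map_of_mem (f := f) hz
  rw [Submodule.map_smul''] at this
  exact Submodule.smul_mono le_rfl le_top this

/-- a finite module over a Noetherian ring is separated for ideals in the radical. -/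
lemma eq_zero_of_forall_mem_of_finite [IsNoetherianRing A] (hI : I ≤ Ideal.jacobson ⊥)
    {N : Type*} [AddCommGroup N] [Module A N] [Module.Finite A N] (x : N)
    (hx : ∀ n : ℕ, x ∈ I ^ (n + 1) • (⊤ : Submodule A N)) : x = 0 := by
  have hbot : (⨅ i : ℕ, I ^ i • ⊤ : Submodule A N) = ⊥ :=
    Ideal.iInf_pow_smul_eq_bot_of_le_jacobson I hI
  have : x ∈ (⨅ i : ℕ, I ^ i • ⊤ : Submodule A N) := by
    rw [Submodule.mem_iInf]
    intro i
    rcases i with _ | n
    · simp only [pow_zero, Ideal.one_eq_top, Submodule.top_smul, Submodule.mem_top]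
    · exact hx n
  rwa [hbot, Submodule.mem_bot] at this

/-- separatedness for modules that become free after a finite faithfully flat base change. -/
theorem eq_zero_of_forall_mem [IsNoetherianRing A] (hI : I ≤ Ideal.jacobson ⊥)
    (R' : Type*) [CommRing R'] [Algebra A R'] [Module.Finite A R'] [Module.FaithfullyFlat A R']
    {P : Type*} [AddCommGroup P] [Module A P] [Module.Free R' (R' ⊗[A] P)] (z : P)
    (hz : ∀ n : ℕ, z ∈ I ^ (n + 1) • (⊤ : Submodule A P)) : z = 0 := by
  classical
  let b := Module.Free.chooseBasis R' (R' ⊗[A] P)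
  have h1 : (1 : R') ⊗ₜ[A] z = 0 := by
    apply b.repr.injective
    rw [map_zero]
    ext i
    rw [Finsupp.zero_apply]
    apply eq_zero_of_forall_mem_of_finite I hI
    intro n
    exact map_mem_smul_top ((b.coord i).restrictScalars A) _ (one_tmul_mem_smul_top _ (hz n))
  have hinj := Module.FaithfullyFlat.tensorProduct_mk_injective (A := A) (B := R') P
  exact hinj (by rw [map_zero]; exact h1)

theorem eq_zero_of_forall_tmul_eq_zero [IsNoetherianRing A] (hI : I ≤ Ideal.jacobson ⊥)
    (R' : Type*) [CommRing R'] [Algebra A R'] [Module.Finite A R'] [Module.FaithfullyFlat A R']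
    {P : Type*} [AddCommGroup P] [Module A P] [Module.Free R' (R' ⊗[A] P)] (z : P)
    (hz : ∀ n : ℕ, (1 : A ⧸ I ^ (n + 1)) ⊗ₜ[A] z = 0) : z = 0 :=
  eq_zero_of_forall_mem I hI R' z fun n => (tmul_eq_zero_iff _ z).mp (hz n)

end Sep

section Retraction

/-- a finite projective faithfully flat algebra has a linear retraction. -/
theorem exists_retraction (A : Type*) [CommRing A] (R' : Type*) [CommRing R'] [Algebra A R']
    [Module.Projective A R'] [Module.FaithfullyFlat A R'] :
    ∃ r : R' →ₗ[A] A, r 1 = 1 := by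
  let ev : (R' →ₗ[A] A) →ₗ[A] A := LinearMap.applyₗ (1 : R')
  let 𝔞 : Ideal A := LinearMap.range ev
  suffices h : 𝔞 = ⊤ by
    have h1 : (1 : A) ∈ 𝔞 := by rw [h]; trivial
    obtain ⟨r, hr⟩ := h1
    exact ⟨r, hr⟩
  by_contra hne
  obtain ⟨𝔪, h𝔪, hle⟩ := Ideal.exists_le_maximal 𝔞 hne
  letI : Field (A ⧸ 𝔪) := Ideal.Quotient.field 𝔪
  have hne' : 𝔪 • (⊤ : Submodule A R') ≠ ⊤ := Module.FaithfullyFlat.submodule_ne_top h𝔪
  -- `1 ∉ 𝔪 R'`
  have h1 : (1 : R') ∉ 𝔪 • (⊤ : Submodule A R') := by
    intro h1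
    apply hne'
    rw [eq_top_iff]
    intro x _
    have := map_mem_smul_top (LinearMap.mulLeft A x) 𝔪 h1
    simpa using this
  set V := R' ⧸ (𝔪 • (⊤ : Submodule A R')) with hV
  have hv : (Submodule.Quotient.mk (1 : R') : V) ≠ 0 := by
    rw [Ne, Submodule.Quotient.mk_eq_zero]
    exact h1
  obtain ⟨g₀, hg₀⟩ := Module.Projective.exists_dual_eq_one (A ⧸ 𝔪) hv
  let G₀ : R' →ₗ[A] (A ⧸ 𝔪) :=
    (g₀.restrictScalars A) ∘ₗ (𝔪 • (⊤ : Submodule A R')).mkQ
  obtain ⟨h, hh⟩ := Module.projective_lifting_property (Submodule.mkQ 𝔪) G₀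
    (Submodule.mkQ_surjective _)
  have h2 : h 1 ∈ 𝔪 := hle ⟨h, rfl⟩
  have h3 : (Submodule.mkQ 𝔪) (h 1) = 1 := by
    have := LinearMap.congr_fun hh 1
    rw [LinearMap.comp_apply] at this
    rw [this]
    exact hg₀
  have h4 : (Submodule.mkQ 𝔪) (h 1) = 0 := by
    rw [Submodule.mkQ_apply, Submodule.Quotient.mk_eq_zero]
    exact h2
  rw [h4] at h3
  exact zero_ne_one h3

end Retraction

end Groth.Agent.Lib.helper15.FormalHom
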