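import Mathlib
import Groth.Agent.Lib.Helper15.HensHom0

/-!
# Lifting homomorphisms of finite commutative group schemes with étale dual along a henselian pair
(helper15)

`(A, 𝔪)` a henselian pair, `B`, `C` finite projective commutative cocommutative bialgebras over `A` with
the dual algebra `D A B` étale.  `exists_bialgHom_lift`: every bialgebra map `C/𝔪 → B/𝔪` lifts to a bialgebra
map `C → B`.  (The dual algebra map `D B → D C` is lifted by helper26's smooth lifting; it is dualised back by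
`dualLin`, which is a coalgebra map for free and an algebra map by uniqueness of liftings.)
-/

set_option autoImplicit false
set_option linter.style.haveILetI false
set_option linter.unusedSectionVars false
universe u
open TensorProduct WithConv

namespace Groth.Agent.Lib.helper15.HensHom

open Groth.Agent.Lib.helper15.DualBC Groth.Agent.Lib.helper15.CartBC
  Groth.Agent.Lib.helper15.MultType Groth.Agent.Lib.helper15.Rigid
  Groth.Agent.Lib.helper26.SmoothHensLift Groth.Agent.Lib.helper26.HenselPair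

section Main

variable (A : Type u) [CommRing A] (𝔪 : Ideal A) (h𝔪 : HenselianRing A 𝔪)
  (B : Type u) [CommRing B] [Bialgebra A B] [Module.Finite A B] [Module.Projective A B]
  [Coalgebra.IsCocomm A B]
  (C : Type u) [CommRing C] [Bialgebra A C] [Module.Finite A C] [Module.Projective A C]
  [Coalgebra.IsCocomm A C]

omit h𝔪 in
lemma mem_map_of_mem_smul_top {R S : Type*} [CommRing R] [CommRing S] [Algebra R S] (I : Ideal R)
    {d : S} (h : d ∈ I • (⊤ : Submodule R S)) : d ∈ I.map (algebraMap R S) := by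
  rw [Ideal.smul_top_eq_map] at h
  exact h

/-- the reduction of `ψ` is the transpose of `φ₀`, pointwise. -/
def Compat (φt : C →ₗ[A] B) (ψ : CartDual.D A B →ₐ[A] CartDual.D A C) : Prop :=
  ∀ (x : CartDual.D A B) (c : C), (ψ x) c - x (φt c) ∈ 𝔪

variable {A 𝔪 B C}

include h𝔪 in
theorem exists_algHom_compat [Algebra.Etale A (CartDual.D A B)]
    (φ₀ : ((A ⧸ 𝔪) ⊗[A] C) →ₐc[A ⧸ 𝔪] ((A ⧸ 𝔪) ⊗[A] B)) (φt : C →ₗ[A] B)
    (hφt : ∀ c, (1 : A ⧸ 𝔪) ⊗ₜ[A] φt c = φ₀ ((1 : A ⧸ 𝔪) ⊗ₜ[A] c)) :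
    ∃ ψ : CartDual.D A B →ₐ[A] CartDual.D A C, Compat A 𝔪 B C φt ψ := by
  set J : Ideal (CartDual.D A C) := 𝔪.map (algebraMap A (CartDual.D A C)) with hJ
  let ρ : (A ⧸ 𝔪) ⊗[A] CartDual.D A B →ₐ[A ⧸ 𝔪] CartDual.D A C ⧸ J :=
    ((Algebra.TensorProduct.quotIdealMapEquivQuotTensor (CartDual.D A C) 𝔪).symm.toAlgHom).comp
      (((bcDual' A C (A ⧸ 𝔪)).symm.toAlgHom).comp
        (((CartDual.transpose (A ⧸ 𝔪) φ₀ : _ →ₐc[A ⧸ 𝔪] _) : _ →ₐ[A ⧸ 𝔪] _).comp
          (bcDual' A B (A ⧸ 𝔪)).toAlgHom))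
  let ψbar : CartDual.D A B →ₐ[A] CartDual.D A C ⧸ J :=
    (ρ.restrictScalars A).comp Algebra.TensorProduct.includeRight
  have hQ : HenselianRing (CartDual.D A C) J := henselianRing_map_of_isIntegral h𝔪 _
  obtain ⟨ψ, hψ⟩ := exists_algHom_lift_of_smooth (A := A) (CartDual.D A C) J hQ
    (CartDual.D A B) ψbar
  refine ⟨ψ, ?_⟩
  intro x c
  have h1 : (1 : A ⧸ 𝔪) ⊗ₜ[A] ψ x =
      (bcDual' A C (A ⧸ 𝔪)).symm (CartDual.transpose (A ⧸ 𝔪) φ₀
        (bcDual' A B (A ⧸ 𝔪) ((1 : A ⧸ 𝔪) ⊗ₜ[A] x))) := by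
    have := congrArg (Algebra.TensorProduct.quotIdealMapEquivQuotTensor (CartDual.D A C) 𝔪) (hψ x)
    rw [Algebra.TensorProduct.quotIdealMapEquivQuotTensor_mk] at this
    rw [this]
    change (Algebra.TensorProduct.quotIdealMapEquivQuotTensor (CartDual.D A C) 𝔪)
      ((Algebra.TensorProduct.quotIdealMapEquivQuotTensor (CartDual.D A C) 𝔪).symm _) = _
    rw [AlgEquiv.apply_symm_apply]
    rfl
  have h2 : beta A C (A ⧸ 𝔪) (ψ x) = CartDual.transpose (A ⧸ 𝔪) φ₀ (beta A B (A ⧸ 𝔪) x) := by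
    rw [← bcDual'_one_tmul, h1, AlgEquiv.apply_symm_apply, bcDual'_one_tmul]
  have h3 := congrArg (fun z : CartDual.D (A ⧸ 𝔪) ((A ⧸ 𝔪) ⊗[A] C) =>
    z.ofConv ((1 : A ⧸ 𝔪) ⊗ₜ[A] c)) h2
  rw [beta_apply_tmul] at h3
  change _ = (beta A B (A ⧸ 𝔪) x).ofConv (φ₀ ((1 : A ⧸ 𝔪) ⊗ₜ[A] c)) at h3
  rw [← hφt, beta_apply_tmul] at h3
  rw [← Ideal.Quotient.eq]
  have e : ∀ a : A, a • (1 : A ⧸ 𝔪) = Ideal.Quotient.mk 𝔪 a := fun a => by
    rw [Algebra.smul_def, mul_one]; rfl
  rw [e, e] at h3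
  exact h3

include h𝔪 in
theorem counit_comp_of_compat [Algebra.Etale A (CartDual.D A B)] (φt : C →ₗ[A] B)
    (h1 : φt 1 - 1 ∈ 𝔪 • (⊤ : Submodule A B))
    (ψ : CartDual.D A B →ₐ[A] CartDual.D A C) (hψ : Compat A 𝔪 B C φt ψ) :
    (Bialgebra.counitAlgHom A (CartDual.D A C)).comp ψ =
      Bialgebra.counitAlgHom A (CartDual.D A B) := by
  refine algHom_eq_of_sub_mem (R := A) 𝔪 h𝔪.jac _ _ ?_
  intro x
  change (ψ x) 1 - x 1 ∈ 𝔪
  have e1 := hψ x 1
  have e2 : x (φt 1) - x 1 ∈ 𝔪 := by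
    have := apply_mem_of_mem_smul_top 𝔪 x.ofConv h1
    rwa [map_sub] at this
  have := 𝔪.add_mem e1 e2
  rwa [sub_add_sub_cancel] at this


/-- the transpose of a coalgebra map, as an algebra map of dual algebras. -/
noncomputable def transposeAlg {X Y : Type u} [Ring X] [Bialgebra A X] [Ring Y] [Bialgebra A Y]
    (f : X →ₗc[A] Y) : CartDual.D A Y →ₐ[A] CartDual.D A X :=
  AlgHom.ofLinearMap (CartDual.transposeLin A f.toLinearMap)
    (by
      apply WithConv.ext; apply LinearMap.ext; intro a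
      change (1 : CartDual.D A Y) (f a) = (1 : CartDual.D A X) a
      simp [LinearMap.convOne_apply])
    (fun x y => by
      apply WithConv.ext
      change (x * y).ofConv ∘ₗ f.toLinearMap = _
      rw [LinearMap.convMul_comp_coalgHom_distrib]
      rfl)

theorem transposeAlg_apply {X Y : Type u} [Ring X] [Bialgebra A X] [Ring Y] [Bialgebra A Y]
    (f : X →ₗc[A] Y) (y : CartDual.D A Y) (a : X) : transposeAlg f y a = y (f a) := rfl

/-- the linear map `C → B` dual to an algebra map `D B → D C`. -/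
noncomputable def dualLin (ψ : CartDual.D A B →ₐ[A] CartDual.D A C) : C →ₗ[A] B where
  toFun c := (evalEquiv A B).symm (CartDual.transposeLin A ψ.toLinearMap (evalEquiv A C c))
  map_add' c c' := by rw [map_add, map_add, map_add]
  map_smul' a c := by rw [map_smul, map_smul, map_smul]; rfl

theorem apply_dualLin (ψ : CartDual.D A B →ₐ[A] CartDual.D A C) (x : CartDual.D A B) (c : C) :
    x (dualLin ψ c) = (ψ x) c := by
  have h1 : evalEquiv A B (dualLin ψ c) =
      CartDual.transposeLin A ψ.toLinearMap (evalEquiv A C c) :=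
    (evalEquiv A B).apply_symm_apply _
  have h2 := congrArg (fun z : CartDual.D A (CartDual.D A B) => z x) h1
  exact h2

theorem ofConv_comp_dualLin (ψ : CartDual.D A B →ₐ[A] CartDual.D A C) (x : CartDual.D A B) :
    x.ofConv ∘ₗ dualLin ψ = (ψ x).ofConv :=
  LinearMap.ext fun c => apply_dualLin ψ x c

theorem counit_dualLin (ψ : CartDual.D A B →ₐ[A] CartDual.D A C) (c : C) :
    Coalgebra.counit (R := A) (dualLin ψ c) = Coalgebra.counit (R := A) c := by
  have h := apply_dualLin ψ 1 c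
  rw [map_one] at h
  simpa [CartDual.coe_apply, LinearMap.convOne_apply] using h

theorem sep_tensor (z z' : B ⊗[A] B)
    (h : ∀ x x' : CartDual.D A B, CartDual.ev₂ A B (x ⊗ₜ x') z = CartDual.ev₂ A B (x ⊗ₜ x') z') :
    z = z' := by
  apply (Module.bijective_dual_eval A (B ⊗[A] B)).1
  apply LinearMap.ext
  intro ξ
  rw [Module.Dual.eval_apply, Module.Dual.eval_apply]
  obtain ⟨y, rfl⟩ := (CartDual.ev₂ A B).surjective ξ
  induction y using TensorProduct.induction_on with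
  | zero => simp
  | add y y' hy hy' => rw [map_add, LinearMap.add_apply, LinearMap.add_apply, hy, hy']
  | tmul x x' => exact h x x'

theorem comul_dualLin (ψ : CartDual.D A B →ₐ[A] CartDual.D A C) (c : C) :
    TensorProduct.map (dualLin ψ) (dualLin ψ) (Coalgebra.comul (R := A) c) =
      Coalgebra.comul (R := A) (dualLin ψ c) := by
  apply sep_tensor
  intro x x'
  rw [CartDual.ev₂_tmul_eq', LinearMap.comp_apply, LinearMap.comp_apply,
    ← LinearMap.comp_apply (TensorProduct.map x.ofConv x'.ofConv), ← TensorProduct.map_comp,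
    ofConv_comp_dualLin, ofConv_comp_dualLin]
  have e1 : LinearMap.mul' A A (TensorProduct.map (ψ x).ofConv (ψ x').ofConv
      (Coalgebra.comul (R := A) c)) = (ψ x * ψ x') c := (LinearMap.convMul_apply _ _ _).symm
  have e2 : LinearMap.mul' A A (TensorProduct.map x.ofConv x'.ofConv
      (Coalgebra.comul (R := A) (dualLin ψ c))) = (x * x') (dualLin ψ c) :=
    (LinearMap.convMul_apply _ _ _).symm
  rw [e1, e2, ← map_mul, apply_dualLin]

/-- the dual of an algebra map is a coalgebra map. -/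
noncomputable def dualCoalgHom (ψ : CartDual.D A B →ₐ[A] CartDual.D A C) : C →ₗc[A] B :=
  { dualLin ψ with
    counit_comp := LinearMap.ext fun c => counit_dualLin ψ c
    map_comp_comul := LinearMap.ext fun c => comul_dualLin ψ c }

theorem dualCoalgHom_apply (ψ : CartDual.D A B →ₐ[A] CartDual.D A C) (c : C) :
    dualCoalgHom ψ c = dualLin ψ c := rfl

theorem dualLin_sub_mem (φt : C →ₗ[A] B) (ψ : CartDual.D A B →ₐ[A] CartDual.D A C)
    (hψ : Compat A 𝔪 B C φt ψ) (c : C) : dualLin ψ c - φt c ∈ 𝔪 • (⊤ : Submodule A B) := by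
  apply mem_smul_top_of_dual
  intro ξ
  have := hψ (toConv ξ) c
  rw [← apply_dualLin] at this
  rw [map_sub]
  exact this

include h𝔪 in
theorem dualLin_one [Algebra.Etale A (CartDual.D A B)] (φt : C →ₗ[A] B)
    (h1 : φt 1 - 1 ∈ 𝔪 • (⊤ : Submodule A B))
    (ψ : CartDual.D A B →ₐ[A] CartDual.D A C) (hψ : Compat A 𝔪 B C φt ψ) :
    dualLin ψ 1 = 1 := by
  apply (Module.bijective_dual_eval A B).1
  apply LinearMap.ext
  intro ξ
  rw [Module.Dual.eval_apply, Module.Dual.eval_apply]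
  have h := AlgHom.congr_fun (counit_comp_of_compat h𝔪 φt h1 ψ hψ) (toConv ξ)
  have h2 := apply_dualLin ψ (toConv ξ) 1
  exact h2.trans h

theorem mul_sub_mul_mem {z z' w w' : B} (hz : z - z' ∈ 𝔪 • (⊤ : Submodule A B))
    (hw : w - w' ∈ 𝔪 • (⊤ : Submodule A B)) : z * w - z' * w' ∈ 𝔪 • (⊤ : Submodule A B) := by
  have e : z * w - z' * w' = LinearMap.mulRight A w (z - z') + LinearMap.mulLeft A z' (w - w') := by
    simp only [LinearMap.mulRight_apply, LinearMap.mulLeft_apply]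
    ring
  rw [e]
  exact add_mem (map_mem_smul_top 𝔪 _ hz) (map_mem_smul_top 𝔪 _ hw)

include h𝔪 in
theorem dualLin_mul [Algebra.Etale A (CartDual.D A B)] (φt : C →ₗ[A] B)
    (hmul : ∀ c c', φt (c * c') - φt c * φt c' ∈ 𝔪 • (⊤ : Submodule A B))
    (ψ : CartDual.D A B →ₐ[A] CartDual.D A C) (hψ : Compat A 𝔪 B C φt ψ) (c c' : C) :
    dualLin ψ (c * c') = dualLin ψ c * dualLin ψ c' := by
  have hclose := dualLin_sub_mem φt ψ hψ
  let u₁ : C ⊗[A] C →ₗc[A] B := (dualCoalgHom ψ).comp (Bialgebra.mulCoalgHom A C)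
  let u₂ : C ⊗[A] C →ₗc[A] B := (Bialgebra.mulCoalgHom A B).comp
    (Coalgebra.TensorProduct.map (dualCoalgHom ψ) (dualCoalgHom ψ))
  have hu₁ : ∀ a a' : C, u₁ (a ⊗ₜ a') = dualLin ψ (a * a') := fun a a' => rfl
  have hu₂ : ∀ a a' : C, u₂ (a ⊗ₜ a') = dualLin ψ a * dualLin ψ a' := fun a a' => rfl
  have hu : ∀ t, u₁ t - u₂ t ∈ 𝔪 • (⊤ : Submodule A B) := by
    intro t
    induction t using TensorProduct.induction_on with
    | zero => simp
    | add t t' ht ht' =>
      rw [map_add, map_add, add_sub_add_comm]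
      exact add_mem ht ht'
    | tmul a a' =>
      rw [hu₁, hu₂]
      have e1 := hclose (a * a')
      have e2 := hmul a a'
      have e3 : φt a * φt a' - dualLin ψ a * dualLin ψ a' ∈ 𝔪 • (⊤ : Submodule A B) := by
        apply mul_sub_mul_mem
        · have := neg_mem (hclose a); rwa [neg_sub] at this
        · have := neg_mem (hclose a'); rwa [neg_sub] at this
      have := add_mem (add_mem e1 e2) e3
      convert this using 1
      abel
  have key : transposeAlg u₁ = transposeAlg u₂ := by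
    refine algHom_eq_of_sub_mem (R := A) (𝔪.map (algebraMap A (CartDual.D A (C ⊗[A] C))))
      (map_le_jacobson_of_isIntegral h𝔪.jac _) _ _ ?_
    intro x
    apply mem_map_of_mem_smul_top
    apply mem_smul_top_of_dual
    intro ξ
    obtain ⟨t, ht⟩ := (Module.bijective_dual_eval A (C ⊗[A] C)).2
      (ξ ∘ₗ (CartDual.toDual A (C ⊗[A] C)).symm.toLinearMap)
    have h2 : ∀ y : CartDual.D A (C ⊗[A] C), ξ y = y t := by
      intro y
      have := LinearMap.congr_fun ht (CartDual.toDual A (C ⊗[A] C) y)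
      rw [Module.Dual.eval_apply, LinearMap.comp_apply, LinearEquiv.coe_coe,
        LinearEquiv.symm_apply_apply] at this
      exact this.symm
    rw [h2]
    change x (u₁ t) - x (u₂ t) ∈ 𝔪
    have := apply_mem_of_mem_smul_top 𝔪 x.ofConv (hu t)
    rwa [map_sub] at this
  have hfin : u₁ (c ⊗ₜ c') = u₂ (c ⊗ₜ c') := by
    apply (Module.bijective_dual_eval A B).1
    apply LinearMap.ext
    intro ξ
    rw [Module.Dual.eval_apply, Module.Dual.eval_apply]
    have := congrArg (fun g : CartDual.D A B →ₐ[A] CartDual.D A (C ⊗[A] C) =>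
      g (toConv ξ) (c ⊗ₜ c')) key
    exact this
  exact hfin

include h𝔪 in
/-- lifting of homomorphisms along a henselian pair, finite projective cocommutative case with
étale dual. -/
theorem exists_bialgHom_lift [Algebra.Etale A (CartDual.D A B)]
    (φ₀ : ((A ⧸ 𝔪) ⊗[A] C) →ₐc[A ⧸ 𝔪] ((A ⧸ 𝔪) ⊗[A] B)) :
    ∃ φ : C →ₐc[A] B, ∀ c : C, φ₀ ((1 : A ⧸ 𝔪) ⊗ₜ[A] c) = (1 : A ⧸ 𝔪) ⊗ₜ[A] (φ c) := by
  have hsurj : Function.Surjective (TensorProduct.mk A (A ⧸ 𝔪) B 1) :=
    TensorProduct.mk_surjective A B (A ⧸ 𝔪) Ideal.Quotient.mk_surjective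
  let g : C →ₗ[A] (A ⧸ 𝔪) ⊗[A] B :=
    ((φ₀ : (A ⧸ 𝔪) ⊗[A] C →ₗ[A ⧸ 𝔪] (A ⧸ 𝔪) ⊗[A] B).restrictScalars A) ∘ₗ
      TensorProduct.mk A (A ⧸ 𝔪) C 1
  obtain ⟨φt, hφt⟩ := Module.projective_lifting_property (TensorProduct.mk A (A ⧸ 𝔪) B 1) g hsurj
  have hφt' : ∀ c, (1 : A ⧸ 𝔪) ⊗ₜ[A] φt c = φ₀ ((1 : A ⧸ 𝔪) ⊗ₜ[A] c) :=
    fun c => LinearMap.congr_fun hφt c
  have h1 : φt 1 - 1 ∈ 𝔪 • (⊤ : Submodule A B) := by
    apply sub_mem_of_tmul_eq
    rw [hφt']
    exact map_one φ₀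
  have hmul : ∀ c c', φt (c * c') - φt c * φt c' ∈ 𝔪 • (⊤ : Submodule A B) := by
    intro c c'
    apply sub_mem_of_tmul_eq
    rw [hφt']
    have : (1 : A ⧸ 𝔪) ⊗ₜ[A] (c * c') = ((1 : A ⧸ 𝔪) ⊗ₜ[A] c) * ((1 : A ⧸ 𝔪) ⊗ₜ[A] c') := by
      rw [Algebra.TensorProduct.tmul_mul_tmul, one_mul]
    rw [this, map_mul, ← hφt', ← hφt', Algebra.TensorProduct.tmul_mul_tmul, one_mul]
  obtain ⟨ψ, hψ⟩ := exists_algHom_compat h𝔪 φ₀ φt hφt'
  let φ : C →ₐc[A] B :=
    { dualCoalgHom ψ with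
      map_one' := dualLin_one h𝔪 φt h1 ψ hψ
      map_mul' := dualLin_mul h𝔪 φt hmul ψ hψ }
  refine ⟨φ, fun c => ?_⟩
  rw [← hφt']
  have h3 := dualLin_sub_mem φt ψ hψ c
  have h4 := tmul_eq_zero_of_mem 𝔪 h3
  rw [TensorProduct.tmul_sub, sub_eq_zero] at h4
  exact h4.symm

end Main

end Groth.Agent.Lib.helper15.HensHom
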