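import Mathlib
import Groth.Prelude.Def_SGA3b
import Groth.Agent.Lib.Helper15.TorsIdeal

/-!
# Torsion ideals: exact base change, bialgebra isomorphisms, group algebras (helper15)
-/

set_option autoImplicit false
universe u
open TensorProduct WithConv

namespace Groth.Agent.Lib.helper15.TorsIdeal

open SGA3b

section BaseChangeEq

variable {R : Type u} [CommRing R] (A : Type u) [CommRing A] [HopfAlgebra R A]
  (S : Type u) [CommRing S] [Algebra R S]

lemma sub_counit_mem_map (z : S ⊗[R] A) :
    z - algebraMap S (S ⊗[R] A) (Coalgebra.counit (R := S) z) ∈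
      Ideal.map (Algebra.TensorProduct.includeRight : A →ₐ[R] S ⊗[R] A)
        (RingHom.ker (Bialgebra.counitAlgHom R A)) := by
  induction z with
  | zero => simp
  | add x y hx hy =>
    rw [map_add, map_add]
    have : x + y - (algebraMap S (S ⊗[R] A) (Coalgebra.counit (R := S) x) +
        algebraMap S (S ⊗[R] A) (Coalgebra.counit (R := S) y)) =
        (x - algebraMap S (S ⊗[R] A) (Coalgebra.counit (R := S) x)) +
        (y - algebraMap S (S ⊗[R] A) (Coalgebra.counit (R := S) y)) := by ring
    rw [this]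
    exact Ideal.add_mem _ hx hy
  | tmul s a =>
    have h1 : s ⊗ₜ[R] a - algebraMap S (S ⊗[R] A) (Coalgebra.counit (R := S) (s ⊗ₜ[R] a)) =
        (s ⊗ₜ[R] (1 : A)) * ((1 : S) ⊗ₜ[R] (a - algebraMap R A (Coalgebra.counit (R := R) a))) := by
      have h2 : (Coalgebra.counit (R := R) a • s) ⊗ₜ[R] (1 : A) =
          s ⊗ₜ[R] algebraMap R A (Coalgebra.counit (R := R) a) := by
        rw [Algebra.algebraMap_eq_smul_one, TensorProduct.smul_tmul]
      rw [TensorProduct.counit_tmul, CommSemiring.counit_apply, Algebra.TensorProduct.algebraMap_apply,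
        Algebra.TensorProduct.tmul_mul_tmul, mul_one, one_mul, TensorProduct.tmul_sub, ← h2]
      rfl
    rw [h1]
    apply Ideal.mul_mem_left
    apply Ideal.mem_map_of_mem
    rw [RingHom.mem_ker, map_sub, Bialgebra.counitAlgHom_apply, Bialgebra.counitAlgHom_apply,
      Bialgebra.counit_algebraMap]
    simp

lemma ker_counit_baseChange_le :
    RingHom.ker (Bialgebra.counitAlgHom S (S ⊗[R] A)) ≤
      Ideal.map (Algebra.TensorProduct.includeRight : A →ₐ[R] S ⊗[R] A)
        (RingHom.ker (Bialgebra.counitAlgHom R A)) := by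
  intro z hz
  have h1 := sub_counit_mem_map A S z
  rw [RingHom.mem_ker, Bialgebra.counitAlgHom_apply] at hz
  rwa [hz, map_zero, sub_zero] at h1

/-- the torsion ideals commute with base change. -/
theorem torsionIdeal_baseChange_eq (n : ℕ) :
    torsionIdeal S (S ⊗[R] A) n =
      Ideal.map (Algebra.TensorProduct.includeRight : A →ₐ[R] S ⊗[R] A) (torsionIdeal R A n) := by
  apply le_antisymm _ (map_torsionIdeal_le_baseChange A S n)
  rw [torsionIdeal]
  refine (Ideal.map_mono (ker_counit_baseChange_le A S)).trans ?_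
  rw [Ideal.map_le_iff_le_comap, Ideal.map_le_iff_le_comap]
  intro a ha
  rw [Ideal.mem_comap, Ideal.mem_comap,
    ← powConv_semilinear (Algebra.TensorProduct.includeRight : A →ₐ[R] S ⊗[R] A)
      (comul_includeRight A S) (counit_includeRight A S)]
  apply Ideal.mem_map_of_mem
  exact Ideal.mem_map_of_mem _ ha

end BaseChangeEq

section Equiv

variable {R : Type u} [CommRing R] {A B : Type u} [CommRing A] [HopfAlgebra R A] [CommRing B]
  [HopfAlgebra R B]

lemma torsionIdeal_eq_bot_of_equiv (e : A ≃ₐc[R] B) (n : ℕ) (h : torsionIdeal R A n = ⊥) :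
    torsionIdeal R B n = ⊥ := by
  rw [eq_bot_iff]
  intro b hb
  have h1 := map_torsionIdeal_le_bialgHom (e.symm : B →ₐc[R] A) n (Ideal.mem_map_of_mem _ hb)
  rw [h, Ideal.mem_bot] at h1
  have h2 : e.symm b = 0 := h1
  rw [Ideal.mem_bot]
  exact (EmbeddingLike.map_eq_zero_iff (f := e.symm)).mp h2

end Equiv

section GroupAlg2

variable {R : Type u} [CommRing R] {M : Type u} [CommGroup M]

lemma pow_eq_one_of_torsionIdeal_eq_bot [Nontrivial R] (n : ℕ)
    (h : torsionIdeal R (MonoidAlgebra R M) n = ⊥) (m : M) : m ^ n = 1 := by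
  classical
  have h1 : MonoidAlgebra.single m (1 : R) - 1 ∈ RingHom.ker (Bialgebra.counitAlgHom R (MonoidAlgebra R M)) := by
    rw [RingHom.mem_ker, map_sub, map_one, Bialgebra.counitAlgHom_apply,
      MonoidAlgebra.counit_single, CommSemiring.counit_apply, sub_self]
  have h2 : powConv R (MonoidAlgebra R M) n (MonoidAlgebra.single m (1 : R) - 1) ∈
      torsionIdeal R (MonoidAlgebra R M) n := Ideal.mem_map_of_mem _ h1
  rw [h, Ideal.mem_bot, map_sub, map_one, powConv_single, sub_eq_zero] at h2
  have h4 := congrArg (fun w => w.coeff (m ^ n)) h2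
  change (MonoidAlgebra.single (m ^ n) (1 : R)).coeff (m ^ n) =
    (MonoidAlgebra.single (1 : M) (1 : R)).coeff (m ^ n) at h4
  simp only [MonoidAlgebra.coeff_single, Finsupp.single_apply] at h4
  by_contra hne
  rw [if_pos trivial, if_neg (Ne.symm hne)] at h4
  exact one_ne_zero h4

lemma torsionIdeal_eq_bot_of_pow_eq_one (n : ℕ) (h : ∀ m : M, m ^ n = 1) :
    torsionIdeal R (MonoidAlgebra R M) n = ⊥ := by
  have key : ∀ x : MonoidAlgebra R M, powConv R (MonoidAlgebra R M) n x =
      algebraMap R _ (Coalgebra.counit (R := R) x) := by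
    intro x
    induction x using MonoidAlgebra.induction_linear with
    | zero => simp
    | add x y hx hy => rw [map_add, hx, hy, map_add, map_add]
    | single m r =>
      rw [powConv_single, h, MonoidAlgebra.counit_single, CommSemiring.counit_apply]
      rfl
  rw [torsionIdeal, eq_bot_iff, Ideal.map_le_iff_le_comap]
  intro x hx
  rw [Ideal.mem_comap, key, Ideal.mem_bot]
  rw [RingHom.mem_ker, Bialgebra.counitAlgHom_apply] at hx
  rw [hx, map_zero]

lemma finite_of_torsionIdeal_eq_bot [Nontrivial R] [Group.FG M] (n : ℕ) (hn : 0 < n)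
    (h : torsionIdeal R (MonoidAlgebra R M) n = ⊥) : Finite M := by
  apply CommGroup.finite_of_fg_isMulTorsion
  intro m
  rw [isOfFinOrder_iff_pow_eq_one]
  exact ⟨n, hn, pow_eq_one_of_torsionIdeal_eq_bot n h m⟩

lemma finite_of_moduleFinite [Nontrivial R] [Module.Finite R (MonoidAlgebra R M)] : Finite M :=
  Module.Finite.finite_basis (MonoidAlgebra.basis M R)

end GroupAlg2

end Groth.Agent.Lib.helper15.TorsIdeal
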