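import Mathlib
import Groth.Prelude.Def_SGA3b
import Groth.Agent.Lib.Helper15.TorsIdeal2
import Groth.Agent.Lib.Helper15.MultType

/-!
# The `n`-torsion subgroup of a group of multiplicative type (helper15)

* `ker_projPow_eq`: the kernel of `R[M] → R[M/Mⁿ]` is the torsion ideal.
* `bialgEquiv_of_surjective_of_ker_eq`: two bialgebra quotients with the same kernel are isomorphic.
* `isMultTypeConst_of_ker_eq_torsionIdeal`, `isMultType_of_ker_eq_torsionIdeal`.
-/

set_option autoImplicit false
universe u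
open TensorProduct SGA3b

namespace Groth.Agent.Lib.helper15.TorsQuot

open Groth.Agent.Lib.helper15.TorsIdeal Groth.Agent.Lib.helper15.MultType

section GroupAlg

variable {R : Type u} [CommRing R] {M : Type u} [CommGroup M]

lemma single_pow_sub_one_mem (n : ℕ) (m : M) :
    MonoidAlgebra.single (m ^ n) (1 : R) - 1 ∈ torsionIdeal R (MonoidAlgebra R M) n := by
  have h2 : powConv R (MonoidAlgebra R M) n (MonoidAlgebra.single m 1 - 1) =
      MonoidAlgebra.single (m ^ n) (1 : R) - 1 := by
    rw [map_sub, powConv_single, map_one]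
  rw [← h2]
  apply Ideal.mem_map_of_mem
  rw [RingHom.mem_ker, Bialgebra.counitAlgHom_apply, map_sub, MonoidAlgebra.counit_single,
    CommSemiring.counit_apply, Bialgebra.counit_one, sub_self]

lemma single_sub_mem (n : ℕ) (m m' : M) (r : R) :
    MonoidAlgebra.single (m ^ n * m') r - MonoidAlgebra.single m' r ∈
      torsionIdeal R (MonoidAlgebra R M) n := by
  have h3 : MonoidAlgebra.single (m ^ n * m') r - MonoidAlgebra.single m' r =
      (MonoidAlgebra.single (m ^ n) (1 : R) - 1) * MonoidAlgebra.single m' r := by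
    rw [sub_mul, MonoidAlgebra.single_mul_single, one_mul, one_mul]
  rw [h3]
  exact Ideal.mul_mem_right _ _ (single_pow_sub_one_mem n m)

lemma sub_section_mem (n : ℕ) (x : MonoidAlgebra R M) :
    x - MonoidAlgebra.mapDomain (fun q : M ⧸ powRange M n => q.out) (projPow R M n x) ∈
      torsionIdeal R (MonoidAlgebra R M) n := by
  induction x using MonoidAlgebra.induction_linear with
  | zero => simp
  | add x y hx hy =>
    rw [map_add, MonoidAlgebra.mapDomain_add]
    have : x + y - (MonoidAlgebra.mapDomain (fun q : M ⧸ powRange M n => q.out) (projPow R M n x) +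
        MonoidAlgebra.mapDomain (fun q : M ⧸ powRange M n => q.out) (projPow R M n y)) =
        (x - MonoidAlgebra.mapDomain (fun q : M ⧸ powRange M n => q.out) (projPow R M n x)) +
        (y - MonoidAlgebra.mapDomain (fun q : M ⧸ powRange M n => q.out) (projPow R M n y)) := by
      ring
    rw [this]
    exact add_mem hx hy
  | single m r =>
    rw [MonoidAlgebra.mapDomainAlgHom_apply, MonoidAlgebra.mapDomain_single,
      MonoidAlgebra.mapDomain_single]
    set m' : M := (QuotientGroup.mk' (powRange M n) m).out with hm'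
    have h1 : (QuotientGroup.mk' (powRange M n) m') = QuotientGroup.mk' (powRange M n) m :=
      Quotient.out_eq' _
    have h2 : m * m'⁻¹ ∈ powRange M n := by
      rw [← QuotientGroup.eq_one_iff, ← QuotientGroup.mk'_apply, map_mul, map_inv, h1,
        mul_inv_cancel]
    obtain ⟨k, hk⟩ := h2
    have h3 : m = k ^ n * m' := by
      have : k ^ n = m * m'⁻¹ := hk
      rw [this, inv_mul_cancel_right]
    have h4 := single_sub_mem n k m' r
    rw [← h3] at h4
    exact h4

theorem ker_projPow_eq (n : ℕ) :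
    RingHom.ker (projPow R M n) = torsionIdeal R (MonoidAlgebra R M) n := by
  apply le_antisymm _ (torsionIdeal_le_ker_projPow n)
  intro x hx
  rw [RingHom.mem_ker] at hx
  have h1 := sub_section_mem (R := R) n x
  rwa [hx, MonoidAlgebra.mapDomain_zero, sub_zero] at h1

theorem projPow_surjective (n : ℕ) : Function.Surjective (projPow R M n) := by
  intro y
  induction y using MonoidAlgebra.induction_linear with
  | zero => exact ⟨0, map_zero _⟩
  | add x y hx hy =>
    obtain ⟨a, rfl⟩ := hx
    obtain ⟨b, rfl⟩ := hy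
    exact ⟨a + b, map_add _ _ _⟩
  | single q r =>
    induction q using QuotientGroup.induction_on with
    | H m =>
      refine ⟨MonoidAlgebra.single m r, ?_⟩
      rw [MonoidAlgebra.mapDomainAlgHom_apply, MonoidAlgebra.mapDomain_single]
      rfl

end GroupAlg

section Quot

variable {R : Type u} [CommRing R] {X Y Z : Type u} [CommRing X] [CommRing Y] [CommRing Z]
  [Bialgebra R X] [Bialgebra R Y] [Bialgebra R Z]

/-- two bialgebra quotients with the same kernel are isomorphic bialgebras. -/
theorem bialgEquiv_of_surjective_of_ker_eq (f : X →ₐc[R] Y) (g : X →ₐc[R] Z)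
    (hf : Function.Surjective f) (hg : Function.Surjective g)
    (hk : RingHom.ker (f : X →ₐ[R] Y) = RingHom.ker (g : X →ₐ[R] Z)) :
    Nonempty (Y ≃ₐc[R] Z) := by
  have hf' : Function.Surjective (f : X →ₐ[R] Y) := hf
  have hg' : Function.Surjective (g : X →ₐ[R] Z) := hg
  let e1 : (X ⧸ RingHom.ker (f : X →ₐ[R] Y)) ≃ₐ[R] Y := Ideal.quotientKerAlgEquivOfSurjective hf'
  let e2 : (X ⧸ RingHom.ker (g : X →ₐ[R] Z)) ≃ₐ[R] Z := Ideal.quotientKerAlgEquivOfSurjective hg'
  let e12 : (X ⧸ RingHom.ker (f : X →ₐ[R] Y)) ≃ₐ[R] (X ⧸ RingHom.ker (g : X →ₐ[R] Z)) :=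
    Ideal.quotientEquivAlgOfEq R hk
  let e : Y ≃ₐ[R] Z := e1.symm.trans (e12.trans e2)
  have he1 : ∀ x : X, e1 (Ideal.Quotient.mk _ x) = f x := fun x => rfl
  have he : ∀ x : X, e (f x) = g x := by
    intro x
    change e2 (e12 (e1.symm (f x))) = g x
    rw [← he1 x, AlgEquiv.symm_apply_apply]
    rfl
  refine ⟨BialgEquiv.ofAlgEquiv e ?_ ?_⟩
  · apply AlgHom.ext
    intro y
    obtain ⟨x, rfl⟩ := hf y
    change Coalgebra.counit (R := R) (e (f x)) = Coalgebra.counit (R := R) (f x)
    rw [he, CoalgHomClass.counit_comp_apply, CoalgHomClass.counit_comp_apply]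
  · apply AlgHom.ext
    intro y
    obtain ⟨x, rfl⟩ := hf y
    change TensorProduct.map (e : Y →ₗ[R] Z) (e : Y →ₗ[R] Z) (Coalgebra.comul (R := R) (f x)) =
      Coalgebra.comul (R := R) (e (f x))
    rw [he, ← CoalgHomClass.map_comp_comul_apply g x, ← CoalgHomClass.map_comp_comul_apply f x,
      ← LinearMap.comp_apply, ← TensorProduct.map_comp]
    congr 2 <;>
    · apply LinearMap.ext
      intro z
      exact he z

end Quot

section Main

variable {R : Type u} [CommRing R] {A C : Type u} [CommRing A] [CommRing C] [HopfAlgebra R A]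
  [HopfAlgebra R C]

lemma bc_surjective (S : Type u) [CommRing S] [Algebra R S] (φ : A →ₐc[R] C)
    (hφ : Function.Surjective φ) : Function.Surjective (bc S φ) := by
  intro y
  induction y using TensorProduct.induction_on with
  | zero => exact ⟨0, map_zero _⟩
  | tmul s c =>
    obtain ⟨a, rfl⟩ := hφ c
    exact ⟨s ⊗ₜ a, bc_tmul S φ s a⟩
  | add x y hx hy =>
    obtain ⟨a, rfl⟩ := hx
    obtain ⟨b, rfl⟩ := hy
    exact ⟨a + b, map_add _ _ _⟩

lemma ker_bc (S : Type u) [CommRing S] [Algebra R S] (φ : A →ₐc[R] C)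
    (hφ : Function.Surjective φ) :
    RingHom.ker (bc S φ : S ⊗[R] A →ₐ[S] S ⊗[R] C) =
      Ideal.map (Algebra.TensorProduct.includeRight : A →ₐ[R] S ⊗[R] A)
        (RingHom.ker (φ : A →ₐ[R] C)) := by
  have hφ' : Function.Surjective (φ : A →ₐ[R] C) := hφ
  rw [← Algebra.TensorProduct.lTensor_ker (A := S) (φ : A →ₐ[R] C) hφ']
  ext x
  rw [RingHom.mem_ker, RingHom.mem_ker]
  rfl

lemma mem_torsionIdeal_iff_of_equiv {B : Type u} [CommRing B] [HopfAlgebra R B] (e : A ≃ₐc[R] B)
    (n : ℕ) (x : B) : e.symm x ∈ torsionIdeal R A n ↔ x ∈ torsionIdeal R B n := by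
  constructor
  · intro h
    have h1 := map_torsionIdeal_le_bialgHom (e : A →ₐc[R] B) n
      (Ideal.mem_map_of_mem ((e : A →ₐc[R] B) : A →ₐ[R] B) h)
    have h2 : ((e : A →ₐc[R] B) : A →ₐ[R] B) (e.symm x) = x := e.apply_symm_apply x
    rwa [h2] at h1
  · intro h
    exact map_torsionIdeal_le_bialgHom (e.symm : B →ₐc[R] A) n
      (Ideal.mem_map_of_mem ((e.symm : B →ₐc[R] A) : B →ₐ[R] A) h)

/-- a quotient of a group of multiplicative type of constant type by its `n`-torsion ideal is of
multiplicative type of constant type. -/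
theorem isMultTypeConst_of_ker_eq_torsionIdeal (φ : A →ₐc[R] C) (hφ : Function.Surjective φ)
    (n : ℕ) (hk : RingHom.ker (φ : A →ₐ[R] C) = torsionIdeal R A n) (h : IsMultTypeConst R A) :
    IsMultTypeConst R C := by
  obtain ⟨R', _, _, hff, M, _, ⟨e⟩⟩ := h
  refine ⟨R', inferInstance, inferInstance, hff, M ⧸ powRange M n, inferInstance, ?_⟩
  let f : MonoidAlgebra R' M →ₐc[R'] R' ⊗[R] C := (bc R' φ).comp (e.symm : _ →ₐc[R'] _)
  let g : MonoidAlgebra R' M →ₐc[R'] MonoidAlgebra R' (M ⧸ powRange M n) :=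
    MonoidAlgebra.mapDomainBialgHom R' (QuotientGroup.mk' (powRange M n))
  have hf : Function.Surjective f := (bc_surjective R' φ hφ).comp e.symm.surjective
  have hg : Function.Surjective g := projPow_surjective (R := R') n
  have hkg : RingHom.ker (g : MonoidAlgebra R' M →ₐ[R'] MonoidAlgebra R' (M ⧸ powRange M n)) =
      torsionIdeal R' (MonoidAlgebra R' M) n := by
    rw [← ker_projPow_eq (R := R') (M := M) n]
    ext x
    rw [RingHom.mem_ker, RingHom.mem_ker]
    rfl
  have hkf : RingHom.ker (f : MonoidAlgebra R' M →ₐ[R'] R' ⊗[R] C) =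
      torsionIdeal R' (MonoidAlgebra R' M) n := by
    ext x
    rw [← mem_torsionIdeal_iff_of_equiv e n x, torsionIdeal_baseChange_eq, ← hk,
      ← ker_bc R' φ hφ, RingHom.mem_ker, RingHom.mem_ker]
    rfl
  exact bialgEquiv_of_surjective_of_ker_eq f g hf hg (hkf.trans hkg.symm)

/-- a quotient of a group of multiplicative type by its `n`-torsion ideal is of
multiplicative type. -/
theorem isMultType_of_ker_eq_torsionIdeal (φ : A →ₐc[R] C) (hφ : Function.Surjective φ)
    (n : ℕ) (hk : RingHom.ker (φ : A →ₐ[R] C) = torsionIdeal R A n) (h : IsMultType R A) :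
    IsMultType R C := by
  obtain ⟨s, hs, hcov⟩ := h
  refine ⟨s, hs, fun f hf => ?_⟩
  refine isMultTypeConst_of_ker_eq_torsionIdeal (bc (Localization.Away f) φ)
    (bc_surjective _ φ hφ) n ?_ (hcov f hf)
  rw [ker_bc _ φ hφ, hk, torsionIdeal_baseChange_eq]

/-- the torsion ideal of the quotient by the torsion ideal vanishes. -/
theorem torsionIdeal_eq_bot_of_ker_eq (φ : A →ₐc[R] C) (hφ : Function.Surjective φ)
    (n : ℕ) (hk : RingHom.ker (φ : A →ₐ[R] C) = torsionIdeal R A n) :
    torsionIdeal R C n = ⊥ := by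
  rw [eq_bot_iff]
  have h1 : RingHom.ker (Bialgebra.counitAlgHom R C) ≤
      Ideal.map (φ : A →ₐ[R] C) (RingHom.ker (Bialgebra.counitAlgHom R A)) := by
    intro c hc
    obtain ⟨a, rfl⟩ := hφ c
    have : (φ : A →ₐ[R] C) a = φ a := rfl
    rw [← this]
    apply Ideal.mem_map_of_mem
    rw [RingHom.mem_ker, Bialgebra.counitAlgHom_apply] at hc ⊢
    rwa [CoalgHomClass.counit_comp_apply] at hc
  rw [torsionIdeal]
  refine (Ideal.map_mono h1).trans ?_
  rw [Ideal.map_le_iff_le_comap, Ideal.map_le_iff_le_comap]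
  intro a ha
  rw [Ideal.mem_comap, Ideal.mem_comap, Ideal.mem_bot]
  have h2 : powConv R C n ((φ : A →ₐ[R] C) a) = (φ : A →ₐ[R] C) (powConv R A n a) := by
    refine (powConv_semilinear (φ : A →ₐ[R] C) ?_ ?_ n a).symm
    · intro a
      have h1 : Coalgebra.comul (R := R) (φ a) = TensorProduct.map (φ : A →ₗ[R] C) (φ : A →ₗ[R] C)
          (Coalgebra.comul (R := R) a) := (CoalgHomClass.map_comp_comul_apply φ a).symm
      change Coalgebra.comul (R := R) (φ a) = _
      rw [h1, ← (Coalgebra.Repr.arbitrary R a).eq, map_sum]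
      rfl
    · intro a
      exact CoalgHomClass.counit_comp_apply φ a
  rw [h2, ← RingHom.mem_ker, hk]
  exact Ideal.mem_map_of_mem _ ha

end Main

end Groth.Agent.Lib.helper15.TorsQuot
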