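import Mathlib
import Groth.Prelude.Def_SGA3b
import Groth.Prelude.Def_CartDual2
import Groth.Agent.Lib.Helper15.MultTypeMono
import Groth.Agent.Lib.Helper15.HensHom
import Groth.Agent.Lib.Helper15.TorsQuot

/-!
# Kernels as Hopf ideals; lifting group-like elements of finite groups over a henselian pair (helper15)

* `isHopfIdeal_map_ker_counit ψ`: for a bialgebra map `ψ : C → A` of commutative Hopf algebras, the
  ideal of `A` generated by the image of the augmentation ideal of `C` is a Hopf ideal.
* `powBialg n`, `isHopfIdeal_torsionIdeal`: the torsion ideals of a cocommutative Hopf algebra are Hopf ideals.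
* `exists_groupLike_lift`: over a henselian pair, group-like elements of the reduction of a finite
  projective Hopf algebra with etale dual lift to group-like elements.
-/

set_option autoImplicit false
set_option linter.style.haveILetI false
set_option linter.unusedSectionVars false
universe u
open TensorProduct WithConv

namespace Groth.Agent.Lib.helper15.HensGL

section HopfIdeal

variable {R : Type u} [CommRing R] {C A : Type u} [CommRing C] [CommRing A] [HopfAlgebra R C]
  [HopfAlgebra R A] (ψ : C →ₐc[R] A)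

/-- the ideal of the kernel of the group homomorphism corresponding to `ψ`. -/
def kerIdeal : Ideal A := Ideal.map (ψ : C →ₐ[R] A) (RingHom.ker (Bialgebra.counitAlgHom R C))

lemma map_sub_counit_mem (c : C) : ψ c - algebraMap R A (Coalgebra.counit c) ∈ kerIdeal ψ := by
  have h1 : c - algebraMap R C (Coalgebra.counit c) ∈ RingHom.ker (Bialgebra.counitAlgHom R C) := by
    rw [RingHom.mem_ker, map_sub, Bialgebra.counitAlgHom_apply, Bialgebra.counitAlgHom_apply,
      Bialgebra.counit_algebraMap, sub_self]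
  have h2 := Ideal.mem_map_of_mem (ψ : C →ₐ[R] A) h1
  rw [map_sub, AlgHom.commutes] at h2
  exact h2

lemma kerIdeal_le_ker_counit : kerIdeal ψ ≤ RingHom.ker (Bialgebra.counitAlgHom R A) := by
  rw [kerIdeal, Ideal.map_le_iff_le_comap]
  intro c hc
  rw [RingHom.mem_ker, Bialgebra.counitAlgHom_apply] at hc
  rw [Ideal.mem_comap, RingHom.mem_ker, Bialgebra.counitAlgHom_apply]
  change Coalgebra.counit (R := R) (ψ c) = 0
  rw [CoalgHomClass.counit_comp_apply, hc]

lemma mk_comp_eq :
    (Ideal.Quotient.mkₐ R (kerIdeal ψ)).comp (ψ : C →ₐ[R] A) =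
      (Algebra.ofId R (A ⧸ kerIdeal ψ)).comp (Bialgebra.counitAlgHom R C) := by
  apply AlgHom.ext
  intro c
  have h := map_sub_counit_mem ψ c
  rw [← Ideal.Quotient.eq_zero_iff_mem, map_sub, sub_eq_zero] at h
  exact h

lemma map_counit_counit_comul (c : C) :
    Algebra.TensorProduct.map (Bialgebra.counitAlgHom R C) (Bialgebra.counitAlgHom R C)
      (Coalgebra.comul (R := R) c) = algebraMap R (R ⊗[R] R) (Coalgebra.counit c) := by
  have h := Coalgebra.rTensor_counit_comul (R := R) c
  have h2 := congrArg (LinearMap.lTensor R (Coalgebra.counit (R := R) (A := C))) h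
  rw [LinearMap.lTensor_tmul] at h2
  have h3 : Algebra.TensorProduct.map (Bialgebra.counitAlgHom R C) (Bialgebra.counitAlgHom R C)
      (Coalgebra.comul (R := R) c) =
      LinearMap.lTensor R (Coalgebra.counit (R := R) (A := C))
        (LinearMap.rTensor C (Coalgebra.counit (R := R) (A := C)) (Coalgebra.comul (R := R) c)) := by
    generalize Coalgebra.comul (R := R) c = t
    induction t using TensorProduct.induction_on with
    | zero => simp
    | tmul a b => rfl
    | add x y hx hy => rw [map_add, hx, hy, map_add, map_add]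
  rw [h3, h2, Algebra.algebraMap_eq_smul_one, Algebra.TensorProduct.one_def,
    ← TensorProduct.tmul_smul, smul_eq_mul, mul_one]

theorem isHopfIdeal_kerIdeal : (kerIdeal ψ).IsHopfIdeal R := by
  have hco : ∀ x ∈ kerIdeal ψ, ((Algebra.TensorProduct.map (Ideal.Quotient.mkₐ R (kerIdeal ψ))
      (Ideal.Quotient.mkₐ R (kerIdeal ψ))).comp (Bialgebra.comulAlgHom R A)) x = 0 := by
    intro x hx
    rw [← RingHom.mem_ker]
    revert x
    change kerIdeal ψ ≤ _
    rw [kerIdeal, Ideal.map_le_iff_le_comap]
    intro c hc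
    rw [RingHom.mem_ker, Bialgebra.counitAlgHom_apply] at hc
    rw [Ideal.mem_comap, RingHom.mem_ker]
    change Algebra.TensorProduct.map (Ideal.Quotient.mkₐ R (kerIdeal ψ))
      (Ideal.Quotient.mkₐ R (kerIdeal ψ)) (Coalgebra.comul (R := R) (ψ c)) = 0
    rw [← CoalgHomClass.map_comp_comul_apply ψ c]
    have h1 : Algebra.TensorProduct.map (Ideal.Quotient.mkₐ R (kerIdeal ψ))
        (Ideal.Quotient.mkₐ R (kerIdeal ψ))
        (TensorProduct.map (ψ : C →ₗ[R] A) (ψ : C →ₗ[R] A) (Coalgebra.comul (R := R) c)) =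
        Algebra.TensorProduct.map (Algebra.ofId R (A ⧸ kerIdeal ψ)) (Algebra.ofId R (A ⧸ kerIdeal ψ))
          (Algebra.TensorProduct.map (Bialgebra.counitAlgHom R C) (Bialgebra.counitAlgHom R C)
            (Coalgebra.comul (R := R) c)) := by
      generalize Coalgebra.comul (R := R) c = t
      induction t using TensorProduct.induction_on with
      | zero => simp
      | tmul a b =>
        have e1 := AlgHom.congr_fun (mk_comp_eq ψ) a
        have e2 := AlgHom.congr_fun (mk_comp_eq ψ) b
        simp only [AlgHom.comp_apply] at e1 e2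
        simp only [TensorProduct.map_tmul, Algebra.TensorProduct.map_tmul]
        exact congrArg₂ _ e1 e2
      | add x y hx hy => simp only [map_add, hx, hy]
    rw [h1, map_counit_counit_comul, hc, map_zero, map_zero]
  refine { counit_eq_zero := ?_, map_mkQ_comul_eq_zero := ?_, antipode_mem := ?_ }
  · intro x hx
    have := kerIdeal_le_ker_counit ψ hx
    rwa [RingHom.mem_ker, Bialgebra.counitAlgHom_apply] at this
  · intro x hx
    exact hco x hx
  · intro x hx
    revert x
    change kerIdeal ψ ≤ (kerIdeal ψ).comap (HopfAlgebra.antipodeAlgHom R A)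
    rw [kerIdeal, Ideal.map_le_iff_le_comap]
    intro c hc
    rw [RingHom.mem_ker, Bialgebra.counitAlgHom_apply] at hc
    rw [Ideal.mem_comap, Ideal.mem_comap]
    change HopfAlgebra.antipode R (ψ c) ∈ _
    rw [← Groth.Agent.Lib.helper15.MultTypeMono.bialgHom_antipode ψ c]
    apply Ideal.mem_map_of_mem
    rw [RingHom.mem_ker, Bialgebra.counitAlgHom_apply, HopfAlgebra.counit_antipode, hc]

end HopfIdeal

section Pow

variable (R : Type u) [CommRing R] (A : Type u) [CommRing A] [HopfAlgebra R A]
  [Coalgebra.IsCocomm R A]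

/-- the `n`-th power endomorphism as a bialgebra map (cocommutative case). -/
noncomputable def powBialg (n : ℕ) : A →ₐc[R] A := (WithConv.toConv (BialgHom.id R A) ^ n).ofConv

lemma powBialg_toAlgHom (n : ℕ) : ((powBialg R A n : A →ₐc[R] A) : A →ₐ[R] A) = SGA3b.powConv R A n := by
  have h := BialgHom.toAlgHom_convPow (WithConv.toConv (BialgHom.id R A)) n
  have h2 := congrArg WithConv.ofConv h
  exact h2

theorem kerIdeal_powBialg (n : ℕ) : kerIdeal (powBialg R A n) = SGA3b.torsionIdeal R A n := by
  rw [kerIdeal, powBialg_toAlgHom]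
  rfl

theorem isHopfIdeal_torsionIdeal (n : ℕ) : (SGA3b.torsionIdeal R A n).IsHopfIdeal R := by
  rw [← kerIdeal_powBialg]
  exact isHopfIdeal_kerIdeal _

end Pow

section EvalGL

variable {T : Type u} [CommRing T] {H : Type u} [CommRing H] [Bialgebra T H]

/-- evaluation at a group-like element is an algebra map from the dual algebra. -/
noncomputable def evalGL {g : H} (hg : IsGroupLikeElem T g) : CartDual.D T H →ₐ[T] T :=
  AlgHom.ofLinearMap ((LinearMap.applyₗ g) ∘ₗ (CartDual.toDual T H).toLinearMap)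
    (by
      change (1 : CartDual.D T H).ofConv g = 1
      rw [LinearMap.convOne_apply, hg.counit_eq_one, map_one])
    (fun x y => by
      change (x * y).ofConv g = x.ofConv g * y.ofConv g
      rw [LinearMap.convMul_apply, hg.comul_eq_tmul_self, TensorProduct.map_tmul,
        LinearMap.mul'_apply])

@[simp] theorem evalGL_apply {g : H} (hg : IsGroupLikeElem T g) (x : CartDual.D T H) :
    evalGL hg x = x g := rfl

end EvalGL

section Lift

open Groth.Agent.Lib.helper15.HensHom Groth.Agent.Lib.helper15.DualBC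
  Groth.Agent.Lib.helper26.SmoothHensLift

variable {A : Type u} [CommRing A] {𝔪 : Ideal A} (h𝔪 : HenselianRing A 𝔪)
  (B : Type u) [CommRing B] [Bialgebra A B] [Module.Finite A B] [Module.Projective A B]
  [Coalgebra.IsCocomm A B]

/-- an algebra map from the dual algebra to the base is evaluation at a group-like element. -/
theorem exists_groupLike_of_algHom (χ : CartDual.D A B →ₐ[A] A) :
    ∃ g : B, IsGroupLikeElem A g ∧ ∀ x : CartDual.D A B, x g = χ x := by
  let g : B := (evalEquiv A B).symm (toConv χ.toLinearMap)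
  have hg : ∀ x : CartDual.D A B, x g = χ x := by
    intro x
    have h1 : evalEquiv A B g = toConv χ.toLinearMap := (evalEquiv A B).apply_symm_apply _
    have h2 := congrArg (fun z : CartDual.D A (CartDual.D A B) => z x) h1
    exact h2
  refine ⟨g, ⟨?_, ?_⟩, hg⟩
  · have h := hg 1
    rw [map_one] at h
    rw [← h]
    change _ = (1 : CartDual.D A B).ofConv g
    rw [LinearMap.convOne_apply]
    simp
  · apply sep_tensor
    intro x x'
    rw [CartDual.ev₂_tmul, CartDual.ev₂_tmul_eq', LinearMap.comp_apply]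
    have e2 : LinearMap.mul' A A (TensorProduct.map x.ofConv x'.ofConv
        (Coalgebra.comul (R := A) g)) = (x * x') g := (LinearMap.convMul_apply _ _ _).symm
    rw [e2, hg, hg, hg, map_mul]

include h𝔪 in
/-- group-like elements of the reduction of a finite group with etale dual over a henselian pair
lift. -/
theorem exists_groupLike_lift [Algebra.Etale A (CartDual.D A B)] (c : (A ⧸ 𝔪) ⊗[A] B)
    (hc : IsGroupLikeElem (A ⧸ 𝔪) c) :
    ∃ g : B, IsGroupLikeElem A g ∧ (1 : A ⧸ 𝔪) ⊗ₜ[A] g = c := by
  let ψbar : CartDual.D A B →ₐ[A] A ⧸ 𝔪 :=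
    { toFun := fun x => (beta A B (A ⧸ 𝔪) x).ofConv c
      map_one' := by
        rw [map_one]
        exact map_one (evalGL hc)
      map_mul' := fun x y => by
        rw [map_mul]
        exact map_mul (evalGL hc) _ _
      map_zero' := by rw [map_zero]; rfl
      map_add' := fun x y => by rw [map_add]; rfl
      commutes' := fun a => by
        rw [Algebra.algebraMap_eq_smul_one, beta_smul, map_one]
        change algebraMap A (A ⧸ 𝔪) a • (1 : CartDual.D (A ⧸ 𝔪) ((A ⧸ 𝔪) ⊗[A] B)).ofConv c = _
        rw [LinearMap.convOne_apply, hc.counit_eq_one, map_one, smul_eq_mul, mul_one] }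
  obtain ⟨χ, hχ⟩ := exists_algHom_lift_of_smooth (A := A) A 𝔪 h𝔪 (CartDual.D A B) ψbar
  obtain ⟨g, hg, hgx⟩ := exists_groupLike_of_algHom B χ
  refine ⟨g, hg, ?_⟩
  apply (evalEquiv (A ⧸ 𝔪) ((A ⧸ 𝔪) ⊗[A] B)).injective
  apply WithConv.ext
  apply LinearMap.ext
  intro u
  change u ((1 : A ⧸ 𝔪) ⊗ₜ[A] g) = u c
  obtain ⟨z, rfl⟩ := (bcDual' A B (A ⧸ 𝔪)).surjective u
  obtain ⟨x, rfl⟩ := TensorProduct.mk_surjective A (CartDual.D A B) (A ⧸ 𝔪)
    Ideal.Quotient.mk_surjective z
  change (bcDual' A B (A ⧸ 𝔪) ((1 : A ⧸ 𝔪) ⊗ₜ[A] x)) ((1 : A ⧸ 𝔪) ⊗ₜ[A] g) =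
    (bcDual' A B (A ⧸ 𝔪) ((1 : A ⧸ 𝔪) ⊗ₜ[A] x)) c
  rw [bcDual'_one_tmul]
  change (beta A B (A ⧸ 𝔪) x).ofConv ((1 : A ⧸ 𝔪) ⊗ₜ[A] g) = ψbar x
  rw [beta_apply_tmul, ← hχ x, ← hgx x, Algebra.smul_def, mul_one]
  rfl

end Lift

end Groth.Agent.Lib.helper15.HensGL
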