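import Mathlib
import Groth.Prelude.Def_SGA3b
import Groth.Prelude.Def_CartDual2
import Groth.Agent.Lib.Helper15.HensGL0
import Groth.Agent.Lib.Helper15.MultLocal
import Groth.Agent.Lib.Helper15.RigidDesc
import Groth.Agent.Lib.Helper15.DiagSub
import Groth.Agent.Lib.Helper15.MultFinite
import Groth.Agent.Lib.Helper15.IsotrivField
import Groth.Agent.Lib.Helper15.TorsIdeal
import Groth.Agent.Lib.Helper15.TorsIdeal2
import Groth.Agent.Lib.Helper15.TorsQuot
import Groth.Agent.S5242

/-!
# Lifting group-like elements of groups of multiplicative type over a henselian local ring (helper15)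

* `groupLike_eq_of_sub_mem`: rigidity of group-like elements of a group of multiplicative type over a
  local ring.
-/

set_option autoImplicit false
set_option linter.style.haveILetI false
set_option linter.unusedSectionVars false
universe u
open TensorProduct WithConv SGA3b

namespace Groth.Agent.Lib.helper15.HensGL

open Groth.Agent.Lib.helper15.Rigid

section Rig

open Groth.Agent.Lib.helper15.MultLocal Groth.Agent.Lib.helper15.MultType

variable {T : Type u} [CommRing T] [IsLocalRing T] {B : Type u} [CommRing B] [HopfAlgebra T B]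

/-- variant of `MultLocal.eq_trivial_of_finiteType` for constant type. -/
theorem eq_trivial_of_const {C : Type u} [CommRing C] [HopfAlgebra T C] [Algebra.FiniteType T C]
    (hH : IsMultTypeConst T B) (φ : C →ₐc[T] B)
    (hs : ∀ c : C, φ c - algebraMap T B (Coalgebra.counit c) ∈
      Ideal.map (algebraMap T B) (IsLocalRing.maximalIdeal T)) (c : C) :
    φ c = algebraMap T B (Coalgebra.counit c) := by
  obtain ⟨S, _, _, hff, M, _, ⟨e⟩⟩ := hH
  have h1 : φ = (triv : C →ₐc[T] B) := by
    refine eq_of_components S M e φ triv ?_ ?_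
    · intro c
      rw [Ideal.smul_top_eq_map]
      exact hs c
    · intro m
      refine hyp_of_trivial _ _ ?_ m
      intro c'
      change e (bc S (triv : C →ₐc[T] B) c') = _
      rw [bc_triv, AlgHomClass.commutes]
  rw [h1]
  rfl

/-- rigidity: two group-like elements of a group of multiplicative type over a local ring which agree
modulo the maximal ideal are equal. -/
theorem groupLike_eq_of_sub_mem (hB : IsMultTypeConst T B) {x y : B} (hx : IsGroupLikeElem T x)
    (hy : IsGroupLikeElem T y)
    (h : x - y ∈ Ideal.map (algebraMap T B) (IsLocalRing.maximalIdeal T)) : x = y := by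
  set J := Ideal.map (algebraMap T B) (IsLocalRing.maximalIdeal T) with hJ
  let zg : GroupLike T B := ⟨x, hx⟩ * (⟨y, hy⟩ : GroupLike T B)⁻¹
  let u : Multiplicative ℤ →* B :=
    (GroupLike.valMonoidHom T B).comp (zpowersHom (GroupLike T B) zg)
  have hu : ∀ p, IsGroupLikeElem T (u p) := fun p => (zpowersHom (GroupLike T B) zg p).2
  -- the image of `zg` in the quotient is `1`
  have hz1 : Ideal.Quotient.mk J (zg : B) = 1 := by
    have e1 : (zg : B) = x * HopfAlgebra.antipode T y := rfl
    have e2 : y * HopfAlgebra.antipode T y = 1 := hy.mul_antipode_cancel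
    have e3 : Ideal.Quotient.mk J (y * HopfAlgebra.antipode T y) = 1 := by rw [e2, map_one]
    rw [e1, ← e3, ← sub_eq_zero, ← map_sub, ← sub_mul, Ideal.Quotient.eq_zero_iff_mem]
    exact J.mul_mem_right _ h
  have hup : ∀ p, Ideal.Quotient.mk J (u p) = 1 := by
    intro p
    let w : GroupLike T B →* (B ⧸ J) :=
      (Ideal.Quotient.mk J : B →* B ⧸ J).comp (GroupLike.valMonoidHom T B)
    have hw : zg ∈ w.ker := MonoidHom.mem_ker.mpr hz1
    change w (zpowersHom (GroupLike T B) zg p) = 1
    rw [zpowersHom_apply]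
    exact MonoidHom.mem_ker.mp (w.ker.zpow_mem hw _)
  have key := eq_trivial_of_const hB (liftGL u hu) ?_
    (MonoidAlgebra.single (Multiplicative.ofAdd (1 : ℤ)) (1 : T))
  · rw [liftGL_single, one_smul] at key
    have e3 : u (Multiplicative.ofAdd (1 : ℤ)) = (zg : B) := by
      change ((zpowersHom (GroupLike T B) zg (Multiplicative.ofAdd (1 : ℤ)) : GroupLike T B) : B) = _
      rw [zpowersHom_apply, toAdd_ofAdd, zpow_one]
    have e4 : Coalgebra.counit (R := T)
        (MonoidAlgebra.single (Multiplicative.ofAdd (1 : ℤ)) (1 : T)) = 1 :=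
      (MonoidAlgebra.isGroupLikeElem_single_one (R := T) (A := T) _).counit_eq_one
    rw [e3, e4, map_one] at key
    have e1 : (zg : B) = x * HopfAlgebra.antipode T y := rfl
    have e2 : HopfAlgebra.antipode T y * y = 1 := hy.antipode_mul_cancel
    calc x = x * (HopfAlgebra.antipode T y * y) := by rw [e2, mul_one]
      _ = (x * HopfAlgebra.antipode T y) * y := (mul_assoc _ _ _).symm
      _ = y := by rw [← e1, key, one_mul]
  · intro c
    rw [← Ideal.Quotient.eq_zero_iff_mem, map_sub, sub_eq_zero]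
    have hAlg : (Ideal.Quotient.mkₐ T J).comp
        ((liftGL u hu : MonoidAlgebra T (Multiplicative ℤ) →ₐc[T] B) :
          MonoidAlgebra T (Multiplicative ℤ) →ₐ[T] B) =
        (Ideal.Quotient.mkₐ T J).comp ((Algebra.ofId T B).comp
          (Bialgebra.counitAlgHom T (MonoidAlgebra T (Multiplicative ℤ)))) := by
      refine MonoidAlgebra.algHom_ext (fun p => ?_) (Subsingleton.elim _ _)
      have e4 : Coalgebra.counit (R := T) (MonoidAlgebra.single p (1 : T)) = 1 :=
        (MonoidAlgebra.isGroupLikeElem_single_one (R := T) (A := T) _).counit_eq_one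
      simp only [AlgHom.comp_apply, Ideal.Quotient.mkₐ_eq_mk, Bialgebra.counitAlgHom_apply,
        e4, map_one]
      change Ideal.Quotient.mk J (liftGL u hu (MonoidAlgebra.single p (1 : T))) = 1
      rw [liftGL_single, one_smul]
      exact hup p
    exact AlgHom.congr_fun hAlg c

end Rig

section LocalCover

open Groth.Agent.Lib.helper15.MultLocal

variable (R : Type u) [CommRing R] [IsLocalRing R] (A : Type u) [CommRing A] [HopfAlgebra R A]

/-- a group of multiplicative type over a local ring is diagonalised by a faithfully flat local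
homomorphism of local rings. -/
theorem exists_local_cover (h : IsMultType R A) :
    ∃ (S : Type u) (_ : CommRing S) (_ : Algebra R S) (_ : IsLocalRing S),
      Module.FaithfullyFlat R S ∧ IsLocalHom (algebraMap R S) ∧
      ∃ (N : Type u) (_ : CommGroup N), Nonempty (S ⊗[R] A ≃ₐc[S] MonoidAlgebra S N) := by
  obtain ⟨S₀, _, _, hff, N, _, ⟨E₀⟩⟩ := isMultTypeConst_of_isLocalRing R A h
  have hne : (IsLocalRing.maximalIdeal R).map (algebraMap R S₀) ≠ ⊤ := by
    have h1 := Module.FaithfullyFlat.submodule_ne_top (R := R) (M := S₀)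
      (IsLocalRing.maximalIdeal.isMaximal R)
    rwa [Ideal.smul_top_eq_map, Ne, Submodule.restrictScalars_eq_top_iff] at h1
  obtain ⟨𝔫, h𝔫max, h𝔫le⟩ := Ideal.exists_le_maximal _ hne
  let S := Localization.AtPrime 𝔫
  haveI : Module.Flat R S := Module.Flat.trans R S₀ S
  haveI hloc : IsLocalHom (algebraMap R S) := by
    constructor
    intro r hr
    by_contra hnu
    have h1 : r ∈ IsLocalRing.maximalIdeal R := (IsLocalRing.mem_maximalIdeal r).mpr hnu
    have h2 : algebraMap R S₀ r ∈ 𝔫 := h𝔫le (Ideal.mem_map_of_mem _ h1)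
    have h3 : algebraMap S₀ S (algebraMap R S₀ r) ∈ IsLocalRing.maximalIdeal S := by
      rw [← Localization.AtPrime.comap_maximalIdeal (I := 𝔫)] at h2
      exact h2
    rw [← IsScalarTower.algebraMap_apply R S₀ S r] at h3
    exact (IsLocalRing.mem_maximalIdeal _).mp h3 hr
  refine ⟨S, inferInstance, inferInstance, inferInstance,
    Module.FaithfullyFlat.of_flat_of_isLocalHom, hloc, N, inferInstance, ?_⟩
  exact ⟨(cancelBialg R S₀ S A).symm.trans (bcDiag S E₀)⟩

end LocalCover

section Cancel

open Groth.Agent.Lib.helper15.MultLocal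

variable {R : Type u} [CommRing R] {T T' : Type u} [CommRing T] [CommRing T'] [Algebra R T]
  [Algebra R T'] [Algebra T T'] [IsScalarTower R T T'] {A : Type u} [CommRing A] [Bialgebra R A]

lemma cancelBialg_one_tmul (y : T ⊗[R] A) :
    cancelBialg R T T' A ((1 : T') ⊗ₜ[T] y) =
      LinearMap.rTensor A (IsScalarTower.toAlgHom R T T').toLinearMap y := by
  induction y using TensorProduct.induction_on with
  | zero => simp
  | tmul t a =>
    rw [cancelBialg_tmul, LinearMap.rTensor_tmul, Algebra.smul_def, mul_one]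
    rfl
  | add x y hx hy => rw [TensorProduct.tmul_add, map_add, map_add, hx, hy]

end Cancel

section BaseChange

open Groth.Agent.Lib.helper15.MultLocal

variable {R : Type u} [CommRing R] {A : Type u} [CommRing A] [HopfAlgebra R A]

theorem isMultTypeConst_baseChange (S : Type u) [CommRing S] [Algebra R S]
    (h : IsMultTypeConst R A) : IsMultTypeConst S (S ⊗[R] A) := by
  obtain ⟨R', _, _, hff, M, _, ⟨e⟩⟩ := h
  letI : Algebra R' (S ⊗[R] R') := Algebra.TensorProduct.rightAlgebra
  haveI : IsScalarTower R R' (S ⊗[R] R') := IsScalarTower.of_algebraMap_eq fun r => by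
    change algebraMap R S r ⊗ₜ[R] (1 : R') = (1 : S) ⊗ₜ[R] algebraMap R R' r
    rw [Algebra.algebraMap_eq_smul_one, Algebra.algebraMap_eq_smul_one, TensorProduct.smul_tmul]
  refine ⟨S ⊗[R] R', inferInstance, inferInstance, inferInstance, M, inferInstance, ⟨?_⟩⟩
  exact ((cancelBialg R S (S ⊗[R] R') A).trans (cancelBialg R R' (S ⊗[R] R') A).symm).trans
    (bcDiag (S ⊗[R] R') e)

theorem isMultTypeConst_of_equiv {S : Type u} [CommRing S] {B : Type u} [CommRing B]
    [HopfAlgebra S B] {N : Type u} [CommGroup N] (E : B ≃ₐc[S] MonoidAlgebra S N) :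
    IsMultTypeConst S B :=
  ⟨S, inferInstance, inferInstance, inferInstance, N, inferInstance,
    ⟨(Bialgebra.TensorProduct.lid S B).trans E⟩⟩

end BaseChange

section Step1

open Groth.Agent.Lib.helper15.MultLocal

variable {R : Type u} [CommRing R] {S : Type u} [CommRing S] [Algebra R S]
  {K : Type u} [Field K] [Algebra R K] [Algebra S K] [IsScalarTower R S K]
  {A : Type u} [CommRing A] [HopfAlgebra R A] {N : Type u} [CommGroup N]

/-- every group-like element of `K ⊗ A`, `K` a field over `S`, is the image of a standard group-like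
element of `S ⊗ A ≅ S[N]`. -/
theorem exists_eq_rTensor (E : S ⊗[R] A ≃ₐc[S] MonoidAlgebra S N) {g : K ⊗[R] A}
    (hg : IsGroupLikeElem K g) :
    ∃ ν : N, LinearMap.rTensor A (IsScalarTower.toAlgHom R S K).toLinearMap
      (E.symm (MonoidAlgebra.single ν 1)) = g := by
  let EK : K ⊗[R] A ≃ₐc[K] MonoidAlgebra K N := (cancelBialg R S K A).symm.trans (bcDiag K E)
  have h1 : IsGroupLikeElem K (EK g) := hg.map EK
  obtain ⟨ν, hν⟩ := MonoidAlgebra.isGroupLikeElem_iff_mem_range_single_one.mp h1
  refine ⟨ν, ?_⟩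
  have h2 : g = EK.symm (MonoidAlgebra.single ν 1) := by
    have h3 : MonoidAlgebra.single ν 1 = EK g := hν
    rw [h3, EK.symm_apply_apply]
  rw [h2, ← cancelBialg_one_tmul]
  change _ = cancelBialg R S K A ((bcDiag K E).symm (MonoidAlgebra.single ν 1))
  congr 1
  change _ = bcDiagHom K E (MonoidAlgebra.single ν 1)
  rw [bcDiagHom, liftGL_single, one_smul]
  rfl

end Step1

section Step2

open Groth.Agent.Lib.helper15.MultLocal Groth.Agent.Lib.helper15.MultType
  Groth.Agent.Lib.helper15.MultFinite Groth.Agent.Lib.helper15.DiagSub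

section Comm

variable {R : Type u} [CommRing R] {T T' : Type u} [CommRing T] [CommRing T'] [Algebra R T]
  [Algebra R T'] (σ : T →ₐ[R] T') {A C : Type u} [CommRing A] [CommRing C] [HopfAlgebra R A]
  [HopfAlgebra R C] (q : A →ₐc[R] C)

lemma rTensor_bc (z : T ⊗[R] A) :
    LinearMap.rTensor C σ.toLinearMap (bc T q z) = bc T' q (LinearMap.rTensor A σ.toLinearMap z) := by
  induction z using TensorProduct.induction_on with
  | zero => simp
  | tmul t a => rw [bc_tmul, LinearMap.rTensor_tmul, LinearMap.rTensor_tmul, bc_tmul]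
  | add x y hx hy => rw [map_add, map_add, hx, hy, map_add, map_add]

end Comm

variable {R : Type u} [CommRing R] [IsLocalRing R]
  {S : Type u} [CommRing S] [IsLocalRing S] [Algebra R S] [IsLocalHom (algebraMap R S)]
  {C : Type u} [CommRing C] [HopfAlgebra R C]

lemma mem_map_of_rTensor_eq_zero {z : S ⊗[R] C}
    (h : LinearMap.rTensor C (IsScalarTower.toAlgHom R S (S ⧸ IsLocalRing.maximalIdeal S)).toLinearMap z = 0) :
    z ∈ Ideal.map (algebraMap S (S ⊗[R] C)) (IsLocalRing.maximalIdeal S) := by
  have hsurj : Function.Surjective (IsScalarTower.toAlgHom R S (S ⧸ IsLocalRing.maximalIdeal S)) :=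
    Ideal.Quotient.mk_surjective
  have hker := Algebra.TensorProduct.rTensor_ker (R := R) (S := R) (C := C)
    (IsScalarTower.toAlgHom R S (S ⧸ IsLocalRing.maximalIdeal S)) hsurj
  have hz : z ∈ RingHom.ker (Algebra.TensorProduct.map
      (IsScalarTower.toAlgHom R S (S ⧸ IsLocalRing.maximalIdeal S)) (AlgHom.id R C)) := h
  rw [hker] at hz
  refine (Ideal.map_le_iff_le_comap.mpr ?_) hz
  intro s hs
  rw [Ideal.mem_comap]
  have hs' : s ∈ IsLocalRing.maximalIdeal S := Ideal.Quotient.eq_zero_iff_mem.mp hs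
  exact Ideal.mem_map_of_mem (algebraMap S (S ⊗[R] C)) hs'

variable (hR : HenselianRing R (IsLocalRing.maximalIdeal R))
  {A : Type u} [CommRing A] [HopfAlgebra R A] [Module.Finite R C]

include hR in
/-- at a finite level, a group-like element upstairs whose closed fibre comes from `k` descends. -/
theorem level_descent (hC : IsMultType R C) (q : A →ₐc[R] C)
    {c : (R ⧸ IsLocalRing.maximalIdeal R) ⊗[R] A}
    (hc : IsGroupLikeElem (R ⧸ IsLocalRing.maximalIdeal R) c)
    {w : S ⊗[R] A} (hw : IsGroupLikeElem S w)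
    (hwc : LinearMap.rTensor A
        (IsScalarTower.toAlgHom R S (S ⧸ IsLocalRing.maximalIdeal S)).toLinearMap w =
      LinearMap.rTensor A (IsScalarTower.toAlgHom R (R ⧸ IsLocalRing.maximalIdeal R)
        (S ⧸ IsLocalRing.maximalIdeal S)).toLinearMap c) :
    ∃ g : C, bc S q w = (1 : S) ⊗ₜ[R] g := by
  classical
  obtain ⟨𝒞⟩ := nonempty_fcover hC
  haveI := isCocomm_of_fcover 𝒞
  haveI := projective_of_fcover 𝒞
  haveI : Algebra.Etale R (CartDual.D R C) := etale_dual_of_fcover 𝒞
  have hcC : IsGroupLikeElem (R ⧸ IsLocalRing.maximalIdeal R)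
      (bc (R ⧸ IsLocalRing.maximalIdeal R) q c) := hc.map (bc _ q)
  obtain ⟨g, hg, hgc⟩ := exists_groupLike_lift hR C _ hcC
  refine ⟨g, ?_⟩
  refine groupLike_eq_of_sub_mem
    (isMultTypeConst_baseChange S (isMultTypeConst_of_isLocalRing R C hC))
    (hw.map (bc S q)) (isGroupLikeElem_tmul hg) ?_
  apply mem_map_of_rTensor_eq_zero
  rw [map_sub, sub_eq_zero, rTensor_bc, hwc, ← rTensor_bc, ← hgc, LinearMap.rTensor_tmul,
    LinearMap.rTensor_tmul]
  simp

end Step2

section Step3

open Groth.Agent.Lib.helper15.MultLocal Groth.Agent.Lib.helper15.MultType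
  Groth.Agent.Lib.helper15.TorsIdeal Groth.Agent.Lib.helper15.TorsQuot

variable {R : Type u} [CommRing R] {A : Type u} [CommRing A] [HopfAlgebra R A]
  {S : Type u} [CommRing S] [Algebra R S] [Module.FaithfullyFlat R S]
  {N : Type u} [CommGroup N] [Group.FG N]

/-- density of torsion + faithfully flat descent: an element of `S ⊗ A` which descends at every
finite level descends. -/
theorem descent_of_levels (E : S ⊗[R] A ≃ₐc[S] MonoidAlgebra S N) (w : S ⊗[R] A)
    (h : ∀ n : ℕ, 0 < n → ∃ (Cn : Type u) (_ : CommRing Cn) (_ : HopfAlgebra R Cn)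
      (q : A →ₐc[R] Cn), Function.Surjective q ∧
      RingHom.ker (q : A →ₐ[R] Cn) = torsionIdeal R A n ∧ ∃ g : Cn, bc S q w = (1 : S) ⊗ₜ[R] g) :
    ∃ a : A, (1 : S) ⊗ₜ[R] a = w := by
  apply exists_of_coface_eq
  rw [← sub_eq_zero]
  set D : (S ⊗[R] S) ⊗[R] A := LinearMap.rTensor A (cL R S) w - LinearMap.rTensor A (cR R S) w
    with hD
  let E₂ : (S ⊗[R] S) ⊗[R] A ≃ₐc[S ⊗[R] S] MonoidAlgebra (S ⊗[R] S) N :=
    (cancelBialg R S (S ⊗[R] S) A).symm.trans (bcDiag (S ⊗[R] S) E)
  have hmem : ∀ n : ℕ, 0 < n → D ∈ torsionIdeal (S ⊗[R] S) ((S ⊗[R] S) ⊗[R] A) n := by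
    intro n hn
    obtain ⟨Cn, _, _, q, hq, hk, g, hg⟩ := h n hn
    rw [torsionIdeal_baseChange_eq, ← hk, ← ker_bc (S ⊗[R] S) q hq, RingHom.mem_ker]
    change bc (S ⊗[R] S) q D = 0
    have e1 := rTensor_bc (Algebra.TensorProduct.includeLeft : S →ₐ[R] S ⊗[R] S) q w
    have e2 := rTensor_bc (Algebra.TensorProduct.includeRight : S →ₐ[R] S ⊗[R] S) q w
    rw [hD, map_sub]
    change bc (S ⊗[R] S) q (LinearMap.rTensor A
        (Algebra.TensorProduct.includeLeft : S →ₐ[R] S ⊗[R] S).toLinearMap w) -
      bc (S ⊗[R] S) q (LinearMap.rTensor A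
        (Algebra.TensorProduct.includeRight : S →ₐ[R] S ⊗[R] S).toLinearMap w) = 0
    rw [← e1, ← e2, hg, LinearMap.rTensor_tmul, LinearMap.rTensor_tmul]
    simp
  have hbot := iInf_torsionIdeal_groupAlg (S ⊗[R] S) N 0 (Or.inl rfl)
  have h0 : E₂ D = 0 := by
    have : E₂ D ∈ (⊥ : Ideal (MonoidAlgebra (S ⊗[R] S) N)) := by
      rw [← hbot, Ideal.mem_iInf]
      rintro ⟨n, hn0, -⟩
      rw [← mem_torsionIdeal_iff_of_equiv E₂ n, E₂.symm_apply_apply]
      exact hmem n hn0
    exact this
  exact (EmbeddingLike.map_eq_zero_iff (f := E₂)).mp h0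

end Step3

section Main

open Groth.Agent.Lib.helper15.MultLocal Groth.Agent.Lib.helper15.MultType
  Groth.Agent.Lib.helper15.MultFinite Groth.Agent.Lib.helper15.DiagSub

variable {R : Type u} [CommRing R] [IsLocalRing R]
  (hR : HenselianRing R (IsLocalRing.maximalIdeal R))
  {A : Type u} [CommRing A] [HopfAlgebra R A]

include hR in
/-- over a henselian local ring, every group-like element of the closed fibre of a group of
multiplicative type and of finite type lifts to a group-like element. -/
theorem exists_groupLike_lift_ft (hft : Algebra.FiniteType R A) (hA : IsMultType R A)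
    {c : (R ⧸ IsLocalRing.maximalIdeal R) ⊗[R] A}
    (hc : IsGroupLikeElem (R ⧸ IsLocalRing.maximalIdeal R) c) :
    ∃ a : A, IsGroupLikeElem R a ∧ (1 : R ⧸ IsLocalRing.maximalIdeal R) ⊗ₜ[R] a = c := by
  classical
  obtain ⟨𝒞⟩ := nonempty_fcover hA
  haveI := isCocomm_of_fcover 𝒞
  haveI : Module.Flat R A := flat_of_fcover 𝒞
  obtain ⟨S, _, _, _, hff, hloc, N, _, ⟨E⟩⟩ := exists_local_cover R A hA
  haveI : Group.FG N := by
    have h1 : Algebra.FiniteType S (S ⊗[R] A) := inferInstance
    have h2 : Algebra.FiniteType S (MonoidAlgebra S N) := Algebra.FiniteType.equiv h1 E.toAlgEquiv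
    exact MonoidAlgebra.finiteType_iff_group_fg.mp h2
  letI : Field (S ⧸ IsLocalRing.maximalIdeal S) := Ideal.Quotient.field _
  letI : Field (R ⧸ IsLocalRing.maximalIdeal R) := Ideal.Quotient.field _
  let σk : (R ⧸ IsLocalRing.maximalIdeal R) →ₐ[R] (S ⧸ IsLocalRing.maximalIdeal S) :=
    IsScalarTower.toAlgHom R _ _
  let σS : S →ₐ[R] (S ⧸ IsLocalRing.maximalIdeal S) := IsScalarTower.toAlgHom R _ _
  obtain ⟨ν, hν⟩ := exists_eq_rTensor (K := S ⧸ IsLocalRing.maximalIdeal S) E
    (isGroupLikeElem_rTensor σk hc)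
  set w := E.symm (MonoidAlgebra.single ν 1) with hw_def
  have hw : IsGroupLikeElem S w :=
    (MonoidAlgebra.isGroupLikeElem_single_one (R := S) (A := S) ν).map E.symm
  have hlev : ∀ n : ℕ, 0 < n → ∃ (Cn : Type u) (_ : CommRing Cn) (_ : HopfAlgebra R Cn)
      (q : A →ₐc[R] Cn), Function.Surjective q ∧
      RingHom.ker (q : A →ₐ[R] Cn) = torsionIdeal R A n ∧
      ∃ g : Cn, bc S q w = (1 : S) ⊗ₜ[R] g := by
    intro n hn
    haveI := isHopfIdeal_torsionIdeal R A n
    obtain ⟨hmt, hfin⟩ := Groth.Agent.S5242.result R A hft hA n hn (torsionIdeal R A n) rfl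
    exact ⟨A ⧸ torsionIdeal R A n, inferInstance, inferInstance,
      Bialgebra.Quotient.mkBialgHom _, Ideal.Quotient.mk_surjective, Ideal.mk_ker,
      level_descent hR hmt _ hc hw hν⟩
  obtain ⟨a, ha⟩ := descent_of_levels E w hlev
  refine ⟨a, isGroupLikeElem_of_tmul (FaithfulSMul.algebraMap_injective R S) (ha ▸ hw), ?_⟩
  have hσ : Function.Injective σk := by
    have h := RingHom.injective σk.toRingHom
    exact h
  have hinj : Function.Injective (LinearMap.rTensor A σk.toLinearMap) :=
    Module.Flat.rTensor_preserves_injective_linearMap (M := A) σk.toLinearMap hσ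
  apply hinj
  rw [← hν, ← ha, LinearMap.rTensor_tmul, LinearMap.rTensor_tmul]
  simp

end Main

end Groth.Agent.Lib.helper15.HensGL
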