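import Mathlib
import Groth.Prelude.Def_SGA3b
import Groth.Agent.Lib.Helper15.HensGL1
import Groth.Agent.Lib.Helper15.GroupAlgHom
import Groth.Agent.Lib.Helper26.FiniteEtaleLift
import Groth.Agent.Lib.Helper26.FiniteOverHens
import Groth.Agent.S2969

/-!
# Groups of multiplicative type over a henselian local ring are isotrivial (helper15; SGA3 X 4.5)

* `isDiag_of_closedFibre`: over a henselian local ring, a group of multiplicative type and of finite
  type whose closed fibre is diagonalisable is diagonalisable.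
-/

set_option autoImplicit false
set_option linter.style.haveILetI false
set_option linter.unusedSectionVars false
universe u
open TensorProduct SGA3b

namespace Groth.Agent.Lib.helper15.HensGL

open Groth.Agent.Lib.helper15.Rigid Groth.Agent.Lib.helper15.MultLocal
  Groth.Agent.Lib.helper15.MultType Groth.Agent.Lib.helper15.DiagSub

section Conn

lemma idem_of_isLocalRing {S : Type*} [CommRing S] [IsLocalRing S] (e : S)
    (he : IsIdempotentElem e) : e = 0 ∨ e = 1 := by
  rcases IsLocalRing.isUnit_or_isUnit_one_sub_self e with h | h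
  · right
    have h1 : e * e = e * 1 := by rw [mul_one]; exact he
    exact h.mul_left_cancel h1
  · left
    have h1 : (1 - e) * e = (1 - e) * 0 := by
      rw [mul_zero, sub_mul, one_mul, he.eq, sub_self]
    exact h.mul_left_cancel h1

lemma exists_monoidHom_of_groupLike {S : Type u} [CommRing S] [IsLocalRing S] {M N : Type u}
    [CommGroup M] [CommGroup N] (G : M →* MonoidAlgebra S N)
    (hG : ∀ m, IsGroupLikeElem S (G m)) :
    ∃ f : M →* N, ∀ m, G m = MonoidAlgebra.single (f m) 1 := by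
  let Φ : MonoidAlgebra S M →ₐc[S] MonoidAlgebra S N := liftGL G hG
  obtain ⟨f, hf⟩ := GroupAlgHom.exists_monoidHom_of_bialgHom (C := S) (M := N) (N := M)
    idem_of_isLocalRing Φ
  refine ⟨f, fun m => ?_⟩
  rw [← hf m]
  change _ = liftGL G hG _
  rw [liftGL_single, one_smul]

end Conn

section MapDomain

variable (S : Type*) [CommRing S] {M N : Type*} [CommGroup M] [CommGroup N]

lemma mapDomainBialgHom_bijective (f : M →* N) (hf : Function.Bijective f) :
    Function.Bijective (MonoidAlgebra.mapDomainBialgHom S f) := by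
  let fe : M ≃* N := MulEquiv.ofBijective f hf
  have h1 : (fe.symm : N →* M).comp f = MonoidHom.id M := by
    ext m
    exact fe.symm_apply_apply m
  have h2 : f.comp (fe.symm : N →* M) = MonoidHom.id N := by
    ext n
    exact fe.apply_symm_apply n
  refine Function.bijective_iff_has_inverse.mpr
    ⟨MonoidAlgebra.mapDomainBialgHom S (fe.symm : N →* M), fun x => ?_, fun x => ?_⟩
  · rw [MonoidAlgebra.mapDomainBialgHom_mapDomainBialgHom, h1, MonoidAlgebra.mapDomainBialgHom_id]
    rfl
  · rw [MonoidAlgebra.mapDomainBialgHom_mapDomainBialgHom, h2, MonoidAlgebra.mapDomainBialgHom_id]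
    rfl

end MapDomain

section Core

variable {R : Type u} [CommRing R] [IsLocalRing R]
  (hR : HenselianRing R (IsLocalRing.maximalIdeal R))
  {A : Type u} [CommRing A] [HopfAlgebra R A]

include hR in
/-- over a henselian local ring, a group of multiplicative type and of finite type whose closed
fibre is diagonalisable is diagonalisable. -/
theorem isDiag_of_closedFibre (hft : Algebra.FiniteType R A) (hA : IsMultType R A)
    {M : Type u} [CommGroup M]
    (e₀ : (R ⧸ IsLocalRing.maximalIdeal R) ⊗[R] A ≃ₐc[R ⧸ IsLocalRing.maximalIdeal R]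
      MonoidAlgebra (R ⧸ IsLocalRing.maximalIdeal R) M) : IsDiag R A := by
  classical
  set 𝔪 := IsLocalRing.maximalIdeal R with h𝔪
  have hAc : IsMultTypeConst R A := isMultTypeConst_of_isLocalRing R A hA
  let y : M → (R ⧸ 𝔪) ⊗[R] A := fun m => e₀.symm (MonoidAlgebra.single m 1)
  have hy : ∀ m, IsGroupLikeElem (R ⧸ 𝔪) (y m) := fun m =>
    (MonoidAlgebra.isGroupLikeElem_single_one (R := R ⧸ 𝔪) (A := R ⧸ 𝔪) m).map e₀.symm
  have hex : ∀ m, ∃ γ : A, IsGroupLikeElem R γ ∧ (1 : R ⧸ 𝔪) ⊗ₜ[R] γ = y m := fun m =>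
    exists_groupLike_lift_ft hR hft hA (hy m)
  choose γ hγ hγy using hex
  have hy1 : y 1 = 1 := by
    have : (MonoidAlgebra.single (1 : M) (1 : R ⧸ 𝔪)) = 1 := rfl
    simp only [y]
    rw [this, map_one]
  have hymul : ∀ m m', y (m * m') = y m * y m' := by
    intro m m'
    have : (MonoidAlgebra.single (m * m') (1 : R ⧸ 𝔪)) =
        MonoidAlgebra.single m 1 * MonoidAlgebra.single m' 1 := by
      rw [MonoidAlgebra.single_mul_single, one_mul]
    simp only [y]
    rw [this, map_mul]
  have hrig : ∀ {a b : A}, IsGroupLikeElem R a → IsGroupLikeElem R b →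
      (1 : R ⧸ 𝔪) ⊗ₜ[R] a = (1 : R ⧸ 𝔪) ⊗ₜ[R] b → a = b := by
    intro a b ha hb hab
    refine groupLike_eq_of_sub_mem hAc ha hb ?_
    have h := sub_mem_of_tmul_eq 𝔪 hab
    rw [Ideal.smul_top_eq_map] at h
    exact h
  have hone : γ 1 = 1 := by
    apply hrig (hγ 1) (IsGroupLikeElem.one (R := R))
    rw [hγy, hy1]
    rfl
  have hmul : ∀ m m', γ (m * m') = γ m * γ m' := by
    intro m m'
    apply hrig (hγ _) ((hγ m).mul (hγ m'))
    rw [hγy, hymul, ← hγy m, ← hγy m', Algebra.TensorProduct.tmul_mul_tmul, one_mul]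
  let γh : M →* A := { toFun := γ, map_one' := hone, map_mul' := hmul }
  let Ψ : MonoidAlgebra R M →ₐc[R] A := liftGL γh hγ
  have hΨs : ∀ m r, Ψ (MonoidAlgebra.single m r) = r • γ m := fun m r => liftGL_single γh hγ m r
  -- a local cover
  obtain ⟨S, _, _, _, hff, hloc, N, _, ⟨E⟩⟩ := exists_local_cover R A hA
  let G : M →* MonoidAlgebra S N :=
    { toFun := fun m => E ((1 : S) ⊗ₜ[R] γ m)
      map_one' := by
        rw [hone]
        exact map_one E
      map_mul' := fun m m' => by
        rw [hmul, ← map_mul, Algebra.TensorProduct.tmul_mul_tmul, one_mul] }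
  have hGdef : ∀ m, G m = E ((1 : S) ⊗ₜ[R] γ m) := fun m => rfl
  have hG : ∀ m, IsGroupLikeElem S (G m) := fun m => (isGroupLikeElem_tmul (hγ m)).map E
  obtain ⟨f, hf⟩ := exists_monoidHom_of_groupLike G hG
  have hf' : ∀ m, E ((1 : S) ⊗ₜ[R] γ m) = MonoidAlgebra.single (f m) 1 := fun m => hf m
  have hΦ : (liftGL G hG : MonoidAlgebra S M →ₐc[S] MonoidAlgebra S N) =
      MonoidAlgebra.mapDomainBialgHom S f := by
    refine GroupAlgHom.eq_mapDomainBialgHom (C := S) (M := N) (N := M) _ f ?_
    intro m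
    rw [liftGL_single, one_smul]
    exact hf m
  -- `f` is injective
  have hfinj : Function.Injective f := by
    intro m m' hmm
    have h0 : E ((1 : S) ⊗ₜ[R] γ m) = E ((1 : S) ⊗ₜ[R] γ m') := by
      rw [hf', hf', hmm]
    have h1 : (1 : S) ⊗ₜ[R] γ m = (1 : S) ⊗ₜ[R] γ m' := E.injective h0
    have h2 : γ m = γ m' := Module.FaithfullyFlat.tensorProduct_mk_injective (A := R) (B := S) A h1
    have h3 : y m = y m' := by rw [← hγy, ← hγy, h2]
    have h4 : MonoidAlgebra.single m (1 : R ⧸ 𝔪) = MonoidAlgebra.single m' 1 := by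
      have := congrArg e₀ h3
      simpa only [y, BialgEquiv.apply_symm_apply] using this
    exact MonoidAlgebra.single_left_injective (R := R ⧸ 𝔪) (M := M) one_ne_zero h4
  -- `f` is surjective
  have hfsurj : Function.Surjective f := by
    intro ν
    letI : Field (S ⧸ IsLocalRing.maximalIdeal S) := Ideal.Quotient.field _
    letI : Field (R ⧸ IsLocalRing.maximalIdeal R) := Ideal.Quotient.field _
    let σk : (R ⧸ IsLocalRing.maximalIdeal R) →ₐ[R] (S ⧸ IsLocalRing.maximalIdeal S) :=
      IsScalarTower.toAlgHom R _ _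
    let σS : S →ₐ[R] (S ⧸ IsLocalRing.maximalIdeal S) := IsScalarTower.toAlgHom R _ _
    set w := E.symm (MonoidAlgebra.single ν 1) with hw_def
    have hw : IsGroupLikeElem S w :=
      (MonoidAlgebra.isGroupLikeElem_single_one (R := S) (A := S) ν).map E.symm
    obtain ⟨m, hm⟩ := exists_eq_rTensor (S := R ⧸ IsLocalRing.maximalIdeal R)
      (K := S ⧸ IsLocalRing.maximalIdeal S) e₀ (isGroupLikeElem_rTensor σS hw)
    refine ⟨m, ?_⟩
    have h1 : (1 : S) ⊗ₜ[R] γ m = w := by
      refine groupLike_eq_of_sub_mem (isMultTypeConst_of_equiv E) (isGroupLikeElem_tmul (hγ m)) hw ?_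
      apply mem_map_of_rTensor_eq_zero
      rw [map_sub, sub_eq_zero, ← hm]
      change _ = LinearMap.rTensor A σk.toLinearMap (y m)
      rw [← hγy, LinearMap.rTensor_tmul, LinearMap.rTensor_tmul]
      simp
    have h2 : MonoidAlgebra.single (f m) (1 : S) = MonoidAlgebra.single ν 1 := by
      rw [← hf', h1, hw_def, BialgEquiv.apply_symm_apply]
    exact MonoidAlgebra.single_left_injective (R := S) (M := N) one_ne_zero h2
  have hΦbij : Function.Bijective (liftGL G hG) := by
    rw [hΦ]
    exact mapDomainBialgHom_bijective S f ⟨hfinj, hfsurj⟩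
  have hrel : ∀ u : S ⊗[R] MonoidAlgebra R M,
      E (LinearMap.lTensor S (Ψ : MonoidAlgebra R M →ₗ[R] A) u) =
        liftGL G hG (MonoidAlgebra.scalarTensorEquiv R S u) := by
    intro u
    induction u using TensorProduct.induction_on with
    | zero => simp
    | add x y hx hy => rw [map_add, map_add, map_add, map_add, hx, hy]
    | tmul s x =>
      induction x using MonoidAlgebra.induction_linear with
      | zero => simp
      | add x y hx hy =>
        rw [TensorProduct.tmul_add, map_add, map_add, map_add, map_add, hx, hy]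
      | single m r =>
        rw [LinearMap.lTensor_tmul]
        change E (s ⊗ₜ[R] Ψ (MonoidAlgebra.single m r)) = _
        rw [hΨs, MonoidAlgebra.scalarTensorEquiv_tmul, map_smul]
        have e1 : MonoidAlgebra.mapAlgHom M (Algebra.ofId R S) (MonoidAlgebra.single m r) =
            MonoidAlgebra.single m (algebraMap R S r) := by
          simp [Algebra.ofId_apply]
        rw [e1, liftGL_single, hGdef, ← map_smul, ← map_smul]
        congr 1
        rw [TensorProduct.tmul_smul, ← algebraMap_smul S r, TensorProduct.smul_tmul',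
          TensorProduct.smul_tmul', TensorProduct.smul_tmul', smul_eq_mul, smul_eq_mul,
          smul_eq_mul, mul_one]
        congr 1
        ring
  have hfun : ⇑(LinearMap.lTensor S (Ψ : MonoidAlgebra R M →ₗ[R] A)) =
      ⇑E.symm ∘ ⇑(liftGL G hG) ∘ ⇑(MonoidAlgebra.scalarTensorEquiv R S (M := M)) := by
    funext u
    simp only [Function.comp_apply]
    rw [← hrel, BialgEquiv.symm_apply_apply]
  have hbij : Function.Bijective (LinearMap.lTensor S (Ψ : MonoidAlgebra R M →ₗ[R] A)) := by
    rw [hfun]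
    exact E.symm.bijective.comp (hΦbij.comp (AlgEquiv.bijective _))
  have hΨbij : Function.Bijective Ψ :=
    (Module.FaithfullyFlat.lTensor_bijective_iff_bijective R S
      (Ψ : MonoidAlgebra R M →ₗ[R] A)).mp hbij
  exact ⟨M, inferInstance, ⟨(BialgEquiv.ofBijective Ψ hΨbij).symm⟩⟩

end Core

section Wrapper

theorem isMultType_of_const {R : Type u} [CommRing R] {A : Type u} [CommRing A] [HopfAlgebra R A]
    (h : IsMultTypeConst R A) : IsMultType R A :=
  ⟨{1}, by rw [Ideal.span_singleton_one], fun _ _ => isMultTypeConst_baseChange _ h⟩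

/-- a finite algebra over a local ring whose closed fibre is a field is local, and its maximal
ideal is generated by the maximal ideal of the base. -/
theorem isLocalRing_of_fibre_field {R : Type u} [CommRing R] [IsLocalRing R] (R₁ : Type u)
    [CommRing R₁] [Algebra R R₁] [Module.Finite R R₁] {k' : Type u} [Field k']
    (φ : R₁ →+* k') (hφ : Function.Surjective φ)
    (hker : ∀ x, φ x = 0 → x ∈ Ideal.map (algebraMap R R₁) (IsLocalRing.maximalIdeal R)) :
    IsLocalRing R₁ ∧ ∀ [IsLocalRing R₁],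
      Ideal.map (algebraMap R R₁) (IsLocalRing.maximalIdeal R) = IsLocalRing.maximalIdeal R₁ := by
  have hPmax : (RingHom.ker φ).IsMaximal := RingHom.ker_isMaximal_of_surjective φ hφ
  have hint : Algebra.IsIntegral R R₁ := Algebra.IsIntegral.of_finite R R₁
  have hle : ∀ Q : Ideal R₁, Q.IsMaximal →
      Ideal.map (algebraMap R R₁) (IsLocalRing.maximalIdeal R) ≤ Q := by
    intro Q hQ
    have h1 : (Q.comap (algebraMap R R₁)).IsMaximal :=
      Ideal.isMaximal_comap_of_isIntegral_of_isMaximal Q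
    have h2 : Q.comap (algebraMap R R₁) = IsLocalRing.maximalIdeal R :=
      IsLocalRing.eq_maximalIdeal h1
    rw [Ideal.map_le_iff_le_comap, h2]
  have hPle : RingHom.ker φ ≤ Ideal.map (algebraMap R R₁) (IsLocalRing.maximalIdeal R) :=
    fun x hx => hker x hx
  have huniq : ∀ Q : Ideal R₁, Q.IsMaximal → Q = RingHom.ker φ := by
    intro Q hQ
    exact (hPmax.eq_of_le hQ.ne_top (hPle.trans (hle Q hQ))).symm
  have hloc : IsLocalRing R₁ := IsLocalRing.of_unique_max_ideal ⟨RingHom.ker φ, hPmax, huniq⟩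
  refine ⟨hloc, ?_⟩
  intro hloc'
  have h3 : IsLocalRing.maximalIdeal R₁ = RingHom.ker φ :=
    huniq _ (IsLocalRing.maximalIdeal.isMaximal R₁)
  refine le_antisymm (hle _ (IsLocalRing.maximalIdeal.isMaximal R₁)) ?_
  rw [h3]
  exact hPle

/-- SGA3 X 4.5: a group of multiplicative type and of finite type over a henselian local ring is
isotrivial. -/
theorem isIsotrivial_of_henselian (R : Type u) [CommRing R] [HenselianLocalRing R] (A : Type u)
    [CommRing A] [HopfAlgebra R A] (hft : Algebra.FiniteType R A) (h : IsMultType R A) :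
    IsIsotrivial R A := by
  classical
  have hR : HenselianRing R (IsLocalRing.maximalIdeal R) := inferInstance
  letI : Field (R ⧸ IsLocalRing.maximalIdeal R) := Ideal.Quotient.field _
  have hAc : IsMultTypeConst R A := isMultTypeConst_of_isLocalRing R A h
  have h0 : IsMultType (R ⧸ IsLocalRing.maximalIdeal R)
      ((R ⧸ IsLocalRing.maximalIdeal R) ⊗[R] A) :=
    isMultType_of_const (isMultTypeConst_baseChange _ hAc)
  have hft0 : Algebra.FiniteType (R ⧸ IsLocalRing.maximalIdeal R)
      ((R ⧸ IsLocalRing.maximalIdeal R) ⊗[R] A) := inferInstance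
  obtain ⟨k', _, _, hfin, hsep, M, _, -, ⟨E'⟩⟩ :=
    Groth.Agent.S2969.result (R ⧸ IsLocalRing.maximalIdeal R) _ hft0 h0
  haveI : Algebra.Etale (R ⧸ IsLocalRing.maximalIdeal R) k' := by
    have h1 := Algebra.FormallyEtale.of_isSeparable (R ⧸ IsLocalRing.maximalIdeal R) k'
    have h2 : Algebra.FinitePresentation (R ⧸ IsLocalRing.maximalIdeal R) k' :=
      Algebra.FinitePresentation.of_finiteType.mp inferInstance
    exact { formallyEtale := h1, finitePresentation := h2 }
  obtain ⟨R₁, _, _, hfin₁, het₁, ⟨θ⟩⟩ :=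
    Groth.Agent.Lib.helper26.FiniteEtaleLift.exists_finite_etale_lift _ hR k'
  -- `R₁` is local
  let ι : R₁ →+* (R ⧸ IsLocalRing.maximalIdeal R) ⊗[R] R₁ :=
    (Algebra.TensorProduct.includeRight :
      R₁ →ₐ[R] (R ⧸ IsLocalRing.maximalIdeal R) ⊗[R] R₁).toRingHom
  let φ : R₁ →+* k' := (θ : (R ⧸ IsLocalRing.maximalIdeal R) ⊗[R] R₁ →+* k').comp ι
  have hφ : Function.Surjective φ := by
    have h1 : Function.Surjective ι :=
      TensorProduct.mk_surjective R R₁ (R ⧸ IsLocalRing.maximalIdeal R)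
        Ideal.Quotient.mk_surjective
    exact θ.surjective.comp h1
  have hker : ∀ x, φ x = 0 →
      x ∈ Ideal.map (algebraMap R R₁) (IsLocalRing.maximalIdeal R) := by
    intro x hx
    have h1 : θ ((1 : R ⧸ IsLocalRing.maximalIdeal R) ⊗ₜ[R] x) = 0 := hx
    have h2 : (1 : R ⧸ IsLocalRing.maximalIdeal R) ⊗ₜ[R] x =
        (1 : R ⧸ IsLocalRing.maximalIdeal R) ⊗ₜ[R] (0 : R₁) := by
      rw [TensorProduct.tmul_zero]
      exact (EmbeddingLike.map_eq_zero_iff (f := θ)).mp h1
    have h3 := sub_mem_of_tmul_eq (IsLocalRing.maximalIdeal R) h2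
    rw [sub_zero, Ideal.smul_top_eq_map] at h3
    exact h3
  obtain ⟨hloc₁, hmax₁⟩ := isLocalRing_of_fibre_field R₁ φ hφ hker
  haveI := hloc₁
  have hmax : Ideal.map (algebraMap R R₁) (IsLocalRing.maximalIdeal R) =
      IsLocalRing.maximalIdeal R₁ := hmax₁
  haveI hlh : IsLocalHom (algebraMap R R₁) := by
    constructor
    intro r hr
    by_contra hnu
    have h1 : r ∈ IsLocalRing.maximalIdeal R := (IsLocalRing.mem_maximalIdeal r).mpr hnu
    have h2 : algebraMap R R₁ r ∈ IsLocalRing.maximalIdeal R₁ := by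
      rw [← hmax]
      exact Ideal.mem_map_of_mem _ h1
    exact (IsLocalRing.mem_maximalIdeal _).mp h2 hr
  haveI : HenselianLocalRing R₁ :=
    Groth.Agent.Lib.helper26.FiniteOverHens.henselianLocalRing_of_finite R R₁
  have hR₁ : HenselianRing R₁ (IsLocalRing.maximalIdeal R₁) := inferInstance
  haveI := Groth.Agent.Lib.helper15.CartIsotriv.projective_of_finite_etale R R₁
  have hff₁ : Module.FaithfullyFlat R R₁ := Module.FaithfullyFlat.of_flat_of_isLocalHom
  -- the closed fibre of `R₁ ⊗ A` is diagonalisable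
  letI : Field (R₁ ⧸ IsLocalRing.maximalIdeal R₁) := Ideal.Quotient.field _
  let ψ : (R ⧸ IsLocalRing.maximalIdeal R) ⊗[R] R₁ →ₐ[R ⧸ IsLocalRing.maximalIdeal R]
      (R₁ ⧸ IsLocalRing.maximalIdeal R₁) :=
    Algebra.TensorProduct.lift
      (Algebra.ofId (R ⧸ IsLocalRing.maximalIdeal R) (R₁ ⧸ IsLocalRing.maximalIdeal R₁))
      (IsScalarTower.toAlgHom R R₁ (R₁ ⧸ IsLocalRing.maximalIdeal R₁))
      (fun _ _ => Commute.all _ _)
  let τ : k' →ₐ[R ⧸ IsLocalRing.maximalIdeal R] (R₁ ⧸ IsLocalRing.maximalIdeal R₁) :=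
    ψ.comp (θ.symm : k' →ₐ[R ⧸ IsLocalRing.maximalIdeal R] _)
  letI : Algebra k' (R₁ ⧸ IsLocalRing.maximalIdeal R₁) := τ.toRingHom.toAlgebra
  haveI : IsScalarTower (R ⧸ IsLocalRing.maximalIdeal R) k' (R₁ ⧸ IsLocalRing.maximalIdeal R₁) :=
    IsScalarTower.of_algebraMap_eq fun r => (τ.commutes r).symm
  let e₁ : (R₁ ⧸ IsLocalRing.maximalIdeal R₁) ⊗[R₁] (R₁ ⊗[R] A) ≃ₐc[R₁ ⧸ IsLocalRing.maximalIdeal R₁]
      MonoidAlgebra (R₁ ⧸ IsLocalRing.maximalIdeal R₁) M :=
    ((cancelBialg R R₁ (R₁ ⧸ IsLocalRing.maximalIdeal R₁) A).trans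
      (cancelBialg R (R ⧸ IsLocalRing.maximalIdeal R) (R₁ ⧸ IsLocalRing.maximalIdeal R₁) A).symm).trans
    ((cancelBialg (R ⧸ IsLocalRing.maximalIdeal R) k' (R₁ ⧸ IsLocalRing.maximalIdeal R₁)
      ((R ⧸ IsLocalRing.maximalIdeal R) ⊗[R] A)).symm.trans
      (bcDiag (R₁ ⧸ IsLocalRing.maximalIdeal R₁) E'))
  have hA₁ : IsMultType R₁ (R₁ ⊗[R] A) := isMultType_of_const (isMultTypeConst_baseChange R₁ hAc)
  have hft₁ : Algebra.FiniteType R₁ (R₁ ⊗[R] A) := inferInstance
  exact ⟨R₁, inferInstance, inferInstance, het₁, hfin₁, hff₁,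
    isDiag_of_closedFibre hR₁ hft₁ hA₁ e₁⟩

end Wrapper

end Groth.Agent.Lib.helper15.HensGL
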