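import Mathlib
import Groth.Prelude.Def_SGA3b
import Groth.Agent.Lib.Helper15.RigidDiag0
import Groth.Agent.Lib.Helper15.HensGL2

/-!
# Descent along jointly injective families; diagonalisability from group-likes (helper15)

* `exists_of_family_coface_eq`: Amitsur descent for a finite jointly injective family of flat
  algebras.
* `exists_scalar_of_family`: descent of scalars.
* `isDiag_of_family_groupLike`: a Hopf algebra `A'` over `R'` with a family of elements `γ p`
  (`p : P`) which become the standard basis of `S j [P]` over each member of a jointly injective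
  family is isomorphic to `R'[P]`.
-/

set_option autoImplicit false
set_option linter.style.haveILetI false
set_option linter.unusedSectionVars false
universe u
open TensorProduct SGA3b

namespace Groth.Agent.Lib.helper15.MultKer

open Groth.Agent.Lib.helper15.Rigid Groth.Agent.Lib.helper15.MultLocal
  Groth.Agent.Lib.helper15.MultType Groth.Agent.Lib.helper15.DiagSub

section FamilyDescent

variable {R : Type u} [CommRing R] {ι : Type u} [Fintype ι] [DecidableEq ι]
  {S : ι → Type u} [∀ i, CommRing (S i)] [∀ i, Algebra R (S i)] [∀ i, Module.Flat R (S i)]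

/-- Amitsur descent for a finite jointly injective family of flat algebras. -/
theorem exists_of_family_coface_eq (ji : JI (R := R) S) {N : Type u} [AddCommGroup N] [Module R N]
    (g : ∀ i, S i ⊗[R] N)
    (h : ∀ i j, LinearMap.rTensor N
        (Algebra.TensorProduct.includeLeft : S i →ₐ[R] S i ⊗[R] S j).toLinearMap (g i) =
      LinearMap.rTensor N
        (Algebra.TensorProduct.includeRight : S j →ₐ[R] S i ⊗[R] S j).toLinearMap (g j)) :
    ∃ n : N, ∀ i, (1 : S i) ⊗ₜ[R] n = g i := by
  haveI : Module.FaithfullyFlat R (∀ i, S i) := faithfullyFlat_pi ji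
  set G := glue S g with hG
  have hco : LinearMap.rTensor N (cL R (∀ i, S i)) G = LinearMap.rTensor N (cR R (∀ i, S i)) G := by
    rw [← sub_eq_zero]
    apply double_ji
    intro i j
    rw [map_sub, sub_eq_zero]
    let σL : S i →ₐ[R] S i ⊗[R] S j := Algebra.TensorProduct.includeLeft
    let σR : S j →ₐ[R] S i ⊗[R] S j := Algebra.TensorProduct.includeRight
    have eL : LinearMap.rTensor N (TensorProduct.map (pr (R := R) S i) (pr (R := R) S j))
        (LinearMap.rTensor N (cL R (∀ i, S i)) G) = LinearMap.rTensor N σL.toLinearMap (g i) := by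
      rw [← LinearMap.comp_apply, ← LinearMap.rTensor_comp]
      have : TensorProduct.map (pr (R := R) S i) (pr (R := R) S j) ∘ₗ cL R (∀ i, S i) =
          σL.toLinearMap ∘ₗ pr (R := R) S i := by
        ext x
        simp [σL]
      rw [this, LinearMap.rTensor_comp, LinearMap.comp_apply, hG, pr_glue]
    have eR : LinearMap.rTensor N (TensorProduct.map (pr (R := R) S i) (pr (R := R) S j))
        (LinearMap.rTensor N (cR R (∀ i, S i)) G) = LinearMap.rTensor N σR.toLinearMap (g j) := by
      rw [← LinearMap.comp_apply, ← LinearMap.rTensor_comp]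
      have : TensorProduct.map (pr (R := R) S i) (pr (R := R) S j) ∘ₗ cR R (∀ i, S i) =
          σR.toLinearMap ∘ₗ pr (R := R) S j := by
        ext x
        simp [σR]
      rw [this, LinearMap.rTensor_comp, LinearMap.comp_apply, hG, pr_glue]
    rw [eL, eR]
    exact h i j
  obtain ⟨a, ha⟩ := exists_of_coface_eq R (∀ i, S i) N G hco
  refine ⟨a, fun i => ?_⟩
  have := congrArg (LinearMap.rTensor N (pr (R := R) S i)) ha
  rw [LinearMap.rTensor_tmul, hG, pr_glue] at this
  exact this

/-- descent of scalars along a finite jointly injective family of flat algebras. -/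
theorem exists_scalar_of_family (ji : JI (R := R) S) (x : ∀ i, S i)
    (h : ∀ i j, (x i) ⊗ₜ[R] (1 : S j) = (1 : S i) ⊗ₜ[R] (x j)) :
    ∃ r : R, ∀ i, algebraMap R (S i) r = x i := by
  obtain ⟨r, hr⟩ := exists_of_family_coface_eq ji (N := R) (fun i => x i ⊗ₜ[R] (1 : R)) (by
    intro i j
    rw [LinearMap.rTensor_tmul, LinearMap.rTensor_tmul]
    change (x i ⊗ₜ[R] (1 : S j)) ⊗ₜ[R] (1 : R) = ((1 : S i) ⊗ₜ[R] x j) ⊗ₜ[R] (1 : R)
    rw [h i j])
  refine ⟨r, fun i => ?_⟩
  have h1 := congrArg (TensorProduct.rid R (S i)) (hr i)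
  rw [TensorProduct.rid_tmul, TensorProduct.rid_tmul, one_smul] at h1
  rw [Algebra.algebraMap_eq_smul_one]
  exact h1

end FamilyDescent

section GroupLikeFamily

variable {R' : Type u} [CommRing R'] {A' : Type u} [CommRing A'] [HopfAlgebra R' A']
  {κ : Type u} [Fintype κ] [DecidableEq κ]
  {S : κ → Type u} [∀ j, CommRing (S j)] [∀ j, Algebra R' (S j)]
  {P : Type u} [CommGroup P]

/-- a Hopf algebra with a family of elements which become the standard basis of `S j [P]` over each
member of a jointly injective family is diagonalisable of type `P`. -/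
theorem isDiag_of_family_groupLike (ji : JI (R := R') S) (γ : P → A')
    (E : ∀ j, S j ⊗[R'] A' ≃ₐc[S j] MonoidAlgebra (S j) P)
    (hE : ∀ j p, E j ((1 : S j) ⊗ₜ[R'] γ p) = MonoidAlgebra.single p 1) :
    Nonempty (A' ≃ₐc[R'] MonoidAlgebra R' P) := by
  classical
  have hgl : ∀ j p, IsGroupLikeElem (S j) ((1 : S j) ⊗ₜ[R'] γ p) := by
    intro j p
    have h1 : (1 : S j) ⊗ₜ[R'] γ p = (E j).symm (MonoidAlgebra.single p 1) := by
      rw [← hE j p, BialgEquiv.symm_apply_apply]
    rw [h1]
    exact (MonoidAlgebra.isGroupLikeElem_single_one (R := S j) (A := S j) p).map (E j).symm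
  have hγ : ∀ p, IsGroupLikeElem R' (γ p) := by
    intro p
    refine ⟨?_, ?_⟩
    · have := ji R' (Coalgebra.counit (R := R') (γ p) - 1) (fun j => by
        have h := (eqs_of_groupLike_tmul (hgl j p)).2
        have e : (1 : S j) ⊗ₜ[R'] (Coalgebra.counit (R := R') (γ p) - 1) =
            (algebraMap R' (S j) (Coalgebra.counit (R := R') (γ p) - 1)) ⊗ₜ[R'] (1 : R') := by
          rw [Algebra.algebraMap_eq_smul_one, TensorProduct.smul_tmul, smul_eq_mul, mul_one]
        rw [e, h, TensorProduct.zero_tmul])
      exact sub_eq_zero.mp this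
    · have := ji (A' ⊗[R'] A') (Coalgebra.comul (R := R') (γ p) - γ p ⊗ₜ[R'] γ p)
        (fun j => (eqs_of_groupLike_tmul (hgl j p)).1)
      exact sub_eq_zero.mp this
  have hone : γ 1 = 1 := by
    have := ji A' (γ 1 - 1) (fun j => by
      have h0 : E j ((1 : S j) ⊗ₜ[R'] (γ 1 - 1)) = 0 := by
        rw [TensorProduct.tmul_sub, map_sub, hE]
        have : (1 : S j) ⊗ₜ[R'] (1 : A') = 1 := rfl
        rw [this, map_one, MonoidAlgebra.one_def, sub_self]
      exact (EmbeddingLike.map_eq_zero_iff (f := E j)).mp h0)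
    exact sub_eq_zero.mp this
  have hmul : ∀ p q, γ (p * q) = γ p * γ q := by
    intro p q
    have := ji A' (γ (p * q) - γ p * γ q) (fun j => by
      have h0 : E j ((1 : S j) ⊗ₜ[R'] (γ (p * q) - γ p * γ q)) = 0 := by
        rw [TensorProduct.tmul_sub, map_sub, hE]
        have : (1 : S j) ⊗ₜ[R'] (γ p * γ q) =
            ((1 : S j) ⊗ₜ[R'] γ p) * ((1 : S j) ⊗ₜ[R'] γ q) := by
          rw [Algebra.TensorProduct.tmul_mul_tmul, one_mul]
        rw [this, map_mul, hE, hE, MonoidAlgebra.single_mul_single, one_mul, sub_self]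
      exact (EmbeddingLike.map_eq_zero_iff (f := E j)).mp h0)
    exact sub_eq_zero.mp this
  let γh : P →* A' := { toFun := γ, map_one' := hone, map_mul' := hmul }
  let Ψ : MonoidAlgebra R' P →ₐc[R'] A' := liftGL γh hγ
  have hΨs : ∀ p r, Ψ (MonoidAlgebra.single p r) = r • γ p := fun p r => liftGL_single γh hγ p r
  have hbc : ∀ j, Function.Bijective
      (LinearMap.lTensor (S j) (Ψ : MonoidAlgebra R' P →ₗ[R'] A')) := by
    intro j
    have hrel : ∀ u : S j ⊗[R'] MonoidAlgebra R' P,
        E j (LinearMap.lTensor (S j) (Ψ : MonoidAlgebra R' P →ₗ[R'] A') u) =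
          MonoidAlgebra.scalarTensorEquiv R' (S j) u := by
      intro u
      induction u using TensorProduct.induction_on with
      | zero => simp
      | add x y hx hy => rw [map_add, map_add, map_add, hx, hy]
      | tmul s x =>
        induction x using MonoidAlgebra.induction_linear with
        | zero => simp
        | add x y hx hy =>
          rw [TensorProduct.tmul_add, map_add, map_add, map_add, hx, hy]
        | single m r =>
          rw [LinearMap.lTensor_tmul]
          change E j (s ⊗ₜ[R'] Ψ (MonoidAlgebra.single m r)) = _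
          rw [hΨs, MonoidAlgebra.scalarTensorEquiv_tmul]
          have e1 : MonoidAlgebra.mapAlgHom P (Algebra.ofId R' (S j)) (MonoidAlgebra.single m r) =
              MonoidAlgebra.single m (algebraMap R' (S j) r) := by
            simp [Algebra.ofId_apply]
          have e2 : s ⊗ₜ[R'] (r • γ m) = (s * algebraMap R' (S j) r) • ((1 : S j) ⊗ₜ[R'] γ m) := by
            rw [TensorProduct.tmul_smul, ← algebraMap_smul (S j) r, TensorProduct.smul_tmul',
              TensorProduct.smul_tmul', smul_eq_mul, smul_eq_mul, mul_one, mul_comm]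
          rw [e1, e2, map_smul, hE, MonoidAlgebra.smul_single, smul_eq_mul, mul_one,
            MonoidAlgebra.smul_single, smul_eq_mul]
    have hfun : ⇑(LinearMap.lTensor (S j) (Ψ : MonoidAlgebra R' P →ₗ[R'] A')) =
        ⇑(E j).symm ∘ ⇑(MonoidAlgebra.scalarTensorEquiv R' (S j) (M := P)) := by
      funext u
      simp only [Function.comp_apply]
      rw [← hrel, BialgEquiv.symm_apply_apply]
    rw [hfun]
    exact (E j).symm.bijective.comp (AlgEquiv.bijective _)
  have hΨinj : Function.Injective Ψ := by
    rw [injective_iff_map_eq_zero]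
    intro z hz
    apply ji (MonoidAlgebra R' P) z
    intro j
    apply (hbc j).1
    rw [LinearMap.lTensor_tmul, map_zero]
    change (1 : S j) ⊗ₜ[R'] Ψ z = 0
    rw [hz, TensorProduct.tmul_zero]
  have hΨsurj : Function.Surjective Ψ := by
    intro w
    have := ji (A' ⧸ LinearMap.range (Ψ : MonoidAlgebra R' P →ₗ[R'] A'))
      (Submodule.Quotient.mk w) (fun j => by
        obtain ⟨u, hu⟩ := (hbc j).2 ((1 : S j) ⊗ₜ[R'] w)
        have h1 : LinearMap.lTensor (S j)
            (Submodule.mkQ (LinearMap.range (Ψ : MonoidAlgebra R' P →ₗ[R'] A')))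
            ((1 : S j) ⊗ₜ[R'] w) = 0 := by
          rw [← hu, ← LinearMap.comp_apply, ← LinearMap.lTensor_comp, LinearMap.range_mkQ_comp,
            LinearMap.lTensor_zero, LinearMap.zero_apply]
        rwa [LinearMap.lTensor_tmul] at h1)
    rw [Submodule.Quotient.mk_eq_zero] at this
    obtain ⟨z, hz⟩ := this
    exact ⟨z, hz⟩
  exact ⟨(BialgEquiv.ofBijective Ψ ⟨hΨinj, hΨsurj⟩).symm⟩

end GroupLikeFamily

end Groth.Agent.Lib.helper15.MultKer
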