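import Mathlib
import Groth.Prelude.Def_SGA3b
import Groth.Agent.Lib.Helper15.DefoDiag2
import Groth.Agent.Lib.Helper15.MultKer0
import Groth.Agent.Lib.Helper15.HensGL1

/-!
# Invariant integrals on Hopf algebras of multiplicative type (helper15)

* `IsInt lam`: `lam : A → R` is a normalised two-sided invariant integral on the Hopf algebra `A`.
* `IsInt.unique`, `IsInt.comp_equiv`, `isInt_c1` (coefficient of `1` on a group algebra),
  `IsInt.baseChange`.
* `exists_integral_of_isMultType`: a Hopf algebra of multiplicative type has an integral.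
-/

set_option autoImplicit false
set_option linter.unusedSectionVars false
set_option linter.style.haveILetI false
universe u
open TensorProduct Coalgebra

namespace Groth.Agent.Lib.helper15.DefoDiag

section Defs

variable {R : Type*} [CommRing R] {A : Type*} [CommRing A] [HopfAlgebra R A]

/-- `id ⊗ λ : A ⊗ A → A`. -/
noncomputable def Ram (lam : A →ₗ[R] R) : A ⊗[R] A →ₗ[R] A :=
  (TensorProduct.rid R A).toLinearMap ∘ₗ lam.lTensor A

@[simp] lemma Ram_tmul (lam : A →ₗ[R] R) (a b : A) : Ram lam (a ⊗ₜ[R] b) = lam b • a := by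
  simp [Ram]

/-- a normalised two-sided invariant integral. -/
structure IsInt (lam : A →ₗ[R] R) : Prop where
  one : lam 1 = 1
  left : ∀ a, Lam lam (comul (R := R) a) = lam a • (1 : A)
  right : ∀ a, Ram lam (comul (R := R) a) = lam a • (1 : A)

lemma lam_Ram (lam lam' : A →ₗ[R] R) (z : A ⊗[R] A) : lam (Ram lam' z) = lam' (Lam lam z) := by
  induction z using TensorProduct.induction_on with
  | zero => simp
  | tmul a b => rw [Ram_tmul, Lam_tmul, map_smul, map_smul, smul_eq_mul, smul_eq_mul, mul_comm]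
  | add x y hx hy => rw [map_add, map_add, hx, hy, map_add, map_add]

theorem IsInt.unique {lam lam' : A →ₗ[R] R} (h : IsInt lam) (h' : IsInt lam') : lam = lam' := by
  ext a
  have h1 := lam_Ram lam lam' (comul (R := R) a)
  rw [h'.right, h.left, map_smul, map_smul, h.one, h'.one, smul_eq_mul, smul_eq_mul, mul_one,
    mul_one] at h1
  exact h1.symm

end Defs

section Transport

variable {T : Type*} [CommRing T] {B B' : Type*} [CommRing B] [CommRing B'] [HopfAlgebra T B]
  [HopfAlgebra T B']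

lemma equiv_Lam (E : B ≃ₐc[T] B') (lam' : B' →ₗ[T] T) (z : B ⊗[T] B) :
    E (Lam (lam' ∘ₗ (E : B →ₗ[T] B')) z) =
      Lam lam' (TensorProduct.map (E : B →ₗ[T] B') (E : B →ₗ[T] B') z) := by
  induction z using TensorProduct.induction_on with
  | zero => simp
  | tmul a b =>
    rw [Lam_tmul, TensorProduct.map_tmul, Lam_tmul, map_smul]
    rfl
  | add x y hx hy => rw [map_add, map_add, hx, hy, map_add, map_add]

lemma equiv_Ram (E : B ≃ₐc[T] B') (lam' : B' →ₗ[T] T) (z : B ⊗[T] B) :
    E (Ram (lam' ∘ₗ (E : B →ₗ[T] B')) z) =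
      Ram lam' (TensorProduct.map (E : B →ₗ[T] B') (E : B →ₗ[T] B') z) := by
  induction z using TensorProduct.induction_on with
  | zero => simp
  | tmul a b =>
    rw [Ram_tmul, TensorProduct.map_tmul, Ram_tmul, map_smul]
    rfl
  | add x y hx hy => rw [map_add, map_add, hx, hy, map_add, map_add]

theorem IsInt.comp_equiv (E : B ≃ₐc[T] B') {lam' : B' →ₗ[T] T} (h : IsInt lam') :
    IsInt (lam' ∘ₗ (E : B →ₗ[T] B')) := by
  refine ⟨?_, fun b => ?_, fun b => ?_⟩
  · change lam' (E 1) = 1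
    rw [map_one, h.one]
  · have hΔ : TensorProduct.map (E : B →ₗ[T] B') (E : B →ₗ[T] B') (comul (R := T) b) =
        comul (R := T) (E b) := CoalgHomClass.map_comp_comul_apply E b
    apply (EquivLike.injective E)
    rw [equiv_Lam, hΔ, h.left, map_smul, map_one]
    rfl
  · have hΔ : TensorProduct.map (E : B →ₗ[T] B') (E : B →ₗ[T] B') (comul (R := T) b) =
        comul (R := T) (E b) := CoalgHomClass.map_comp_comul_apply E b
    apply (EquivLike.injective E)
    rw [equiv_Ram, hΔ, h.right, map_smul, map_one]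
    rfl

end Transport

section GroupAlg

variable {S : Type*} [CommRing S] {M : Type*} [CommGroup M]

lemma Ram_c1_comul (p : MonoidAlgebra S M) :
    Ram (c1 (S := S) (M := M)) (comul (R := S) p) = c1 p • (1 : MonoidAlgebra S M) := by
  classical
  induction p using MonoidAlgebra.induction_linear with
  | zero => simp
  | add x y hx hy => rw [map_add, map_add, hx, hy, map_add, add_smul]
  | single m c =>
    have hc : ∀ c : S, c1 (MonoidAlgebra.single m c) = if m = 1 then c else 0 := by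
      intro c
      rw [c1_apply, MonoidAlgebra.coeff_single, Finsupp.single_apply]
    rw [MonoidAlgebra.comul_single, CommSemiring.comul_apply, TensorProduct.map_tmul,
      MonoidAlgebra.lsingle_apply, MonoidAlgebra.lsingle_apply, Ram_tmul, hc]
    split_ifs with h
    · rw [h, MonoidAlgebra.one_def]
    · rw [zero_smul, zero_smul]

theorem isInt_c1 : IsInt (c1 (S := S) (M := M)) := by
  refine ⟨?_, Lam_c1_comul, Ram_c1_comul⟩
  rw [c1_apply, MonoidAlgebra.one_def, MonoidAlgebra.coeff_single, Finsupp.single_eq_same]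

end GroupAlg

section BaseChange

variable {T : Type*} [CommRing T] (T' : Type*) [CommRing T'] [Algebra T T']
  {B : Type*} [CommRing B] [HopfAlgebra T B]

/-- base change of a linear form. -/
noncomputable def bcInt (lam : B →ₗ[T] T) : T' ⊗[T] B →ₗ[T'] T' :=
  (TensorProduct.AlgebraTensorModule.rid T T' T').toLinearMap ∘ₗ lam.baseChange T'

lemma bcInt_tmul (lam : B →ₗ[T] T) (t : T') (b : B) :
    bcInt T' lam (t ⊗ₜ[T] b) = lam b • t := by
  simp [bcInt]

lemma Lam_bcInt_beta (lam : B →ₗ[T] T) (z : B ⊗[T] B) :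
    Lam (bcInt T' lam) (Rigid.beta T T' B z) = (1 : T') ⊗ₜ[T] Lam lam z := by
  induction z using TensorProduct.induction_on with
  | zero => simp
  | tmul a b =>
    rw [Rigid.beta_tmul, Lam_tmul, bcInt_tmul, Lam_tmul, smul_assoc, one_smul,
      TensorProduct.tmul_smul]
  | add x y hx hy => rw [map_add, map_add, hx, hy, map_add, TensorProduct.tmul_add]

lemma Ram_bcInt_beta (lam : B →ₗ[T] T) (z : B ⊗[T] B) :
    Ram (bcInt T' lam) (Rigid.beta T T' B z) = (1 : T') ⊗ₜ[T] Ram lam z := by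
  induction z using TensorProduct.induction_on with
  | zero => simp
  | tmul a b =>
    rw [Rigid.beta_tmul, Ram_tmul, bcInt_tmul, Ram_tmul, smul_assoc, one_smul,
      TensorProduct.tmul_smul]
  | add x y hx hy => rw [map_add, map_add, hx, hy, map_add, TensorProduct.tmul_add]

theorem IsInt.baseChange {lam : B →ₗ[T] T} (h : IsInt lam) : IsInt (bcInt T' lam) := by
  have keyL : ∀ b : B, Lam (bcInt T' lam) (comul (R := T') ((1 : T') ⊗ₜ[T] b)) =
      bcInt T' lam ((1 : T') ⊗ₜ[T] b) • (1 : T' ⊗[T] B) := by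
    intro b
    rw [← Rigid.beta_comul, Lam_bcInt_beta, h.left, bcInt_tmul, Algebra.TensorProduct.one_def,
      smul_assoc, one_smul, TensorProduct.tmul_smul]
  have keyR : ∀ b : B, Ram (bcInt T' lam) (comul (R := T') ((1 : T') ⊗ₜ[T] b)) =
      bcInt T' lam ((1 : T') ⊗ₜ[T] b) • (1 : T' ⊗[T] B) := by
    intro b
    rw [← Rigid.beta_comul, Ram_bcInt_beta, h.right, bcInt_tmul, Algebra.TensorProduct.one_def,
      smul_assoc, one_smul, TensorProduct.tmul_smul]
  refine ⟨?_, fun y => ?_, fun y => ?_⟩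
  · rw [Algebra.TensorProduct.one_def, bcInt_tmul, h.one, one_smul]
  · induction y using TensorProduct.induction_on with
    | zero => simp
    | tmul t b =>
      have e : t ⊗ₜ[T] b = t • ((1 : T') ⊗ₜ[T] b) := by
        rw [TensorProduct.smul_tmul', smul_eq_mul, mul_one]
      rw [e, map_smul, map_smul, keyL, map_smul, smul_assoc]
    | add x y hx hy => rw [map_add, map_add, hx, hy, map_add, add_smul]
  · induction y using TensorProduct.induction_on with
    | zero => simp
    | tmul t b =>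
      have e : t ⊗ₜ[T] b = t • ((1 : T') ⊗ₜ[T] b) := by
        rw [TensorProduct.smul_tmul', smul_eq_mul, mul_one]
      rw [e, map_smul, map_smul, keyR, map_smul, smul_assoc]
    | add x y hx hy => rw [map_add, map_add, hx, hy, map_add, add_smul]

end BaseChange

section AlgHomBC

variable {R : Type*} [CommRing R] {A : Type*} [CommRing A] [HopfAlgebra R A]
  {S T : Type*} [CommRing S] [CommRing T] [Algebra R S] [Algebra R T]

lemma exists_integral_of_algHom (τ : S →ₐ[R] T) {lamS : S ⊗[R] A →ₗ[S] S} (h : IsInt lamS) :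
    ∃ mu : T ⊗[R] A →ₗ[T] T, IsInt mu ∧ ∀ a : A, mu ((1 : T) ⊗ₜ[R] a) =
      τ (lamS ((1 : S) ⊗ₜ[R] a)) := by
  letI : Algebra S T := τ.toRingHom.toAlgebra
  haveI : IsScalarTower R S T := IsScalarTower.of_algebraMap_eq' τ.comp_algebraMap.symm
  let Ec := MultLocal.cancelBialg R S T A
  refine ⟨(bcInt T lamS) ∘ₗ (Ec.symm : T ⊗[R] A →ₗ[T] T ⊗[S] (S ⊗[R] A)),
    (h.baseChange T).comp_equiv Ec.symm, fun a => ?_⟩
  change bcInt T lamS (Ec.symm ((1 : T) ⊗ₜ[R] a)) = _
  have h1 : Ec.symm ((1 : T) ⊗ₜ[R] a) = (1 : T) ⊗ₜ[S] ((1 : S) ⊗ₜ[R] a) := by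
    have h2 : Ec ((1 : T) ⊗ₜ[S] ((1 : S) ⊗ₜ[R] a)) = (1 : T) ⊗ₜ[R] a := by
      rw [MultLocal.cancelBialg_tmul, one_smul]
    rw [← h2, BialgEquiv.symm_apply_apply]
  rw [h1, bcInt_tmul, Algebra.smul_def, mul_one]
  rfl

lemma tmul_Lam_of_compat {lam : A →ₗ[R] R} {lamS : S ⊗[R] A →ₗ[S] S}
    (hc : ∀ a, algebraMap R S (lam a) = lamS ((1 : S) ⊗ₜ[R] a)) (z : A ⊗[R] A) :
    (1 : S) ⊗ₜ[R] Lam lam z = Lam lamS (Rigid.beta R S A z) := by
  induction z using TensorProduct.induction_on with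
  | zero => simp
  | tmul a b =>
    rw [Lam_tmul, Rigid.beta_tmul, Lam_tmul, ← hc, algebraMap_smul, TensorProduct.tmul_smul]
  | add x y hx hy => rw [map_add, TensorProduct.tmul_add, hx, hy, map_add, map_add]

lemma tmul_Ram_of_compat {lam : A →ₗ[R] R} {lamS : S ⊗[R] A →ₗ[S] S}
    (hc : ∀ a, algebraMap R S (lam a) = lamS ((1 : S) ⊗ₜ[R] a)) (z : A ⊗[R] A) :
    (1 : S) ⊗ₜ[R] Ram lam z = Ram lamS (Rigid.beta R S A z) := by
  induction z using TensorProduct.induction_on with
  | zero => simp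
  | tmul a b =>
    rw [Ram_tmul, Rigid.beta_tmul, Ram_tmul, ← hc, algebraMap_smul, TensorProduct.tmul_smul]
  | add x y hx hy => rw [map_add, TensorProduct.tmul_add, hx, hy, map_add, map_add]

end AlgHomBC

section MultType

variable {R : Type u} [CommRing R] {A : Type u} [CommRing A] [HopfAlgebra R A]

/-- a Hopf algebra of multiplicative type has a normalised invariant integral. -/
theorem exists_integral_of_isMultType (h : SGA3b.IsMultType R A) :
    ∃ lam : A →ₗ[R] R, IsInt lam := by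
  classical
  obtain ⟨𝒞⟩ := Rigid.nonempty_fcover h
  let lamS : ∀ i, 𝒞.S i ⊗[R] A →ₗ[𝒞.S i] 𝒞.S i := fun i =>
    c1 ∘ₗ (𝒞.E i : 𝒞.S i ⊗[R] A →ₗ[𝒞.S i] MonoidAlgebra (𝒞.S i) (𝒞.P i))
  have hlamS : ∀ i, IsInt (lamS i) := fun i => isInt_c1.comp_equiv (𝒞.E i)
  have hco : ∀ (a : A) (i j : 𝒞.ι), (lamS i ((1 : 𝒞.S i) ⊗ₜ[R] a)) ⊗ₜ[R] (1 : 𝒞.S j) =
      (1 : 𝒞.S i) ⊗ₜ[R] (lamS j ((1 : 𝒞.S j) ⊗ₜ[R] a)) := by
    intro a i j
    obtain ⟨mu, hmu, hmua⟩ := exists_integral_of_algHom (A := A)
      (Algebra.TensorProduct.includeLeft : 𝒞.S i →ₐ[R] 𝒞.S i ⊗[R] 𝒞.S j) (hlamS i)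
    obtain ⟨mu', hmu', hmua'⟩ := exists_integral_of_algHom (A := A)
      (Algebra.TensorProduct.includeRight : 𝒞.S j →ₐ[R] 𝒞.S i ⊗[R] 𝒞.S j) (hlamS j)
    have h1 := hmua a
    rw [hmu.unique hmu', hmua' a] at h1
    exact h1.symm
  choose lam hlam using fun a =>
    MultKer.exists_scalar_of_family 𝒞.ji (fun i => lamS i ((1 : 𝒞.S i) ⊗ₜ[R] a)) (hco a)
  have hinj : ∀ r r' : R, (∀ i, algebraMap R (𝒞.S i) r = algebraMap R (𝒞.S i) r') → r = r' := by
    intro r r' hrr
    have h1 := 𝒞.ji R (r - r') (fun i => by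
      have e : (1 : 𝒞.S i) ⊗ₜ[R] (r - r') = (algebraMap R (𝒞.S i) (r - r')) ⊗ₜ[R] (1 : R) := by
        rw [Algebra.algebraMap_eq_smul_one, TensorProduct.smul_tmul, smul_eq_mul, mul_one]
      rw [e, map_sub, hrr i, sub_self, TensorProduct.zero_tmul])
    exact sub_eq_zero.mp h1
  let lamL : A →ₗ[R] R :=
    { toFun := lam
      map_add' := fun a b => hinj _ _ fun i => by
        rw [map_add, hlam, hlam, hlam, TensorProduct.tmul_add, map_add]
      map_smul' := fun r a => hinj _ _ fun i => by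
        rw [RingHom.id_apply, smul_eq_mul, map_mul, hlam, hlam, TensorProduct.tmul_smul,
          ← algebraMap_smul (𝒞.S i) r, map_smul, smul_eq_mul] }
  have hlamL : ∀ i a, algebraMap R (𝒞.S i) (lamL a) = lamS i ((1 : 𝒞.S i) ⊗ₜ[R] a) :=
    fun i a => hlam a i
  refine ⟨lamL, ?_, fun a => ?_, fun a => ?_⟩
  · apply hinj
    intro i
    rw [hlamL, ← Algebra.TensorProduct.one_def, (hlamS i).one, map_one]
  · have h1 := 𝒞.ji A (Lam lamL (comul (R := R) a) - lamL a • (1 : A)) (fun i => by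
      rw [TensorProduct.tmul_sub, tmul_Lam_of_compat (hlamL i), Rigid.beta_comul, (hlamS i).left,
        ← hlamL, algebraMap_smul, TensorProduct.tmul_smul, ← Algebra.TensorProduct.one_def,
        sub_self])
    exact sub_eq_zero.mp h1
  · have h1 := 𝒞.ji A (Ram lamL (comul (R := R) a) - lamL a • (1 : A)) (fun i => by
      rw [TensorProduct.tmul_sub, tmul_Ram_of_compat (hlamL i), Rigid.beta_comul, (hlamS i).right,
        ← hlamL, algebraMap_smul, TensorProduct.tmul_smul, ← Algebra.TensorProduct.one_def,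
        sub_self])
    exact sub_eq_zero.mp h1

end MultType

end Groth.Agent.Lib.helper15.DefoDiag
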