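import Mathlib
import Groth.Agent.Lib.Helper15.HochInt0

/-!
# Lifting homomorphisms from groups with an invariant integral along a square-zero ideal (helper15)

`R` a ring, `J` an ideal with `J * J = ⊥`, `A` a commutative Hopf algebra over `R` with a normalised
left invariant integral `lam`, `C` a commutative Hopf algebra and `u : C → A` an algebra map which
is comultiplicative modulo `J`.  Then `u` is congruent modulo `J` to a bialgebra map
(the average `h ↦ ∫ u(x)⁻¹ u(x h) dx`).
-/

set_option autoImplicit false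
set_option linter.unusedSectionVars false

namespace Groth.Agent.Lib.helper15.DefoDiag

open TensorProduct Coalgebra WithConv

section Push

variable {R : Type*} [CommRing R] {C : Type*} [CommRing C] [HopfAlgebra R C]
  {B B' B'' : Type*} [CommRing B] [Algebra R B] [CommRing B'] [Algebra R B'] [CommRing B'']
  [Algebra R B'']

/-- post-composition with an algebra map, as a ring homomorphism of convolution rings. -/
noncomputable def push (h : B →ₐ[R] B') : WithConv (C →ₗ[R] B) →+* WithConv (C →ₗ[R] B') where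
  toFun x := toConv (h.toLinearMap ∘ₗ x.ofConv)
  map_one' := by
    apply WithConv.ext
    ext c
    simp [LinearMap.convOne_def]
  map_mul' x y := by
    apply WithConv.ext
    exact LinearMap.algHom_comp_convMul_distrib h x y
  map_zero' := by
    apply WithConv.ext
    simp
  map_add' x y := by
    apply WithConv.ext
    simp [LinearMap.comp_add]

@[simp] lemma push_apply (h : B →ₐ[R] B') (x : WithConv (C →ₗ[R] B)) (c : C) :
    push h x c = h (x c) := rfl

lemma push_push (h : B →ₐ[R] B') (h' : B' →ₐ[R] B'') (x : WithConv (C →ₗ[R] B)) :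
    push h' (push h x) = push (h'.comp h) x := rfl

lemma push_toConv (h : B →ₐ[R] B') (f : C →ₐ[R] B) :
    push h (toConv f.toLinearMap) = toConv (h.comp f).toLinearMap := rfl

/-- an algebra map is invertible for the convolution product. -/
lemma toConv_mul_antipode (u : C →ₐ[R] B) :
    (toConv u.toLinearMap : WithConv (C →ₗ[R] B)) *
      toConv (u.comp (HopfAlgebra.antipodeAlgHom R C)).toLinearMap = 1 := by
  have h1 : (toConv u.toLinearMap : WithConv (C →ₗ[R] B)) =
      push u (toConv (LinearMap.id : C →ₗ[R] C)) := rfl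
  have h2 : (toConv (u.comp (HopfAlgebra.antipodeAlgHom R C)).toLinearMap :
      WithConv (C →ₗ[R] B)) = push u (toConv (HopfAlgebra.antipode R (A := C))) := rfl
  rw [h1, h2, ← map_mul, LinearMap.id_mul_antipode, map_one]

lemma antipode_mul_toConv (u : C →ₐ[R] B) :
    (toConv (u.comp (HopfAlgebra.antipodeAlgHom R C)).toLinearMap : WithConv (C →ₗ[R] B)) *
      toConv u.toLinearMap = 1 := by
  have h1 : (toConv u.toLinearMap : WithConv (C →ₗ[R] B)) =
      push u (toConv (LinearMap.id : C →ₗ[R] C)) := rfl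
  have h2 : (toConv (u.comp (HopfAlgebra.antipodeAlgHom R C)).toLinearMap :
      WithConv (C →ₗ[R] B)) = push u (toConv (HopfAlgebra.antipode R (A := C))) := rfl
  rw [h1, h2, ← map_mul, LinearMap.antipode_mul_id, map_one]

/-- values of a convolution product with a factor with values in `J • ⊤`. -/
lemma conv_mem {J : Ideal R} (f g : WithConv (C →ₗ[R] B))
    (hg : ∀ c, g c ∈ J • (⊤ : Submodule R B)) (c : C) :
    (f * g) c ∈ J • (⊤ : Submodule R B) := by
  rw [LinearMap.convMul_apply]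
  generalize comul (R := R) c = z
  induction z using TensorProduct.induction_on with
  | zero => simp
  | tmul a b =>
    rw [TensorProduct.map_tmul, LinearMap.mul'_apply]
    exact mul_mem_smul_top _ (hg b)
  | add x y hx hy =>
    rw [map_add, map_add]
    exact add_mem hx hy

end Push

section Mult

variable {R : Type*} [CommRing R] {J : Ideal R} (hJ : J * J = ⊥)

include hJ in
/-- a linear retraction `Λ` of an algebra map `ι`, linear over `ι`, is multiplicative on elements
congruent modulo a square-zero ideal to elements of the image of `ι`. -/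
lemma map_mul_of_congr {X Y : Type*} [CommRing X] [Algebra R X] [CommRing Y] [Algebra R Y]
    (Λ : X →ₗ[R] Y) (ι : Y →ₐ[R] X) (h1 : ∀ b, Λ (ι b) = b) (h2 : ∀ b x, Λ (ι b * x) = b * Λ x)
    {x x' : X} {b b' : Y} (hx : x - ι b ∈ J • (⊤ : Submodule R X))
    (hx' : x' - ι b' ∈ J • (⊤ : Submodule R X)) : Λ (x * x') = Λ x * Λ x' := by
  set n := x - ι b with hn
  set n' := x' - ι b' with hn'
  have hnn : n * n' = 0 := mul_eq_zero_of_mem hJ hx hx'
  have hΛ : Λ n * Λ n' = 0 :=
    mul_eq_zero_of_mem hJ (map_mem_smul_top Λ hx) (map_mem_smul_top Λ hx')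
  have e1 : x = ι b + n := by rw [hn]; ring
  have e2 : x' = ι b' + n' := by rw [hn']; ring
  have e3 : x * x' = ι (b * b') + ι b * n' + ι b' * n + n * n' := by
    rw [e1, e2, map_mul]; ring
  rw [e3, hnn, add_zero, map_add, map_add, h1, h2, h2, e1, e2, map_add, map_add, h1, h1]
  linear_combination (-1 : Y) * hΛ

end Mult

section LamLinear

variable {R : Type*} [CommRing R] {A : Type*} [CommRing A] [HopfAlgebra R A] (lam : A →ₗ[R] R)

lemma Lam_includeRight_mul (a : A) (y : A ⊗[R] A) :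
    Lam lam ((Algebra.TensorProduct.includeRight : A →ₐ[R] A ⊗[R] A) a * y) = a * Lam lam y := by
  induction y using TensorProduct.induction_on with
  | zero => simp
  | tmul p q =>
    rw [Algebra.TensorProduct.includeRight_apply, Algebra.TensorProduct.tmul_mul_tmul, one_mul,
      Lam_tmul, Lam_tmul, mul_smul_comm]
  | add x y hx hy => rw [mul_add, map_add, hx, hy, map_add, mul_add]

lemma Lam3_i23_mul (b : A ⊗[R] A) (y : A ⊗[R] (A ⊗[R] A)) :
    Lam3 lam ((i23 b : A ⊗[R] (A ⊗[R] A)) * y) = b * Lam3 lam y := by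
  induction y using TensorProduct.induction_on with
  | zero => simp
  | tmul p q =>
    rw [i23_apply, Algebra.TensorProduct.tmul_mul_tmul, one_mul, Lam3_tmul, Lam3_tmul,
      mul_smul_comm]
  | add x y hx hy => rw [mul_add, map_add, hx, hy, map_add, mul_add]

lemma Lam3_d1_exact (h2 : ∀ a, Lam lam (comul (R := R) a) = lam a • (1 : A)) (z : A ⊗[R] A) :
    Lam3 lam (d1 z) = (1 : A) ⊗ₜ[R] (Lam lam z) := by
  induction z using TensorProduct.induction_on with
  | zero => simp
  | tmul a b =>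
    rw [d1_tmul, Lam3_assoc, Lam_tmul, h2, TensorProduct.smul_tmul]
  | add x y hx hy => rw [map_add, map_add, hx, hy, map_add, TensorProduct.tmul_add]

end LamLinear

section AlgMaps

variable {R : Type*} [CommRing R] {A : Type*} [CommRing A] [HopfAlgebra R A]

/-- `a ↦ a ⊗ 1`. -/
noncomputable abbrev i1 : A →ₐ[R] A ⊗[R] A := Algebra.TensorProduct.includeLeft

/-- `a ↦ 1 ⊗ a`. -/
noncomputable abbrev i2 : A →ₐ[R] A ⊗[R] A := Algebra.TensorProduct.includeRight

lemma d2_comp_i1 : (d2 : A ⊗[R] A →ₐ[R] A ⊗[R] (A ⊗[R] A)).comp i1 =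
    (i12 : A ⊗[R] A →ₐ[R] A ⊗[R] (A ⊗[R] A)).comp i1 := by
  ext a
  change (d2 (a ⊗ₜ[R] (1 : A)) : A ⊗[R] (A ⊗[R] A)) = i12 (a ⊗ₜ[R] (1 : A))
  rw [d2_tmul, i12_tmul, Bialgebra.comul_one, Algebra.TensorProduct.one_def]

lemma assoc_tmul_one (z : A ⊗[R] A) :
    Algebra.TensorProduct.assoc R R R A A A (z ⊗ₜ[R] (1 : A)) = i12 z := by
  induction z using TensorProduct.induction_on with
  | zero => simp
  | tmul a b => rw [Algebra.TensorProduct.assoc_tmul, i12_tmul]
  | add x y hx hy => rw [TensorProduct.add_tmul, map_add, hx, hy, map_add]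

lemma d1_comp_i1 :
    (d1 : A ⊗[R] A →ₐ[R] A ⊗[R] (A ⊗[R] A)).comp i1 =
      (i12 : A ⊗[R] A →ₐ[R] A ⊗[R] (A ⊗[R] A)).comp (Bialgebra.comulAlgHom R A) := by
  ext a
  change (d1 (a ⊗ₜ[R] (1 : A)) : A ⊗[R] (A ⊗[R] A)) = i12 (comul (R := R) a)
  rw [d1_tmul, assoc_tmul_one]

lemma d1_comp_comul : (d1 : A ⊗[R] A →ₐ[R] A ⊗[R] (A ⊗[R] A)).comp (Bialgebra.comulAlgHom R A) =
    (d2 : A ⊗[R] A →ₐ[R] A ⊗[R] (A ⊗[R] A)).comp (Bialgebra.comulAlgHom R A) := by
  ext a
  exact d1_comul a

lemma i12_one_tmul (a : A) :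
    (i12 ((1 : A) ⊗ₜ[R] a) : A ⊗[R] (A ⊗[R] A)) = i23 (a ⊗ₜ[R] (1 : A)) := by
  rw [i12_tmul, i23_apply]

lemma d1_one_tmul (a : A) :
    (d1 ((1 : A) ⊗ₜ[R] a) : A ⊗[R] (A ⊗[R] A)) = i23 ((1 : A) ⊗ₜ[R] a) := by
  rw [d1_tmul, Bialgebra.comul_one, Algebra.TensorProduct.one_def,
    Algebra.TensorProduct.assoc_tmul, i23_apply]

end AlgMaps

section Main

variable {R : Type*} [CommRing R] {J : Ideal R} (hJ : J * J = ⊥)
  {A : Type*} [CommRing A] [HopfAlgebra R A] (lam : A →ₗ[R] R) (h1 : lam 1 = 1)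
  (h2 : ∀ a, Lam lam (comul (R := R) a) = lam a • (1 : A))
  {C : Type*} [CommRing C] [HopfAlgebra R C] (u : C →ₐ[R] A)

/-- the kernel `w(x,h) = u(x)⁻¹ u(xh)`, an algebra map `C → A ⊗ A`. -/
noncomputable def wA : C →ₐ[R] A ⊗[R] A :=
  ofConv ((toConv ((i1.comp u).comp (HopfAlgebra.antipodeAlgHom R C)) :
      WithConv (C →ₐ[R] A ⊗[R] A)) * toConv ((Bialgebra.comulAlgHom R A).comp u))

lemma toConv_wA : (toConv (wA u).toLinearMap : WithConv (C →ₗ[R] A ⊗[R] A)) =
    push i1 (toConv (u.comp (HopfAlgebra.antipodeAlgHom R C)).toLinearMap) *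
      push (Bialgebra.comulAlgHom R A) (toConv u.toLinearMap) := by
  rw [wA]
  exact AlgHom.toLinearMap_convMul _ _

lemma conv_i1_i2 (f g : C →ₗ[R] A) (c : C) :
    ((toConv ((i1 : A →ₐ[R] A ⊗[R] A).toLinearMap ∘ₗ f) : WithConv (C →ₗ[R] A ⊗[R] A)) *
      toConv ((i2 : A →ₐ[R] A ⊗[R] A).toLinearMap ∘ₗ g)) c =
      TensorProduct.map f g (comul (R := R) c) := by
  rw [LinearMap.convMul_apply]
  generalize comul (R := R) c = z
  induction z using TensorProduct.induction_on with
  | zero => simp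
  | tmul a b =>
    rw [TensorProduct.map_tmul, LinearMap.mul'_apply, TensorProduct.map_tmul]
    simp
  | add x y hx hy => rw [map_add, map_add, hx, hy, map_add]

include hJ in
lemma wA_sub_mem
    (hu : ∀ c, comul (R := R) (u c) - TensorProduct.map u.toLinearMap u.toLinearMap
      (comul (R := R) c) ∈ J • (⊤ : Submodule R (A ⊗[R] A))) (c : C) :
    wA u c - (1 : A) ⊗ₜ[R] u c ∈ J • (⊤ : Submodule R (A ⊗[R] A)) := by
  set U : WithConv (C →ₗ[R] A) := toConv u.toLinearMap with hU
  set V : WithConv (C →ₗ[R] A) :=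
    toConv (u.comp (HopfAlgebra.antipodeAlgHom R C)).toLinearMap with hV
  have hVU : V * U = 1 := antipode_mul_toConv u
  set D : WithConv (C →ₗ[R] A ⊗[R] A) :=
    push (Bialgebra.comulAlgHom R A) U - push i1 U * push i2 U with hD
  have hDmem : ∀ c, D c ∈ J • (⊤ : Submodule R (A ⊗[R] A)) := by
    intro c
    have e : D c = comul (R := R) (u c) - (push i1 U * push i2 U) c := rfl
    rw [e]
    have e2 : (push i1 U * push i2 U) c =
        TensorProduct.map u.toLinearMap u.toLinearMap (comul (R := R) c) :=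
      conv_i1_i2 u.toLinearMap u.toLinearMap c
    rw [e2]
    exact hu c
  have key : (toConv (wA u).toLinearMap : WithConv (C →ₗ[R] A ⊗[R] A)) - push i2 U =
      push i1 V * D := by
    rw [toConv_wA, hD, mul_sub, ← mul_assoc, ← map_mul, hVU, map_one, one_mul]
  have h3 := conv_mem (J := J) (push i1 V) D hDmem c
  rw [← key] at h3
  exact h3

/-- the averaged map `h ↦ ∫ u(x)⁻¹ u(xh) dx`. -/
noncomputable def u2 : C →ₗ[R] A := Lam lam ∘ₗ (wA u).toLinearMap

lemma u2_apply (c : C) : u2 lam u c = Lam lam (wA u c) := rfl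

include h1 in
lemma Lam_i2 (b : A) : Lam lam ((i2 : A →ₐ[R] A ⊗[R] A) b) = b := by
  rw [Algebra.TensorProduct.includeRight_apply, Lam_tmul, h1, one_smul]

include hJ h1 in
lemma u2_mul
    (hu : ∀ c, comul (R := R) (u c) - TensorProduct.map u.toLinearMap u.toLinearMap
      (comul (R := R) c) ∈ J • (⊤ : Submodule R (A ⊗[R] A))) (c c' : C) :
    u2 lam u (c * c') = u2 lam u c * u2 lam u c' := by
  rw [u2_apply, u2_apply, u2_apply, map_mul]
  exact map_mul_of_congr hJ (Lam lam) i2 (Lam_i2 lam h1) (Lam_includeRight_mul lam)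
    (wA_sub_mem hJ u hu c) (wA_sub_mem hJ u hu c')

include h1 in
lemma u2_one : u2 lam u 1 = 1 := by
  rw [u2_apply, map_one, Algebra.TensorProduct.one_def, Lam_tmul, h1, one_smul]

/-- the averaged map as an algebra map. -/
noncomputable def u2A
    (hu : ∀ c, comul (R := R) (u c) - TensorProduct.map u.toLinearMap u.toLinearMap
      (comul (R := R) c) ∈ J • (⊤ : Submodule R (A ⊗[R] A))) : C →ₐ[R] A :=
  AlgHom.ofLinearMap (u2 lam u) (u2_one lam h1 u) (u2_mul hJ lam h1 u hu)

lemma conv_identity :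
    push (d2 : A ⊗[R] A →ₐ[R] A ⊗[R] (A ⊗[R] A))
        (toConv (wA u).toLinearMap : WithConv (C →ₗ[R] A ⊗[R] A)) =
      push (i12 : A ⊗[R] A →ₐ[R] A ⊗[R] (A ⊗[R] A)) (toConv (wA u).toLinearMap) *
        push (d1 : A ⊗[R] A →ₐ[R] A ⊗[R] (A ⊗[R] A)) (toConv (wA u).toLinearMap) := by
  set U : WithConv (C →ₗ[R] A) := toConv u.toLinearMap with hU
  set V : WithConv (C →ₗ[R] A) :=
    toConv (u.comp (HopfAlgebra.antipodeAlgHom R C)).toLinearMap with hV
  have hUV : U * V = 1 := toConv_mul_antipode u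
  rw [toConv_wA, map_mul, map_mul, map_mul, push_push, push_push, push_push, push_push, push_push,
    push_push, d1_comp_i1, d1_comp_comul, d2_comp_i1]
  set a := push ((i12 : A ⊗[R] A →ₐ[R] A ⊗[R] (A ⊗[R] A)).comp i1) V
  set d := push ((d2 : A ⊗[R] A →ₐ[R] A ⊗[R] (A ⊗[R] A)).comp (Bialgebra.comulAlgHom R A)) U
  have hbc : push ((i12 : A ⊗[R] A →ₐ[R] A ⊗[R] (A ⊗[R] A)).comp (Bialgebra.comulAlgHom R A)) U *
      push ((i12 : A ⊗[R] A →ₐ[R] A ⊗[R] (A ⊗[R] A)).comp (Bialgebra.comulAlgHom R A)) V = 1 := by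
    rw [← map_mul, hUV, map_one]
  rw [mul_assoc a, ← mul_assoc _ _ d, hbc, one_mul]

include hJ h1 h2 in
lemma comul_u2
    (hu : ∀ c, comul (R := R) (u c) - TensorProduct.map u.toLinearMap u.toLinearMap
      (comul (R := R) c) ∈ J • (⊤ : Submodule R (A ⊗[R] A))) (c : C) :
    comul (R := R) (u2 lam u c) = TensorProduct.map (u2 lam u) (u2 lam u) (comul (R := R) c) := by
  have hw := wA_sub_mem hJ u hu
  have h3 := congrArg (fun X : WithConv (C →ₗ[R] A ⊗[R] (A ⊗[R] A)) => Lam3 lam (X c))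
    (conv_identity u)
  simp only [push_apply] at h3
  rw [(Coalgebra.Repr.arbitrary R c).convMul_apply, map_sum] at h3
  have h4 : (toConv (wA u).toLinearMap : WithConv (C →ₗ[R] A ⊗[R] A)) c = wA u c := rfl
  rw [h4, Lam3_d2] at h3
  rw [u2_apply, h3, ← (Coalgebra.Repr.arbitrary R c).eq, map_sum]
  refine Finset.sum_congr rfl fun i _ => ?_
  simp only [push_apply]
  have h5 : ∀ x : C, (toConv (wA u).toLinearMap : WithConv (C →ₗ[R] A ⊗[R] A)) x = wA u x :=
    fun x => rfl
  rw [h5, h5]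
  have hx : (i12 (wA u ((Coalgebra.Repr.arbitrary R c).left i)) : A ⊗[R] (A ⊗[R] A)) -
      i23 (u ((Coalgebra.Repr.arbitrary R c).left i) ⊗ₜ[R] (1 : A)) ∈
        J • (⊤ : Submodule R (A ⊗[R] (A ⊗[R] A))) := by
    rw [← i12_one_tmul, ← map_sub]
    exact map_mem_smul_top (i12 : A ⊗[R] A →ₐ[R] A ⊗[R] (A ⊗[R] A)).toLinearMap (hw _)
  have hx' : (d1 (wA u ((Coalgebra.Repr.arbitrary R c).right i)) : A ⊗[R] (A ⊗[R] A)) -
      i23 ((1 : A) ⊗ₜ[R] u ((Coalgebra.Repr.arbitrary R c).right i)) ∈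
        J • (⊤ : Submodule R (A ⊗[R] (A ⊗[R] A))) := by
    rw [← d1_one_tmul, ← map_sub]
    exact map_mem_smul_top (d1 : A ⊗[R] A →ₐ[R] A ⊗[R] (A ⊗[R] A)).toLinearMap (hw _)
  have h6 := map_mul_of_congr hJ (Lam3 lam) (i23 : A ⊗[R] A →ₐ[R] A ⊗[R] (A ⊗[R] A))
    (fun b => by rw [Lam3_i23, h1, one_smul]) (Lam3_i23_mul lam) hx hx'
  rw [h6, Lam3_i12, Lam3_d1_exact lam h2, Algebra.TensorProduct.tmul_mul_tmul, mul_one, one_mul,
    TensorProduct.map_tmul, u2_apply, u2_apply]

end Main

section Final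

variable {R : Type*} [CommRing R] {J : Ideal R} (hJ : J * J = ⊥)
  {A : Type*} [CommRing A] [HopfAlgebra R A] (lam : A →ₗ[R] R) (h1 : lam 1 = 1)
  (h2 : ∀ a, Lam lam (comul (R := R) a) = lam a • (1 : A))
  {C : Type*} [CommRing C] [HopfAlgebra R C] (u : C →ₐ[R] A)

lemma map_counit_comul (a : A) :
    LinearMap.mul' R R (TensorProduct.map (counit (R := R) (A := A)) (counit (R := R) (A := A))
      (comul (R := R) a)) = counit (R := R) a := by
  have h3 := rTensor_counit_comul (R := R) a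
  have h4 := congrArg (LinearMap.lTensor R (counit (R := R) (A := A))) h3
  rw [← LinearMap.comp_apply, LinearMap.lTensor_comp_rTensor, LinearMap.lTensor_tmul] at h4
  rw [h4, LinearMap.mul'_apply, one_mul]

/-- an algebra map to the base ring which is idempotent for convolution is the counit. -/
lemma eq_counit_of_idem (η : C →ₐ[R] R)
    (h : ∀ c, LinearMap.mul' R R (TensorProduct.map η.toLinearMap η.toLinearMap
      (comul (R := R) c)) = η c) (c : C) : η c = counit (R := R) c := by
  set H : WithConv (C →ₗ[R] R) := toConv η.toLinearMap with hH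
  set H' : WithConv (C →ₗ[R] R) :=
    toConv (η.comp (HopfAlgebra.antipodeAlgHom R C)).toLinearMap with hH'
  have hinv : H * H' = 1 := toConv_mul_antipode η
  have hidem : H * H = H := by
    apply WithConv.ext
    ext x
    exact h x
  have hone : H = 1 := by
    calc H = H * (H * H') := by rw [hinv, mul_one]
      _ = (H * H) * H' := by rw [mul_assoc]
      _ = 1 := by rw [hidem, hinv]
  have h3 : H c = (1 : WithConv (C →ₗ[R] R)) c := by rw [hone]
  rw [LinearMap.convOne_apply] at h3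
  exact h3

include hJ h1 h2 in
/-- **Averaging**: an algebra map which is comultiplicative modulo a square-zero ideal is congruent
to a bialgebra map, provided the target has an invariant integral. -/
theorem exists_bialgHom_of_sq_zero
    (hu : ∀ c, comul (R := R) (u c) - TensorProduct.map u.toLinearMap u.toLinearMap
      (comul (R := R) c) ∈ J • (⊤ : Submodule R (A ⊗[R] A))) :
    ∃ φ : C →ₐc[R] A, ∀ c, φ c - u c ∈ J • (⊤ : Submodule R A) := by
  set v : C →ₐ[R] A := u2A hJ lam h1 u hu with hv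
  have hvapp : ∀ c, v c = u2 lam u c := fun c => rfl
  have hcomul : ∀ c, comul (R := R) (v c) =
      TensorProduct.map v.toLinearMap v.toLinearMap (comul (R := R) c) := by
    intro c
    rw [hvapp, comul_u2 hJ lam h1 h2 u hu c]
    rfl
  have hcounit : ∀ c, counit (R := R) (v c) = counit (R := R) c := by
    intro c
    refine eq_counit_of_idem ((Bialgebra.counitAlgHom R A).comp v) (fun x => ?_) c
    have h3 := map_counit_comul (R := R) (v x)
    rw [hcomul x, ← LinearMap.comp_apply (TensorProduct.map _ _), ← TensorProduct.map_comp] at h3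
    exact h3
  refine ⟨BialgHom.ofAlgHom v ?_ ?_, fun c => ?_⟩
  · ext c
    exact hcounit c
  · ext c
    change TensorProduct.map v.toLinearMap v.toLinearMap (comul (R := R) c) = comul (R := R) (v c)
    exact (hcomul c).symm
  · change u2 lam u c - u c ∈ _
    have h3 : u c = Lam lam ((1 : A) ⊗ₜ[R] u c) := by rw [Lam_tmul, h1, one_smul]
    rw [u2_apply, h3, ← map_sub]
    exact map_mem_smul_top (Lam lam) (wA_sub_mem hJ u hu c)

end Final

end Groth.Agent.Lib.helper15.DefoDiag
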