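import Mathlib
import Groth.Prelude.Def_SGA3b
import Groth.Agent.Lib.Helper15.HochLift1

/-!
# Lifting homomorphisms from groups of multiplicative type into smooth affine groups along
nilpotent ideals (helper15; SGA3 IX 3.6, affine target)
-/

set_option autoImplicit false
set_option linter.unusedSectionVars false
set_option linter.style.haveILetI false
universe u
open TensorProduct Coalgebra

namespace Groth.Agent.Lib.helper15.DefoDiag

section SqZero

variable {R : Type*} [CommRing R] {L : Type*} [CommRing L] [Algebra R L]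
  {A : Type*} [CommRing A] [HopfAlgebra R A] {C : Type*} [CommRing C] [HopfAlgebra R C]

lemma beta_map_of_compat (u : C →ₐ[R] A) (φ₀ : L ⊗[R] C →ₐc[L] L ⊗[R] A)
    (hu : ∀ c, (1 : L) ⊗ₜ[R] u c = φ₀ ((1 : L) ⊗ₜ[R] c)) (z : C ⊗[R] C) :
    Rigid.beta R L A (TensorProduct.map u.toLinearMap u.toLinearMap z) =
      TensorProduct.map (φ₀ : L ⊗[R] C →ₗ[L] L ⊗[R] A) (φ₀ : L ⊗[R] C →ₗ[L] L ⊗[R] A)
        (Rigid.beta R L C z) := by
  induction z using TensorProduct.induction_on with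
  | zero => simp
  | tmul a b =>
    rw [TensorProduct.map_tmul, Rigid.beta_tmul, Rigid.beta_tmul, TensorProduct.map_tmul]
    change ((1 : L) ⊗ₜ[R] u a) ⊗ₜ[L] ((1 : L) ⊗ₜ[R] u b) = _
    rw [hu, hu]
    rfl
  | add x y hx hy => rw [map_add, map_add, hx, hy, map_add, map_add]

/-- lifting along a square-zero thickening. -/
theorem exists_lift_of_sq_zero (hL : Function.Surjective (algebraMap R L))
    (hK : RingHom.ker (algebraMap R L) * RingHom.ker (algebraMap R L) = ⊥)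
    {lam : A →ₗ[R] R} (hlam : IsInt lam) [Algebra.FormallySmooth R C]
    (φ₀ : L ⊗[R] C →ₐc[L] L ⊗[R] A) :
    ∃ φ : C →ₐc[R] A, ∀ c, φ₀ ((1 : L) ⊗ₜ[R] c) = (1 : L) ⊗ₜ[R] φ c := by
  let g : A →ₐ[R] L ⊗[R] A := Algebra.TensorProduct.includeRight
  have hg : Function.Surjective g := fun y => exists_tmul_eq hL y
  have hgker : ∀ x, x ∈ RingHom.ker (g : A →+* L ⊗[R] A) →
      x ∈ (RingHom.ker (algebraMap R L)) • (⊤ : Submodule R A) := by
    intro x hx
    have h3 : g x = 0 := hx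
    have h4 : (1 : L) ⊗ₜ[R] x = 0 := h3
    exact mem_of_tmul_eq_zero hL h4
  have hnil : IsNilpotent (RingHom.ker (g : A →+* L ⊗[R] A)) := by
    refine ⟨2, ?_⟩
    rw [pow_two, Ideal.zero_eq_bot, eq_bot_iff, Ideal.mul_le]
    intro x hx y hy
    rw [Ideal.mem_bot]
    exact mul_eq_zero_of_mem hK (hgker x hx) (hgker y hy)
  let f : C →ₐ[R] L ⊗[R] A :=
    ((φ₀ : L ⊗[R] C →ₐ[L] L ⊗[R] A).restrictScalars R).comp Algebra.TensorProduct.includeRight
  let u : C →ₐ[R] A := Algebra.FormallySmooth.liftOfSurjective f g hg hnil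
  have hu : ∀ c, (1 : L) ⊗ₜ[R] u c = φ₀ ((1 : L) ⊗ₜ[R] c) := fun c =>
    Algebra.FormallySmooth.liftOfSurjective_apply f g hg hnil c
  have hu2 : ∀ c, comul (R := R) (u c) - TensorProduct.map u.toLinearMap u.toLinearMap
      (comul (R := R) c) ∈ (RingHom.ker (algebraMap R L)) • (⊤ : Submodule R (A ⊗[R] A)) := by
    intro c
    apply mem_of_tmul_eq_zero hL
    apply Rigid.beta_eq_zero
    have hΔ : TensorProduct.map (φ₀ : L ⊗[R] C →ₗ[L] L ⊗[R] A) (φ₀ : L ⊗[R] C →ₗ[L] L ⊗[R] A)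
        (comul (R := L) ((1 : L) ⊗ₜ[R] c)) = comul (R := L) (φ₀ ((1 : L) ⊗ₜ[R] c)) :=
      CoalgHomClass.map_comp_comul_apply φ₀ _
    rw [map_sub, Rigid.beta_comul, beta_map_of_compat u φ₀ hu, Rigid.beta_comul, hΔ, hu, sub_self]
  obtain ⟨φ, hφ⟩ := exists_bialgHom_of_sq_zero hK lam hlam.one hlam.left u hu2
  refine ⟨φ, fun c => ?_⟩
  rw [← hu]
  have h3 := tmul_eq_zero_of_mem (L := L) (hφ c)
  rw [TensorProduct.tmul_sub, sub_eq_zero] at h3
  exact h3.symm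

end SqZero

section Nilp

/-- lifting along a nilpotent thickening. -/
theorem exists_lift_of_pow_eq_bot (n : ℕ) :
    ∀ {R : Type u} [CommRing R] {L : Type u} [CommRing L] [Algebra R L]
      (_ : Function.Surjective (algebraMap R L))
      (_ : (RingHom.ker (algebraMap R L)) ^ n = ⊥)
      {A : Type u} [CommRing A] [HopfAlgebra R A] {lam : A →ₗ[R] R} (_ : IsInt lam)
      {C : Type u} [CommRing C] [HopfAlgebra R C] [Algebra.FormallySmooth R C]
      (φ₀ : L ⊗[R] C →ₐc[L] L ⊗[R] A),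
      ∃ φ : C →ₐc[R] A, ∀ c, φ₀ ((1 : L) ⊗ₜ[R] c) = (1 : L) ⊗ₜ[R] φ c := by
  induction n with
  | zero =>
    intro R _ L _ _ hL hn A _ _ lam hlam C _ _ _ φ₀
    have hbot : RingHom.ker (algebraMap R L) = ⊥ := by
      rw [pow_zero, Ideal.one_eq_top] at hn
      exact le_bot_iff.mp (hn ▸ le_top)
    exact exists_lift_of_sq_zero hL (by rw [hbot, Ideal.bot_mul]) hlam φ₀
  | succ n ih =>
    intro R _ L _ _ hL hn A _ _ lam hlam C _ _ _ φ₀
    by_cases hn0 : n = 0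
    · subst hn0
      rw [zero_add, pow_one] at hn
      exact exists_lift_of_sq_zero hL (by rw [hn, Ideal.bot_mul]) hlam φ₀
    set J : Ideal R := RingHom.ker (algebraMap R L) with hJ
    set K : Ideal R := J ^ n with hK
    have hKK : K * K = ⊥ := by
      have h1 : K * K = J ^ (n + n) := by rw [hK, ← pow_add]
      have h2 : J ^ (n + n) ≤ J ^ (n + 1) := Ideal.pow_le_pow_right (by omega)
      rw [h1]
      exact le_bot_iff.mp (hn ▸ h2)
    have hKJ : K ≤ J := by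
      rw [hK]
      exact Ideal.pow_le_self hn0
    let ψ : R ⧸ K →+* L := Ideal.Quotient.lift K (algebraMap R L)
      (fun a ha => RingHom.mem_ker.mp (hKJ ha))
    letI : Algebra (R ⧸ K) L := ψ.toAlgebra
    haveI : IsScalarTower R (R ⧸ K) L := IsScalarTower.of_algebraMap_eq (fun r => rfl)
    have hL' : Function.Surjective (algebraMap (R ⧸ K) L) := by
      intro l
      obtain ⟨r, rfl⟩ := hL l
      exact ⟨Ideal.Quotient.mk K r, rfl⟩
    have hker : RingHom.ker (algebraMap (R ⧸ K) L) = J.map (Ideal.Quotient.mk K) := by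
      ext y
      obtain ⟨r, rfl⟩ := Ideal.Quotient.mk_surjective y
      rw [RingHom.mem_ker]
      constructor
      · intro h
        exact Ideal.mem_map_of_mem _ (RingHom.mem_ker.mpr h)
      · intro h
        rw [Ideal.mem_map_iff_of_surjective _ Ideal.Quotient.mk_surjective] at h
        obtain ⟨r', hr', hrr'⟩ := h
        have h3 : r' - r ∈ K := Ideal.Quotient.eq.mp hrr'
        have h4 : r ∈ J := by
          have := J.sub_mem hr' (hKJ h3)
          rwa [sub_sub_cancel] at this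
        exact RingHom.mem_ker.mp h4
    have hn' : (RingHom.ker (algebraMap (R ⧸ K) L)) ^ n = ⊥ := by
      rw [hker, ← Ideal.map_pow, ← hK, Ideal.map_quotient_self]
    let EA := MultLocal.cancelBialg R (R ⧸ K) L A
    let EC := MultLocal.cancelBialg R (R ⧸ K) L C
    let φ₀' : L ⊗[R ⧸ K] ((R ⧸ K) ⊗[R] C) →ₐc[L] L ⊗[R ⧸ K] ((R ⧸ K) ⊗[R] A) :=
      (EA.symm : L ⊗[R] A →ₐc[L] L ⊗[R ⧸ K] ((R ⧸ K) ⊗[R] A)).comp
        (φ₀.comp (EC : L ⊗[R ⧸ K] ((R ⧸ K) ⊗[R] C) →ₐc[L] L ⊗[R] C))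
    obtain ⟨φ', hφ'⟩ := ih (R := R ⧸ K) (L := L) hL' hn' (A := (R ⧸ K) ⊗[R] A)
      (hlam.baseChange (R ⧸ K)) (C := (R ⧸ K) ⊗[R] C) φ₀'
    have h5 : RingHom.ker (algebraMap R (R ⧸ K)) = K := Ideal.mk_ker
    obtain ⟨φ, hφ⟩ := exists_lift_of_sq_zero (L := R ⧸ K) Ideal.Quotient.mk_surjective
      (by rw [h5]; exact hKK) hlam φ'
    refine ⟨φ, fun c => ?_⟩
    have h6 := hφ' ((1 : R ⧸ K) ⊗ₜ[R] c)
    rw [hφ c] at h6
    have h7 : φ₀' ((1 : L) ⊗ₜ[R ⧸ K] ((1 : R ⧸ K) ⊗ₜ[R] c)) =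
        EA.symm (φ₀ (EC ((1 : L) ⊗ₜ[R ⧸ K] ((1 : R ⧸ K) ⊗ₜ[R] c)))) := rfl
    have h8 : EC ((1 : L) ⊗ₜ[R ⧸ K] ((1 : R ⧸ K) ⊗ₜ[R] c)) = (1 : L) ⊗ₜ[R] c := by
      rw [MultLocal.cancelBialg_tmul, one_smul]
    have h9 : EA ((1 : L) ⊗ₜ[R ⧸ K] ((1 : R ⧸ K) ⊗ₜ[R] φ c)) = (1 : L) ⊗ₜ[R] φ c := by
      rw [MultLocal.cancelBialg_tmul, one_smul]
    rw [h7, h8] at h6
    rw [← h9, ← h6, BialgEquiv.apply_symm_apply]

end Nilp

end Groth.Agent.Lib.helper15.DefoDiag
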