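import Mathlib
import Groth.Prelude.Def_SGA3b
import Groth.Agent.Lib.Helper15.HochLift2
import Groth.Agent.Lib.Helper15.FormalHom0

/-!
# Formal homomorphisms, part 1: the tower of liftings (helper15; SGA3 IX 3.6 iterated)

`exists_step`: one step of lifting a bialgebra map along `A/K → A/J` with `J² ⊆ K ⊆ J`.
`exists_tower`: a compatible system of bialgebra maps `A/I^(n+1) ⊗ C → A/I^(n+1) ⊗ B` lifting a given
one over `A/I`, when `B` has an integral and `C` is formally smooth.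
-/

set_option autoImplicit false
set_option linter.unusedSectionVars false
set_option linter.style.haveILetI false
universe u
open TensorProduct Coalgebra

namespace Groth.Agent.Lib.helper15.FormalHom

open Groth.Agent.Lib.helper15.DefoDiag

section Step

variable {A : Type u} [CommRing A] {B : Type u} [CommRing B] [HopfAlgebra A B]
  {C : Type u} [CommRing C] [HopfAlgebra A C]

lemma cancel_one_tmul_eq_red {K J : Ideal A} (hKJ : K ≤ J)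
    [Algebra (A ⧸ K) (A ⧸ J)] [IsScalarTower A (A ⧸ K) (A ⧸ J)]
    (hfac : ∀ x : A ⧸ K, algebraMap (A ⧸ K) (A ⧸ J) x = Ideal.Quotient.factor hKJ x)
    (y : (A ⧸ K) ⊗[A] B) :
    MultLocal.cancelBialg A (A ⧸ K) (A ⧸ J) B ((1 : A ⧸ J) ⊗ₜ[A ⧸ K] y) = red hKJ B y := by
  induction y using TensorProduct.induction_on with
  | zero => simp
  | tmul r b =>
    rw [MultLocal.cancelBialg_tmul, red, LinearMap.rTensor_tmul, Algebra.smul_def, mul_one, hfac]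
    rfl
  | add x y hx hy => rw [TensorProduct.tmul_add, map_add, map_add, hx, hy]

theorem exists_step {lam : B →ₗ[A] A} (hlam : IsInt lam) [Algebra.FormallySmooth A C]
    {K J : Ideal A} (hKJ : K ≤ J) (hJK : J * J ≤ K)
    (ψ : (A ⧸ J) ⊗[A] C →ₐc[A ⧸ J] (A ⧸ J) ⊗[A] B) :
    ∃ ψ' : (A ⧸ K) ⊗[A] C →ₐc[A ⧸ K] (A ⧸ K) ⊗[A] B,
      ∀ c : C, red hKJ B (ψ' ((1 : A ⧸ K) ⊗ₜ[A] c)) = ψ ((1 : A ⧸ J) ⊗ₜ[A] c) := by
  let f : A ⧸ K →+* A ⧸ J := Ideal.Quotient.factor hKJ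
  letI : Algebra (A ⧸ K) (A ⧸ J) := f.toAlgebra
  haveI : IsScalarTower A (A ⧸ K) (A ⧸ J) := IsScalarTower.of_algebraMap_eq (fun r => rfl)
  have hL : Function.Surjective (algebraMap (A ⧸ K) (A ⧸ J)) :=
    Ideal.Quotient.factor_surjective hKJ
  have hker : RingHom.ker (algebraMap (A ⧸ K) (A ⧸ J)) = J.map (Ideal.Quotient.mk K) := by
    ext y
    obtain ⟨r, rfl⟩ := Ideal.Quotient.mk_surjective y
    rw [RingHom.mem_ker]
    constructor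
    · intro h
      have h1 : Ideal.Quotient.mk J r = 0 := h
      exact Ideal.mem_map_of_mem _ (Ideal.Quotient.eq_zero_iff_mem.mp h1)
    · intro h
      rw [Ideal.mem_map_iff_of_surjective _ Ideal.Quotient.mk_surjective] at h
      obtain ⟨r', hr', hrr'⟩ := h
      have h3 : r' - r ∈ K := Ideal.Quotient.eq.mp hrr'
      have h4 : r ∈ J := by
        have := J.sub_mem hr' (hKJ h3)
        rwa [sub_sub_cancel] at this
      change Ideal.Quotient.mk J r = 0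
      exact Ideal.Quotient.eq_zero_iff_mem.mpr h4
  have hsq : RingHom.ker (algebraMap (A ⧸ K) (A ⧸ J)) * RingHom.ker (algebraMap (A ⧸ K) (A ⧸ J))
      = ⊥ := by
    rw [hker, ← Ideal.map_mul, eq_bot_iff]
    calc (J * J).map (Ideal.Quotient.mk K) ≤ K.map (Ideal.Quotient.mk K) := Ideal.map_mono hJK
      _ = ⊥ := Ideal.map_quotient_self K
  let EB := MultLocal.cancelBialg A (A ⧸ K) (A ⧸ J) B
  let EC := MultLocal.cancelBialg A (A ⧸ K) (A ⧸ J) C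
  let φ₀' : (A ⧸ J) ⊗[A ⧸ K] ((A ⧸ K) ⊗[A] C) →ₐc[A ⧸ J] (A ⧸ J) ⊗[A ⧸ K] ((A ⧸ K) ⊗[A] B) :=
    (EB.symm : (A ⧸ J) ⊗[A] B →ₐc[A ⧸ J] (A ⧸ J) ⊗[A ⧸ K] ((A ⧸ K) ⊗[A] B)).comp
      (ψ.comp (EC : (A ⧸ J) ⊗[A ⧸ K] ((A ⧸ K) ⊗[A] C) →ₐc[A ⧸ J] (A ⧸ J) ⊗[A] C))
  obtain ⟨ψ', hψ'⟩ := exists_lift_of_sq_zero (R := A ⧸ K) (L := A ⧸ J) hL hsq
    (hlam.baseChange (A ⧸ K)) φ₀'
  refine ⟨ψ', fun c => ?_⟩
  have h6 := hψ' ((1 : A ⧸ K) ⊗ₜ[A] c)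
  have h7 : φ₀' ((1 : A ⧸ J) ⊗ₜ[A ⧸ K] ((1 : A ⧸ K) ⊗ₜ[A] c)) =
      EB.symm (ψ (EC ((1 : A ⧸ J) ⊗ₜ[A ⧸ K] ((1 : A ⧸ K) ⊗ₜ[A] c)))) := rfl
  have h8 : EC ((1 : A ⧸ J) ⊗ₜ[A ⧸ K] ((1 : A ⧸ K) ⊗ₜ[A] c)) = (1 : A ⧸ J) ⊗ₜ[A] c := by
    rw [MultLocal.cancelBialg_tmul, one_smul]
  rw [h7, h8] at h6
  rw [← cancel_one_tmul_eq_red hKJ (fun x => rfl), ← h6]
  exact BialgEquiv.apply_symm_apply EB _

end Step

section Tower

variable {A : Type u} [CommRing A] {B : Type u} [CommRing B] [HopfAlgebra A B]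
  {C : Type u} [CommRing C] [HopfAlgebra A C]

lemma pow_zero_add_one_le (I : Ideal A) : I ^ (0 + 1) ≤ I := by rw [zero_add, pow_one]

/-- the tower of liftings. -/
theorem exists_tower {lam : B →ₗ[A] A} (hlam : IsInt lam) [Algebra.FormallySmooth A C]
    (I : Ideal A) (φ₀ : (A ⧸ I) ⊗[A] C →ₐc[A ⧸ I] (A ⧸ I) ⊗[A] B) :
    ∃ ψ : ∀ n : ℕ, (A ⧸ I ^ (n + 1)) ⊗[A] C →ₐc[A ⧸ I ^ (n + 1)] (A ⧸ I ^ (n + 1)) ⊗[A] B,
      (∀ c : C, red (pow_zero_add_one_le I) B (ψ 0 ((1 : A ⧸ I ^ (0 + 1)) ⊗ₜ[A] c)) =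
        φ₀ ((1 : A ⧸ I) ⊗ₜ[A] c)) ∧
      ∀ (n : ℕ) (c : C), red (pow_succ_le I n) B (ψ (n + 1) ((1 : A ⧸ I ^ (n + 1 + 1)) ⊗ₜ[A] c)) =
        ψ n ((1 : A ⧸ I ^ (n + 1)) ⊗ₜ[A] c) := by
  classical
  have h02 : I * I ≤ I ^ (0 + 1) := by
    rw [zero_add, pow_one]
    exact Ideal.mul_le_left
  have hstep : ∀ n : ℕ, (I ^ (n + 1)) * (I ^ (n + 1)) ≤ I ^ (n + 1 + 1) := by
    intro n
    rw [← pow_add]
    exact Ideal.pow_le_pow_right (by omega)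
  let ψ : ∀ n : ℕ, ((A ⧸ I ^ (n + 1)) ⊗[A] C →ₐc[A ⧸ I ^ (n + 1)] (A ⧸ I ^ (n + 1)) ⊗[A] B) :=
    fun n => Nat.rec
      (motive := fun n => ((A ⧸ I ^ (n + 1)) ⊗[A] C →ₐc[A ⧸ I ^ (n + 1)] (A ⧸ I ^ (n + 1)) ⊗[A] B))
      (Classical.choose (exists_step hlam (pow_zero_add_one_le I) h02 φ₀))
      (fun n ψn => Classical.choose (exists_step hlam (pow_succ_le I n) (hstep n) ψn)) n
  refine ⟨ψ, ?_, ?_⟩
  · exact Classical.choose_spec (exists_step hlam (pow_zero_add_one_le I) h02 φ₀)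
  · intro n
    exact Classical.choose_spec (exists_step hlam (pow_succ_le I n) (hstep n) (ψ n))

end Tower

end Groth.Agent.Lib.helper15.FormalHom
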