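import Mathlib

/-!
# Local finiteness of flat coalgebras over a Noetherian ring (Serre) (helper15)

`exists_fg_subcomod`: `R` Noetherian, `A` a flat `R`-coalgebra; every finite subset of `A` lies in
a finitely generated `R`-submodule `E` with `Δ E ⊆ E ⊗ A` (image in `A ⊗ A`).
-/

set_option autoImplicit false

namespace Groth.Agent.Lib.helper15.SerreFin

open TensorProduct

section Gen

variable {R : Type*} [CommRing R] {A B : Type*} [AddCommGroup A] [Module R A]
  [AddCommGroup B] [Module R B]

theorem range_rTensor_mono {N N' : Submodule R A} (h : N ≤ N') :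
    LinearMap.range (N.subtype.rTensor B) ≤ LinearMap.range (N'.subtype.rTensor B) := by
  have : N.subtype = N'.subtype ∘ₗ Submodule.inclusion h := by
    ext
    rfl
  rw [this, LinearMap.rTensor_comp]
  exact LinearMap.range_comp_le_range _ _

theorem exists_fg_range_rTensor (t : A ⊗[R] B) :
    ∃ N : Submodule R A, N.FG ∧ t ∈ LinearMap.range (N.subtype.rTensor B) := by
  induction t with
  | zero => exact ⟨⊥, Submodule.fg_bot, Submodule.zero_mem _⟩
  | tmul a b =>
    refine ⟨Submodule.span R {a}, Submodule.fg_span_singleton a,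
      ⟨(⟨a, Submodule.mem_span_singleton_self a⟩ : Submodule.span R {a}) ⊗ₜ[R] b, ?_⟩⟩
    rw [LinearMap.rTensor_tmul]
    rfl
  | add x y hx hy =>
    obtain ⟨N₁, h1, hx⟩ := hx
    obtain ⟨N₂, h2, hy⟩ := hy
    exact ⟨N₁ ⊔ N₂, h1.sup h2, Submodule.add_mem _ (range_rTensor_mono le_sup_left hx)
      (range_rTensor_mono le_sup_right hy)⟩

theorem exists_fg_range_rTensor_finset (F : Finset (A ⊗[R] B)) :
    ∃ N : Submodule R A, N.FG ∧ ∀ t ∈ F, t ∈ LinearMap.range (N.subtype.rTensor B) := by
  classical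
  induction F using Finset.induction_on with
  | empty => exact ⟨⊥, Submodule.fg_bot, fun t ht => by simp at ht⟩
  | insert t F' _ ih =>
    obtain ⟨N₁, h1, hN1⟩ := ih
    obtain ⟨N₂, h2, hN2⟩ := exists_fg_range_rTensor (R := R) t
    refine ⟨N₁ ⊔ N₂, h1.sup h2, fun s hs => ?_⟩
    rcases Finset.mem_insert.1 hs with rfl | hs'
    · exact range_rTensor_mono le_sup_right hN2
    · exact range_rTensor_mono le_sup_left (hN1 s hs')

end Gen

section Main

variable (R : Type*) [CommRing R] [IsNoetherianRing R] (A : Type*) [AddCommGroup A] [Module R A]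
  [Coalgebra R A] [Module.Flat R A]

theorem exists_fg_subcomod (F : Finset A) :
    ∃ E : Submodule R A, (↑F : Set A) ⊆ E ∧ E.FG ∧
      ∀ x ∈ E, Coalgebra.comul (R := R) x ∈ LinearMap.range (E.subtype.rTensor A) := by
  classical
  obtain ⟨N, hNfg, hN⟩ := exists_fg_range_rTensor_finset (R := R) (A := A) (B := A)
    (F.image (Coalgebra.comul (R := R)))
  set Δ : A →ₗ[R] A ⊗[R] A := Coalgebra.comul with hΔ
  set q : A →ₗ[R] A ⧸ N := N.mkQ with hq
  set θ : A →ₗ[R] (A ⧸ N) ⊗[R] A := q.rTensor A ∘ₗ Δ with hθ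
  have hexq : Function.Exact (N.subtype.rTensor A) (q.rTensor A) :=
    rTensor_exact A (LinearMap.exact_subtype_mkQ N) (Submodule.mkQ_surjective N)
  have hmemE : ∀ x, x ∈ LinearMap.ker θ ↔ Δ x ∈ LinearMap.range (N.subtype.rTensor A) := by
    intro x
    rw [LinearMap.mem_ker, hθ, LinearMap.comp_apply]
    exact hexq (Δ x)
  refine ⟨LinearMap.ker θ, ?_, ?_, ?_⟩
  · intro x hx
    exact (hmemE x).2 (hN _ (Finset.mem_image_of_mem _ hx))
  · have hle : LinearMap.ker θ ≤ N := by
      intro x hx
      obtain ⟨s, hs⟩ := (hmemE x).1 hx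
      have h1 : ∀ s : N ⊗[R] A, TensorProduct.rid R A
          ((Coalgebra.counit (R := R) (A := A)).lTensor A (N.subtype.rTensor A s)) ∈ N := by
        intro s
        induction s with
        | zero => simp
        | tmul n a =>
          rw [LinearMap.rTensor_tmul, LinearMap.lTensor_tmul, TensorProduct.rid_tmul]
          exact N.smul_mem _ n.2
        | add x y hx hy =>
          simp only [map_add]
          exact N.add_mem hx hy
      have h2 := h1 s
      rw [hs, hΔ, Coalgebra.lTensor_counit_comul, TensorProduct.rid_tmul, one_smul] at h2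
      exact h2
    exact hNfg.of_le hle
  · intro x hx
    have hex : Function.Exact ((LinearMap.ker θ).subtype.rTensor A) (θ.rTensor A) :=
      Module.Flat.rTensor_exact A (LinearMap.exact_subtype_ker_map θ)
    have hx0 : q.rTensor A (Δ x) = 0 := hx
    have e1 : θ.rTensor A (Δ x) = (q.rTensor A).rTensor A (Δ.rTensor A (Δ x)) := by
      rw [hθ, LinearMap.rTensor_comp]
      rfl
    have e2 : Δ.rTensor A (Δ x) = (TensorProduct.assoc R A A A).symm (Δ.lTensor A (Δ x)) :=
      (Coalgebra.coassoc_symm_apply x).symm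
    have e3 : ∀ z : A ⊗[R] (A ⊗[R] A),
        (q.rTensor A).rTensor A ((TensorProduct.assoc R A A A).symm z) =
          (TensorProduct.assoc R (A ⧸ N) A A).symm (q.rTensor (A ⊗[R] A) z) := by
      intro z
      rw [LinearMap.rTensor_tensor]
      simp
    have e4 : q.rTensor (A ⊗[R] A) (Δ.lTensor A (Δ x)) =
        Δ.lTensor (A ⧸ N) (q.rTensor A (Δ x)) := by
      have h1 := LinearMap.congr_fun (LinearMap.rTensor_comp_lTensor A q Δ) (Δ x)
      have h2 := LinearMap.congr_fun (LinearMap.lTensor_comp_rTensor A q Δ) (Δ x)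
      exact h1.trans h2.symm
    have key : θ.rTensor A (Δ x) = 0 := by
      rw [e1, e2, e3, e4, hx0, map_zero, map_zero]
    obtain ⟨y, hy⟩ := (hex (Δ x)).1 key
    exact ⟨y, hy⟩

end Main

end Groth.Agent.Lib.helper15.SerreFin
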