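import Mathlib
import Groth.Agent.Lib.Helper15.SerreFin
import Groth.Agent.Lib.Helper15.RigidDesc

/-!
# Formal homomorphisms, part 2: orthogonal families of functionals on a flat coalgebra (helper15)

* `P f`: the translation operator `c ↦ ∑ f c₍₂₎ • c₍₁₎` of a functional `f` on a coalgebra;
  `P_comp : P f ∘ P g = P (f * g)` (convolution), `counit_P`.
* `finite_ne_zero_of_orthogonal`: over a Noetherian ring, a family of functionals on a flat
  coalgebra which are pairwise orthogonal idempotents for convolution is locally finite: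
  for each `c` only finitely many `u m c` are nonzero (SGA3 IX 7.1, the key finiteness).
-/

set_option autoImplicit false
set_option linter.unusedSectionVars false
set_option linter.style.haveILetI false
universe u
open TensorProduct Coalgebra

namespace Groth.Agent.Lib.helper15.FormalHom

section Ops

variable {R : Type*} [CommRing R] {C : Type*} [AddCommGroup C] [Module R C] [Coalgebra R C]

/-- the slice `x ⊗ t ↦ m t • x`. -/
noncomputable def sl {X : Type*} [AddCommGroup X] [Module R X] (Y : Type*) [AddCommGroup Y]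
    [Module R Y] (m : X →ₗ[R] R) : Y ⊗[R] X →ₗ[R] Y :=
  (TensorProduct.rid R Y).toLinearMap ∘ₗ LinearMap.lTensor Y m

@[simp] lemma sl_tmul {X : Type*} [AddCommGroup X] [Module R X] {Y : Type*} [AddCommGroup Y]
    [Module R Y] (m : X →ₗ[R] R) (y : Y) (x : X) : sl Y m (y ⊗ₜ[R] x) = m x • y := by
  simp [sl]

/-- convolution of two linear maps into an algebra. -/
noncomputable def conv {S : Type*} [CommRing S] [Algebra R S] (f g : C →ₗ[R] S) : C →ₗ[R] S :=
  LinearMap.mul' R S ∘ₗ TensorProduct.map f g ∘ₗ comul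

lemma algHom_comp_conv {S S' : Type*} [CommRing S] [Algebra R S] [CommRing S'] [Algebra R S']
    (T : S →ₐ[R] S') (f g : C →ₗ[R] S) :
    conv (T.toLinearMap ∘ₗ f) (T.toLinearMap ∘ₗ g) = T.toLinearMap ∘ₗ conv f g := by
  have h1 : LinearMap.mul' R S' ∘ₗ TensorProduct.map (T.toLinearMap ∘ₗ f) (T.toLinearMap ∘ₗ g) =
      T.toLinearMap ∘ₗ LinearMap.mul' R S ∘ₗ TensorProduct.map f g := by
    apply TensorProduct.ext'
    intro x y
    simp
  rw [conv, ← LinearMap.comp_assoc, h1]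
  rfl

/-- the translation operator of a functional. -/
noncomputable def P (f : C →ₗ[R] R) : C →ₗ[R] C := sl C f ∘ₗ comul

lemma comul_comp_sl (g : C →ₗ[R] R) :
    (comul : C →ₗ[R] C ⊗[R] C) ∘ₗ sl C g = sl (C ⊗[R] C) g ∘ₗ LinearMap.rTensor C comul := by
  apply TensorProduct.ext'
  intro x z
  simp

lemma sl_sl_assoc_symm (f g : C →ₗ[R] R) :
    sl C f ∘ₗ sl (C ⊗[R] C) g ∘ₗ (TensorProduct.assoc R C C C).symm.toLinearMap =
      sl C (LinearMap.mul' R R ∘ₗ TensorProduct.map f g) := by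
  apply TensorProduct.ext'
  intro x t
  induction t using TensorProduct.induction_on with
  | zero => simp
  | tmul y z =>
    simp only [LinearMap.comp_apply, LinearEquiv.coe_coe, TensorProduct.assoc_symm_tmul, sl_tmul,
      map_smul, TensorProduct.map_tmul, LinearMap.mul'_apply, smul_smul]
    rw [mul_comm]
  | add a b ha hb => rw [TensorProduct.tmul_add, map_add, map_add, ha, hb]

theorem P_comp (f g : C →ₗ[R] R) : P f ∘ₗ P g = P (conv f g) := by
  have h1 : P f ∘ₗ P g = sl C f ∘ₗ ((comul : C →ₗ[R] C ⊗[R] C) ∘ₗ sl C g) ∘ₗ comul := rfl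
  rw [h1, comul_comp_sl]
  have h2 : sl C f ∘ₗ (sl (C ⊗[R] C) g ∘ₗ LinearMap.rTensor C comul) ∘ₗ comul =
      sl C f ∘ₗ sl (C ⊗[R] C) g ∘ₗ (LinearMap.rTensor C comul ∘ₗ comul) := rfl
  rw [h2, ← Coalgebra.coassoc_symm]
  have h3 : sl C f ∘ₗ sl (C ⊗[R] C) g ∘ₗ
      ((TensorProduct.assoc R C C C).symm.toLinearMap ∘ₗ LinearMap.lTensor C comul ∘ₗ comul) =
      (sl C f ∘ₗ sl (C ⊗[R] C) g ∘ₗ (TensorProduct.assoc R C C C).symm.toLinearMap) ∘ₗ
        LinearMap.lTensor C comul ∘ₗ comul := rfl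
  rw [h3, sl_sl_assoc_symm]
  have h4 : sl C (LinearMap.mul' R R ∘ₗ TensorProduct.map f g) ∘ₗ LinearMap.lTensor C comul =
      sl C (conv f g) := by
    rw [sl, sl, conv, LinearMap.comp_assoc, ← LinearMap.lTensor_comp]
    rfl
  rw [← LinearMap.comp_assoc, h4]
  rfl

lemma P_comp_apply (f g : C →ₗ[R] R) (c : C) : P f (P g c) = P (conv f g) c := by
  rw [← P_comp]
  rfl

lemma counit_P (f : C →ₗ[R] R) (c : C) : counit (R := R) (P f c) = f c := by
  have h1 : (counit : C →ₗ[R] R) ∘ₗ sl C f =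
      f ∘ₗ (TensorProduct.lid R C).toLinearMap ∘ₗ LinearMap.rTensor C counit := by
    apply TensorProduct.ext'
    intro x y
    simp [mul_comm]
  have h2 : counit (R := R) (P f c) = ((counit : C →ₗ[R] R) ∘ₗ sl C f) (comul c) := rfl
  rw [h2, h1, LinearMap.comp_apply, LinearMap.comp_apply, Coalgebra.rTensor_counit_comul]
  simp

lemma P_zero : P (0 : C →ₗ[R] R) = 0 := by
  rw [P, sl, LinearMap.lTensor_zero, LinearMap.comp_zero, LinearMap.zero_comp]

lemma sl_rTensor_subtype_mem (E : Submodule R C) (f : C →ₗ[R] R) (t : E ⊗[R] C) :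
    sl C f (LinearMap.rTensor C E.subtype t) ∈ E := by
  induction t using TensorProduct.induction_on with
  | zero => simp
  | tmul e y =>
    rw [LinearMap.rTensor_tmul, sl_tmul]
    exact E.smul_mem _ e.2
  | add a b ha hb =>
    rw [map_add, map_add]
    exact E.add_mem ha hb

lemma P_mem (E : Submodule R C)
    (hE : ∀ x ∈ E, comul (R := R) x ∈ LinearMap.range (LinearMap.rTensor C E.subtype))
    (f : C →ₗ[R] R) {x : C} (hx : x ∈ E) : P f x ∈ E := by
  obtain ⟨t, ht⟩ := hE x hx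
  change sl C f (comul x) ∈ E
  rw [← ht]
  exact sl_rTensor_subtype_mem E f t

end Ops

section Finite

variable {R : Type*} [CommRing R] [IsNoetherianRing R] {C : Type*} [AddCommGroup C] [Module R C]
  [Coalgebra R C] [Module.Flat R C]

/-- **Key finiteness** (SGA3 IX 7.1): a family of pairwise orthogonal convolution-idempotent
functionals on a flat coalgebra over a Noetherian ring is locally finite. -/
theorem finite_ne_zero_of_orthogonal {M : Type*} [DecidableEq M] (u : M → (C →ₗ[R] R))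
    (horth : ∀ m m', conv (u m) (u m') = if m = m' then u m else 0) (c : C) :
    {m | u m c ≠ 0}.Finite := by
  classical
  obtain ⟨E, hcE, hEfg, hE⟩ := SerreFin.exists_fg_subcomod R C {c}
  have hc : c ∈ E := hcE (by simp)
  haveI : IsNoetherian R E := isNoetherian_of_fg_of_noetherian E hEfg
  let Q : M → (E →ₗ[R] E) := fun m => (P (u m)).restrict (fun x hx => P_mem E hE (u m) hx)
  have hQ : ∀ m m' (x : E), Q m (Q m' x) = if m = m' then Q m x else 0 := by
    intro m m' x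
    apply Subtype.ext
    change P (u m) (P (u m') x) = _
    rw [P_comp_apply, horth]
    split_ifs with h
    · rfl
    · rw [P_zero]
      rfl
  have hind : iSupIndep (fun m => LinearMap.range (Q m)) := by
    intro m
    rw [Submodule.disjoint_def]
    intro x hx1 hx2
    obtain ⟨y, rfl⟩ := hx1
    have h1 : (⨆ j, ⨆ (_ : j ≠ m), LinearMap.range (Q j)) ≤ LinearMap.ker (Q m) := by
      refine iSup₂_le fun j hj => ?_
      rintro _ ⟨z, rfl⟩
      rw [LinearMap.mem_ker, hQ, if_neg (Ne.symm hj)]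
    have h2 := h1 hx2
    rw [LinearMap.mem_ker, hQ, if_pos rfl] at h2
    exact h2
  have hfin := Submodule.finite_ne_bot_of_iSupIndep hind
  refine hfin.subset ?_
  intro m hm
  simp only [Set.mem_ofPred_eq] at hm ⊢
  intro hbot
  apply hm
  have h1 : Q m ⟨c, hc⟩ = 0 := by
    have : Q m ⟨c, hc⟩ ∈ LinearMap.range (Q m) := ⟨_, rfl⟩
    rw [hbot] at this
    exact (Submodule.mem_bot R).mp this
  have h2 : P (u m) c = 0 := congrArg Subtype.val h1
  rw [← counit_P, h2, map_zero]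

end Finite

section Semi

variable {R₁ R₂ : Type*} [CommRing R₁] [CommRing R₂] [Algebra R₁ R₂]
  {X₁ : Type*} [AddCommGroup X₁] [Module R₁ X₁] [Coalgebra R₁ X₁]
  {X₂ : Type*} [AddCommGroup X₂] [Module R₂ X₂] [Module R₁ X₂] [IsScalarTower R₁ R₂ X₂]
  [Coalgebra R₂ X₂]

/-- `x ⊗ y ↦ h x ⊗ h y`, from a tensor product over `R₁` to one over `R₂`. -/
noncomputable def hh (h : X₁ →ₗ[R₁] X₂) : X₁ ⊗[R₁] X₁ →ₗ[R₁] X₂ ⊗[R₂] X₂ :=
  (TensorProduct.mapOfCompatibleSMul R₂ R₁ R₁ X₂ X₂) ∘ₗ (TensorProduct.map h h)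

@[simp] lemma hh_tmul (h : X₁ →ₗ[R₁] X₂) (x y : X₁) :
    hh (R₂ := R₂) h (x ⊗ₜ[R₁] y) = h x ⊗ₜ[R₂] h y := rfl

/-- a semilinear coalgebra map. -/
def IsSemi (h : X₁ →ₗ[R₁] X₂) : Prop :=
  ∀ x, comul (R := R₂) (h x) = hh (R₂ := R₂) h (comul (R := R₁) x)

theorem conv_comp_semi {h : X₁ →ₗ[R₁] X₂} (hs : IsSemi (R₂ := R₂) h)
    {S : Type*} [CommRing S] [Algebra R₂ S] [Algebra R₁ S] [IsScalarTower R₁ R₂ S]
    (f g : X₂ →ₗ[R₂] S) :
    conv ((f.restrictScalars R₁) ∘ₗ h) ((g.restrictScalars R₁) ∘ₗ h) =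
      ((conv f g).restrictScalars R₁) ∘ₗ h := by
  have h1 : LinearMap.mul' R₁ S ∘ₗ
      TensorProduct.map ((f.restrictScalars R₁) ∘ₗ h) ((g.restrictScalars R₁) ∘ₗ h) =
      ((LinearMap.mul' R₂ S ∘ₗ TensorProduct.map f g).restrictScalars R₁) ∘ₗ hh (R₂ := R₂) h := by
    apply TensorProduct.ext'
    intro x y
    simp
  ext x
  change (LinearMap.mul' R₁ S ∘ₗ
      TensorProduct.map ((f.restrictScalars R₁) ∘ₗ h) ((g.restrictScalars R₁) ∘ₗ h))
      (comul x) = (LinearMap.mul' R₂ S ∘ₗ TensorProduct.map f g) (comul (h x))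
  rw [h1, hs x]
  rfl

/-- composing a semilinear coalgebra map with a coalgebra map. -/
theorem IsSemi.comp {h : X₁ →ₗ[R₁] X₂} (hs : IsSemi (R₂ := R₂) h)
    {X₃ : Type*} [AddCommGroup X₃] [Module R₂ X₃] [Module R₁ X₃] [IsScalarTower R₁ R₂ X₃]
    [Coalgebra R₂ X₃] (k : X₂ →ₗc[R₂] X₃) :
    IsSemi (R₂ := R₂) (((k : X₂ →ₗ[R₂] X₃).restrictScalars R₁) ∘ₗ h) := by
  intro x
  have h1 : hh (R₂ := R₂) (((k : X₂ →ₗ[R₂] X₃).restrictScalars R₁) ∘ₗ h) =
      ((TensorProduct.map (k : X₂ →ₗ[R₂] X₃) (k : X₂ →ₗ[R₂] X₃)).restrictScalars R₁) ∘ₗ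
        hh (R₂ := R₂) h := by
    apply TensorProduct.ext'
    intro a b
    rfl
  rw [h1]
  change comul (k (h x)) = TensorProduct.map (k : X₂ →ₗ[R₂] X₃) (k : X₂ →ₗ[R₂] X₃)
    (hh (R₂ := R₂) h (comul x))
  rw [← hs x]
  exact (CoalgHomClass.map_comp_comul_apply k (h x)).symm

end Semi

section SemiMk

variable (R : Type*) [CommRing R] (S : Type*) [CommRing S] [Algebra R S]
  (X : Type*) [CommRing X] [Bialgebra R X]

/-- `x ↦ 1 ⊗ x` is a semilinear coalgebra map `X → S ⊗ X`. -/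
theorem isSemi_mk : IsSemi (R₁ := R) (R₂ := S) (TensorProduct.mk R S X 1) := by
  intro x
  have h1 : hh (R₂ := S) (TensorProduct.mk R S X 1) = Rigid.beta R S X := by
    apply TensorProduct.ext'
    intro a b
    rw [hh_tmul, Rigid.beta_tmul]
    rfl
  rw [h1, Rigid.beta_comul]
  rfl

end SemiMk

end Groth.Agent.Lib.helper15.FormalHom
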