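import Mathlib
import Groth.Prelude.Def_SGA3b
import Groth.Agent.Lib.Helper15.FormalHom0
import Groth.Agent.Lib.Helper15.FormalHom2
import Groth.Agent.Lib.Helper15.HochLift2

/-!
# Formal homomorphisms, part 3: algebraization (helper15; SGA3 IX 7.1)

`A` Noetherian and `I`-adically complete, `B` a Hopf algebra which becomes a group algebra `R'[M]`
after a finite faithfully flat base change `A → R'`, `C` any bialgebra (no flatness needed).  A compatible system of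
bialgebra maps `ψ n : A/I^(n+1) ⊗ C → A/I^(n+1) ⊗ B` comes from a bialgebra map `C → B`
(`exists_bialgHom_of_tower`).
-/

set_option autoImplicit false
set_option linter.unusedSectionVars false
set_option linter.style.haveILetI false
universe u
open TensorProduct Coalgebra

namespace Groth.Agent.Lib.helper15.FormalHom

section Coeff

variable (R' : Type*) [CommRing R'] (M : Type*) [CommMonoid M]

/-- the coefficient functionals on a group algebra. -/
noncomputable def cf (m : M) : MonoidAlgebra R' M →ₗ[R'] R' :=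
  (Finsupp.lapply m) ∘ₗ (MonoidAlgebra.coeffLinearEquiv (S := R') (M := M) R').toLinearMap

variable {R' M}

lemma cf_apply (m : M) (x : MonoidAlgebra R' M) : cf R' M m x = x.coeff m := rfl

lemma cf_single [DecidableEq M] (m k : M) (r : R') :
    cf R' M m (MonoidAlgebra.single k r) = if k = m then r else 0 := by
  rw [cf_apply, MonoidAlgebra.coeff_single, Finsupp.single_apply]

theorem conv_cf [DecidableEq M] (m m' : M) :
    conv (cf R' M m) (cf R' M m') = if m = m' then cf R' M m else 0 := by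
  apply MonoidAlgebra.lhom_ext'
  intro k
  ext
  simp only [LinearMap.comp_apply, MonoidAlgebra.lsingle_apply, conv,
    MonoidAlgebra.comul_single, CommSemiring.comul_apply, TensorProduct.map_tmul,
    LinearMap.mul'_apply, cf_single]
  split_ifs <;> simp_all [cf_single]

end Coeff

section Main

variable {A : Type u} [CommRing A]
  {B : Type u} [CommRing B] [HopfAlgebra A B]
  {R' : Type u} [CommRing R'] [Algebra A R']
  {M : Type u} [CommMonoid M] [DecidableEq M]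
  (e : R' ⊗[A] B ≃ₐc[R'] MonoidAlgebra R' M)

/-- `b ↦ e (1 ⊗ b)`. -/
noncomputable def hB : B →ₗ[A] MonoidAlgebra R' M :=
  (((e : R' ⊗[A] B →ₗc[R'] MonoidAlgebra R' M) : R' ⊗[A] B →ₗ[R'] MonoidAlgebra R' M).restrictScalars
    A) ∘ₗ TensorProduct.mk A R' B 1

lemma hB_apply (b : B) : hB e b = e ((1 : R') ⊗ₜ[A] b) := rfl

lemma isSemi_hB : IsSemi (R₁ := A) (R₂ := R') (hB e) :=
  (isSemi_mk A R' B).comp (e : R' ⊗[A] B →ₗc[R'] MonoidAlgebra R' M)

/-- the `m`-th coefficient of `e (1 ⊗ b)`. -/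
noncomputable def pm (m : M) : B →ₗ[A] R' := ((cf R' M m).restrictScalars A) ∘ₗ hB e

lemma pm_apply (m : M) (b : B) : pm e m b = (e ((1 : R') ⊗ₜ[A] b)).coeff m := rfl

theorem conv_pm (m m' : M) : conv (pm e m) (pm e m') = if m = m' then pm e m else 0 := by
  rw [pm, pm, conv_comp_semi (isSemi_hB e), conv_cf]
  split_ifs
  · rfl
  · ext b
    simp

variable (I : Ideal A)

/-- the base change of `pm` to `A/I^(n+1)`. -/
noncomputable def G (n : ℕ) (m : M) :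
    (A ⧸ I ^ (n + 1)) ⊗[A] B →ₗ[A ⧸ I ^ (n + 1)] (A ⧸ I ^ (n + 1)) ⊗[A] R' :=
  (pm e m).baseChange (A ⧸ I ^ (n + 1))

lemma G_one_tmul (n : ℕ) (m : M) (b : B) :
    G e I n m ((1 : A ⧸ I ^ (n + 1)) ⊗ₜ[A] b) = (1 : A ⧸ I ^ (n + 1)) ⊗ₜ[A] pm e m b := by
  rw [G, LinearMap.baseChange_tmul]

/-- `x ↦ 1 ⊗ x`, `R' → A/I^(n+1) ⊗ R'`. -/
noncomputable def Tn (n : ℕ) : R' →ₐ[A] (A ⧸ I ^ (n + 1)) ⊗[A] R' :=
  Algebra.TensorProduct.includeRight

lemma Tn_apply (n : ℕ) (x : R') : Tn (R' := R') I n x = (1 : A ⧸ I ^ (n + 1)) ⊗ₜ[A] x := rfl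

lemma G_comp_mk (n : ℕ) (m : M) :
    ((G e I n m).restrictScalars A) ∘ₗ TensorProduct.mk A (A ⧸ I ^ (n + 1)) B 1 =
      (Tn (R' := R') I n).toLinearMap ∘ₗ pm e m := by
  ext b
  exact G_one_tmul e I n m b

theorem conv_G_one_tmul (n : ℕ) (m m' : M) (b : B) :
    conv (G e I n m) (G e I n m') ((1 : A ⧸ I ^ (n + 1)) ⊗ₜ[A] b) =
      if m = m' then G e I n m ((1 : A ⧸ I ^ (n + 1)) ⊗ₜ[A] b) else 0 := by
  have h1 := conv_comp_semi (isSemi_mk A (A ⧸ I ^ (n + 1)) B) (G e I n m) (G e I n m')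
  rw [G_comp_mk, G_comp_mk, algHom_comp_conv, conv_pm] at h1
  have h2 := LinearMap.congr_fun h1 b
  rw [LinearMap.comp_apply, LinearMap.comp_apply] at h2
  change _ = conv (G e I n m) (G e I n m') ((1 : A ⧸ I ^ (n + 1)) ⊗ₜ[A] b) at h2
  rw [← h2]
  split_ifs
  · rw [G_one_tmul]
    rfl
  · simp

end Main

section Tower

variable {A : Type u} [CommRing A]
  {B : Type u} [CommRing B] [HopfAlgebra A B]
  {R' : Type u} [CommRing R'] [Algebra A R']
  {M : Type u} [CommMonoid M] [DecidableEq M]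
  (e : R' ⊗[A] B ≃ₐc[R'] MonoidAlgebra R' M)
  (I : Ideal A)
  {C : Type u} [CommRing C] [Bialgebra A C]
  (ψ : ∀ n : ℕ, (A ⧸ I ^ (n + 1)) ⊗[A] C →ₐc[A ⧸ I ^ (n + 1)] (A ⧸ I ^ (n + 1)) ⊗[A] B)

/-- `c ↦ ψ n (1 ⊗ c)`. -/
noncomputable def hC (n : ℕ) : C →ₗ[A] (A ⧸ I ^ (n + 1)) ⊗[A] B :=
  (((ψ n : (A ⧸ I ^ (n + 1)) ⊗[A] C →ₗc[A ⧸ I ^ (n + 1)] (A ⧸ I ^ (n + 1)) ⊗[A] B) :
    (A ⧸ I ^ (n + 1)) ⊗[A] C →ₗ[A ⧸ I ^ (n + 1)] (A ⧸ I ^ (n + 1)) ⊗[A] B).restrictScalars A) ∘ₗ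
    TensorProduct.mk A (A ⧸ I ^ (n + 1)) C 1

lemma hC_apply (n : ℕ) (c : C) : hC I ψ n c = ψ n ((1 : A ⧸ I ^ (n + 1)) ⊗ₜ[A] c) := rfl

lemma isSemi_hC (n : ℕ) : IsSemi (R₁ := A) (R₂ := A ⧸ I ^ (n + 1)) (hC I ψ n) :=
  (isSemi_mk A (A ⧸ I ^ (n + 1)) C).comp
    (ψ n : (A ⧸ I ^ (n + 1)) ⊗[A] C →ₗc[A ⧸ I ^ (n + 1)] (A ⧸ I ^ (n + 1)) ⊗[A] B)

/-- the `m`-th coefficient of `ψ n (1 ⊗ c)`. -/
noncomputable def g (n : ℕ) (m : M) : C →ₗ[A] (A ⧸ I ^ (n + 1)) ⊗[A] R' :=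
  ((G e I n m).restrictScalars A) ∘ₗ hC I ψ n

lemma g_apply (n : ℕ) (m : M) (c : C) :
    g e I ψ n m c = G e I n m (ψ n ((1 : A ⧸ I ^ (n + 1)) ⊗ₜ[A] c)) := rfl

lemma g_eq_of_eq (n : ℕ) (m : M) (c : C) (b : B)
    (hb : (1 : A ⧸ I ^ (n + 1)) ⊗ₜ[A] b = ψ n ((1 : A ⧸ I ^ (n + 1)) ⊗ₜ[A] c)) :
    g e I ψ n m c = (1 : A ⧸ I ^ (n + 1)) ⊗ₜ[A] pm e m b := by
  rw [g_apply, ← hb, G_one_tmul]

theorem conv_g (n : ℕ) (m m' : M) :
    conv (g e I ψ n m) (g e I ψ n m') = if m = m' then g e I ψ n m else 0 := by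
  rw [g, g, conv_comp_semi (isSemi_hC I ψ n)]
  ext c
  rw [LinearMap.comp_apply]
  obtain ⟨b, hb⟩ := exists_one_tmul_eq (I ^ (n + 1)) (hC I ψ n c)
  change conv (G e I n m) (G e I n m') (hC I ψ n c) = _
  rw [← hb, conv_G_one_tmul]
  split_ifs
  · rw [LinearMap.comp_apply, ← hb]
    rfl
  · simp

variable (hψ : ∀ n c, red (pow_succ_le I n) B (ψ (n + 1) ((1 : A ⧸ I ^ (n + 1 + 1)) ⊗ₜ[A] c)) =
  ψ n ((1 : A ⧸ I ^ (n + 1)) ⊗ₜ[A] c))

include hψ in
lemma red_g (n : ℕ) (m : M) (c : C) :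
    red (pow_succ_le I n) R' (g e I ψ (n + 1) m c) = g e I ψ n m c := by
  obtain ⟨b, hb⟩ := exists_one_tmul_eq (I ^ (n + 1 + 1))
    (ψ (n + 1) ((1 : A ⧸ I ^ (n + 1 + 1)) ⊗ₜ[A] c))
  have hb' : (1 : A ⧸ I ^ (n + 1)) ⊗ₜ[A] b = ψ n ((1 : A ⧸ I ^ (n + 1)) ⊗ₜ[A] c) := by
    rw [← hψ n c, ← hb, red_one_tmul]
  rw [g_eq_of_eq e I ψ (n + 1) m c b hb, g_eq_of_eq e I ψ n m c b hb', red_one_tmul]

end Tower

section Limit

variable {A : Type u} [CommRing A] [IsNoetherianRing A]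
  {B : Type u} [CommRing B] [HopfAlgebra A B]
  {R' : Type u} [CommRing R'] [Algebra A R'] [Module.Finite A R']
  {M : Type u} [CommMonoid M] [DecidableEq M]
  (e : R' ⊗[A] B ≃ₐc[R'] MonoidAlgebra R' M)
  (I : Ideal A)
  {C : Type u} [CommRing C] [Bialgebra A C]
  (ψ : ∀ n : ℕ, (A ⧸ I ^ (n + 1)) ⊗[A] C →ₐc[A ⧸ I ^ (n + 1)] (A ⧸ I ^ (n + 1)) ⊗[A] B)
  (hψ : ∀ n c, red (pow_succ_le I n) B (ψ (n + 1) ((1 : A ⧸ I ^ (n + 1 + 1)) ⊗ₜ[A] c)) =
    ψ n ((1 : A ⧸ I ^ (n + 1)) ⊗ₜ[A] c))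

include hψ in
theorem exists_u [IsAdicComplete I A] : ∃ u : M → (C →ₗ[A] R'),
    ∀ m n c, (1 : A ⧸ I ^ (n + 1)) ⊗ₜ[A] u m c = g e I ψ n m c := by
  haveI : IsAdicComplete I R' := isAdicComplete_of_finite I R'
  have := fun m => exists_limit_linearMap I (fun n => g e I ψ n m)
    (fun n c => red_g e I ψ hψ n m c)
  choose u hu using this
  exact ⟨u, hu⟩

theorem conv_u (hI : I ≤ Ideal.jacobson ⊥) (u : M → (C →ₗ[A] R'))
    (hu : ∀ m n c, (1 : A ⧸ I ^ (n + 1)) ⊗ₜ[A] u m c = g e I ψ n m c) (m m' : M) :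
    conv (u m) (u m') = if m = m' then u m else 0 := by
  ext c
  rw [← sub_eq_zero]
  apply eq_zero_of_forall_mem_of_finite I hI
  intro n
  rw [← tmul_eq_tmul_iff]
  have h1 : ∀ m, (Tn (R' := R') I n).toLinearMap ∘ₗ u m = g e I ψ n m :=
    fun m => LinearMap.ext (hu m n)
  have h2 := algHom_comp_conv (Tn (R' := R') I n) (u m) (u m')
  rw [h1, h1, conv_g] at h2
  have h3 := LinearMap.congr_fun h2 c
  rw [LinearMap.comp_apply] at h3
  change _ = (1 : A ⧸ I ^ (n + 1)) ⊗ₜ[A] conv (u m) (u m') c at h3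
  rw [← h3]
  split_ifs
  · exact (hu m n c).symm
  · simp

omit [IsNoetherianRing A] [Module.Finite A R'] in
/-- **Key finiteness** (SGA3 IX 7.1): a family of pairwise orthogonal convolution-idempotent linear
maps from a coalgebra into a Noetherian ring is locally finite.  (No flatness is needed: write
`Δ c = ∑ xᵢ ⊗ yᵢ`; the vectors `(u m xᵢ)ᵢ` span a finitely generated module, and the pairing with
`(u m yᵢ)ᵢ` kills all of them except the `m`-th one.) -/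
theorem finite_u [IsNoetherianRing R'] (u : M → (C →ₗ[A] R'))
    (hconv : ∀ m m', conv (u m) (u m') = if m = m' then u m else 0) (c : C) :
    {m | u m c ≠ 0}.Finite := by
  classical
  set 𝓡 := Coalgebra.Repr.arbitrary A c with h𝓡
  have hsum : ∀ m m', ∑ i ∈ 𝓡.index, u m (𝓡.left i) * u m' (𝓡.right i) =
      if m = m' then u m c else 0 := by
    intro m m'
    have h1 := LinearMap.congr_fun (hconv m m') c
    rw [conv, LinearMap.comp_apply, LinearMap.comp_apply, ← 𝓡.eq, map_sum, map_sum] at h1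
    simp only [TensorProduct.map_tmul, LinearMap.mul'_apply] at h1
    rw [h1]
    split_ifs <;> rfl
  let X : M → (𝓡.index → R') := fun m i => u m (𝓡.left i)
  let Pm : M → ((𝓡.index → R') →ₗ[R'] R') := fun m =>
    ∑ i : 𝓡.index, (u m (𝓡.right i)) • (LinearMap.proj i : (𝓡.index → R') →ₗ[R'] R')
  have hPm : ∀ m m', Pm m (X m') = if m' = m then u m' c else 0 := by
    intro m m'
    rw [← hsum m' m]
    simp only [Pm, X, LinearMap.sum_apply, LinearMap.smul_apply, LinearMap.proj_apply, smul_eq_mul]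
    rw [← Finset.sum_coe_sort 𝓡.index (fun i => u m' (𝓡.left i) * u m (𝓡.right i))]
    exact Finset.sum_congr rfl fun i _ => mul_comm _ _
  have hfg : (Submodule.span R' (Set.range X)).FG := IsNoetherian.noetherian _
  obtain ⟨s', hs's, hspan⟩ := (Submodule.fg_span_iff_fg_span_finset_subset (Set.range X)).mp hfg
  have hch : ∀ v : s', ∃ m, X m = v.1 := fun v => hs's v.2
  choose mv hmv using hch
  refine (Set.finite_range mv).subset ?_
  intro m hm
  simp only [Set.mem_ofPred_eq] at hm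
  by_contra hnot
  apply hm
  have h1 : X m ∈ Submodule.span R' (↑s' : Set (𝓡.index → R')) := by
    rw [← hspan]
    exact Submodule.subset_span ⟨m, rfl⟩
  have h2 : ∀ v ∈ Submodule.span R' (↑s' : Set (𝓡.index → R')), Pm m v = 0 := by
    intro v hv
    refine Submodule.span_induction (p := fun v _ => Pm m v = 0) ?_ ?_ ?_ ?_ hv
    · intro w hw
      have hw' : X (mv ⟨w, hw⟩) = w := hmv ⟨w, hw⟩
      rw [← hw', hPm, if_neg]
      rintro rfl
      exact hnot ⟨_, rfl⟩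
    · exact map_zero _
    · intro a b _ _ ha hb
      rw [map_add, ha, hb, add_zero]
    · intro r a _ ha
      rw [map_smul, ha, smul_zero]
  have h3 := h2 _ h1
  rw [hPm, if_pos rfl] at h3
  exact h3

end Limit

section Elt

lemma mem_smul_top_of_coeff_mem {A : Type*} [CommRing A] {R' : Type*} [CommRing R'] [Algebra A R']
    {M : Type*} [CommMonoid M] (J : Ideal A) (x : MonoidAlgebra R' M)
    (h : ∀ m, x.coeff m ∈ J • (⊤ : Submodule A R')) :
    x ∈ J • (⊤ : Submodule A (MonoidAlgebra R' M)) := by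
  classical
  have hx : x = ∑ m ∈ x.coeff.support, MonoidAlgebra.single m (x.coeff m) := by
    apply MonoidAlgebra.coeff_injective
    ext m'
    rw [MonoidAlgebra.coeff_sum, Finsupp.finsetSum_apply]
    simp only [MonoidAlgebra.coeff_single, Finsupp.single_apply]
    rw [Finset.sum_ite_eq' x.coeff.support m']
    split_ifs with hm
    · rfl
    · exact Finsupp.notMem_support_iff.mp hm
  rw [hx]
  refine Submodule.sum_mem _ fun m _ => ?_
  exact map_mem_smul_top (MonoidAlgebra.lsingle (R := A) (S := R') m) J (h m)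

variable {A : Type u} [CommRing A] [IsNoetherianRing A]
  {B : Type u} [CommRing B] [HopfAlgebra A B]
  {R' : Type u} [CommRing R'] [Algebra A R'] [Module.Finite A R'] [Module.FaithfullyFlat A R']
  {M : Type u} [CommMonoid M]
  (e : R' ⊗[A] B ≃ₐc[R'] MonoidAlgebra R' M)
  (I : Ideal A) [IsAdicComplete I A]
  {C : Type u} [CommRing C] [Bialgebra A C]
  (ψ : ∀ n : ℕ, (A ⧸ I ^ (n + 1)) ⊗[A] C →ₐc[A ⧸ I ^ (n + 1)] (A ⧸ I ^ (n + 1)) ⊗[A] B)
  (hψ : ∀ n c, red (pow_succ_le I n) B (ψ (n + 1) ((1 : A ⧸ I ^ (n + 1 + 1)) ⊗ₜ[A] c)) =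
    ψ n ((1 : A ⧸ I ^ (n + 1)) ⊗ₜ[A] c))

include e hψ in
/-- **Algebraization of elements**: the compatible family `ψ n (1 ⊗ c)` comes from an element
of `B`. -/
theorem exists_elt (c : C) :
    ∃ b : B, ∀ n, (1 : A ⧸ I ^ (n + 1)) ⊗ₜ[A] b = ψ n ((1 : A ⧸ I ^ (n + 1)) ⊗ₜ[A] c) := by
  classical
  have hI : I ≤ Ideal.jacobson ⊥ := IsAdicComplete.le_jacobson_bot I
  obtain ⟨u, hu⟩ := exists_u e I ψ hψ
  have hconv := conv_u e I ψ hI u hu
  haveI : IsNoetherianRing R' := IsNoetherianRing.of_finite A R'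
  have hfin := finite_u u hconv c
  haveI : Module.FinitePresentation A R' := Module.finitePresentation_of_finite A R'
  haveI : Module.Projective A R' := Module.Flat.projective_of_finitePresentation
  obtain ⟨r, hr⟩ := exists_retraction A R'
  let β : MonoidAlgebra R' M := (MonoidAlgebra.coeffLinearEquiv (S := R') (M := M) R').symm
    (Finsupp.ofSupportFinite (fun m => u m c) hfin)
  have hβ : ∀ m, β.coeff m = u m c := fun m => rfl
  let ρ : R' ⊗[A] B →ₗ[A] B := (TensorProduct.lid A B).toLinearMap ∘ₗ LinearMap.rTensor B r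
  have hρ : ∀ b : B, ρ ((1 : R') ⊗ₜ[A] b) = b := by
    intro b
    simp [ρ, hr]
  let L : MonoidAlgebra R' M →ₗ[A] B :=
    ρ ∘ₗ (e.symm.toLinearEquiv.toLinearMap.restrictScalars A)
  have hL : ∀ b : B, L (hB e b) = b := by
    intro b
    change ρ (e.symm (e ((1 : R') ⊗ₜ[A] b))) = b
    rw [BialgEquiv.symm_apply_apply, hρ]
  refine ⟨L β, fun n => ?_⟩
  obtain ⟨b, hb⟩ := exists_one_tmul_eq (I ^ (n + 1)) (ψ n ((1 : A ⧸ I ^ (n + 1)) ⊗ₜ[A] c))
  rw [← hb, tmul_eq_tmul_iff]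
  have h1 : L β - b = L (β - hB e b) := by rw [map_sub, hL]
  rw [h1]
  apply map_mem_smul_top
  apply mem_smul_top_of_coeff_mem
  intro m
  have h2 : (β - hB e b).coeff m = u m c - pm e m b := rfl
  rw [h2, ← tmul_eq_tmul_iff, hu m n c, g_eq_of_eq e I ψ n m c b hb]

end Elt

section Hom

variable {A : Type u} [CommRing A] [IsNoetherianRing A]
  {B : Type u} [CommRing B] [HopfAlgebra A B]
  {R' : Type u} [CommRing R'] [Algebra A R'] [Module.Finite A R'] [Module.FaithfullyFlat A R']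
  {M : Type u} [CommMonoid M]
  (e : R' ⊗[A] B ≃ₐc[R'] MonoidAlgebra R' M)
  (I : Ideal A) [IsAdicComplete I A]
  {C : Type u} [CommRing C] [Bialgebra A C]
  (ψ : ∀ n : ℕ, (A ⧸ I ^ (n + 1)) ⊗[A] C →ₐc[A ⧸ I ^ (n + 1)] (A ⧸ I ^ (n + 1)) ⊗[A] B)
  (hψ : ∀ n c, red (pow_succ_le I n) B (ψ (n + 1) ((1 : A ⧸ I ^ (n + 1 + 1)) ⊗ₜ[A] c)) =
    ψ n ((1 : A ⧸ I ^ (n + 1)) ⊗ₜ[A] c))

omit [IsNoetherianRing A] [IsAdicComplete I A] in
lemma beta_map_of_compat' {L : Type*} [CommRing L] [Algebra A L] (u : C →ₐ[A] B)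
    (φ₀ : L ⊗[A] C →ₐc[L] L ⊗[A] B)
    (hu : ∀ c, (1 : L) ⊗ₜ[A] u c = φ₀ ((1 : L) ⊗ₜ[A] c)) (z : C ⊗[A] C) :
    Rigid.beta A L B (TensorProduct.map u.toLinearMap u.toLinearMap z) =
      TensorProduct.map (φ₀ : L ⊗[A] C →ₗ[L] L ⊗[A] B) (φ₀ : L ⊗[A] C →ₗ[L] L ⊗[A] B)
        (Rigid.beta A L C z) := by
  induction z using TensorProduct.induction_on with
  | zero => simp
  | tmul a b =>
    rw [TensorProduct.map_tmul, Rigid.beta_tmul, Rigid.beta_tmul, TensorProduct.map_tmul]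
    change ((1 : L) ⊗ₜ[A] u a) ⊗ₜ[L] ((1 : L) ⊗ₜ[A] u b) = _
    rw [hu, hu]
    rfl
  | add x y hx hy => rw [map_add, map_add, hx, hy, map_add, map_add]

include e in
lemma eq_of_forall_tmul_eq (b b' : B)
    (h : ∀ n : ℕ, (1 : A ⧸ I ^ (n + 1)) ⊗ₜ[A] b = (1 : A ⧸ I ^ (n + 1)) ⊗ₜ[A] b') : b = b' := by
  have hI : I ≤ Ideal.jacobson ⊥ := IsAdicComplete.le_jacobson_bot I
  haveI : Module.Free R' (R' ⊗[A] B) := Module.Free.of_equiv e.symm.toLinearEquiv
  rw [← sub_eq_zero]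
  apply eq_zero_of_forall_tmul_eq_zero I hI R'
  intro n
  rw [TensorProduct.tmul_sub, h n, sub_self]

include e in
lemma eq_zero_of_forall_tmul_eq_zero₂ (z : B ⊗[A] B)
    (h : ∀ n : ℕ, (1 : A ⧸ I ^ (n + 1)) ⊗ₜ[A] z = 0) : z = 0 := by
  have hI : I ≤ Ideal.jacobson ⊥ := IsAdicComplete.le_jacobson_bot I
  haveI : Module.Free R' (R' ⊗[A] B) := Module.Free.of_equiv e.symm.toLinearEquiv
  haveI : Module.Free R' (R' ⊗[A] (B ⊗[A] B)) :=
    Module.Free.of_equiv (TensorProduct.AlgebraTensorModule.distribBaseChange A R' B B).symm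
  exact eq_zero_of_forall_tmul_eq_zero I hI R' z h

include e hψ in
/-- **Algebraization of formal homomorphisms** (SGA3 IX 7.1). -/
theorem exists_bialgHom_of_tower :
    ∃ φ : C →ₐc[A] B, ∀ n c,
      (1 : A ⧸ I ^ (n + 1)) ⊗ₜ[A] φ c = ψ n ((1 : A ⧸ I ^ (n + 1)) ⊗ₜ[A] c) := by
  classical
  have hI : I ≤ Ideal.jacobson ⊥ := IsAdicComplete.le_jacobson_bot I
  choose f hf0 using exists_elt e I ψ hψ
  have hf : ∀ n c, (1 : A ⧸ I ^ (n + 1)) ⊗ₜ[A] f c = ψ n ((1 : A ⧸ I ^ (n + 1)) ⊗ₜ[A] c) :=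
    fun n c => hf0 c n
  have hf' : ∀ n c, (1 : A ⧸ I ^ (n + 1)) ⊗ₜ[A] f c = hC I ψ n c := hf
  have hadd : ∀ x y, f (x + y) = f x + f y := by
    intro x y
    apply eq_of_forall_tmul_eq e I
    intro n
    rw [TensorProduct.tmul_add, hf', hf', hf', map_add]
  have hsmul : ∀ (a : A) x, f (a • x) = a • f x := by
    intro a x
    apply eq_of_forall_tmul_eq e I
    intro n
    rw [TensorProduct.tmul_smul, hf', hf', map_smul]
  have hone : f 1 = 1 := by
    apply eq_of_forall_tmul_eq e I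
    intro n
    rw [hf n 1, ← Algebra.TensorProduct.one_def, map_one, Algebra.TensorProduct.one_def]
  have hmul : ∀ x y, f (x * y) = f x * f y := by
    intro x y
    apply eq_of_forall_tmul_eq e I
    intro n
    have h1 : (1 : A ⧸ I ^ (n + 1)) ⊗ₜ[A] (x * y) =
        ((1 : A ⧸ I ^ (n + 1)) ⊗ₜ[A] x) * ((1 : A ⧸ I ^ (n + 1)) ⊗ₜ[A] y) := by
      rw [Algebra.TensorProduct.tmul_mul_tmul, one_mul]
    have h2 : (1 : A ⧸ I ^ (n + 1)) ⊗ₜ[A] (f x * f y) =
        ((1 : A ⧸ I ^ (n + 1)) ⊗ₜ[A] f x) * ((1 : A ⧸ I ^ (n + 1)) ⊗ₜ[A] f y) := by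
      rw [Algebra.TensorProduct.tmul_mul_tmul, one_mul]
    rw [hf n (x * y), h1, map_mul, h2, hf n x, hf n y]
  let φl : C →ₗ[A] B := { toFun := f, map_add' := hadd, map_smul' := hsmul }
  let φa : C →ₐ[A] B := AlgHom.ofLinearMap φl hone hmul
  have hφa : ∀ c, φa c = f c := fun c => rfl
  have hcounit : (Bialgebra.counitAlgHom A B).comp φa = Bialgebra.counitAlgHom A C := by
    apply AlgHom.ext
    intro c
    change counit (R := A) (f c) = counit (R := A) c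
    rw [← sub_eq_zero]
    apply eq_zero_of_forall_mem_of_finite I hI
    intro n
    rw [smul_eq_mul, Ideal.mul_top, ← Ideal.Quotient.eq_zero_iff_mem, map_sub, sub_eq_zero]
    have h1 := congrArg (counit (R := A ⧸ I ^ (n + 1))) (hf n c)
    rw [CoalgHomClass.counit_comp_apply, TensorProduct.counit_tmul, TensorProduct.counit_tmul,
      CommSemiring.counit_apply] at h1
    simpa [Algebra.smul_def] using h1
  have hcomul : (Algebra.TensorProduct.map φa φa).comp (Bialgebra.comulAlgHom A C) =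
      (Bialgebra.comulAlgHom A B).comp φa := by
    apply AlgHom.ext
    intro c
    change TensorProduct.map φa.toLinearMap φa.toLinearMap (comul (R := A) c) =
      comul (R := A) (φa c)
    rw [← sub_eq_zero]
    apply eq_zero_of_forall_tmul_eq_zero₂ e I
    intro n
    apply Rigid.beta_eq_zero
    have hu : ∀ c, (1 : A ⧸ I ^ (n + 1)) ⊗ₜ[A] φa c = ψ n ((1 : A ⧸ I ^ (n + 1)) ⊗ₜ[A] c) := hf n
    have hb := beta_map_of_compat' φa (ψ n) hu (comul (R := A) c)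
    rw [map_sub, hb, Rigid.beta_comul, Rigid.beta_comul, hu c,
      CoalgHomClass.map_comp_comul_apply, sub_self]
  exact ⟨BialgHom.ofAlgHom φa hcounit hcomul, hf⟩

end Hom

end Groth.Agent.Lib.helper15.FormalHom
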