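import Mathlib
import Groth.Prelude.Def_FrobAlg
import Groth.Agent.Lib.Helper15.Fitting

/-!
# A finitely presented module over a local ring of characteristic `p` isomorphic to its Frobenius
pull-back is free (helper15)
-/

set_option autoImplicit false
set_option linter.unusedSectionVars false
universe u v w
open TensorProduct

namespace Groth.Agent.Lib.helper15.FrobFree

open Groth.Agent.Lib.helper15.Fitting

section FG

variable {R : Type u} [CommRing R] {ι : Type v} [Fintype ι]

/-- the minors ideal of a finitely generated relation module is finitely generated. -/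
theorem fg_detIdeal (K : Submodule R (ι → R)) (hK : K.FG) (j : ℕ) : (detIdeal K j).FG := by
  classical
  obtain ⟨s, hs⟩ := hK
  let T : Set R := {d | ∃ (z : Fin j → (ι → R)) (e : Fin j → ι), (∀ b, z b ∈ (s : Set (ι → R))) ∧
    d = (Matrix.of fun a b => z b (e a)).det}
  have hT : T.Finite := by
    have : T ⊆ Set.range (fun q : (Fin j → s) × (Fin j → ι) =>
        (Matrix.of fun a b => (q.1 b : ι → R) (q.2 a)).det) := by
      rintro d ⟨z, e, hz, rfl⟩
      exact ⟨(fun b => ⟨z b, hz b⟩, e), rfl⟩
    exact (Set.finite_range _).subset this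
  have heq : detIdeal K j = Ideal.span T := by
    apply le_antisymm
    · apply Ideal.span_le.mpr
      rintro d ⟨z, e, hz, rfl⟩
      rw [← minorForm_apply]
      refine multilinear_mem_of_span (minorForm (R := R) j e).toMultilinearMap
        (s : Set (ι → R)) (Ideal.span T) ?_ z (fun b => by rw [hs]; exact hz b)
      intro w hw
      change minorForm j e w ∈ _
      rw [minorForm_apply]
      exact Ideal.subset_span ⟨w, e, hw, rfl⟩
    · apply Ideal.span_le.mpr
      rintro d ⟨z, e, hz, rfl⟩
      exact minor_mem K j z e (fun b => by rw [← hs]; exact Submodule.subset_span (hz b))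
  rw [heq]
  exact ⟨hT.toFinset, by rw [Set.Finite.coe_toFinset]⟩

end FG

section BC

variable {R : Type u} [CommRing R] {R' : Type w} [CommRing R'] [Algebra R R']
  {N : Type*} [AddCommGroup N] [Module R N] {ι : Type v} [Fintype ι] (x : ι → N)

/-- relations of a base-changed generating family (no flatness needed: right exactness). -/
theorem rel_baseChange' (hx : Submodule.span R (Set.range x) = ⊤) :
    rel R' (fun i => (1 : R') ⊗ₜ[R] x i) = extend (algebraMap R R') (rel R x) := by
  classical
  let π : (ι → R) →ₗ[R] N := Fintype.linearCombination R x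
  have hπ : Function.Surjective π := by
    rw [← LinearMap.range_eq_top, Fintype.range_linearCombination, hx]
  have hex : Function.Exact (rel R x).subtype π := LinearMap.exact_subtype_ker_map π
  have hex' := lTensor_exact R' hex hπ
  let Ψ := TensorProduct.piScalarRight R R' R' ι
  have hΨ : ∀ (r' : R') (v : ι → R), Ψ (r' ⊗ₜ v) = fun i => v i • r' := fun r' v => by
    simp [Ψ]
  have key : ∀ t : R' ⊗[R] (ι → R),
      (π.lTensor R') t = ∑ i, (Ψ t) i • ((1 : R') ⊗ₜ[R] x i) := by
    intro t
    induction t with
    | zero => simp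
    | add a b ha hb =>
      rw [map_add, ha, hb, map_add, ← Finset.sum_add_distrib]
      simp [add_smul]
    | tmul r' v =>
      rw [LinearMap.lTensor_tmul, hΨ]
      simp only [π, Fintype.linearCombination_apply, tmul_sum, tmul_smul]
      apply Finset.sum_congr rfl
      intro i _
      rw [smul_tmul', smul_tmul', smul_eq_mul, mul_one]
  apply le_antisymm
  · intro v' hv'
    rw [mem_rel] at hv'
    have h0 : (π.lTensor R') (Ψ.symm v') = 0 := by
      rw [key, LinearEquiv.apply_symm_apply]
      exact hv'
    obtain ⟨s, hs⟩ := (hex' (Ψ.symm v')).mp h0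
    have hv : v' = Ψ (((rel R x).subtype.lTensor R') s) := by
      rw [hs, LinearEquiv.apply_symm_apply]
    rw [hv]
    clear hs hv h0 hv'
    induction s with
    | zero => simp
    | add a b ha hb =>
      rw [map_add, map_add]
      exact Submodule.add_mem _ ha hb
    | tmul r' k =>
      rw [LinearMap.lTensor_tmul, Submodule.subtype_apply, hΨ]
      have : (fun i => (k : ι → R) i • r') = r' • (fun i => algebraMap R R' ((k : ι → R) i)) := by
        ext i
        simp [Algebra.smul_def, mul_comm]
      rw [this]
      exact Submodule.smul_mem _ _ (Submodule.subset_span ⟨k, k.2, rfl⟩)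
  · apply Submodule.span_le.mpr
    rintro _ ⟨v, hv, rfl⟩
    rw [SetLike.mem_coe, mem_rel] at hv ⊢
    have : ∑ i, algebraMap R R' (v i) • ((1 : R') ⊗ₜ[R] x i) = (1 : R') ⊗ₜ[R] (∑ i, v i • x i) := by
      rw [tmul_sum]
      apply Finset.sum_congr rfl
      intro i _
      rw [tmul_smul, algebraMap_smul]
    rw [this, hv, tmul_zero]

end BC

section Semilin

variable {R : Type u} [CommRing R] {R' : Type w} [CommRing R'] (σ : R' ≃+* R)
  {N' : Type*} [AddCommGroup N'] [Module R' N'] {N : Type*} [AddCommGroup N] [Module R N]
  {ι : Type v} [Fintype ι]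

/-- relations transported along an injective semilinear map over a ring isomorphism. -/
theorem rel_semilinear (e : N' →ₛₗ[(σ : R' →+* R)] N) (he : Function.Injective e) (x' : ι → N') :
    rel R (fun i => e (x' i)) = extend (σ : R' →+* R) (rel R' x') := by
  apply le_antisymm
  · intro v hv
    rw [mem_rel] at hv
    have h1 : e (∑ i, σ.symm (v i) • x' i) = 0 := by
      rw [map_sum, ← hv]
      apply Finset.sum_congr rfl
      intro i _
      rw [e.map_smulₛₗ]
      simp
    have h2 : ∑ i, σ.symm (v i) • x' i = 0 := he (by rw [h1, map_zero])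
    have h3 : (fun i => σ.symm (v i)) ∈ rel R' x' := mem_rel.mpr h2
    have h4 : v = fun i => (σ : R' →+* R) (σ.symm (v i)) := by
      funext i
      simp
    rw [h4]
    exact Submodule.subset_span ⟨_, h3, rfl⟩
  · apply Submodule.span_le.mpr
    rintro _ ⟨w, hw, rfl⟩
    rw [SetLike.mem_coe, mem_rel] at hw ⊢
    have h1 : ∑ i, (σ : R' →+* R) (w i) • e (x' i) = e (∑ i, w i • x' i) := by
      rw [map_sum]
      apply Finset.sum_congr rfl
      intro i _
      rw [e.map_smulₛₗ]
    rw [h1, hw, map_zero]

end Semilin

section Main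

/-- a finitely presented module over a local ring of characteristic `p` which is isomorphic to its
Frobenius pull-back is free. -/
theorem free_of_frobenius_iso
    (p : ℕ) [Fact p.Prime] (R : Type u) [CommRing R] [IsLocalRing R] [CharP R p]
    (M : Type v) [AddCommGroup M] [Module R M] [Module.FinitePresentation R M]
    (e : (FrobAlg.Twist p R ⊗[R] M) →ₛₗ[((FrobAlg.toTwist p R).symm : FrobAlg.Twist p R →+* R)] M)
    (he : Function.Bijective e) :
    Module.Free R M := by
  classical
  have : Module.Finite R M := inferInstance
  obtain ⟨n, x, hx⟩ := Module.Finite.exists_fin (R := R) (M := M)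
  let x' : Fin n → FrobAlg.Twist p R ⊗[R] M := fun i => (1 : FrobAlg.Twist p R) ⊗ₜ[R] x i
  let y : Fin n → M := fun i => e (x' i)
  have key : ∀ m ∈ Submodule.span R (Set.range x),
      e ((1 : FrobAlg.Twist p R) ⊗ₜ[R] m) ∈ Submodule.span R (Set.range y) := by
    intro m hm
    induction hm using Submodule.span_induction with
    | mem m hm =>
      obtain ⟨i, rfl⟩ := hm
      exact Submodule.subset_span ⟨i, rfl⟩
    | zero =>
      rw [TensorProduct.tmul_zero, map_zero]
      exact Submodule.zero_mem _
    | add a b _ _ ha hb =>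
      rw [TensorProduct.tmul_add, map_add]
      exact Submodule.add_mem _ ha hb
    | smul r a _ ha =>
      have h2 : (1 : FrobAlg.Twist p R) ⊗ₜ[R] (r • a) =
          (algebraMap R (FrobAlg.Twist p R) r) • ((1 : FrobAlg.Twist p R) ⊗ₜ[R] a) := by
        rw [TensorProduct.tmul_smul, algebraMap_smul]
      rw [h2, e.map_smulₛₗ]
      exact Submodule.smul_mem _ _ ha
  have hy : Submodule.span R (Set.range y) = ⊤ := by
    rw [eq_top_iff]
    rintro m -
    obtain ⟨z, rfl⟩ := he.2 m
    induction z using TensorProduct.induction_on with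
    | zero =>
      rw [map_zero]
      exact Submodule.zero_mem _
    | add a b ha hb =>
      rw [map_add]
      exact Submodule.add_mem _ ha hb
    | tmul t m =>
      have hm : m ∈ Submodule.span R (Set.range x) := by
        rw [hx]
        trivial
      have h1 : t ⊗ₜ[R] m = t • ((1 : FrobAlg.Twist p R) ⊗ₜ[R] m) := by
        rw [TensorProduct.smul_tmul', smul_eq_mul, mul_one]
      rw [h1, e.map_smulₛₗ]
      exact Submodule.smul_mem _ _ (key m hm)
  have hrel : rel R y = extend ((FrobAlg.toTwist p R).symm : FrobAlg.Twist p R →+* R)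
      (extend (algebraMap R (FrobAlg.Twist p R)) (rel R x)) := by
    rw [← rel_baseChange' x hx]
    exact rel_semilinear (FrobAlg.toTwist p R).symm e he.1 x'
  have hdet : ∀ j, detIdeal (rel R x) j = (detIdeal (rel R x) j).map (frobenius R p) := by
    intro j
    have h1 : detIdeal (rel R y) j = detIdeal (rel R x) j :=
      le_antisymm (detIdeal_rel_le x hx y hy le_rfl) (detIdeal_rel_le y hy x hx le_rfl)
    conv_lhs => rw [← h1, hrel, detIdeal_extend, detIdeal_extend, Ideal.map_map]
    congr 1
  have hsurj : Function.Surjective (Fintype.linearCombination R x) := by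
    rw [← LinearMap.range_eq_top, Fintype.range_linearCombination, hx]
  have hfg : ∀ j, (detIdeal (rel R x) j).FG := fun j =>
    fg_detIdeal _ (Module.FinitePresentation.fg_ker (Fintype.linearCombination R x) hsurj) j
  have htriv : ∀ j, detIdeal (rel R x) j = ⊥ ∨ detIdeal (rel R x) j = ⊤ := by
    intro j
    have hI : detIdeal (rel R x) j ≤ detIdeal (rel R x) j * detIdeal (rel R x) j := by
      conv_lhs => rw [hdet j]
      rw [Ideal.map_le_iff_le_comap]
      intro a ha
      rw [Ideal.mem_comap, frobenius_def]
      obtain ⟨m, hm⟩ := Nat.exists_eq_succ_of_ne_zero (Fact.out : p.Prime).ne_zero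
      have hm1 : m ≠ 0 := by
        intro h0
        rw [h0] at hm
        exact (Fact.out : p.Prime).ne_one hm
      obtain ⟨m', hm'⟩ := Nat.exists_eq_succ_of_ne_zero hm1
      rw [hm, pow_succ, hm', pow_succ]
      exact Ideal.mul_mem_mul (Ideal.mul_mem_left _ _ ha) ha
    have hidem : IsIdempotentElem (detIdeal (rel R x) j) := le_antisymm Ideal.mul_le_right hI
    obtain ⟨f, hf, hIf⟩ := (Ideal.isIdempotentElem_iff_of_fg _ (hfg j)).1 hidem
    have hf0 : f * (1 - f) = 0 := by rw [mul_sub, mul_one, hf.eq, sub_self]
    rcases IsLocalRing.isUnit_or_isUnit_one_sub_self f with h | h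
    · right
      rw [hIf, Ideal.span_singleton_eq_top]
      exact h
    · left
      have : f = 0 := by
        have := h.mul_left_eq_zero.mp hf0
        exact this
      rw [hIf, this, Ideal.span_singleton_eq_bot]
  exact free_of_detIdeal_trivial x hx htriv

end Main

end Groth.Agent.Lib.helper15.FrobFree
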