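import Mathlib
import Groth.Agent.Lib.Helper15.HopfFG
import Groth.Agent.Lib.Helper15.Cartier
import Groth.Agent.Lib.Helper15.ComodFin

/-!
# Rational points of affine group schemes over an algebraically closed field (helper15)

* `isHopfSub_iSup`: arbitrary suprema of Hopf subalgebras are Hopf subalgebras.
* `exists_point_of_finiteType`: a nonzero finitely generated algebra over an algebraically closed
  field has a rational point.
* `exists_extend_step`, `exists_extend`: a `k`-point of a Hopf subalgebra `B` of a commutative Hopf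
  algebra `A` over an algebraically closed field extends to `A`
  (surjectivity of `G(k) → Q(k)` for a quotient map `G → Q` of affine group schemes).
* `exists_point_ne_zero`: in characteristic zero the `k`-points separate the elements of `A`
  (density of rational points; no finiteness assumption).
-/

set_option autoImplicit false
universe u v
open TensorProduct

namespace Groth.Agent.Lib.helper15.HopfPts

open Groth.Agent.Lib.helper15.HopfSubalg Groth.Agent.Lib.helper15.HopfFG

section General
variable {k : Type u} [Field k] {A : Type v} [CommRing A] [HopfAlgebra k A]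

theorem comul_mem_range_mono {B₁ B₂ : Subalgebra k A} (hle : B₁ ≤ B₂) (b : A)
    (hb : Coalgebra.comul (R := k) b ∈
      LinearMap.range (TensorProduct.map B₁.val.toLinearMap B₁.val.toLinearMap)) :
    Coalgebra.comul (R := k) b ∈
      LinearMap.range (TensorProduct.map B₂.val.toLinearMap B₂.val.toLinearMap) := by
  obtain ⟨t, ht⟩ := hb
  refine ⟨TensorProduct.map (Subalgebra.inclusion hle).toLinearMap
    (Subalgebra.inclusion hle).toLinearMap t, ?_⟩
  rw [← ht]
  clear ht
  induction t using TensorProduct.induction_on with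
  | zero => simp
  | add a b ha hb => simp only [map_add, ha, hb]
  | tmul a b => rfl

theorem isHopfSub_iSup {ι : Sort*} (B : ι → Subalgebra k A) (h : ∀ i, IsHopfSub (B i)) :
    IsHopfSub (⨆ i, B i) := by
  constructor
  · have hle : (⨆ i, B i) ≤
        (Algebra.TensorProduct.map (⨆ i, B i).val (⨆ i, B i).val).range.comap
          (Bialgebra.comulAlgHom k A) := by
      refine iSup_le fun i => ?_
      intro b hb
      obtain ⟨t, ht⟩ := comul_mem_range_mono (le_iSup B i) b ((h i).1 b hb)
      exact ⟨t, ht⟩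
    intro b hb
    obtain ⟨t, ht⟩ := hle hb
    exact ⟨t, ht⟩
  · have hle : (⨆ i, B i) ≤ (⨆ i, B i).comap (HopfAlgebra.antipodeAlgHom k A) := by
      refine iSup_le fun i => ?_
      intro b hb
      exact (le_iSup B i) ((h i).2 b hb)
    intro b hb
    exact hle hb

end General

theorem exists_point_of_finiteType (k R : Type*) [Field k] [IsAlgClosed k] [CommRing R]
    [Algebra k R] [Algebra.FiniteType k R] [Nontrivial R] : Nonempty (R →ₐ[k] k) := by
  obtain ⟨m, hm⟩ := Ideal.exists_maximal R
  let _ := Ideal.Quotient.field m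
  have : IsJacobsonRing R := isJacobsonRing_of_finiteType (A := k)
  have : Module.Finite k (R ⧸ m) := finite_of_finite_type_of_isJacobsonRing k (R ⧸ m)
  have hbij : Function.Bijective (algebraMap k (R ⧸ m)) :=
    IsAlgClosed.algebraMap_bijective_of_isIntegral
  let e : k ≃ₐ[k] (R ⧸ m) := AlgEquiv.ofBijective (Algebra.ofId k (R ⧸ m)) hbij
  exact ⟨(e.symm : (R ⧸ m) →ₐ[k] k).comp (Ideal.Quotient.mkₐ k m)⟩

section Ext
variable {k : Type u} [Field k] {A : Type v} [CommRing A] [HopfAlgebra k A]

/-- one step: extend a point of a Hopf subalgebra `B` to `B ⊔ C`, `C` finitely generated. -/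
theorem exists_extend_step [IsAlgClosed k] {B : Subalgebra k A} (hB : IsHopfSub B) (g : B →ₐ[k] k)
    (C : Subalgebra k A) (hC : C.FG) :
    ∃ g' : ↥(B ⊔ C) →ₐ[k] k,
      ∀ b : B, g' (Subalgebra.inclusion (le_sup_left : B ≤ B ⊔ C) b) = g b := by
  have hff : Module.FaithfullyFlat B A := faithfullyFlat_of_isHopfSub hB
  have hsurj : Function.Surjective (g : B →+* k) := fun c =>
    ⟨algebraMap k B c, by simp⟩
  set m : Ideal B := RingHom.ker (g : B →+* k) with hm
  have hmax : m.IsMaximal := RingHom.ker_isMaximal_of_surjective _ hsurj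
  set I : Ideal A := Ideal.map (algebraMap B A) m with hI
  have hIne : I ≠ ⊤ := by
    intro htop
    have h1 := hff.submodule_ne_top hmax
    apply h1
    rw [Ideal.smul_top_eq_map, ← hI, htop]
    rfl
  have hnt : Nontrivial (A ⧸ I) := Ideal.Quotient.nontrivial_iff.mpr hIne
  let π : A →ₐ[k] A ⧸ I := Ideal.Quotient.mkₐ k I
  let R : Subalgebra k (A ⧸ I) := C.map π
  have hRfg : R.FG := hC.map π
  have hRft : Algebra.FiniteType k R := (Subalgebra.fg_iff_finiteType R).mp hRfg
  obtain ⟨h⟩ := exists_point_of_finiteType k R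
  have key : ∀ b : B, π (b : A) = algebraMap k (A ⧸ I) (g b) := by
    intro b
    have hbm : b - algebraMap k B (g b) ∈ m := by
      rw [hm, RingHom.mem_ker]
      simp
    have : algebraMap B A (b - algebraMap k B (g b)) ∈ I := Ideal.mem_map_of_mem _ hbm
    have h2 : (b : A) - algebraMap k A (g b) ∈ I := by
      simpa using this
    have h3 := (Ideal.Quotient.eq (I := I)).mpr h2
    simpa [π] using h3
  have hBR : B ≤ R.comap π := by
    intro b hb
    change π b ∈ R
    rw [key ⟨b, hb⟩]
    exact R.algebraMap_mem _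
  have hCR : C ≤ R.comap π := fun c hc => ⟨c, hc, rfl⟩
  have hle : B ⊔ C ≤ R.comap π := sup_le hBR hCR
  let φ : ↥(B ⊔ C) →ₐ[k] R := (π.comp (B ⊔ C).val).codRestrict R (fun x => hle x.2)
  refine ⟨h.comp φ, fun b => ?_⟩
  have hφ : φ (Subalgebra.inclusion (le_sup_left : B ≤ B ⊔ C) b) = algebraMap k R (g b) := by
    apply Subtype.ext
    exact key b
  rw [AlgHom.comp_apply, hφ]
  simp

/-- partial points: a Hopf subalgebra together with a rational point of it. -/
structure PPt (k : Type u) [Field k] (A : Type v) [CommRing A] [HopfAlgebra k A] where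
  /-- the subalgebra -/
  B : Subalgebra k A
  /-- it is a Hopf subalgebra -/
  hB : IsHopfSub B
  /-- the point -/
  g : B →ₐ[k] k

namespace PPt

instance : Preorder (PPt k A) where
  le x y := ∃ h : x.B ≤ y.B, ∀ b : x.B, y.g (Subalgebra.inclusion h b) = x.g b
  le_refl x := ⟨le_rfl, fun b => by simp⟩
  le_trans x y z := fun ⟨h1, c1⟩ ⟨h2, c2⟩ => ⟨h1.trans h2, fun b => by rw [← c1, ← c2]; rfl⟩

theorem le_def (x y : PPt k A) :
    x ≤ y ↔ ∃ h : x.B ≤ y.B, ∀ b : x.B, y.g (Subalgebra.inclusion h b) = x.g b := Iff.rfl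

theorem exists_ub (c : Set (PPt k A)) (hc : IsChain (· ≤ ·) c) (y : PPt k A) (hy : y ∈ c) :
    ∃ ub : PPt k A, ∀ z ∈ c, z ≤ ub := by
  have : Nonempty c := ⟨⟨y, hy⟩⟩
  let K : c → Subalgebra k A := fun i => i.1.B
  have dir : Directed (· ≤ ·) K := by
    intro i j
    rcases hc.total i.2 j.2 with h | h
    · exact ⟨j, h.1, le_rfl⟩
    · exact ⟨i, le_rfl, h.1⟩
  let f : ∀ i : c, K i →ₐ[k] k := fun i => i.1.g
  have hf : ∀ (i j : c) (h : K i ≤ K j), f i = (f j).comp (Subalgebra.inclusion h) := by
    intro i j h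
    ext x
    rcases hc.total i.2 j.2 with h' | h'
    · exact (h'.2 x).symm
    · obtain ⟨h'', c''⟩ := h'
      have := c'' (Subalgebra.inclusion h x)
      rw [AlgHom.comp_apply]
      change _ = j.1.g _
      rw [← this]
      rfl
  refine ⟨⟨⨆ i, K i, isHopfSub_iSup K (fun i => i.1.hB),
    Subalgebra.iSupLift K dir f hf _ le_rfl⟩, ?_⟩
  intro z hz
  refine ⟨le_iSup K ⟨z, hz⟩, fun b => ?_⟩
  exact Subalgebra.iSupLift_inclusion (K := K) (dir := dir) (f := f) (hf := hf) (i := ⟨z, hz⟩) b
    (le_iSup K ⟨z, hz⟩)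

end PPt

/-- **Extension of points**: over an algebraically closed field every rational point of a Hopf
subalgebra of a commutative Hopf algebra extends to the whole Hopf algebra. -/
theorem exists_extend [IsAlgClosed k] {B₀ : Subalgebra k A} (hB₀ : IsHopfSub B₀)
    (g₀ : B₀ →ₐ[k] k) : ∃ g : A →ₐ[k] k, ∀ b : B₀, g (b : A) = g₀ b := by
  obtain ⟨m, hle, hmax⟩ := zorn_le_nonempty_Ici₀ (⟨B₀, hB₀, g₀⟩ : PPt k A)
    (fun c _ hc y hy => PPt.exists_ub c hc y hy) _ le_rfl
  have htop : m.B = ⊤ := by
    by_contra hne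
    obtain ⟨x, hx⟩ : ∃ x : A, x ∉ m.B := by
      by_contra hall
      push Not at hall
      exact hne (eq_top_iff.mpr fun x _ => hall x)
    obtain ⟨C, hxC, hCfg, hC⟩ := exists_fg_isHopfSub_mem (k := k) x
    obtain ⟨g', hg'⟩ := exists_extend_step m.hB m.g C hCfg
    have hle' : m ≤ ⟨m.B ⊔ C, isHopfSub_sup m.hB hC, g'⟩ := ⟨le_sup_left, hg'⟩
    have h2 := (hmax hle').1
    exact hx (h2 ((le_sup_right : C ≤ m.B ⊔ C) hxC))
  obtain ⟨h0, c0⟩ := hle
  have hmem : ∀ a : A, a ∈ m.B := fun a => htop ▸ Algebra.mem_top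
  let ι : A →ₐ[k] m.B := (AlgHom.id k A).codRestrict m.B hmem
  refine ⟨m.g.comp ι, fun b => ?_⟩
  rw [← c0 b]
  rfl

/-- **Density of rational points** in characteristic zero: the rational points of an affine group
scheme over an algebraically closed field of characteristic zero separate the functions. -/
theorem exists_point_ne_zero [IsAlgClosed k] [CharZero k] (a : A) (ha : a ≠ 0) :
    ∃ g : A →ₐ[k] k, g a ≠ 0 := by
  obtain ⟨B₀, haB, hfg, hB₀⟩ := exists_fg_isHopfSub_mem (k := k) a
  let _ := hopfAlgebraB hB₀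
  have hft : Algebra.FiniteType k B₀ := (Subalgebra.fg_iff_finiteType B₀).mp hfg
  have hred : IsReduced B₀ := Groth.Agent.Lib.helper15.Cartier.isReduced_of_charZero k B₀
  by_contra hcon
  push Not at hcon
  have h0 : (⟨a, haB⟩ : B₀) = 0 :=
    Groth.Agent.Lib.helper15.ComodFin.eq_zero_of_forall_point k B₀ ⟨a, haB⟩ (fun g₀ => by
      obtain ⟨g, hg⟩ := exists_extend hB₀ g₀
      rw [← hg]
      exact hcon g)
  exact ha (congrArg Subtype.val h0)

theorem eq_zero_of_forall_point [IsAlgClosed k] [CharZero k] (a : A)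
    (h : ∀ g : A →ₐ[k] k, g a = 0) : a = 0 := by
  by_contra ha
  obtain ⟨g, hg⟩ := exists_point_ne_zero (k := k) a ha
  exact hg (h g)

end Ext

end Groth.Agent.Lib.helper15.HopfPts
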