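import Mathlib
import Groth.Agent.Lib.Helper15.HopfPts
import Groth.Agent.Lib.Helper15.HopfDict
import Groth.Agent.Lib.Helper15.HopfImage

/-!
# Rational points of affine group schemes: scheme dictionary (helper15)

`ptOf φ : 𝟙_ ⟶ GA k A` for `φ : A →ₐ[k] k`, every point is of this form (`exists_ptOf`),
the underlying point of the space (`ptOf_base`).
-/

set_option autoImplicit false
universe u
open CategoryTheory AlgebraicGeometry MonoidalCategory CartesianMonoidalCategory

namespace Groth.Agent.Lib.helper15.HopfPtsSch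

open Groth.Agent.Lib.helper15.HopfDict

variable {k : Type u} [Field k] {A : Type u} [CommRing A] [Algebra k A]

/-- the rational point of `Spec A` defined by `φ : A →ₐ[k] k`. -/
noncomputable def ptOf (φ : A →ₐ[k] k) : 𝟙_ (Over (Spec (CommRingCat.of k))) ⟶ GA k A :=
  Over.homMk (Spec.map (CommRingCat.ofHom φ.toRingHom)) (by
    change Spec.map (CommRingCat.ofHom φ.toRingHom) ≫
      Spec.map (CommRingCat.ofHom (algebraMap k A)) = 𝟙 _
    rw [← Spec.map_comp, ← CommRingCat.ofHom_comp]
    have : (φ.toRingHom).comp (algebraMap k A) = RingHom.id k := by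
      ext c
      simp
    rw [this]
    exact Spec.map_id _)

theorem ptOf_left (φ : A →ₐ[k] k) :
    (ptOf φ).left = Spec.map (CommRingCat.ofHom φ.toRingHom) := rfl

theorem exists_ptOf (g : 𝟙_ (Over (Spec (CommRingCat.of k))) ⟶ GA k A) :
    ∃ φ : A →ₐ[k] k, g = ptOf φ := by
  let gl : Spec (CommRingCat.of k) ⟶ Spec (CommRingCat.of A) := g.left
  obtain ⟨ψ, hψ⟩ := Spec.map_surjective gl
  have hw : gl ≫ Spec.map (CommRingCat.ofHom (algebraMap k A)) = 𝟙 _ := Over.w g
  rw [← hψ, ← Spec.map_comp, ← Spec.map_id] at hw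
  have h2 := Spec.map_injective hw
  have h3 : ∀ c : k, ψ.hom (algebraMap k A c) = c := by
    intro c
    have := congrArg (fun t => t.hom c) h2
    simpa using this
  refine ⟨{ ψ.hom with commutes' := h3 }, ?_⟩
  apply Over.OverMorphism.ext
  change gl = Spec.map (CommRingCat.ofHom _)
  rw [← hψ]
  rfl

theorem ptOf_base (φ : A →ₐ[k] k) (x : Spec (CommRingCat.of k)) :
    (ptOf φ).left.base x = PrimeSpectrum.comap φ.toRingHom x := rfl

section Nil

theorem isNilpotent_of_forall_point (k B : Type*) [Field k] [IsAlgClosed k] [CommRing B]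
    [Algebra k B] [Algebra.FiniteType k B] (a : B) (h : ∀ g : B →ₐ[k] k, g a = 0) :
    IsNilpotent a := by
  have : IsJacobsonRing B := isJacobsonRing_of_finiteType (A := k)
  rw [← mem_nilradical, nilradical, Ideal.radical_eq_jacobson, Ideal.jacobson, Ideal.mem_sInf]
  rintro m ⟨-, hm⟩
  have := hm
  let _ := Ideal.Quotient.field m
  have hft : Algebra.FiniteType k (B ⧸ m) :=
    Algebra.FiniteType.of_surjective (Ideal.Quotient.mkₐ k m) (Ideal.Quotient.mkₐ_surjective k m)
  obtain ⟨g'⟩ := Groth.Agent.Lib.helper15.HopfPts.exists_point_of_finiteType k (B ⧸ m)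
  have h1 := h (g'.comp (Ideal.Quotient.mkₐ k m))
  have h2 : g' (Ideal.Quotient.mk m a) = 0 := h1
  have h3 : Ideal.Quotient.mk m a = 0 := by
    have hinj : Function.Injective g' := (g' : (B ⧸ m) →+* k).injective
    exact hinj (by rw [h2, map_zero])
  exact Ideal.Quotient.eq_zero_iff_mem.mp h3

variable {K : Type*} [Field K] [IsAlgClosed K] {H : Type*} [CommRing H] [HopfAlgebra K H]

/-- over an algebraically closed field, a non-nilpotent element of a commutative Hopf algebra is
nonzero at some rational point (no finiteness assumption, any characteristic). -/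
theorem exists_point_ne_zero_of_not_isNilpotent (a : H) (ha : ¬ IsNilpotent a) :
    ∃ g : H →ₐ[K] K, g a ≠ 0 := by
  obtain ⟨B₀, haB, hfg, hB₀⟩ := Groth.Agent.Lib.helper15.HopfFG.exists_fg_isHopfSub_mem (k := K) a
  have hft : Algebra.FiniteType K B₀ := (Subalgebra.fg_iff_finiteType B₀).mp hfg
  by_contra hcon
  push Not at hcon
  have h0 : IsNilpotent (⟨a, haB⟩ : B₀) :=
    isNilpotent_of_forall_point K B₀ ⟨a, haB⟩ (fun g₀ => by
      obtain ⟨g, hg⟩ := Groth.Agent.Lib.helper15.HopfPts.exists_extend hB₀ g₀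
      rw [← hg]
      exact hcon g)
  obtain ⟨n, hn⟩ := h0
  exact ha ⟨n, by simpa using congrArg Subtype.val hn⟩

end Nil

end Groth.Agent.Lib.helper15.HopfPtsSch
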