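import Mathlib
import Groth.Agent.Lib.Helper15.GLnMat
import Groth.Agent.Lib.Helper15.HopfPtsSch
import Groth.Agent.Lib.Helper15.BTExactSch
import Groth.Agent.Lib.Helper15.GrpPtsLemmas

/-!
# Conjugation of homomorphisms into `GL_m` by rational points, in matrix terms (helper15)

* `toUnit_ptOf`: `toUnit ≫ ptOf gm = specMap (ofId ∘ gm)`.
* `conjBy_ptOf_eq_iff`: for a Hopf algebra `H` over a field `R` with a group-like matrix `x`
  that separates algebra maps, `conjBy (ptOf gm) (specMap ρ₁) = specMap ρ₂` iff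
  `gm(x) · ρ₁(x) = ρ₂(x) · gm(x)`.
-/

set_option autoImplicit false
universe u

namespace Groth.Agent.Lib.helper15.GLnConj

open CategoryTheory MonoidalCategory CartesianMonoidalCategory MonObj GrpObj AlgebraicGeometry Limits
open scoped TensorProduct
open Groth.Agent.Lib.helper15.HopfDict Groth.Agent.Lib.helper15.HopfPtsSch
  Groth.Agent.Lib.helper15.GLnMat WithConv

variable {R : Type u} [Field R] {H T : Type u} [CommRing H] [CommRing T] [HopfAlgebra R H]
  [Algebra R T]

theorem toUnit_ptOf (gm : H →ₐ[R] R) :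
    toUnit (GA R T) ≫ ptOf gm = specMap ((Algebra.ofId R T).comp gm) := by
  apply Over.OverMorphism.ext
  change (GA R T).hom ≫ Spec.map (CommRingCat.ofHom gm.toRingHom) =
    Spec.map (CommRingCat.ofHom ((Algebra.ofId R T).comp gm).toRingHom)
  change Spec.map (CommRingCat.ofHom (algebraMap R T)) ≫ Spec.map (CommRingCat.ofHom gm.toRingHom) = _
  rw [← Spec.map_comp, ← CommRingCat.ofHom_comp]
  rfl

theorem conjBy_ptOf_eq_iff {m : ℕ} {x : Matrix (Fin m) (Fin m) H} (hx : IsGL R x)
    (hext : ∀ u v : H →ₐ[R] T, u.mapMatrix x = v.mapMatrix x → u = v)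
    (gm : H →ₐ[R] R) (ρ₁ ρ₂ : H →ₐ[R] T) :
    AGF.conjBy (ptOf gm) (specMap ρ₁) = specMap ρ₂ ↔
      (gm.mapMatrix x).map (algebraMap R T) * ρ₁.mapMatrix x =
        ρ₂.mapMatrix x * (gm.mapMatrix x).map (algebraMap R T) := by
  rw [GrpPtsLemmas.conjBy_eq_iff, toUnit_ptOf]
  rw [BTExactSch.specMap_eq_mapMulEquiv, BTExactSch.specMap_eq_mapMulEquiv,
    BTExactSch.specMap_eq_mapMulEquiv, ← map_mul, ← map_mul,
    (Spec.mapMulEquiv (R := R) (S := H) (T := T)).injective.eq_iff]
  have hc : ((Algebra.ofId R T).comp gm).mapMatrix x = (gm.mapMatrix x).map (algebraMap R T) := by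
    ext i j
    simp [AlgHom.mapMatrix_apply, Algebra.ofId_apply]
  constructor
  · intro h
    have h2 := congrArg (fun w : WithConv (H →ₐ[R] T) => w.ofConv.mapMatrix x) h
    simp only [mapMatrix_convMul hx, ofConv_toConv] at h2
    rw [hc] at h2
    exact h2
  · intro h
    apply WithConv.ofConv_injective
    apply hext
    rw [mapMatrix_convMul hx, mapMatrix_convMul hx]
    simp only [ofConv_toConv]
    rw [hc]
    exact h

end Groth.Agent.Lib.helper15.GLnConj
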