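import Mathlib
import Groth.Prelude.Def_VecGrp
import Groth.Prelude.Def_HopfRep

/-!
# `G`-modules and comodules for an affine group scheme (helper15)
-/

set_option autoImplicit false
universe u
open TensorProduct WithConv

namespace Groth.Agent.Lib.helper15.GModComod

section Alg

variable {R : Type u} [CommRing R] {A : Type u} [CommRing A] [HopfAlgebra R A]
  {E : Type u} [AddCommGroup E] [Module R E]
  {B : Type u} [CommRing B] [Algebra R B] {B' : Type u} [CommRing B'] [Algebra R B']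

/-- the map `x ↦ ∑ f(x₁) ⊗ x₀`. -/
noncomputable def tau (δ : E →ₗ[R] E ⊗[R] A) (f : A →ₐ[R] B) : E →ₗ[R] B ⊗[R] E :=
  (TensorProduct.comm R E B).toLinearMap ∘ₗ (LinearMap.lTensor E f.toLinearMap) ∘ₗ δ

lemma tau_apply (δ : E →ₗ[R] E ⊗[R] A) (f : A →ₐ[R] B) (x : E) :
    tau δ f x = TensorProduct.comm R E B (LinearMap.lTensor E f.toLinearMap (δ x)) := rfl

/-- the `B`-linear endomorphism of `B ⊗ E` attached to a point `f`. -/
noncomputable def T (δ : E →ₗ[R] E ⊗[R] A) (f : A →ₐ[R] B) : B ⊗[R] E →ₗ[B] B ⊗[R] E :=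
  LinearMap.liftBaseChange B (tau δ f)

lemma T_tmul (δ : E →ₗ[R] E ⊗[R] A) (f : A →ₐ[R] B) (b : B) (x : E) :
    T δ f (b ⊗ₜ[R] x) = b • tau δ f x := LinearMap.liftBaseChange_tmul _ _ _ _

lemma Wmap_comm_lTensor (f : A →ₐ[R] B) (φ : B →ₐ[R] B') (z : E ⊗[R] A) :
    VecGrp.Wmap (M := E) φ (TensorProduct.comm R E B (LinearMap.lTensor E f.toLinearMap z)) =
      TensorProduct.comm R E B' (LinearMap.lTensor E (φ.comp f).toLinearMap z) := by
  induction z with
  | zero => simp
  | add x y hx hy => simp only [map_add, hx, hy]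
  | tmul e a => rfl

lemma Wmap_tau (δ : E →ₗ[R] E ⊗[R] A) (f : A →ₐ[R] B) (φ : B →ₐ[R] B') (x : E) :
    VecGrp.Wmap (M := E) φ (tau δ f x) = tau δ (φ.comp f) x :=
  Wmap_comm_lTensor f φ (δ x)

lemma Wmap_T (δ : E →ₗ[R] E ⊗[R] A) (f : A →ₐ[R] B) (φ : B →ₐ[R] B') (y : B ⊗[R] E) :
    VecGrp.Wmap (M := E) φ (T δ f y) = T δ (φ.comp f) (VecGrp.Wmap (M := E) φ y) := by
  induction y with
  | zero => simp
  | add x y hx hy => simp only [map_add, hx, hy]
  | tmul b e =>
    rw [T_tmul, VecGrp.Wmap_smul, Wmap_tau, VecGrp.Wmap_tmul, T_tmul]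

/-- the linear map `a ⊗ a' ↦ f a * f' a'`. -/
noncomputable def mm (f f' : A →ₐ[R] B) : A ⊗[R] A →ₗ[R] B :=
  ((Algebra.TensorProduct.lmul' R).comp (Algebra.TensorProduct.map f f')).toLinearMap

lemma mm_tmul (f f' : A →ₐ[R] B) (a a' : A) : mm f f' (a ⊗ₜ[R] a') = f a * f' a' := by
  simp [mm]

lemma convMul_toLinearMap (f f' : A →ₐ[R] B) :
    (ofConv (toConv f * toConv f')).toLinearMap = mm f f' ∘ₗ (CoalgebraStruct.comul (R := R) (A := A)) := by
  ext a
  rfl

lemma T_comp_aux (f f' : A →ₐ[R] B) (a' : A) (w : E ⊗[R] A) :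
    f' a' • TensorProduct.comm R E B (LinearMap.lTensor E f.toLinearMap w) =
      TensorProduct.comm R E B (LinearMap.lTensor E (mm f f')
        (TensorProduct.assoc R E A A (w ⊗ₜ[R] a'))) := by
  induction w with
  | zero => simp
  | add x y hx hy =>
    simp only [map_add, smul_add, hx, hy, TensorProduct.add_tmul]
  | tmul e a =>
    simp only [LinearMap.lTensor_tmul, TensorProduct.comm_tmul, TensorProduct.assoc_tmul,
      AlgHom.toLinearMap_apply, mm_tmul, TensorProduct.smul_tmul', smul_eq_mul]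
    rw [mul_comm]

lemma T_comp_aux2 (δ : E →ₗ[R] E ⊗[R] A) (f f' : A →ₐ[R] B) (z : E ⊗[R] A) :
    T δ f (TensorProduct.comm R E B (LinearMap.lTensor E f'.toLinearMap z)) =
      TensorProduct.comm R E B (LinearMap.lTensor E (mm f f')
        (TensorProduct.assoc R E A A (LinearMap.rTensor A δ z))) := by
  induction z with
  | zero => simp
  | add x y hx hy => simp only [map_add, hx, hy]
  | tmul e a' =>
    rw [LinearMap.lTensor_tmul, TensorProduct.comm_tmul, AlgHom.toLinearMap_apply, T_tmul, tau_apply,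
      LinearMap.rTensor_tmul]
    exact T_comp_aux f f' a' (δ e)

/-- multiplicativity, from coassociativity. -/
lemma T_mul (δ : E →ₗ[R] E ⊗[R] A)
    (hco : (TensorProduct.assoc R E A A).toLinearMap ∘ₗ δ.rTensor A ∘ₗ δ =
      (CoalgebraStruct.comul (R := R) (A := A)).lTensor E ∘ₗ δ)
    (f f' : A →ₐ[R] B) :
    T δ (ofConv (toConv f * toConv f')) = T δ f ∘ₗ T δ f' := by
  apply TensorProduct.AlgebraTensorModule.curry_injective
  ext x
  simp only [TensorProduct.AlgebraTensorModule.curry_apply, LinearMap.restrictScalars_comp,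
    TensorProduct.curry_apply, LinearMap.coe_restrictScalars, LinearMap.comp_apply]
  rw [T_tmul, T_tmul, one_smul, one_smul, tau_apply, tau_apply, T_comp_aux2, convMul_toLinearMap,
    LinearMap.lTensor_comp, LinearMap.comp_apply]
  have h1 := LinearMap.congr_fun hco x
  simp only [LinearMap.comp_apply, LinearEquiv.coe_coe] at h1
  rw [h1]

/-- unitality, from counitality. -/
lemma T_one (δ : E →ₗ[R] E ⊗[R] A)
    (hcu : (CoalgebraStruct.counit (R := R) (A := A)).lTensor E ∘ₗ δ = (TensorProduct.mk R E R).flip 1) :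
    T δ (ofConv (1 : WithConv (A →ₐ[R] B))) = LinearMap.id := by
  apply TensorProduct.AlgebraTensorModule.curry_injective
  ext x
  simp only [TensorProduct.AlgebraTensorModule.curry_apply, TensorProduct.curry_apply,
    LinearMap.coe_restrictScalars, LinearMap.id_apply]
  rw [T_tmul, one_smul, tau_apply]
  have h0 : (ofConv (1 : WithConv (A →ₐ[R] B))).toLinearMap =
      (Algebra.linearMap R B) ∘ₗ (CoalgebraStruct.counit (R := R) (A := A)) := by
    ext a; rfl
  rw [h0, LinearMap.lTensor_comp, LinearMap.comp_apply]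
  have h1 := LinearMap.congr_fun hcu x
  simp only [LinearMap.comp_apply] at h1
  rw [h1]
  simp

end Alg

section ToGMod

open CategoryTheory AlgebraicGeometry MonoidalCategory CartesianMonoidalCategory MonObj GrpObj

variable (R : Type u) [CommRing R] (A : Type u) [CommRing A] [HopfAlgebra R A]
  (E : Type u) [AddCommGroup E] [Module R E]

/-- the affine group scheme. -/
noncomputable abbrev Gsch : Over (Spec (CommRingCat.of R)) :=
  (Spec (CommRingCat.of A)).asOver (Spec (CommRingCat.of R))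

variable {R A E}

/-- the algebra map of a point. -/
noncomputable def fOf {B : Type u} [CommRing B] [Algebra R B] (g : VecGrp.pt R B ⟶ Gsch R A) :
    A →ₐ[R] B := (Spec.mapMulEquiv.symm g).ofConv

lemma fOf_mul {B : Type u} [CommRing B] [Algebra R B] (g g' : VecGrp.pt R B ⟶ Gsch R A) :
    fOf (g * g') = ofConv (toConv (fOf g) * toConv (fOf g')) := by
  exact congrArg ofConv (map_mul (Spec.mapMulEquiv (R := R) (S := A) (T := B)).symm g g')

lemma fOf_one {B : Type u} [CommRing B] [Algebra R B] :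
    fOf (1 : VecGrp.pt R B ⟶ Gsch R A) = ofConv (1 : WithConv (A →ₐ[R] B)) := by
  exact congrArg ofConv (map_one (Spec.mapMulEquiv (R := R) (S := A) (T := B)).symm)

lemma fOf_ptMap {B B' : Type u} [CommRing B] [Algebra R B] [CommRing B'] [Algebra R B']
    (φ : B →ₐ[R] B') (g : VecGrp.pt R B ⟶ Gsch R A) :
    fOf (VecGrp.ptMap φ ≫ g) = φ.comp (fOf g) := by
  have h1 : Spec.mapMulEquiv (toConv (φ.comp (fOf g))) = VecGrp.ptMap φ ≫ g := by
    ext1
    change Spec.map (CommRingCat.ofHom (φ.comp (fOf g)).toRingHom) =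
      Spec.map (CommRingCat.ofHom φ.toRingHom) ≫ g.left
    have h2 : g = Spec.mapMulEquiv (toConv (fOf g)) := (MulEquiv.apply_symm_apply _ g).symm
    conv_rhs => rw [h2]
    change _ = Spec.map (CommRingCat.ofHom φ.toRingHom) ≫
      Spec.map (CommRingCat.ofHom (fOf g).toRingHom)
    rw [← Spec.map_comp]
    rfl
  rw [← h1]
  exact congrArg ofConv (MulEquiv.symm_apply_apply (Spec.mapMulEquiv (R := R) (S := A) (T := B'))
    (toConv (φ.comp (fOf g))))

variable (δ : E →ₗ[R] E ⊗[R] A)
  (hco : (TensorProduct.assoc R E A A).toLinearMap ∘ₗ δ.rTensor A ∘ₗ δ =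
      (CoalgebraStruct.comul (R := R) (A := A)).lTensor E ∘ₗ δ)
  (hcu : (CoalgebraStruct.counit (R := R) (A := A)).lTensor E ∘ₗ δ = (TensorProduct.mk R E R).flip 1)

/-- the representation on endomorphisms. -/
noncomputable def endHom (B : Type u) [CommRing B] [Algebra R B] :
    (VecGrp.pt R B ⟶ Gsch R A) →* Module.End B (B ⊗[R] E) where
  toFun g := T δ (fOf g)
  map_one' := by rw [fOf_one]; exact T_one δ hcu
  map_mul' g g' := by rw [fOf_mul]; exact T_mul δ hco _ _

/-- the `G`-module structure of a comodule. -/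
noncomputable def toGMod : VecGrp.GMod (Gsch R A) E where
  ρ B _ _ := (LinearMap.GeneralLinearGroup.generalLinearEquiv B (B ⊗[R] E)).toMonoidHom.comp
    (endHom δ hco hcu B).toHomUnits
  naturality φ g x := by
    change VecGrp.Wmap φ (T δ (fOf g) x) = T δ (fOf (VecGrp.ptMap φ ≫ g)) (VecGrp.Wmap φ x)
    rw [fOf_ptMap, Wmap_T]

lemma toGMod_apply (B : Type u) [CommRing B] [Algebra R B] (g : VecGrp.pt R B ⟶ Gsch R A)
    (y : B ⊗[R] E) : (toGMod δ hco hcu).ρ B g y = T δ (fOf g) y := rfl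

end ToGMod

section FromGMod

open CategoryTheory AlgebraicGeometry MonoidalCategory CartesianMonoidalCategory MonObj GrpObj

variable {R : Type u} [CommRing R] {A : Type u} [CommRing A] [HopfAlgebra R A]
  {E : Type u} [AddCommGroup E] [Module R E]

lemma GMod_ext {G : Over (Spec (CommRingCat.of R))} [GrpObj G] (m m' : VecGrp.GMod G E)
    (h : ∀ (B : Type u) [CommRing B] [Algebra R B] (g : VecGrp.pt R B ⟶ G) (x : E),
      m.ρ B g ((1 : B) ⊗ₜ[R] x) = m'.ρ B g ((1 : B) ⊗ₜ[R] x)) : m = m' := by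
  obtain ⟨ρ, nat⟩ := m
  obtain ⟨ρ', nat'⟩ := m'
  have : ρ = ρ' := by
    funext B _ _
    apply MonoidHom.ext
    intro g
    apply LinearEquiv.ext
    intro y
    induction y using TensorProduct.induction_on with
    | zero => simp
    | add x y hx hy => rw [map_add, map_add, hx, hy]
    | tmul b x =>
      have hb : b ⊗ₜ[R] x = b • ((1 : B) ⊗ₜ[R] x) := by
        rw [TensorProduct.smul_tmul', smul_eq_mul, _root_.mul_one]
      rw [hb, map_smul, map_smul, h B g x]
  subst this
  rfl

/-- the universal point. -/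
noncomputable def gUniv : VecGrp.pt R A ⟶ Gsch R A := Spec.mapMulEquiv (toConv (AlgHom.id R A))

lemma fOf_gUniv : fOf (gUniv (R := R) (A := A)) = AlgHom.id R A :=
  congrArg ofConv (MulEquiv.symm_apply_apply (Spec.mapMulEquiv (R := R) (S := A) (T := A))
    (toConv (AlgHom.id R A)))

lemma fOf_injective {B : Type u} [CommRing B] [Algebra R B] :
    Function.Injective (fOf : (VecGrp.pt R B ⟶ Gsch R A) → (A →ₐ[R] B)) := by
  intro g g' h
  have h1 : (Spec.mapMulEquiv (R := R) (S := A) (T := B)).symm g =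
      (Spec.mapMulEquiv (R := R) (S := A) (T := B)).symm g' := ofConv_injective h
  exact (Spec.mapMulEquiv (R := R) (S := A) (T := B)).symm.injective h1

lemma eq_ptMap_gUniv {B : Type u} [CommRing B] [Algebra R B] (g : VecGrp.pt R B ⟶ Gsch R A) :
    g = VecGrp.ptMap (fOf g) ≫ gUniv := by
  apply fOf_injective
  rw [fOf_ptMap, fOf_gUniv, AlgHom.comp_id]

variable (m : VecGrp.GMod (Gsch R A) E)

/-- the coaction of a `G`-module. -/
noncomputable def deltaOf : E →ₗ[R] E ⊗[R] A :=
  (TensorProduct.comm R A E).toLinearMap ∘ₗ ((m.ρ A gUniv).toLinearMap.restrictScalars R) ∘ₗ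
    (TensorProduct.mk R A E 1)

lemma deltaOf_apply (x : E) :
    deltaOf m x = TensorProduct.comm R A E (m.ρ A gUniv ((1 : A) ⊗ₜ[R] x)) := rfl

lemma comm_lTensor_comm {B : Type u} [CommRing B] [Algebra R B] (f : A →ₐ[R] B) (y : A ⊗[R] E) :
    TensorProduct.comm R E B (LinearMap.lTensor E f.toLinearMap (TensorProduct.comm R A E y)) =
      VecGrp.Wmap (M := E) f y := by
  induction y with
  | zero => simp
  | add x y hx hy => simp only [map_add, hx, hy]
  | tmul a e => rfl

/-- the defining formula. -/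
lemma rho_eq_tau (B : Type u) [CommRing B] [Algebra R B] (g : VecGrp.pt R B ⟶ Gsch R A) (x : E) :
    m.ρ B g ((1 : B) ⊗ₜ[R] x) = tau (deltaOf m) (fOf g) x := by
  rw [tau_apply, deltaOf_apply, comm_lTensor_comm, m.naturality, ← eq_ptMap_gUniv, VecGrp.Wmap_tmul,
    map_one]

lemma rho_eq_T (B : Type u) [CommRing B] [Algebra R B] (g : VecGrp.pt R B ⟶ Gsch R A) :
    (m.ρ B g).toLinearMap = T (deltaOf m) (fOf g) := by
  apply TensorProduct.AlgebraTensorModule.curry_injective
  ext x
  simp only [TensorProduct.AlgebraTensorModule.curry_apply, TensorProduct.curry_apply,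
    LinearMap.coe_restrictScalars, LinearEquiv.coe_coe]
  rw [rho_eq_tau, T_tmul, one_smul]

lemma fOf_surjective {B : Type u} [CommRing B] [Algebra R B] (f : A →ₐ[R] B) :
    ∃ g : VecGrp.pt R B ⟶ Gsch R A, fOf g = f :=
  ⟨Spec.mapMulEquiv (R := R) (S := A) (T := B) (toConv f),
    congrArg ofConv (MulEquiv.symm_apply_apply (Spec.mapMulEquiv (R := R) (S := A) (T := B)) (toConv f))⟩

lemma T_deltaOf_mul {B : Type u} [CommRing B] [Algebra R B] (f f' : A →ₐ[R] B) :
    T (deltaOf m) (ofConv (toConv f * toConv f')) = T (deltaOf m) f ∘ₗ T (deltaOf m) f' := by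
  obtain ⟨g, rfl⟩ := fOf_surjective (R := R) f
  obtain ⟨g', rfl⟩ := fOf_surjective (R := R) f'
  rw [← fOf_mul, ← rho_eq_T, ← rho_eq_T, ← rho_eq_T, map_mul]
  rfl

lemma T_deltaOf_one {B : Type u} [CommRing B] [Algebra R B] :
    T (deltaOf m) (ofConv (1 : WithConv (A →ₐ[R] B))) = LinearMap.id := by
  have h1 := rho_eq_T m B 1
  rw [fOf_one, map_one] at h1
  rw [← h1]
  rfl

lemma mm_include : mm (Algebra.TensorProduct.includeLeft : A →ₐ[R] A ⊗[R] A)
    (Algebra.TensorProduct.includeRight : A →ₐ[R] A ⊗[R] A) = LinearMap.id := by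
  ext a a'
  simp [mm_tmul]

/-- coassociativity of the coaction of a `G`-module. -/
lemma deltaOf_coassoc :
    (TensorProduct.assoc R E A A).toLinearMap ∘ₗ (deltaOf m).rTensor A ∘ₗ (deltaOf m) =
      (CoalgebraStruct.comul (R := R) (A := A)).lTensor E ∘ₗ (deltaOf m) := by
  ext x
  have h1 := LinearMap.congr_fun (T_deltaOf_mul m
    (Algebra.TensorProduct.includeLeft : A →ₐ[R] A ⊗[R] A)
    (Algebra.TensorProduct.includeRight : A →ₐ[R] A ⊗[R] A)) ((1 : A ⊗[R] A) ⊗ₜ[R] x)
  rw [LinearMap.comp_apply, T_tmul, T_tmul, one_smul, one_smul, tau_apply, tau_apply, T_comp_aux2,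
    convMul_toLinearMap, mm_include, LinearMap.lTensor_comp, LinearMap.comp_apply] at h1
  simp only [LinearMap.lTensor_id, LinearMap.id_apply, EmbeddingLike.apply_eq_iff_eq] at h1
  simp only [LinearMap.comp_apply, LinearEquiv.coe_coe]
  exact h1.symm

/-- counitality of the coaction of a `G`-module. -/
lemma deltaOf_counit :
    (CoalgebraStruct.counit (R := R) (A := A)).lTensor E ∘ₗ (deltaOf m) =
      (TensorProduct.mk R E R).flip 1 := by
  ext x
  have h1 := LinearMap.congr_fun (T_deltaOf_one m (B := R)) ((1 : R) ⊗ₜ[R] x)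
  rw [T_tmul, one_smul, tau_apply, LinearMap.id_apply] at h1
  have h0 : (ofConv (1 : WithConv (A →ₐ[R] R))).toLinearMap =
      (CoalgebraStruct.counit (R := R) (A := A)) := by
    ext a; rfl
  rw [h0] at h1
  have h2 := congrArg (TensorProduct.comm R E R).symm h1
  rw [LinearEquiv.symm_apply_apply] at h2
  simp only [LinearMap.comp_apply, LinearMap.flip_apply, TensorProduct.mk_apply]
  rw [h2]
  rfl

end FromGMod

end Groth.Agent.Lib.helper15.GModComod
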