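import Mathlib

/-!
# Generic generators of finite free algebras (helper15)

For a (possibly non-commutative) algebra `D` with a finite basis over a local ring `R` with infinite
residue field: if some base change `D'` of `D` to a field `L` over the residue field is generated
by the powers `1, g, …, g^(n-1)` of a single element, then so is `D`; in particular `D` is
commutative.
-/

set_option autoImplicit false
set_option linter.style.haveILetI false
set_option linter.unusedSectionVars false
open MvPolynomial

namespace Groth.Agent.Lib.helper15.GenericGen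

section Coord

variable {R : Type*} [CommRing R] {D : Type*} [Ring D] [Algebra R D] {n : ℕ}
  (d : Module.Basis (Fin n) R D)

/-- coordinates of the `j`-th power of the generic element `∑ X_l d_l` -/
noncomputable def coordPow : ℕ → Fin n → MvPolynomial (Fin n) R
  | 0, k => C (d.repr 1 k)
  | (j + 1), k => ∑ i, ∑ l, coordPow j i * X l * C (d.repr (d i * d l) k)

/-- the determinant of the powers of the generic element -/
noncomputable def genDet : MvPolynomial (Fin n) R :=
  Matrix.det (Matrix.of fun k j : Fin n => coordPow d (j : ℕ) k)

variable {S : Type*} [CommRing S] [Algebra R S] {D' : Type*} [Ring D'] [Algebra S D']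
  (d' : Module.Basis (Fin n) S D') (β : D →+* D')
  (hβ : ∀ (r : R) (x : D), β (r • x) = algebraMap R S r • β x) (hd : ∀ i, β (d i) = d' i)

include hβ hd in
lemma repr_beta (x : D) (k : Fin n) : d'.repr (β x) k = algebraMap R S (d.repr x k) := by
  conv_lhs => rw [← d.sum_repr x]
  rw [map_sum]
  simp only [hβ, hd, map_sum, map_smul, Finsupp.coe_finsetSum, Finset.sum_apply,
    Finsupp.smul_apply, Module.Basis.repr_self, Finsupp.single_apply, smul_eq_mul, mul_ite,
    mul_one, mul_zero, Finset.sum_ite_eq', Finset.mem_univ, if_true]

include hβ hd in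
lemma repr_pow (a : Fin n → S) (j : ℕ) (k : Fin n) :
    d'.repr ((∑ l, a l • d' l) ^ j) k = aeval a (coordPow d j k) := by
  induction j generalizing k with
  | zero =>
    rw [pow_zero, coordPow, aeval_C, ← map_one β, repr_beta d d' β hβ hd]
  | succ j ih =>
    rw [pow_succ]
    conv_lhs => rw [← d'.sum_repr ((∑ l, a l • d' l) ^ j)]
    rw [Finset.sum_mul_sum, coordPow, map_sum, map_sum, Finsupp.coe_finsetSum, Finset.sum_apply]
    apply Finset.sum_congr rfl
    intro i _
    rw [map_sum, map_sum, Finsupp.coe_finsetSum, Finset.sum_apply]
    apply Finset.sum_congr rfl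
    intro l _
    rw [smul_mul_smul_comm, map_smul, Finsupp.smul_apply, ← hd i, ← hd l, ← map_mul,
      repr_beta d d' β hβ hd, ih, map_mul (aeval a), map_mul (aeval a), aeval_X, aeval_C,
      smul_eq_mul]

include hβ hd in
lemma det_pow (a : Fin n → S) :
    d'.det (fun j : Fin n => (∑ l, a l • d' l) ^ (j : ℕ)) = aeval a (genDet d) := by
  rw [Module.Basis.det_apply, genDet, AlgHom.map_det]
  congr 1
  ext k j
  rw [Module.Basis.toMatrix_apply, repr_pow d d' β hβ hd]
  rfl

end Coord

section Main

variable {R : Type*} [CommRing R] [IsLocalRing R] [Infinite (IsLocalRing.ResidueField R)]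
  {D : Type*} [Ring D] [Algebra R D] {n : ℕ} (d : Module.Basis (Fin n) R D)
  {L : Type*} [Field L] [Algebra R L]
  (hL : ∀ r ∈ IsLocalRing.maximalIdeal R, algebraMap R L r = 0)
  {D' : Type*} [Ring D'] [Algebra L D'] (d' : Module.Basis (Fin n) L D') (β : D →+* D')
  (hβ : ∀ (r : R) (x : D), β (r • x) = algebraMap R L r • β x) (hd : ∀ i, β (d i) = d' i)

include hL hβ hd in
theorem exists_generator (g' : D')
    (hg' : LinearIndependent L (fun j : Fin n => g' ^ (j : ℕ))) :
    ∃ g : D, Submodule.span R (Set.range fun j : Fin n => g ^ (j : ℕ)) = ⊤ := by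
  classical
  set Q := genDet d with hQ
  -- step 1: the determinant at the generator over `L` is nonzero
  have h1 : aeval (fun l => d'.repr g' l) Q ≠ 0 := by
    rw [hQ, ← det_pow d d' β hβ hd, d'.sum_repr g']
    haveI : Module.Finite L D' := Module.Finite.of_basis d'
    have hspan : Submodule.span L (Set.range fun j : Fin n => g' ^ (j : ℕ)) = ⊤ := by
      apply hg'.span_eq_top_of_card_eq_finrank'
      rw [Module.finrank_eq_card_basis d']
    exact ((Module.Basis.is_basis_iff_det d').1 ⟨hg', hspan⟩).ne_zero
  -- step 2: the reduction of `Q` to the residue field is nonzero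
  let φ : IsLocalRing.ResidueField R →+* L :=
    Ideal.Quotient.lift (IsLocalRing.maximalIdeal R) (algebraMap R L) hL
  have hφ : φ.comp (IsLocalRing.residue R) = algebraMap R L := by
    ext r
    rfl
  have h2 : MvPolynomial.map (IsLocalRing.residue R) Q ≠ 0 := by
    intro h0
    apply h1
    rw [aeval_def, ← hφ, ← eval₂_map, h0, eval₂_zero]
  -- step 3: a point over the residue field
  obtain ⟨abar, habar⟩ : ∃ x : Fin n → IsLocalRing.ResidueField R,
      eval x (MvPolynomial.map (IsLocalRing.residue R) Q) ≠ 0 := by
    by_contra hcon
    push Not at hcon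
    apply h2
    apply MvPolynomial.funext
    intro x
    rw [hcon x, map_zero]
  -- step 4: lift to `R`
  choose a ha using fun l => IsLocalRing.residue_surjective (abar l)
  have h4 : IsUnit (eval a Q) := by
    by_contra hnu
    apply habar
    have h5 : IsLocalRing.residue R (eval a Q) = 0 :=
      (IsLocalRing.residue_eq_zero_iff _).2 ((IsLocalRing.mem_maximalIdeal _).2 hnu)
    rw [eval₂_comp] at h5
    rw [eval_map]
    have : abar = IsLocalRing.residue R ∘ a := by
      funext l
      exact (ha l).symm
    rw [this]
    exact h5
  -- step 5: the point generates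
  refine ⟨∑ l, a l • d l, ?_⟩
  have h6 := det_pow d d (RingHom.id D) (fun r x => rfl) (fun i => rfl) a
  rw [aeval_eq_eval] at h6
  rw [hQ, ← h6] at h4
  exact ((Module.Basis.is_basis_iff_det d).2 h4).2

omit [IsLocalRing R] [Infinite (IsLocalRing.ResidueField R)] in
/-- an algebra spanned by the powers of one element is commutative -/
theorem mul_comm_of_span_pow {m : ℕ} (g : D)
    (hg : Submodule.span R (Set.range fun j : Fin m => g ^ (j : ℕ)) = ⊤) (x y : D) :
    x * y = y * x := by
  have h1 : ∀ x : D, Commute x g := by
    intro x
    have hx : x ∈ Submodule.span R (Set.range fun j : Fin m => g ^ (j : ℕ)) := by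
      rw [hg]; trivial
    induction hx using Submodule.span_induction with
    | mem z hz =>
      obtain ⟨j, rfl⟩ := hz
      exact Commute.pow_self g _
    | zero => exact Commute.zero_left g
    | add z w _ _ hz hw => exact hz.add_left hw
    | smul r z _ hz => exact hz.smul_left r
  have hy : y ∈ Submodule.span R (Set.range fun j : Fin m => g ^ (j : ℕ)) := by
    rw [hg]; trivial
  change Commute x y
  induction hy using Submodule.span_induction with
  | mem z hz =>
    obtain ⟨j, rfl⟩ := hz
    exact (h1 x).pow_right _
  | zero => exact Commute.zero_right x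
  | add z w _ _ hz hw => exact hz.add_right hw
  | smul r z _ hz => exact hz.smul_right r

end Main

end Groth.Agent.Lib.helper15.GenericGen
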