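import Mathlib

/-!
# The gonflement `R(X) = R[X]_{m R[X]}` of a local ring (helper15)

A local ring `R` embeds into the local ring `RX R` whose residue field is infinite.
-/

set_option autoImplicit false
universe u
open Polynomial

namespace Groth.Agent.Lib.helper15.Gonflement

variable (R : Type u) [CommRing R] [IsLocalRing R]

/-- the extension of the maximal ideal to `R[X]` -/
noncomputable abbrev mX : Ideal R[X] := (IsLocalRing.maximalIdeal R).map (C : R →+* R[X])

instance : (mX R).IsPrime := Ideal.isPrime_map_C_of_isPrime

/-- the "gonflement" `R(X) = R[X]_{𝔪 R[X]}` -/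
noncomputable abbrev RX : Type u := Localization.AtPrime (mX R)


theorem algebraMap_injective : Function.Injective (algebraMap R (RX R)) := by
  rw [injective_iff_map_eq_zero]
  intro r hr
  rw [IsScalarTower.algebraMap_apply R R[X] (RX R)] at hr
  rw [IsLocalization.map_eq_zero_iff (mX R).primeCompl] at hr
  obtain ⟨⟨f, hf⟩, hfr⟩ := hr
  -- some coefficient of f is a unit
  have : ∃ n, f.coeff n ∉ IsLocalRing.maximalIdeal R := by
    by_contra hcon
    push Not at hcon
    exact hf (Ideal.mem_map_C_iff.2 hcon)
  obtain ⟨n, hn⟩ := this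
  have hu : IsUnit (f.coeff n) := by
    by_contra h
    exact hn ((IsLocalRing.mem_maximalIdeal _).2 h)
  have h2 := congrArg (fun g => Polynomial.coeff g n) hfr
  simp only [Polynomial.algebraMap_apply, Algebra.algebraMap_self, RingHom.id_apply, coeff_mul_C, coeff_zero] at h2
  exact (hu.mul_right_eq_zero).1 h2

theorem infinite_residueField : Infinite (IsLocalRing.ResidueField (RX R)) := by
  apply Infinite.of_injective
    (fun n : ℕ => IsLocalRing.residue (RX R) (algebraMap R[X] (RX R) (X ^ n)))
  intro n m hnm
  by_contra hne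
  simp only at hnm
  rw [← sub_eq_zero, ← map_sub, ← map_sub, IsLocalRing.residue_eq_zero_iff,
    IsLocalization.AtPrime.to_map_mem_maximal_iff (RX R) (mX R), Ideal.mem_map_C_iff] at hnm
  have h1 := hnm n
  rw [coeff_sub, coeff_X_pow, coeff_X_pow, if_pos rfl, if_neg hne, sub_zero] at h1
  exact (IsLocalRing.maximalIdeal.isMaximal R).ne_top ((Ideal.eq_top_iff_one _).2 h1)

end Groth.Agent.Lib.helper15.Gonflement
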