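import Groth.Agent.Lib.Helper26.HS8
import Groth.Agent.Lib.Helper26.Mult1
import Groth.Prelude.Def_CycDet

/-!
# Good sequences at a minimal prime of the support (Stacks 02QF-type lemma)
-/

set_option autoImplicit false
set_option linter.style.haveILetI false
set_option linter.unusedSectionVars false
universe u

namespace Groth.Agent.Lib.helper15.GoodSeq

open Groth.Agent.Lib.helper26.HS (locLen locLen_eq_zero_iff locLen_add_of_exact locLen_of_equiv
  locLen_quotient_self exists_injective_of_mem_minimalPrimes)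

variable (R : Type u) [CommRing R] [IsLocalRing R] {M : Type u} [AddCommGroup M] [Module R M]

/-- span of the first `k` values of `f : ℕ → M`. -/
def SB (f : ℕ → M) (k : ℕ) : Submodule R M := Submodule.span R (f '' {j | j < k})

theorem SB_mono (f : ℕ → M) {a b : ℕ} (h : a ≤ b) : SB R f a ≤ SB R f b :=
  Submodule.span_mono (Set.image_mono fun _ hj => lt_of_lt_of_le hj h)

theorem spanBefore_eq_SB {l : ℕ} (g : ℕ → M) {k : ℕ} (hk : k ≤ l) :
    CycDet.spanBefore R M (fun i : Fin l => g i) k = SB R g k := by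
  unfold CycDet.spanBefore SB
  congr 1
  ext m
  constructor
  · rintro ⟨j, hj, rfl⟩
    exact ⟨j, hj, rfl⟩
  · rintro ⟨j, hj, rfl⟩
    exact ⟨⟨j, lt_of_lt_of_le hj hk⟩, hj, rfl⟩

theorem span_range_eq_SB {l : ℕ} (g : ℕ → M) :
    Submodule.span R (Set.range (fun i : Fin l => g i)) = SB R g l := by
  unfold SB
  congr 1
  ext m
  constructor
  · rintro ⟨j, rfl⟩
    exact ⟨j, j.2, rfl⟩
  · rintro ⟨j, hj, rfl⟩
    exact ⟨⟨j, hj⟩, rfl⟩

theorem spanBefore_mono {l : ℕ} (x : Fin l → M) {a b : ℕ} (h : a ≤ b) :
    CycDet.spanBefore R M x a ≤ CycDet.spanBefore R M x b :=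
  Submodule.span_mono (Set.image_mono fun _ hj => lt_of_lt_of_le hj h)

theorem spanBefore_zero {l : ℕ} (x : Fin l → M) : CycDet.spanBefore R M x 0 = ⊥ := by
  unfold CycDet.spanBefore
  have : {j : Fin l | (j : ℕ) < 0} = ∅ := by
    ext j
    simp
  rw [this, Set.image_empty, Submodule.span_empty]

theorem spanBefore_top {l : ℕ} (x : Fin l → M) :
    CycDet.spanBefore R M x l = Submodule.span R (Set.range x) := by
  unfold CycDet.spanBefore
  have : {j : Fin l | (j : ℕ) < l} = Set.univ := by
    ext j
    simp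
  rw [this, Set.image_univ]

section partB

variable {R}

theorem locLen_spanBefore {l : ℕ} (x : Fin l → M) (q : PrimeSpectrum R)
    (h : ∀ i : Fin l, Nonempty ((↥(CycDet.spanBefore R M x (i + 1)) ⧸
      (CycDet.spanBefore R M x i).submoduleOf (CycDet.spanBefore R M x (i + 1))) ≃ₗ[R]
        (R ⧸ q.asIdeal))) :
    ∀ k, k ≤ l → locLen ↥(CycDet.spanBefore R M x k) q = k := by
  intro k
  induction k with
  | zero =>
    intro _
    rw [spanBefore_zero, Nat.cast_zero, locLen_eq_zero_iff, Module.notMem_support_iff]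
    infer_instance
  | succ k ih =>
    intro hk
    have hk' : k < l := hk
    obtain ⟨e⟩ := h ⟨k, hk'⟩
    have hle : CycDet.spanBefore R M x k ≤ CycDet.spanBefore R M x (k + 1) :=
      spanBefore_mono R x (Nat.le_succ k)
    have hex := locLen_add_of_exact (Submodule.inclusion hle)
      ((CycDet.spanBefore R M x k).submoduleOf (CycDet.spanBefore R M x (k + 1))).mkQ
      (Submodule.inclusion_injective hle) (Submodule.mkQ_surjective _) (by
        rw [LinearMap.exact_iff, Submodule.ker_mkQ, Submodule.range_inclusion]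
        rfl) q
    rw [hex, ih (le_of_lt hk'), locLen_of_equiv e q, locLen_quotient_self]
    push_cast
    rfl

theorem length_eq_of_good {l : ℕ} (x : Fin l → M) (q : PrimeSpectrum R)
    (hsupp : q ∉ Module.support R (M ⧸ Submodule.span R (Set.range x)))
    (h : ∀ i : Fin l, Nonempty ((↥(CycDet.spanBefore R M x (i + 1)) ⧸
      (CycDet.spanBefore R M x i).submoduleOf (CycDet.spanBefore R M x (i + 1))) ≃ₗ[R]
        (R ⧸ q.asIdeal))) :
    (l : ℕ∞) = locLen M q := by
  have h1 := locLen_spanBefore x q h l le_rfl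
  rw [spanBefore_top] at h1
  have hex := locLen_add_of_exact (Submodule.span R (Set.range x)).subtype
    (Submodule.span R (Set.range x)).mkQ (Submodule.subtype_injective _)
    (Submodule.mkQ_surjective _) (LinearMap.exact_subtype_mkQ _) q
  rw [hex, h1, locLen_eq_zero_iff.2 hsupp, add_zero]

end partB

section partA

variable {R} [IsNoetherianRing R] [Module.Finite R M]

/-- the one-step extension `(N + Ry)/N ≅ R/q` when `q = ann(ȳ)` in `M/N`. -/
theorem nonempty_equiv_sup_span (N : Submodule R M) (q : Ideal R) (y : M)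
    (hy : ∀ r : R, r • y ∈ N ↔ r ∈ q) :
    Nonempty ((↥(N ⊔ Submodule.span R {y}) ⧸ N.submoduleOf (N ⊔ Submodule.span R {y})) ≃ₗ[R]
      (R ⧸ q)) := by
  have hymem : y ∈ N ⊔ Submodule.span R {y} :=
    le_sup_right (a := N) (Submodule.mem_span_singleton_self y)
  let ψ : R →ₗ[R] (↥(N ⊔ Submodule.span R {y}) ⧸ N.submoduleOf (N ⊔ Submodule.span R {y})) :=
    (N.submoduleOf (N ⊔ Submodule.span R {y})).mkQ ∘ₗ
      LinearMap.toSpanSingleton R ↥(N ⊔ Submodule.span R {y}) ⟨y, hymem⟩
  have hsurj : Function.Surjective ψ := by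
    intro z
    obtain ⟨⟨z, hz⟩, rfl⟩ := Submodule.Quotient.mk_surjective _ z
    obtain ⟨n, hn, w, hw, rfl⟩ := Submodule.mem_sup.1 hz
    obtain ⟨r, rfl⟩ := Submodule.mem_span_singleton.1 hw
    refine ⟨r, ?_⟩
    change Submodule.Quotient.mk (r • (⟨y, hymem⟩ : ↥(N ⊔ Submodule.span R {y}))) = _
    rw [Submodule.Quotient.eq]
    change ((r • (⟨y, hymem⟩ : ↥(N ⊔ Submodule.span R {y})) - ⟨n + r • y, hz⟩ :
      ↥(N ⊔ Submodule.span R {y})) : M) ∈ N
    have : ((r • (⟨y, hymem⟩ : ↥(N ⊔ Submodule.span R {y})) - ⟨n + r • y, hz⟩ :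
      ↥(N ⊔ Submodule.span R {y})) : M) = -n := by
      simp
    rw [this]
    exact N.neg_mem hn
  have hker : LinearMap.ker ψ = q := by
    ext r
    rw [LinearMap.mem_ker]
    change Submodule.Quotient.mk (r • (⟨y, hymem⟩ : ↥(N ⊔ Submodule.span R {y}))) = 0 ↔ _
    rw [Submodule.Quotient.mk_eq_zero]
    change r • y ∈ N ↔ _
    exact hy r
  exact ⟨((Submodule.quotEquivOfEq _ _ hker).symm.trans
    (ψ.quotKerEquivOfSurjective hsurj)).symm⟩

theorem exists_extend (q : PrimeSpectrum R)
    (hq : Minimal (fun p : PrimeSpectrum R => p ∈ Module.support R M) q) :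
    ∀ N : Submodule R M, ∀ (k : ℕ) (f : ℕ → M), SB R f k = N →
      (∀ i, i < k → Nonempty ((↥(SB R f (i + 1)) ⧸ (SB R f i).submoduleOf (SB R f (i + 1))) ≃ₗ[R]
        (R ⧸ q.asIdeal))) →
      ∃ (l : ℕ) (g : ℕ → M), q ∉ Module.support R (M ⧸ SB R g l) ∧
        ∀ i, i < l → Nonempty ((↥(SB R g (i + 1)) ⧸ (SB R g i).submoduleOf (SB R g (i + 1))) ≃ₗ[R]
          (R ⧸ q.asIdeal)) := by
  intro N
  induction N using WellFoundedGT.induction with
  | ind N ih =>
    intro k f hN hgood
    by_cases hqN : q ∈ Module.support R (M ⧸ N)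
    · -- extend the sequence
      have hmin : q.asIdeal ∈ (Module.annihilator R (M ⧸ N)).minimalPrimes := by
        refine ⟨⟨q.isPrime, Module.annihilator_le_of_mem_support hqN⟩, ?_⟩
        rintro p' ⟨hp', hann⟩ hle
        have hp'supp : (⟨p', hp'⟩ : PrimeSpectrum R) ∈ Module.support R (M ⧸ N) :=
          (Module.mem_support_iff_of_finite).2 hann
        have hp'M : (⟨p', hp'⟩ : PrimeSpectrum R) ∈ Module.support R M :=
          Module.support_subset_of_surjective N.mkQ (Submodule.mkQ_surjective N) hp'supp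
        exact hq.2 hp'M hle
      obtain ⟨φ, hφ⟩ := exists_injective_of_mem_minimalPrimes hmin
      obtain ⟨y, hy⟩ := Submodule.mkQ_surjective N (φ 1)
      have hyq : ∀ r : R, r • y ∈ N ↔ r ∈ q.asIdeal := by
        intro r
        rw [← Submodule.Quotient.mk_eq_zero N, Submodule.Quotient.mk_smul]
        have : (Submodule.Quotient.mk y : M ⧸ N) = φ 1 := hy
        rw [this, ← map_smul, ← map_zero φ, hφ.eq_iff]
        rw [Algebra.smul_def, mul_one]
        exact Ideal.Quotient.eq_zero_iff_mem
      set f' : ℕ → M := Function.update f k y with hf'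
      have h1 : ∀ i, i ≤ k → SB R f' i = SB R f i := by
        intro i hi
        unfold SB
        congr 1
        apply Set.image_congr
        intro j hj
        have : j ≠ k := ne_of_lt (lt_of_lt_of_le hj hi)
        rw [hf', Function.update_of_ne this]
      have h2 : SB R f' (k + 1) = N ⊔ Submodule.span R {y} := by
        apply le_antisymm
        · unfold SB
          rw [Submodule.span_le]
          rintro m ⟨j, hj, rfl⟩
          rcases Nat.lt_succ_iff_lt_or_eq.1 hj with hjk | rfl
          · have hne : j ≠ k := ne_of_lt hjk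
            rw [hf', Function.update_of_ne hne]
            apply le_sup_left (a := N)
            rw [← hN]
            exact Submodule.subset_span ⟨j, hjk, rfl⟩
          · rw [hf', Function.update_self]
            exact le_sup_right (a := N) (Submodule.mem_span_singleton_self y)
        · apply sup_le
          · rw [← hN, ← h1 k le_rfl]
            exact SB_mono R f' (Nat.le_succ k)
          · rw [Submodule.span_singleton_le_iff_mem]
            apply Submodule.subset_span
            exact ⟨k, Nat.lt_succ_self k, by rw [hf', Function.update_self]⟩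
      have hlt : N < N ⊔ Submodule.span R {y} := by
        apply lt_of_le_of_ne le_sup_left
        intro heq
        have hyN : y ∈ N := by
          rw [heq]
          exact le_sup_right (a := N) (Submodule.mem_span_singleton_self y)
        have h1q : (1 : R) ∈ q.asIdeal := by
          rw [← hyq, one_smul]
          exact hyN
        exact q.isPrime.ne_top ((Ideal.eq_top_iff_one _).2 h1q)
      apply ih (N ⊔ Submodule.span R {y}) hlt (k + 1) f' h2
      intro i hi
      rcases Nat.lt_succ_iff_lt_or_eq.1 hi with hik | rfl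
      · rw [h1 (i + 1) hik, h1 i (le_of_lt hik)]
        exact hgood i hik
      · rw [h2, h1 i le_rfl, hN]
        exact nonempty_equiv_sup_span N q.asIdeal y hyq
    · exact ⟨k, f, by rw [hN]; exact hqN, hgood⟩

theorem exists_good (q : PrimeSpectrum R)
    (hq : Minimal (fun p : PrimeSpectrum R => p ∈ Module.support R M) q) :
    ∃ (l : ℕ) (x : Fin l → M), q ∉ Module.support R (M ⧸ Submodule.span R (Set.range x)) ∧
      ∀ i : Fin l, Nonempty ((↥(CycDet.spanBefore R M x (i + 1)) ⧸
        (CycDet.spanBefore R M x i).submoduleOf (CycDet.spanBefore R M x (i + 1))) ≃ₗ[R]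
          (R ⧸ q.asIdeal)) := by
  obtain ⟨l, g, hg1, hg2⟩ := exists_extend q hq ⊥ 0 (fun _ => 0) (by
    unfold SB
    have : {j : ℕ | j < 0} = ∅ := by
      ext j
      simp
    rw [this, Set.image_empty, Submodule.span_empty]) (fun i hi => absurd hi (Nat.not_lt_zero i))
  refine ⟨l, fun i : Fin l => g i, ?_, ?_⟩
  · rw [span_range_eq_SB]
    exact hg1
  · intro i
    rw [spanBefore_eq_SB R g (Nat.succ_le_of_lt i.2), spanBefore_eq_SB R g (le_of_lt i.2)]
    exact hg2 i i.2

end partA

end Groth.Agent.Lib.helper15.GoodSeq
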