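import Mathlib

/-!
# Graded algebras smooth along the zero section: graded sections and generators

Step A/B of S18961: graded linear sections and surjectivity of the polynomial presentation.
-/

set_option autoImplicit false

namespace Groth.Agent.Lib.helper15.GradedPoly

open DirectSum

section GradedSection

variable {A B N : Type*} [CommRing A] [CommRing B] [Algebra A B] [AddCommGroup N] [Module A N]
  (𝒜 : ℕ → Submodule A B) [GradedAlgebra 𝒜]

/-- the degreewise twist `x ↦ ∑_d proj_d (r (proj_d x))` of a linear endomorphism -/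
noncomputable def twist (r : B →ₗ[A] B) : B →ₗ[A] B :=
  (DirectSum.toModule A ℕ B (fun d => (GradedAlgebra.proj 𝒜 d) ∘ₗ r ∘ₗ (𝒜 d).subtype)) ∘ₗ
    (DirectSum.decomposeLinearEquiv 𝒜).toLinearMap

lemma twist_of_mem (r : B →ₗ[A] B) {d : ℕ} {x : B} (hx : x ∈ 𝒜 d) :
    twist 𝒜 r x = GradedAlgebra.proj 𝒜 d (r x) := by
  unfold twist
  rw [LinearMap.comp_apply, LinearEquiv.coe_coe, DirectSum.decomposeLinearEquiv_apply,
    DirectSum.decompose_of_mem 𝒜 hx, ← DirectSum.lof_eq_of A, DirectSum.toModule_lof]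
  rfl

lemma proj_proj (d e : ℕ) (x : B) :
    GradedAlgebra.proj 𝒜 d (GradedAlgebra.proj 𝒜 e x) =
      if d = e then GradedAlgebra.proj 𝒜 e x else 0 := by
  have hmem : GradedAlgebra.proj 𝒜 e x ∈ 𝒜 e := by
    rw [GradedAlgebra.proj_apply]; exact SetLike.coe_mem _
  split_ifs with h
  · subst h
    rw [GradedAlgebra.proj_apply, DirectSum.decompose_of_mem_same 𝒜 hmem]
  · rw [GradedAlgebra.proj_apply, DirectSum.decompose_of_mem_ne 𝒜 hmem (Ne.symm h)]

lemma proj_of_mem {d : ℕ} {x : B} (hx : x ∈ 𝒜 d) (e : ℕ) :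
    GradedAlgebra.proj 𝒜 e x = if e = d then x else 0 := by
  split_ifs with h
  · subst h
    rw [GradedAlgebra.proj_apply, DirectSum.decompose_of_mem_same 𝒜 hx]
  · rw [GradedAlgebra.proj_apply, DirectSum.decompose_of_mem_ne 𝒜 hx (Ne.symm h)]

lemma proj_mem (d : ℕ) (x : B) : GradedAlgebra.proj 𝒜 d x ∈ 𝒜 d := by
  rw [GradedAlgebra.proj_apply]; exact SetLike.coe_mem _

lemma proj_twist (r : B →ₗ[A] B) (d : ℕ) (x : B) :
    GradedAlgebra.proj 𝒜 d (twist 𝒜 r x) = twist 𝒜 r (GradedAlgebra.proj 𝒜 d x) := by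
  induction x using DirectSum.Decomposition.inductionOn 𝒜 with
  | zero => simp
  | @homogeneous e m =>
    rw [twist_of_mem 𝒜 r m.2, proj_proj, proj_of_mem 𝒜 m.2]
    split_ifs with h
    · rw [twist_of_mem 𝒜 r m.2]
    · rw [map_zero]
  | add m m' h h' => rw [map_add, map_add, h, h', map_add, map_add]

lemma twist_eq_zero (r : B →ₗ[A] B) (x : B) (h : ∀ d, r (GradedAlgebra.proj 𝒜 d x) = 0) :
    twist 𝒜 r x = 0 := by
  classical
  conv_lhs => rw [← DirectSum.sum_support_decompose 𝒜 x]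
  rw [map_sum]
  refine Finset.sum_eq_zero fun d _ => ?_
  have := h d
  rw [GradedAlgebra.proj_apply] at this
  rw [twist_of_mem 𝒜 r (SetLike.coe_mem _), this, map_zero]

/-- **Graded section.** A surjection `cl : B → N` onto a projective module whose kernel is
homogeneous admits a linear section whose image is stable under the homogeneous projections. -/
theorem exists_graded_section [Module.Projective A N] (cl : B →ₗ[A] N)
    (hcl : Function.Surjective cl)
    (hker : ∀ d x, cl x = 0 → cl (GradedAlgebra.proj 𝒜 d x) = 0) :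
    ∃ s : N →ₗ[A] B, (∀ n, cl (s n) = n) ∧
      ∀ d n, GradedAlgebra.proj 𝒜 d (s n) = s (cl (GradedAlgebra.proj 𝒜 d (s n))) := by
  obtain ⟨s₀, hs₀⟩ := Module.projective_lifting_property cl LinearMap.id hcl
  have hs₀' : ∀ n, cl (s₀ n) = n := fun n => LinearMap.congr_fun hs₀ n
  set r : B →ₗ[A] B := s₀ ∘ₗ cl with hr
  have hclr : ∀ x, cl (r x - x) = 0 := fun x => by
    rw [map_sub, hr, LinearMap.comp_apply, hs₀', sub_self]
  -- (i) cl (twist x) = cl x
  have h1 : ∀ x, cl (twist 𝒜 r x) = cl x := by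
    intro x
    induction x using DirectSum.Decomposition.inductionOn 𝒜 with
    | zero => simp
    | @homogeneous e m =>
      rw [twist_of_mem 𝒜 r m.2]
      have h := hker e _ (hclr (m : B))
      rw [map_sub, map_sub, sub_eq_zero, proj_of_mem 𝒜 m.2, if_pos rfl] at h
      exact h
    | add m m' h h' => rw [map_add, map_add, h, h', map_add]
  -- (ii) twist kills ker cl
  have h2 : ∀ x, cl x = 0 → twist 𝒜 r x = 0 := by
    intro x hx
    refine twist_eq_zero 𝒜 r x fun d => ?_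
    rw [hr, LinearMap.comp_apply, hker d x hx, map_zero]
  refine ⟨twist 𝒜 r ∘ₗ s₀, fun n => ?_, fun d n => ?_⟩
  · rw [LinearMap.comp_apply, h1, hs₀']
  · have e1 : GradedAlgebra.proj 𝒜 d ((twist 𝒜 r ∘ₗ s₀) n) =
        twist 𝒜 r (GradedAlgebra.proj 𝒜 d (s₀ n)) := by
      rw [LinearMap.comp_apply, proj_twist]
    rw [e1, h1, LinearMap.comp_apply]
    -- twist (y) = twist (s₀ (cl y)) as y - r y ∈ ker cl
    set y := GradedAlgebra.proj 𝒜 d (s₀ n) with hy
    have := h2 (r y - y) (hclr y)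
    rw [map_sub, sub_eq_zero] at this
    rw [← this, hr, LinearMap.comp_apply]

end GradedSection

section Cot

variable {A B : Type*} [CommRing A] [CommRing B] [Algebra A B]
  (𝒜 : ℕ → Submodule A B) [GradedAlgebra 𝒜]

/-- the irrelevant ideal -/
abbrev Bp : Ideal B := (HomogeneousIdeal.irrelevant 𝒜).toIdeal

lemma mem_Bp_iff (x : B) : x ∈ Bp 𝒜 ↔ GradedAlgebra.proj 𝒜 0 x = 0 := Iff.rfl

lemma sub_proj_zero_mem (x : B) : x - GradedAlgebra.proj 𝒜 0 x ∈ Bp 𝒜 := by
  rw [mem_Bp_iff, map_sub, proj_proj, if_pos rfl, sub_self]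

/-- `x ↦ x - x₀` as a linear map to the irrelevant ideal -/
noncomputable def toBp : B →ₗ[A] ↥(Bp 𝒜) where
  toFun x := ⟨x - GradedAlgebra.proj 𝒜 0 x, sub_proj_zero_mem 𝒜 x⟩
  map_add' x y := by
    apply Subtype.ext
    simp only [map_add, Submodule.coe_add]
    ring
  map_smul' c x := by
    apply Subtype.ext
    simp only [map_smul, RingHom.id_apply, Submodule.coe_smul_of_tower, smul_sub]

lemma toBp_of_mem {x : B} (hx : x ∈ Bp 𝒜) : toBp 𝒜 x = ⟨x, hx⟩ := by
  apply Subtype.ext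
  change x - GradedAlgebra.proj 𝒜 0 x = x
  rw [(mem_Bp_iff 𝒜 x).1 hx, sub_zero]

/-- the class map `B → B₊/B₊²`, killing degree zero -/
noncomputable def cl : B →ₗ[A] (Bp 𝒜).Cotangent :=
  ((Bp 𝒜).toCotangent.restrictScalars A) ∘ₗ toBp 𝒜

lemma cl_of_mem {x : B} (hx : x ∈ Bp 𝒜) : cl 𝒜 x = (Bp 𝒜).toCotangent ⟨x, hx⟩ := by
  unfold cl
  rw [LinearMap.comp_apply, toBp_of_mem 𝒜 hx]
  rfl

lemma cl_eq_zero_iff (x : B) : cl 𝒜 x = 0 ↔ x - GradedAlgebra.proj 𝒜 0 x ∈ Bp 𝒜 ^ 2 := by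
  unfold cl
  rw [LinearMap.comp_apply, LinearMap.restrictScalars_apply, Ideal.toCotangent_eq_zero]
  rfl

lemma cl_surjective : Function.Surjective (cl 𝒜) := by
  intro n
  obtain ⟨x, rfl⟩ := Ideal.toCotangent_surjective _ n
  exact ⟨x, cl_of_mem 𝒜 x.2⟩

lemma isHomogeneous_sq : (Bp 𝒜 ^ 2).IsHomogeneous 𝒜 := by
  rw [pow_two]
  exact (HomogeneousIdeal.isHomogeneous _).mul (HomogeneousIdeal.isHomogeneous _)

lemma proj_mem_sq {x : B} (hx : x ∈ Bp 𝒜 ^ 2) (d : ℕ) : GradedAlgebra.proj 𝒜 d x ∈ Bp 𝒜 ^ 2 := by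
  rw [GradedAlgebra.proj_apply]
  exact isHomogeneous_sq 𝒜 d hx

lemma proj_comm (d e : ℕ) (x : B) :
    GradedAlgebra.proj 𝒜 d (GradedAlgebra.proj 𝒜 e x) =
      GradedAlgebra.proj 𝒜 e (GradedAlgebra.proj 𝒜 d x) := by
  rw [proj_proj, proj_proj]
  by_cases h : d = e
  · subst h; simp
  · rw [if_neg h, if_neg (Ne.symm h)]

lemma cl_proj_eq_zero {x : B} (hx : cl 𝒜 x = 0) (d : ℕ) :
    cl 𝒜 (GradedAlgebra.proj 𝒜 d x) = 0 := by
  rw [cl_eq_zero_iff] at hx ⊢
  have := proj_mem_sq 𝒜 hx d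
  rwa [map_sub, proj_comm] at this

lemma cl_of_mem_zero {x : B} (hx : x ∈ 𝒜 0) : cl 𝒜 x = 0 := by
  rw [cl_eq_zero_iff, proj_of_mem 𝒜 hx, if_pos rfl, sub_self]
  exact zero_mem _

/-- A graded section of `B₊ → B₊/B₊²`. -/
theorem exists_section [Module.Projective A (Bp 𝒜).Cotangent] :
    ∃ s : (Bp 𝒜).Cotangent →ₗ[A] B, (∀ n, cl 𝒜 (s n) = n) ∧
      (∀ d n, GradedAlgebra.proj 𝒜 d (s n) = s (cl 𝒜 (GradedAlgebra.proj 𝒜 d (s n)))) ∧
      (∀ n, s n ∈ Bp 𝒜) := by
  obtain ⟨s, h1, h2⟩ := exists_graded_section 𝒜 (cl 𝒜) (cl_surjective 𝒜)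
    (fun d x hx => cl_proj_eq_zero 𝒜 hx d)
  refine ⟨s, h1, h2, fun n => ?_⟩
  rw [mem_Bp_iff, h2, cl_of_mem_zero 𝒜 (proj_mem 𝒜 0 _), map_zero]

end Cot

section Surj

variable {A B : Type*} [CommRing A] [CommRing B] [Algebra A B]
  (𝒜 : ℕ → Submodule A B) [GradedAlgebra 𝒜]

lemma proj_mul_mem (R' : Subalgebra A B) (d : ℕ)
    (h : ∀ e < d, 𝒜 e ≤ Subalgebra.toSubmodule R') (u v : B) :
    GradedAlgebra.proj 𝒜 d
      ((u - GradedAlgebra.proj 𝒜 0 u) * (v - GradedAlgebra.proj 𝒜 0 v)) ∈ R' := by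
  induction u using DirectSum.Decomposition.inductionOn 𝒜 with
  | zero => simp
  | @homogeneous i m =>
    by_cases hi : i = 0
    · subst hi
      rw [proj_of_mem 𝒜 m.2, if_pos rfl, sub_self, zero_mul, map_zero]
      exact zero_mem _
    · rw [proj_of_mem 𝒜 m.2, if_neg (Ne.symm hi), sub_zero]
      induction v using DirectSum.Decomposition.inductionOn 𝒜 with
      | zero => simp
      | @homogeneous j m' =>
        by_cases hj : j = 0
        · subst hj
          rw [proj_of_mem 𝒜 m'.2, if_pos rfl, sub_self, mul_zero, map_zero]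
          exact zero_mem _
        · rw [proj_of_mem 𝒜 m'.2, if_neg (Ne.symm hj), sub_zero]
          have hmm : (m : B) * (m' : B) ∈ 𝒜 (i + j) := SetLike.mul_mem_graded m.2 m'.2
          rw [proj_of_mem 𝒜 hmm]
          split_ifs with hd
          · have hi' : i < d := by omega
            have hj' : j < d := by omega
            exact mul_mem (h i hi' m.2) (h j hj' m'.2)
          · exact zero_mem _
      | add v v' hv hv' =>
        have : (m : B) * (v + v' - GradedAlgebra.proj 𝒜 0 (v + v')) =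
            (m : B) * (v - GradedAlgebra.proj 𝒜 0 v) +
              (m : B) * (v' - GradedAlgebra.proj 𝒜 0 v') := by
          rw [map_add]; ring
        rw [this, map_add]
        exact add_mem hv hv'
  | add u u' hu hu' =>
    have : (u + u' - GradedAlgebra.proj 𝒜 0 (u + u')) * (v - GradedAlgebra.proj 𝒜 0 v) =
        (u - GradedAlgebra.proj 𝒜 0 u) * (v - GradedAlgebra.proj 𝒜 0 v) +
          (u' - GradedAlgebra.proj 𝒜 0 u') * (v - GradedAlgebra.proj 𝒜 0 v) := by
      rw [map_add]; ring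
    rw [this, map_add]
    exact add_mem hu hu'

lemma proj_mem_of_mem_sq (R' : Subalgebra A B) (d : ℕ)
    (h : ∀ e < d, 𝒜 e ≤ Subalgebra.toSubmodule R') {y : B} (hy : y ∈ Bp 𝒜 ^ 2) :
    GradedAlgebra.proj 𝒜 d y ∈ R' := by
  rw [pow_two] at hy
  refine Submodule.mul_induction_on hy (fun m hm n hn => ?_) (fun x y hx hy => ?_)
  · have := proj_mul_mem 𝒜 R' d h m n
    rwa [(mem_Bp_iff 𝒜 m).1 hm, (mem_Bp_iff 𝒜 n).1 hn, sub_zero, sub_zero] at this
  · rw [map_add]; exact add_mem hx hy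

/-- A subalgebra containing degree zero and the image of a graded section is everything. -/
theorem subalgebra_eq_top (s : (Bp 𝒜).Cotangent →ₗ[A] B) (h1 : ∀ n, cl 𝒜 (s n) = n)
    (h2 : ∀ d n, GradedAlgebra.proj 𝒜 d (s n) = s (cl 𝒜 (GradedAlgebra.proj 𝒜 d (s n))))
    (R' : Subalgebra A B) (hs : ∀ n, s n ∈ R') (h0 : 𝒜 0 ≤ Subalgebra.toSubmodule R') :
    R' = ⊤ := by
  have key : ∀ d, 𝒜 d ≤ Subalgebra.toSubmodule R' := by
    intro d
    induction d using Nat.strong_induction_on with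
    | _ d ih =>
      by_cases hd : d = 0
      · subst hd; exact h0
      intro x hx
      set y := x - s (cl 𝒜 x) with hy
      have hcy : cl 𝒜 y = 0 := by rw [hy, map_sub, h1, sub_self]
      have h3 := proj_mem_of_mem_sq 𝒜 R' d ih ((cl_eq_zero_iff 𝒜 y).1 hcy)
      rw [map_sub, proj_proj, if_neg hd, sub_zero, hy, map_sub, proj_of_mem 𝒜 hx, if_pos rfl,
        h2] at h3
      have := add_mem h3 (hs (cl 𝒜 (GradedAlgebra.proj 𝒜 d (s (cl 𝒜 x)))))
      rwa [sub_add_cancel] at this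
  classical
  refine eq_top_iff.2 fun x _ => ?_
  rw [← DirectSum.sum_support_decompose 𝒜 x]
  exact sum_mem fun d _ => key d (SetLike.coe_mem _)

end Surj

end Groth.Agent.Lib.helper15.GradedPoly
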