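import Groth.Agent.S1833
import Groth.Prelude.Def_Tame

/-!
# Lengths `ℓ(N/xN)` over one-dimensional Noetherian local rings via orders at the minimal primes

Tools for `CycAlg.length_sub_length_eq_finsum_length_mul_ordFrac`.
The four `ordFrac_*` lemmas are copied from `Groth/Agent/Lib/Helper10/LatDist.lean` (helper10) to
avoid its heavier import chain.
-/

set_option autoImplicit false
set_option linter.style.haveILetI false
set_option linter.unusedSectionVars false
universe u

namespace Groth.Agent.Lib.helper15.HerbLen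

open Groth.Agent.Lib.helper15.RelLen Groth.Agent.Lib.helper26.HS Groth.Agent.Lib.helper26.Chi
open Pointwise

section OrdFrac

variable (A : Type u) [CommRing A] [IsDomain A] [IsNoetherianRing A] [Ring.KrullDimLE 1 A]
  (K : Type u) [Field K] [Algebra A K] [IsFractionRing A K]

lemma ordFrac_def (f : K) :
    CycAlg.ordFrac A K f =
      WithZero.recZeroCoe (motive := fun _ => ℤ) 0 (fun z => Multiplicative.toAdd z)
        (Ring.ordFrac A f) := by
  have h : IsNoetherianRing A ∧ Ring.KrullDimLE 1 A ∧ Nontrivial A ∧ IsFractionRing A K :=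
    ⟨inferInstance, inferInstance, inferInstance, inferInstance⟩
  unfold CycAlg.ordFrac
  rw [dif_pos h]

lemma ordFrac_mul {x y : K} (hx : x ≠ 0) (hy : y ≠ 0) :
    CycAlg.ordFrac A K (x * y) = CycAlg.ordFrac A K x + CycAlg.ordFrac A K y := by
  rw [ordFrac_def, ordFrac_def, ordFrac_def, map_mul]
  have h1 : Ring.ordFrac A x ≠ 0 := by
    rw [Ne, map_eq_zero]; exact hx
  have h2 : Ring.ordFrac A y ≠ 0 := by
    rw [Ne, map_eq_zero]; exact hy
  obtain ⟨a, ha⟩ := WithZero.ne_zero_iff_exists.mp h1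
  obtain ⟨b, hb⟩ := WithZero.ne_zero_iff_exists.mp h2
  rw [← ha, ← hb, ← WithZero.coe_mul]
  simp only [WithZero.recZeroCoe_coe, toAdd_mul]

lemma ordFrac_one : CycAlg.ordFrac A K 1 = 0 := by
  rw [ordFrac_def, map_one]
  rfl

lemma ordFrac_algebraMap {a : A} (ha : a ≠ 0) :
    CycAlg.ordFrac A K (algebraMap A K a) = ((Ring.ord A a).toNat : ℤ) := by
  rw [ordFrac_def, Ring.ordFrac_eq_ord A ha,
    Ring.ordMonoidWithZeroHom_eq_ord (mem_nonZeroDivisors_iff_ne_zero.mpr ha)]
  have hfin : Ring.ord A a ≠ ⊤ := Ring.ord_ne_top (mem_nonZeroDivisors_iff_ne_zero.mpr ha)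
  obtain ⟨n, hn⟩ := ENat.ne_top_iff_exists.mp hfin
  rw [← hn]
  simp

lemma ordFrac_inv {x : K} (hx : x ≠ 0) :
    CycAlg.ordFrac A K x⁻¹ = - CycAlg.ordFrac A K x := by
  have h := ordFrac_mul A K hx (inv_ne_zero hx)
  rw [mul_inv_cancel₀ hx, ordFrac_one] at h
  linarith

lemma ordFrac_div {a b : A} (ha : a ≠ 0) (hb : b ≠ 0) :
    CycAlg.ordFrac A K (algebraMap A K a / algebraMap A K b) =
      ((Ring.ord A a).toNat : ℤ) - ((Ring.ord A b).toNat : ℤ) := by
  have ha' : algebraMap A K a ≠ 0 := by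
    rwa [Ne, IsFractionRing.to_map_eq_zero_iff]
  have hb' : algebraMap A K b ≠ 0 := by
    rwa [Ne, IsFractionRing.to_map_eq_zero_iff]
  rw [div_eq_mul_inv, ordFrac_mul A K ha' (inv_ne_zero hb'), ordFrac_inv A K hb',
    ordFrac_algebraMap A K ha, ordFrac_algebraMap A K hb]
  ring

end OrdFrac

section dimOne

variable {A : Type u} [CommRing A] [IsLocalRing A]

/-- In a local ring of dimension one there is no chain `p₀ < p < m`. (from S0616, helper26) -/
theorem not_lt_lt (hA : ringKrullDim A = 1)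
    {p₀ p : PrimeSpectrum A} (h1 : p₀ < p) (h2 : p < IsLocalRing.closedPoint A) : False := by
  have e1 := Order.coheight_add_one_le h1
  have e2 := Order.coheight_add_one_le h2
  have e3 : (Order.coheight p₀ : WithBot ℕ∞) ≤ 1 := by
    rw [← hA]
    exact Order.coheight_le_krullDim p₀
  have e4 : Order.coheight p₀ ≤ 1 := by exact_mod_cast e3
  have e5 : (0 : ℕ∞) + 1 + 1 ≤ 1 :=
    (add_le_add (add_le_add zero_le le_rfl) le_rfl).trans ((add_le_add e2 le_rfl).trans
      (e1.trans e4))
  norm_num at e5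

/-- In a local ring of dimension one, a prime is minimal iff it is not the maximal ideal. -/
theorem mem_minimalPrimes_iff_ne (hA : ringKrullDim A = 1) (p : PrimeSpectrum A) :
    p.asIdeal ∈ minimalPrimes A ↔ p.asIdeal ≠ IsLocalRing.maximalIdeal A := by
  constructor
  · intro hp hpm
    -- if `m` is minimal the dimension is zero
    have hpos : (0 : WithBot ℕ∞) < ringKrullDim A := by rw [hA]; exact zero_lt_one
    unfold ringKrullDim at hpos
    rw [Order.krullDim_pos_iff] at hpos
    obtain ⟨x, y, hxy⟩ := hpos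
    have hym : y.asIdeal ≤ IsLocalRing.maximalIdeal A := IsLocalRing.le_maximalIdeal y.2.ne_top
    have hxm : x.asIdeal ≤ p.asIdeal := by
      rw [hpm]
      exact (show x.asIdeal ≤ y.asIdeal from le_of_lt hxy).trans hym
    have hpx : p.asIdeal ≤ x.asIdeal := hp.2 ⟨x.2, bot_le⟩ hxm
    have hyx : y.asIdeal ≤ x.asIdeal := by
      rw [hpm] at hpx
      exact hym.trans hpx
    exact absurd hxy (not_lt_of_ge (show y ≤ x from hyx))
  · intro hp
    have hp' : p ≠ IsLocalRing.closedPoint A := fun h => hp (by rw [h]; rfl)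
    obtain ⟨r, hrm, hr⟩ := Ideal.exists_minimalPrimes_le (I := ⊥) (J := p.asIdeal) bot_le
    have hpm : p < IsLocalRing.closedPoint A :=
      lt_of_le_of_ne (IsLocalRing.le_maximalIdeal p.2.ne_top) hp'
    by_cases h : (⟨r, hrm.1.1⟩ : PrimeSpectrum A) = p
    · rw [← h]
      exact hrm
    · exact absurd (not_lt_lt hA (lt_of_le_of_ne hr h) hpm) id

/-- A prime containing a nonzerodivisor is the maximal ideal. -/
theorem eq_maximalIdeal_of_mem (hA : ringKrullDim A = 1) (p : PrimeSpectrum A) {c : A}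
    (hc : c ∈ nonZeroDivisors A) (hcp : c ∈ p.asIdeal) :
    p.asIdeal = IsLocalRing.maximalIdeal A := by
  by_contra h
  have hmin := (mem_minimalPrimes_iff_ne hA p).2 h
  exact Set.disjoint_left.mp (Ideal.disjoint_nonZeroDivisors_of_mem_minimalPrimes hmin) hcp hc

end dimOne

end Groth.Agent.Lib.helper15.HerbLen
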