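import Groth.Agent.Lib.Helper15.HerbLen

/-!
# Lengths `ℓ(N/xN)` over one-dimensional Noetherian local rings, part 2: modules
-/

set_option autoImplicit false
set_option linter.style.haveILetI false
set_option linter.unusedSectionVars false
universe u

namespace Groth.Agent.Lib.helper15.HerbLen

open Groth.Agent.Lib.helper15.RelLen Groth.Agent.Lib.helper26.Chi
open Groth.Agent.Lib.helper26.HS (locLen locLen_eq_zero_iff locLen_add_of_exact)
open Pointwise

variable {A : Type u} [CommRing A] [IsNoetherianRing A] [IsLocalRing A]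
  {M : Type u} [AddCommGroup M] [Module A M] [Module.Finite A M]

omit [IsLocalRing A] [Module.Finite A M] in
/-- nonzerodivisors are `M`-regular when `Ass M` consists of minimal primes. -/
theorem isSMulRegular_of_nzd (hMemb : ∀ p ∈ associatedPrimes A M, p ∈ minimalPrimes A) {c : A}
    (hc : c ∈ nonZeroDivisors A) : IsSMulRegular M c := by
  by_contra h
  have h' : c ∈ {r : A | IsSMulRegular M r}ᶜ := h
  rw [← biUnion_associatedPrimes_eq_compl_regular A M] at h'
  simp only [Set.mem_iUnion] at h'
  obtain ⟨p, hp, hcp⟩ := h'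
  exact Set.disjoint_left.mp
    (Ideal.disjoint_nonZeroDivisors_of_mem_minimalPrimes (hMemb p hp)) hcp hc

omit [IsNoetherianRing A] [IsLocalRing A] [Module.Finite A M] in
theorem smul_mem_annihilator_quot (N : Submodule A M) {c : A} (hcN : ∀ m : M, c • m ∈ N) :
    c ∈ Module.annihilator A (M ⧸ N) := by
  rw [Module.mem_annihilator]
  intro y
  obtain ⟨y, rfl⟩ := Submodule.Quotient.mk_surjective _ y
  rw [← Submodule.Quotient.mk_smul, Submodule.Quotient.mk_eq_zero]
  exact hcN y

omit [IsNoetherianRing A] [IsLocalRing A] [Module.Finite A M] in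
theorem locLen_submodule_eq (N : Submodule A M) {c : A} (hcN : ∀ m : M, c • m ∈ N)
    (p : PrimeSpectrum A) (hcp : c ∉ p.asIdeal) : locLen ↥N p = locLen M p := by
  have h := locLen_add_of_exact N.subtype N.mkQ (Submodule.subtype_injective N)
    (Submodule.mkQ_surjective N) (LinearMap.exact_subtype_mkQ N) p
  have h0 : locLen (M ⧸ N) p = 0 := by
    rw [locLen_eq_zero_iff]
    intro hp
    exact hcp (Module.annihilator_le_of_mem_support hp (smul_mem_annihilator_quot N hcN))
  rw [h, h0, add_zero]

omit [IsNoetherianRing A] [Module.Finite A M] in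
theorem supportDim_le_zero_of_forall {N : Type*} [AddCommGroup N] [Module A N]
    (h : ∀ p ∈ Module.support A N, p.asIdeal = IsLocalRing.maximalIdeal A) :
    Module.supportDim A N ≤ 0 := by
  unfold Module.supportDim
  rw [Order.krullDim_nonpos_iff_forall_isMax]
  intro x y _
  have hx := h x.1 x.2
  have hy := h y.1 y.2
  change y.1.asIdeal ≤ x.1.asIdeal
  rw [hx, hy]

theorem length_quot_lt_top (hA : ringKrullDim A = 1) (N : Submodule A M) {c : A}
    (hc : c ∈ nonZeroDivisors A) (hcN : ∀ m : M, c • m ∈ N) : Module.length A (M ⧸ N) < ⊤ := by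
  rw [lt_top_iff_ne_top, Module.length_ne_top_iff]
  apply Groth.Agent.Lib.helper8.StalkLen.isFiniteLength_of_support_isMaximal
  intro Q hQ
  have hcQ : c ∈ Q.asIdeal :=
    Module.annihilator_le_of_mem_support hQ (smul_mem_annihilator_quot N hcN)
  rw [eq_maximalIdeal_of_mem hA Q hc hcQ]
  exact IsLocalRing.maximalIdeal.isMaximal A

omit [IsLocalRing A] in
theorem locLen_ne_top_of_minimal (q : PrimeSpectrum A) (hq : q.asIdeal ∈ minimalPrimes A) :
    locLen M q ≠ ⊤ := by
  by_cases hp : q ∈ Module.support A M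
  · have h := (Groth.Agent.Lib.helper8.StalkLen.nontrivial_and_isFiniteLength_iff q.asIdeal
      (R := Localization.AtPrime q.asIdeal)
      (LocalizedModule.mkLinearMap q.asIdeal.primeCompl M)).2
      ⟨hp, fun q' _ hle => PrimeSpectrum.ext (le_antisymm hle (hq.2 ⟨q'.2, bot_le⟩ hle))⟩
    unfold locLen
    exact Module.length_ne_top_iff.2 h.2
  · rw [locLen_eq_zero_iff.2 hp]
    exact ENat.zero_ne_top

/-- `ℓ(N/xN) = ∑_q ord_{A/q}(x) ℓ(M_q)` for a submodule `N ⊇ cM` (`c, x` nonzerodivisors, `x`
`M`-regular, `Supp M = Spec A`, `dim A = 1`). -/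
theorem rl_smul_eq_finsum (hA : ringKrullDim A = 1) (hsupp : Module.support A M = Set.univ)
    (N : Submodule A M) {c : A} (hc : c ∈ nonZeroDivisors A) (hcN : ∀ m : M, c • m ∈ N) {x : A}
    (hx : x ∈ nonZeroDivisors A) (hxreg : IsSMulRegular M x) :
    rl (x • N) N = ∑ᶠ (q : PrimeSpectrum A) (_ : q.asIdeal ∈ minimalPrimes A),
      Ring.ord (A ⧸ q.asIdeal) (Ideal.Quotient.mk q.asIdeal x) * locLen M q := by
  classical
  have hdim1 : Module.supportDim A ↥N ≤ 1 :=
    (Module.supportDim_le_ringKrullDim A ↥N).trans hA.le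
  have hdim0 : Module.supportDim A (↥N ⧸ x • (⊤ : Submodule A ↥N)) ≤ 0 := by
    apply supportDim_le_zero_of_forall
    intro p hp
    apply eq_maximalIdeal_of_mem hA p hx
    apply Module.annihilator_le_of_mem_support hp
    rw [Module.mem_annihilator]
    intro y
    obtain ⟨y, rfl⟩ := Submodule.Quotient.mk_surjective _ y
    rw [← Submodule.Quotient.mk_smul, Submodule.Quotient.mk_eq_zero]
    exact Submodule.smul_mem_pointwise_smul y x ⊤ Submodule.mem_top
  have h := Groth.Agent.S1833.result A ↥N x hdim1 hdim0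
  have hker : LinearMap.ker (LinearMap.lsmul A ↥N x) = ⊥ := by
    rw [LinearMap.ker_eq_bot]
    intro y z hyz
    apply Subtype.ext
    apply hxreg
    have := congrArg Subtype.val hyz
    simpa using this
  rw [hker, Module.length_bot, zero_add] at h
  have hl : rl (x • N) N = Module.length A (↥N ⧸ x • (⊤ : Submodule A ↥N)) := by
    unfold rl
    have : (x • N).submoduleOf N = x • (⊤ : Submodule A ↥N) := by
      ext y
      constructor
      · intro hy
        have hy' : (y : M) ∈ x • N := hy
        obtain ⟨z, hz, hzy⟩ := (Submodule.mem_smul_pointwise_iff_exists _ _ _).1 hy'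
        exact (Submodule.mem_smul_pointwise_iff_exists _ _ _).2
          ⟨⟨z, hz⟩, Submodule.mem_top, Subtype.ext hzy⟩
      · intro hy
        obtain ⟨z, -, hzy⟩ := (Submodule.mem_smul_pointwise_iff_exists _ _ _).1 hy
        change (y : M) ∈ x • N
        rw [← hzy]
        exact Submodule.smul_mem_pointwise_smul _ x N z.2
    rw [this]
  rw [hl, h]
  simp only [finsum_eq_if]
  refine finsum_congr (fun q => ?_)
  by_cases hq : q.asIdeal ∈ minimalPrimes A
  · have hqm : q.asIdeal ≠ IsLocalRing.maximalIdeal A := (mem_minimalPrimes_iff_ne hA q).1 hq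
    have hcq : c ∉ q.asIdeal := fun hcq =>
      Set.disjoint_left.mp (Ideal.disjoint_nonZeroDivisors_of_mem_minimalPrimes hq) hcq hc
    have hlen : locLen ↥N q = locLen M q := locLen_submodule_eq N hcN q hcq
    have hqN : q ∈ Module.support A ↥N := by
      by_contra hqN
      have h0 : locLen ↥N q = 0 := locLen_eq_zero_iff.2 hqN
      rw [hlen, locLen_eq_zero_iff] at h0
      exact h0 (by rw [hsupp]; trivial)
    rw [if_pos hq, if_pos ⟨hqN, hqm⟩]
    change _ * locLen ↥N q = _
    rw [hlen]
  · have hqm : q.asIdeal = IsLocalRing.maximalIdeal A := by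
      by_contra h'
      exact hq ((mem_minimalPrimes_iff_ne hA q).2 h')
    rw [if_neg hq, if_neg (fun h' => h'.2 hqm)]

end Groth.Agent.Lib.helper15.HerbLen
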