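import Mathlib
import Groth.Agent.Lib.Helper15.HochLift2

/-!
# Conjugacy of liftings of homomorphisms from groups with an invariant integral (helper15)

`H¹`-vanishing by averaging: two bialgebra maps `p q : C → A` congruent modulo a square-zero ideal
`J`, where `A` has an invariant integral, are conjugate by a point `g` of `Spec C` with `g ≡ 1`.
-/

set_option autoImplicit false
set_option linter.unusedSectionVars false

namespace Groth.Agent.Lib.helper15.DefoDiag

open TensorProduct Coalgebra WithConv

section PushL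

variable {R : Type*} [CommRing R] {C : Type*} [CommRing C] [HopfAlgebra R C]
  {B B' : Type*} [CommRing B] [Algebra R B] [CommRing B'] [Algebra R B']

/-- post-composition with a linear map. -/
noncomputable def pushL (Λ : B →ₗ[R] B') (x : WithConv (C →ₗ[R] B)) : WithConv (C →ₗ[R] B') :=
  toConv (Λ ∘ₗ x.ofConv)

@[simp] lemma pushL_apply (Λ : B →ₗ[R] B') (x : WithConv (C →ₗ[R] B)) (c : C) :
    pushL Λ x c = Λ (x c) := rfl

lemma conv_mem_left {J : Ideal R} (f g : WithConv (C →ₗ[R] B))
    (hf : ∀ c, f c ∈ J • (⊤ : Submodule R B)) (c : C) :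
    (f * g) c ∈ J • (⊤ : Submodule R B) := by
  rw [LinearMap.convMul_apply]
  generalize comul (R := R) c = z
  induction z using TensorProduct.induction_on with
  | zero => simp
  | tmul a b =>
    rw [TensorProduct.map_tmul, LinearMap.mul'_apply, mul_comm]
    exact mul_mem_smul_top _ (hf a)
  | add x y hx hy =>
    rw [map_add, map_add]
    exact add_mem hx hy

/-- the constant map attached to a point `g : C → R`. -/
noncomputable def cst (B : Type*) [CommRing B] [Algebra R B] (g : C →ₐ[R] R) :
    WithConv (C →ₗ[R] B) :=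
  toConv ((Algebra.ofId R B).comp g).toLinearMap

lemma cst_apply (g : C →ₐ[R] R) (c : C) : cst B g c = algebraMap R B (g c) := rfl

lemma push_cst (h : B →ₐ[R] B') (g : C →ₐ[R] R) : push h (cst B g) = cst B' g := by
  apply WithConv.ext
  ext c
  change h (algebraMap R B (g c)) = algebraMap R B' (g c)
  rw [AlgHom.commutes]

lemma cst_mul_cst_antipode (g : C →ₐ[R] R) :
    cst B g * cst B (g.comp (HopfAlgebra.antipodeAlgHom R C)) = 1 :=
  toConv_mul_antipode ((Algebra.ofId R B).comp g)

lemma cst_antipode_mul_cst (g : C →ₐ[R] R) :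
    cst B (g.comp (HopfAlgebra.antipodeAlgHom R C)) * cst B g = 1 :=
  antipode_mul_toConv ((Algebra.ofId R B).comp g)

end PushL

section LamBilin

variable {R : Type*} [CommRing R] {A : Type*} [CommRing A] [HopfAlgebra R A] (lam : A →ₗ[R] R)
  {C : Type*} [CommRing C] [HopfAlgebra R C]

lemma pushL_Lam_i2_mul (f : WithConv (C →ₗ[R] A)) (X : WithConv (C →ₗ[R] A ⊗[R] A)) :
    pushL (Lam lam) (push i2 f * X) = f * pushL (Lam lam) X := by
  apply WithConv.ext
  ext c
  change Lam lam ((push i2 f * X) c) = (f * pushL (Lam lam) X) c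
  rw [LinearMap.convMul_apply, LinearMap.convMul_apply]
  generalize comul (R := R) c = z
  induction z using TensorProduct.induction_on with
  | zero => simp
  | tmul a b =>
    rw [TensorProduct.map_tmul, LinearMap.mul'_apply, TensorProduct.map_tmul, LinearMap.mul'_apply]
    exact Lam_includeRight_mul lam (f a) (X b)
  | add x y hx hy => rw [map_add, map_add, map_add, hx, hy, map_add, map_add]

lemma pushL_Lam_mul_i2 (X : WithConv (C →ₗ[R] A ⊗[R] A)) (f : WithConv (C →ₗ[R] A)) :
    pushL (Lam lam) (X * push i2 f) = pushL (Lam lam) X * f := by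
  apply WithConv.ext
  ext c
  change Lam lam ((X * push i2 f) c) = (pushL (Lam lam) X * f) c
  rw [LinearMap.convMul_apply, LinearMap.convMul_apply]
  generalize comul (R := R) c = z
  induction z using TensorProduct.induction_on with
  | zero => simp
  | tmul a b =>
    rw [TensorProduct.map_tmul, LinearMap.mul'_apply, TensorProduct.map_tmul, LinearMap.mul'_apply]
    have h3 := Lam_includeRight_mul lam (f b) (X a)
    rw [mul_comm] at h3
    have h4 : (pushL (Lam lam) X).ofConv a * f.ofConv b = f.ofConv b * Lam lam (X.ofConv a) :=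
      mul_comm _ _
    rw [h4]
    exact h3
  | add x y hx hy => rw [map_add, map_add, map_add, hx, hy, map_add, map_add]

end LamBilin

section Bialg

variable {R : Type*} [CommRing R] {A : Type*} [CommRing A] [HopfAlgebra R A]
  {C : Type*} [CommRing C] [HopfAlgebra R C]

/-- an algebra map compatible with the comultiplications is a bialgebra map. -/
lemma exists_bialgHom_of_comul (v : C →ₐ[R] A)
    (hcomul : ∀ c, comul (R := R) (v c) =
      TensorProduct.map v.toLinearMap v.toLinearMap (comul (R := R) c)) :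
    ∃ φ : C →ₐc[R] A, ∀ c, φ c = v c := by
  have hcounit : ∀ c, counit (R := R) (v c) = counit (R := R) c := by
    intro c
    refine eq_counit_of_idem ((Bialgebra.counitAlgHom R A).comp v) (fun x => ?_) c
    have h3 := map_counit_comul (R := R) (v x)
    rw [hcomul x, ← LinearMap.comp_apply (TensorProduct.map _ _), ← TensorProduct.map_comp] at h3
    exact h3
  refine ⟨BialgHom.ofAlgHom v ?_ ?_, fun c => rfl⟩
  · ext c
    exact hcounit c
  · ext c
    change TensorProduct.map v.toLinearMap v.toLinearMap (comul (R := R) c) = comul (R := R) (v c)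
    exact (hcomul c).symm

/-- a bialgebra map is comultiplicative, in convolution form. -/
lemma push_comul_of_bialgHom (q : C →ₐc[R] A) :
    push (Bialgebra.comulAlgHom R A)
        (toConv (q : C →ₐ[R] A).toLinearMap : WithConv (C →ₗ[R] A)) =
      push i1 (toConv (q : C →ₐ[R] A).toLinearMap) * push i2 (toConv (q : C →ₐ[R] A).toLinearMap) := by
  apply WithConv.ext
  ext c
  change comul (R := R) (q c) = (push i1 (toConv (q : C →ₐ[R] A).toLinearMap) *
    push i2 (toConv (q : C →ₐ[R] A).toLinearMap)) c
  have h3 : (push i1 (toConv (q : C →ₐ[R] A).toLinearMap : WithConv (C →ₗ[R] A)) *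
      push i2 (toConv (q : C →ₐ[R] A).toLinearMap)) c =
      TensorProduct.map (q : C →ₐ[R] A).toLinearMap (q : C →ₐ[R] A).toLinearMap
        (comul (R := R) c) :=
    conv_i1_i2 (q : C →ₐ[R] A).toLinearMap (q : C →ₐ[R] A).toLinearMap c
  rw [h3]
  exact (CoalgHomClass.map_comp_comul_apply q c).symm

end Bialg

section H1

variable {R : Type*} [CommRing R] {J : Ideal R} (hJ : J * J = ⊥)
  {A : Type*} [CommRing A] [HopfAlgebra R A] (lam : A →ₗ[R] R) (h1 : lam 1 = 1)
  (h2 : ∀ a, Lam lam (comul (R := R) a) = lam a • (1 : A))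
  {C : Type*} [CommRing C] [HopfAlgebra R C]

lemma mem_of_mem_smul_top_self {r : R} (hr : r ∈ J • (⊤ : Submodule R R)) : r ∈ J := by
  refine Submodule.smul_induction_on (p := fun r => r ∈ J) hr ?_ ?_
  · intro j hj s _
    rw [smul_eq_mul]
    exact J.mul_mem_right s hj
  · intro x y hx hy
    exact J.add_mem hx hy

include hJ h1 h2 in
/-- **`H¹`-vanishing by averaging**: two bialgebra maps congruent modulo a square-zero ideal are
conjugate by a point congruent to the unit section. -/
theorem exists_conj_of_congr (p q : C →ₐc[R] A)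
    (hpq : ∀ c, p c - q c ∈ J • (⊤ : Submodule R A)) :
    ∃ g : C →ₐ[R] R, (∀ c, g c - counit (R := R) c ∈ J) ∧
      (toConv (p : C →ₐ[R] A).toLinearMap : WithConv (C →ₗ[R] A)) * cst A g =
        cst A g * toConv (q : C →ₐ[R] A).toLinearMap := by
  set pA : C →ₐ[R] A := (p : C →ₐ[R] A) with hpA
  set qA : C →ₐ[R] A := (q : C →ₐ[R] A) with hqA
  set P : WithConv (C →ₗ[R] A) := toConv pA.toLinearMap with hP
  set Q : WithConv (C →ₗ[R] A) := toConv qA.toLinearMap with hQ
  set P' : WithConv (C →ₗ[R] A) :=
    toConv (pA.comp (HopfAlgebra.antipodeAlgHom R C)).toLinearMap with hP'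
  have hPP' : P * P' = 1 := toConv_mul_antipode pA
  have hP'P : P' * P = 1 := antipode_mul_toConv pA
  let kA : C →ₐ[R] A := ofConv ((toConv (pA.comp (HopfAlgebra.antipodeAlgHom R C)) :
    WithConv (C →ₐ[R] A)) * toConv qA)
  have hk : (toConv kA.toLinearMap : WithConv (C →ₗ[R] A)) = P' * Q :=
    AlgHom.toLinearMap_convMul _ _
  have hkmem : ∀ c, kA c - (Algebra.ofId R A) (counit (R := R) c) ∈
      J • (⊤ : Submodule R A) := by
    intro c
    have key : (toConv kA.toLinearMap : WithConv (C →ₗ[R] A)) - 1 = P' * (Q - P) := by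
      rw [hk, mul_sub, hP'P]
    have h3 : ∀ c, (Q - P) c ∈ J • (⊤ : Submodule R A) := by
      intro c
      have e : (Q - P) c = -(p c - q c) := by
        change q c - p c = _
        ring
      rw [e]
      exact neg_mem (hpq c)
    have h4 := conv_mem (J := J) P' (Q - P) h3 c
    rw [← key] at h4
    exact h4
  have hlamid : ∀ r : R, lam ((Algebra.ofId R A) r) = r := by
    intro r
    rw [Algebra.ofId_apply, Algebra.algebraMap_eq_smul_one, map_smul, h1, smul_eq_mul, mul_one]
  have hlamlin : ∀ (r : R) (x : A), lam ((Algebra.ofId R A) r * x) = r * lam x := by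
    intro r x
    rw [Algebra.ofId_apply, ← Algebra.smul_def, map_smul, smul_eq_mul]
  let gL : C →ₗ[R] R := lam ∘ₗ kA.toLinearMap
  have gmul : ∀ c c', gL (c * c') = gL c * gL c' := by
    intro c c'
    change lam (kA (c * c')) = lam (kA c) * lam (kA c')
    rw [map_mul]
    exact map_mul_of_congr hJ lam (Algebra.ofId R A) hlamid hlamlin (hkmem c) (hkmem c')
  have gone : gL 1 = 1 := by
    change lam (kA 1) = 1
    rw [map_one, h1]
  let g : C →ₐ[R] R := AlgHom.ofLinearMap gL gone gmul
  have hgapp : ∀ c, g c = lam (kA c) := fun c => rfl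
  refine ⟨g, fun c => ?_, ?_⟩
  · have h3 : g c - counit (R := R) c = lam (kA c - (Algebra.ofId R A) (counit (R := R) c)) := by
      rw [map_sub, hlamid, hgapp]
    rw [h3]
    exact mem_of_mem_smul_top_self (map_mem_smul_top lam (hkmem c))
  · -- the identity
    set K : WithConv (C →ₗ[R] A) := toConv kA.toLinearMap with hK
    have e1 : push (Bialgebra.comulAlgHom R A) Q = push i1 Q * push i2 Q :=
      push_comul_of_bialgHom q
    have e2 : push (Bialgebra.comulAlgHom R A) P = push i1 P * push i2 P :=
      push_comul_of_bialgHom p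
    have e3 : push (Bialgebra.comulAlgHom R A) P' = push i2 P' * push i1 P' := by
      symm
      refine left_inv_eq_right_inv (a := push (Bialgebra.comulAlgHom R A) P) ?_ ?_
      · rw [e2, mul_assoc, ← mul_assoc (push i1 P'), ← map_mul, hP'P, map_one, one_mul, ← map_mul,
          hP'P, map_one]
      · rw [← map_mul, hPP', map_one]
    have e4 : push (Bialgebra.comulAlgHom R A) K = push i2 P' * (push i1 K * push i2 Q) := by
      rw [hk, map_mul, e3, e1, map_mul]
      simp only [mul_assoc]
    have e5 : pushL (Lam lam) (push (Bialgebra.comulAlgHom R A) K) = cst A g := by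
      apply WithConv.ext
      ext c
      change Lam lam (comul (R := R) (kA c)) = algebraMap R A (g c)
      rw [h2, hgapp, Algebra.algebraMap_eq_smul_one]
    have e6 : pushL (Lam lam) (push i1 K) = cst A g := by
      apply WithConv.ext
      ext c
      change Lam lam ((kA c) ⊗ₜ[R] (1 : A)) = algebraMap R A (g c)
      rw [Lam_tmul, hgapp, Algebra.algebraMap_eq_smul_one]
    have e7 : cst A g = P' * (cst A g * Q) := by
      have h3 := congrArg (pushL (Lam lam)) e4
      rw [e5, pushL_Lam_i2_mul, pushL_Lam_mul_i2, e6] at h3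
      exact h3
    calc P * cst A g = P * (P' * (cst A g * Q)) := by rw [← e7]
      _ = (P * P') * (cst A g * Q) := by rw [mul_assoc]
      _ = cst A g * Q := by rw [hPP', one_mul]

end H1

section Conj

variable {R : Type*} [CommRing R] {A : Type*} [CommRing A] [HopfAlgebra R A]
  {C : Type*} [CommRing C] [HopfAlgebra R C]

/-- conjugating a bialgebra map by a point of the source group. -/
theorem exists_conj_bialgHom (γ' : C →ₐc[R] A) (g : C →ₐ[R] R) :
    ∃ γ : C →ₐc[R] A, (toConv (γ : C →ₐ[R] A).toLinearMap : WithConv (C →ₗ[R] A)) =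
      cst A (g.comp (HopfAlgebra.antipodeAlgHom R C)) *
        toConv (γ' : C →ₐ[R] A).toLinearMap * cst A g := by
  set g' : C →ₐ[R] R := g.comp (HopfAlgebra.antipodeAlgHom R C) with hg'
  set Γ' : WithConv (C →ₗ[R] A) := toConv (γ' : C →ₐ[R] A).toLinearMap with hΓ'
  let γA : C →ₐ[R] A := ofConv ((toConv ((Algebra.ofId R A).comp g') : WithConv (C →ₐ[R] A)) *
    toConv (γ' : C →ₐ[R] A) * toConv ((Algebra.ofId R A).comp g))
  have hγA : (toConv γA.toLinearMap : WithConv (C →ₗ[R] A)) = cst A g' * Γ' * cst A g := by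
    change toConv (ofConv ((toConv ((Algebra.ofId R A).comp g') : WithConv (C →ₐ[R] A)) *
      toConv (γ' : C →ₐ[R] A) * toConv ((Algebra.ofId R A).comp g))).toLinearMap = _
    rw [AlgHom.toLinearMap_convMul, AlgHom.toLinearMap_convMul]
    rfl
  have hcomul : ∀ c, comul (R := R) (γA c) =
      TensorProduct.map γA.toLinearMap γA.toLinearMap (comul (R := R) c) := by
    intro c
    have e1 := push_comul_of_bialgHom γ'
    have h3 : push (Bialgebra.comulAlgHom R A) (toConv γA.toLinearMap : WithConv (C →ₗ[R] A)) =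
        push i1 (toConv γA.toLinearMap) * push i2 (toConv γA.toLinearMap) := by
      rw [hγA, map_mul, map_mul, map_mul, map_mul, map_mul, map_mul, push_cst, push_cst, push_cst,
        push_cst, push_cst, push_cst, e1]
      have h4 : cst (A ⊗[R] A) g * cst (A ⊗[R] A) g' = 1 := cst_mul_cst_antipode g
      calc cst (A ⊗[R] A) g' * (push i1 Γ' * push i2 Γ') * cst (A ⊗[R] A) g
          = cst (A ⊗[R] A) g' * push i1 Γ' * 1 * (push i2 Γ' * cst (A ⊗[R] A) g) := by
            rw [mul_one]; simp only [mul_assoc]
        _ = cst (A ⊗[R] A) g' * push i1 Γ' * cst (A ⊗[R] A) g *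
            (cst (A ⊗[R] A) g' * push i2 Γ' * cst (A ⊗[R] A) g) := by
            rw [← h4]; simp only [mul_assoc]
    have h5 := congrArg (fun X : WithConv (C →ₗ[R] A ⊗[R] A) => X c) h3
    have h6 : (push i1 (toConv γA.toLinearMap : WithConv (C →ₗ[R] A)) *
        push i2 (toConv γA.toLinearMap)) c =
        TensorProduct.map γA.toLinearMap γA.toLinearMap (comul (R := R) c) :=
      conv_i1_i2 γA.toLinearMap γA.toLinearMap c
    rw [← h6]
    exact h5
  obtain ⟨γ, hγ⟩ := exists_bialgHom_of_comul γA hcomul
  refine ⟨γ, ?_⟩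
  rw [← hγA]
  apply WithConv.ext
  ext c
  exact hγ c

lemma cst_sub_one_mem {J : Ideal R} (B : Type*) [CommRing B] [Algebra R B] (g : C →ₐ[R] R)
    (hg : ∀ c, g c - counit (R := R) c ∈ J) (c : C) :
    (cst B g - 1) c ∈ J • (⊤ : Submodule R B) := by
  change algebraMap R B (g c) - algebraMap R B (counit (R := R) c) ∈ _
  rw [← map_sub, Algebra.algebraMap_eq_smul_one]
  exact Submodule.smul_mem_smul (hg c) Submodule.mem_top

/-- conjugating by a point congruent to the unit section does not change the reduction. -/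
lemma conj_sub_mem {J : Ideal R} (g : C →ₐ[R] R) (hg : ∀ c, g c - counit (R := R) c ∈ J)
    (Γ' : WithConv (C →ₗ[R] A)) (c : C) :
    (cst A (g.comp (HopfAlgebra.antipodeAlgHom R C)) * Γ' * cst A g - Γ') c ∈
      J • (⊤ : Submodule R A) := by
  set g' : C →ₐ[R] R := g.comp (HopfAlgebra.antipodeAlgHom R C) with hg'
  have hg'mem : ∀ c, g' c - counit (R := R) c ∈ J := by
    intro c
    have h3 := hg (HopfAlgebra.antipode R c)
    rw [HopfAlgebra.counit_antipode] at h3
    exact h3
  set N : WithConv (C →ₗ[R] A) := cst A g - 1 with hN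
  set N' : WithConv (C →ₗ[R] A) := cst A g' - 1 with hN'
  have e : cst A g' * Γ' * cst A g - Γ' = N' * (Γ' * cst A g) + Γ' * N := by
    rw [hN, hN']
    noncomm_ring
  rw [e]
  exact add_mem (conv_mem_left (J := J) N' _ (cst_sub_one_mem A g' hg'mem) c)
    (conv_mem (J := J) Γ' N (cst_sub_one_mem A g hg) c)

end Conj

end Groth.Agent.Lib.helper15.DefoDiag
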