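import Mathlib
import Groth.Prelude.Def_SGA3b
import Groth.Agent.Lib.Helper15.HochConj

/-!
# Relative lifting of homomorphisms from groups of multiplicative type along nilpotent ideals
(helper15; SGA3 IX 3.6 bis, affine target)
-/

set_option autoImplicit false
set_option linter.unusedSectionVars false
set_option linter.style.haveILetI false
universe u
open TensorProduct Coalgebra WithConv

namespace Groth.Agent.Lib.helper15.DefoDiag

open Groth.Agent.Lib.helper15.MultType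

section Nat

variable {R : Type*} [CommRing R] {R' : Type*} [CommRing R'] [Algebra R R'] {L : Type*} [CommRing L]
  [Algebra R L] [Algebra R' L] [IsScalarTower R R' L]
  {A C : Type*} [CommRing A] [CommRing C] [Bialgebra R A] [Bialgebra R C]

/-- naturality of the cancellation isomorphism. -/
lemma cancel_bc (φ : C →ₐc[R] A) (y : L ⊗[R'] (R' ⊗[R] C)) :
    MultLocal.cancelBialg R R' L A (bc L (bc R' φ) y) =
      bc L φ (MultLocal.cancelBialg R R' L C y) := by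
  induction y using MultLocal.induction₂ with
  | h0 => simp
  | hadd x y hx hy => rw [map_add, map_add, hx, hy, map_add, map_add]
  | ht l r c =>
    rw [bc_tmul, bc_tmul, MultLocal.cancelBialg_tmul, MultLocal.cancelBialg_tmul, bc_tmul]

end Nat

section Rel

variable {R : Type*} [CommRing R] {L : Type*} [CommRing L] [Algebra R L]
  {A₁ A₂ : Type*} [CommRing A₁] [CommRing A₂] [HopfAlgebra R A₁] [HopfAlgebra R A₂]
  {C : Type*} [CommRing C] [HopfAlgebra R C]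

/-- relative lifting along a square-zero thickening. -/
theorem exists_rel_lift_of_sq_zero (hL : Function.Surjective (algebraMap R L))
    (hK : RingHom.ker (algebraMap R L) * RingHom.ker (algebraMap R L) = ⊥)
    {lam₁ : A₁ →ₗ[R] R} (hlam₁ : IsInt lam₁) {lam₂ : A₂ →ₗ[R] R} (hlam₂ : IsInt lam₂)
    (α : A₂ →ₐc[R] A₁) [Algebra.FormallySmooth R C] (β : C →ₐc[R] A₁)
    (γ₀ : L ⊗[R] C →ₐc[L] L ⊗[R] A₂) (h0 : ∀ y, bc L α (γ₀ y) = bc L β y) :
    ∃ γ : C →ₐc[R] A₂, (∀ c, γ₀ ((1 : L) ⊗ₜ[R] c) = (1 : L) ⊗ₜ[R] γ c) ∧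
      ∀ c, α (γ c) = β c := by
  obtain ⟨γ', hγ'⟩ := exists_lift_of_sq_zero hL hK hlam₂ γ₀
  let p : C →ₐc[R] A₁ := α.comp γ'
  have hpq : ∀ c, p c - β c ∈ (RingHom.ker (algebraMap R L)) • (⊤ : Submodule R A₁) := by
    intro c
    apply mem_of_tmul_eq_zero hL
    rw [TensorProduct.tmul_sub, sub_eq_zero]
    have h3 := h0 ((1 : L) ⊗ₜ[R] c)
    rw [hγ' c, bc_tmul, bc_tmul] at h3
    exact h3
  obtain ⟨g, hg, hconj⟩ := exists_conj_of_congr hK lam₁ hlam₁.one hlam₁.left p β hpq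
  obtain ⟨γ, hγ⟩ := exists_conj_bialgHom γ' g
  refine ⟨γ, fun c => ?_, fun c => ?_⟩
  · rw [hγ' c]
    have h3 := conj_sub_mem (A := A₂) (J := RingHom.ker (algebraMap R L)) g hg
      (toConv (γ' : C →ₐ[R] A₂).toLinearMap) c
    rw [← hγ] at h3
    have h4 : (toConv (γ : C →ₐ[R] A₂).toLinearMap - toConv (γ' : C →ₐ[R] A₂).toLinearMap :
        WithConv (C →ₗ[R] A₂)) c = γ c - γ' c := rfl
    rw [h4] at h3
    have h5 := tmul_eq_zero_of_mem (L := L) h3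
    rw [TensorProduct.tmul_sub, sub_eq_zero] at h5
    exact h5.symm
  · have h3 : push (α : A₂ →ₐ[R] A₁) (toConv (γ : C →ₐ[R] A₂).toLinearMap) =
        (toConv (β : C →ₐ[R] A₁).toLinearMap : WithConv (C →ₗ[R] A₁)) := by
      rw [hγ, map_mul, map_mul, push_cst, push_cst]
      have h4 : push (α : A₂ →ₐ[R] A₁) (toConv (γ' : C →ₐ[R] A₂).toLinearMap) =
          (toConv (p : C →ₐ[R] A₁).toLinearMap : WithConv (C →ₗ[R] A₁)) := rfl
      rw [h4, mul_assoc, hconj, ← mul_assoc, cst_antipode_mul_cst, one_mul]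
    exact congrArg (fun X : WithConv (C →ₗ[R] A₁) => X c) h3

end Rel

section Nilp

/-- relative lifting along a nilpotent thickening. -/
theorem exists_rel_lift_of_pow_eq_bot (n : ℕ) :
    ∀ {R : Type u} [CommRing R] {L : Type u} [CommRing L] [Algebra R L]
      (_ : Function.Surjective (algebraMap R L))
      (_ : (RingHom.ker (algebraMap R L)) ^ n = ⊥)
      {A₁ A₂ : Type u} [CommRing A₁] [CommRing A₂] [HopfAlgebra R A₁] [HopfAlgebra R A₂]
      {lam₁ : A₁ →ₗ[R] R} (_ : IsInt lam₁) {lam₂ : A₂ →ₗ[R] R} (_ : IsInt lam₂)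
      (α : A₂ →ₐc[R] A₁)
      {C : Type u} [CommRing C] [HopfAlgebra R C] [Algebra.FormallySmooth R C] (β : C →ₐc[R] A₁)
      (γ₀ : L ⊗[R] C →ₐc[L] L ⊗[R] A₂) (_ : ∀ y, bc L α (γ₀ y) = bc L β y),
      ∃ γ : C →ₐc[R] A₂, (∀ c, γ₀ ((1 : L) ⊗ₜ[R] c) = (1 : L) ⊗ₜ[R] γ c) ∧
        ∀ c, α (γ c) = β c := by
  induction n with
  | zero =>
    intro R _ L _ _ hL hn A₁ A₂ _ _ _ _ lam₁ hlam₁ lam₂ hlam₂ α C _ _ _ β γ₀ h0
    have hbot : RingHom.ker (algebraMap R L) = ⊥ := by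
      rw [pow_zero, Ideal.one_eq_top] at hn
      exact le_bot_iff.mp (hn ▸ le_top)
    exact exists_rel_lift_of_sq_zero hL (by rw [hbot, Ideal.bot_mul]) hlam₁ hlam₂ α β γ₀ h0
  | succ n ih =>
    intro R _ L _ _ hL hn A₁ A₂ _ _ _ _ lam₁ hlam₁ lam₂ hlam₂ α C _ _ _ β γ₀ h0
    by_cases hn0 : n = 0
    · subst hn0
      rw [zero_add, pow_one] at hn
      exact exists_rel_lift_of_sq_zero hL (by rw [hn, Ideal.bot_mul]) hlam₁ hlam₂ α β γ₀ h0
    set J : Ideal R := RingHom.ker (algebraMap R L) with hJ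
    set K : Ideal R := J ^ n with hK
    have hKK : K * K = ⊥ := by
      have h1 : K * K = J ^ (n + n) := by rw [hK, ← pow_add]
      have h2 : J ^ (n + n) ≤ J ^ (n + 1) := Ideal.pow_le_pow_right (by omega)
      rw [h1]
      exact le_bot_iff.mp (hn ▸ h2)
    have hKJ : K ≤ J := by
      rw [hK]
      exact Ideal.pow_le_self hn0
    let ψ : R ⧸ K →+* L := Ideal.Quotient.lift K (algebraMap R L)
      (fun a ha => RingHom.mem_ker.mp (hKJ ha))
    letI : Algebra (R ⧸ K) L := ψ.toAlgebra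
    haveI : IsScalarTower R (R ⧸ K) L := IsScalarTower.of_algebraMap_eq (fun r => rfl)
    have hL' : Function.Surjective (algebraMap (R ⧸ K) L) := by
      intro l
      obtain ⟨r, rfl⟩ := hL l
      exact ⟨Ideal.Quotient.mk K r, rfl⟩
    have hker : RingHom.ker (algebraMap (R ⧸ K) L) = J.map (Ideal.Quotient.mk K) := by
      ext y
      obtain ⟨r, rfl⟩ := Ideal.Quotient.mk_surjective y
      rw [RingHom.mem_ker]
      constructor
      · intro h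
        exact Ideal.mem_map_of_mem _ (RingHom.mem_ker.mpr h)
      · intro h
        rw [Ideal.mem_map_iff_of_surjective _ Ideal.Quotient.mk_surjective] at h
        obtain ⟨r', hr', hrr'⟩ := h
        have h3 : r' - r ∈ K := Ideal.Quotient.eq.mp hrr'
        have h4 : r ∈ J := by
          have := J.sub_mem hr' (hKJ h3)
          rwa [sub_sub_cancel] at this
        exact RingHom.mem_ker.mp h4
    have hn' : (RingHom.ker (algebraMap (R ⧸ K) L)) ^ n = ⊥ := by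
      rw [hker, ← Ideal.map_pow, ← hK, Ideal.map_quotient_self]
    let EA₁ := MultLocal.cancelBialg R (R ⧸ K) L A₁
    let EA₂ := MultLocal.cancelBialg R (R ⧸ K) L A₂
    let EC := MultLocal.cancelBialg R (R ⧸ K) L C
    let γ₀' : L ⊗[R ⧸ K] ((R ⧸ K) ⊗[R] C) →ₐc[L] L ⊗[R ⧸ K] ((R ⧸ K) ⊗[R] A₂) :=
      (EA₂.symm : L ⊗[R] A₂ →ₐc[L] L ⊗[R ⧸ K] ((R ⧸ K) ⊗[R] A₂)).comp
        (γ₀.comp (EC : L ⊗[R ⧸ K] ((R ⧸ K) ⊗[R] C) →ₐc[L] L ⊗[R] C))
    have h0' : ∀ y, bc L (bc (R ⧸ K) α) (γ₀' y) = bc L (bc (R ⧸ K) β) y := by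
      intro y
      apply (EquivLike.injective EA₁)
      have e1 : γ₀' y = EA₂.symm (γ₀ (EC y)) := rfl
      rw [cancel_bc, cancel_bc, e1, BialgEquiv.apply_symm_apply, h0]
    obtain ⟨γ', hγ'1, hγ'2⟩ := ih (R := R ⧸ K) (L := L) hL' hn' (A₁ := (R ⧸ K) ⊗[R] A₁)
      (A₂ := (R ⧸ K) ⊗[R] A₂) (hlam₁.baseChange (R ⧸ K)) (hlam₂.baseChange (R ⧸ K))
      (bc (R ⧸ K) α) (C := (R ⧸ K) ⊗[R] C) (bc (R ⧸ K) β) γ₀' h0'
    have h5 : RingHom.ker (algebraMap R (R ⧸ K)) = K := Ideal.mk_ker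
    obtain ⟨γ, hγ1, hγ2⟩ := exists_rel_lift_of_sq_zero (L := R ⧸ K) Ideal.Quotient.mk_surjective
      (by rw [h5]; exact hKK) hlam₁ hlam₂ α β γ' hγ'2
    refine ⟨γ, fun c => ?_, hγ2⟩
    have h6 := hγ'1 ((1 : R ⧸ K) ⊗ₜ[R] c)
    rw [hγ1 c] at h6
    have h7 : γ₀' ((1 : L) ⊗ₜ[R ⧸ K] ((1 : R ⧸ K) ⊗ₜ[R] c)) =
        EA₂.symm (γ₀ (EC ((1 : L) ⊗ₜ[R ⧸ K] ((1 : R ⧸ K) ⊗ₜ[R] c)))) := rfl
    have h8 : EC ((1 : L) ⊗ₜ[R ⧸ K] ((1 : R ⧸ K) ⊗ₜ[R] c)) = (1 : L) ⊗ₜ[R] c := by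
      rw [MultLocal.cancelBialg_tmul, one_smul]
    have h9 : EA₂ ((1 : L) ⊗ₜ[R ⧸ K] ((1 : R ⧸ K) ⊗ₜ[R] γ c)) = (1 : L) ⊗ₜ[R] γ c := by
      rw [MultLocal.cancelBialg_tmul, one_smul]
    rw [h7, h8] at h6
    rw [← h9, ← h6, BialgEquiv.apply_symm_apply]

end Nilp

end Groth.Agent.Lib.helper15.DefoDiag
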