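import Mathlib
import Groth.Agent.Lib.Helper26.SmoothHensLift
import Groth.Agent.Lib.Helper26.HenselPairIdem
import Groth.Agent.Lib.Helper26.HenselPair

/-!
# Reduction maps modulo the ideal of a henselian pair and lifting of algebra maps (helper15)

`(A, 𝔪)` a pair, `k = A ⧸ 𝔪`.  A *reduction map* is a surjective `A`-algebra map `ρ : S → T` whose kernel
is `𝔪 S`.

* `IsRed.eq_of_comp_eq`: maps from an unramified algebra to a finite algebra are determined by their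
  reductions.
* `IsRed.exists_lift`: over a henselian pair, maps from a smooth algebra to the reduction of a finite
  algebra lift.
* `redT ρ₁ ρ₂ : S₁ ⊗[A] S₂ → T₁ ⊗[k] T₂`, a reduction map (`isRed_redT`), and its naturality lemmas.
-/

set_option autoImplicit false
set_option linter.style.haveILetI false
set_option linter.unusedSectionVars false
universe u
open TensorProduct

namespace Groth.Agent.Lib.helper15.HopfLift

open Groth.Agent.Lib.helper26.SmoothHensLift Groth.Agent.Lib.helper26.HenselPair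

section Basic

variable {A : Type u} [CommRing A] (𝔪 : Ideal A)

/-- a reduction map: surjective with kernel `𝔪 S`. -/
structure IsRed {S T : Type u} [CommRing S] [CommRing T] [Algebra A S] [Algebra A T]
    (ρ : S →ₐ[A] T) : Prop where
  surj : Function.Surjective ρ
  ker : RingHom.ker ρ = 𝔪.map (algebraMap A S)

variable {𝔪}

theorem IsRed.eq_of_comp_eq (h𝔪 : 𝔪 ≤ Ideal.jacobson ⊥)
    {S₁ S₂ T₂ : Type u} [CommRing S₁] [CommRing S₂] [CommRing T₂]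
    [Algebra A S₁] [Algebra A S₂] [Algebra A T₂]
    [Algebra.FormallyUnramified A S₁] [Algebra.EssFiniteType A S₁] [Algebra.IsIntegral A S₂]
    {ρ : S₂ →ₐ[A] T₂} (hρ : IsRed 𝔪 ρ) (f g : S₁ →ₐ[A] S₂) (h : ρ.comp f = ρ.comp g) : f = g := by
  apply algHom_eq_of_sub_mem (𝔪.map (algebraMap A S₂)) (map_le_jacobson_of_isIntegral h𝔪 S₂) f g
  intro b
  rw [← hρ.ker, RingHom.mem_ker, map_sub, sub_eq_zero]
  exact AlgHom.congr_fun h b

theorem IsRed.exists_lift (h𝔪 : HenselianRing A 𝔪)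
    {S₁ S₂ T₂ : Type u} [CommRing S₁] [CommRing S₂] [CommRing T₂]
    [Algebra A S₁] [Algebra A S₂] [Algebra A T₂]
    [Algebra.Smooth A S₁] [Algebra.IsIntegral A S₂]
    {ρ : S₂ →ₐ[A] T₂} (hρ : IsRed 𝔪 ρ) (φ : S₁ →ₐ[A] T₂) :
    ∃ f : S₁ →ₐ[A] S₂, ρ.comp f = φ := by
  have hH : HenselianRing S₂ (RingHom.ker ρ) := by
    rw [hρ.ker]
    exact henselianRing_map_of_isIntegral h𝔪 S₂
  obtain ⟨f, hf⟩ := exists_algHom_lift_of_smooth (A := A) S₂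
    (RingHom.ker ρ) hH S₁
    ((Ideal.quotientKerAlgEquivOfSurjective hρ.surj).symm.toAlgHom.comp φ)
  refine ⟨f, AlgHom.ext fun s => ?_⟩
  have h1 := congrArg (Ideal.quotientKerAlgEquivOfSurjective hρ.surj) (hf s)
  rw [Ideal.quotientKerAlgEquivOfSurjective_mk] at h1
  rw [AlgHom.comp_apply, h1]
  simp

end Basic

section RedT

variable {A : Type u} [CommRing A] (𝔪 : Ideal A)
  {S₁ S₂ T₁ T₂ : Type u} [CommRing S₁] [CommRing S₂] [CommRing T₁] [CommRing T₂]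
  [Algebra A S₁] [Algebra A S₂] [Algebra A T₁] [Algebra A T₂]
  [Algebra (A ⧸ 𝔪) T₁] [Algebra (A ⧸ 𝔪) T₂]
  [IsScalarTower A (A ⧸ 𝔪) T₁] [IsScalarTower A (A ⧸ 𝔪) T₂]

/-- scalars from the quotient ring move across a tensor product over `A`. -/
instance compatQuot : TensorProduct.CompatibleSMul A (A ⧸ 𝔪) T₁ T₂ :=
  ⟨fun r m n => by
    obtain ⟨a, rfl⟩ := Ideal.Quotient.mk_surjective r
    have e1 : Ideal.Quotient.mk 𝔪 a • m = a • m := algebraMap_smul (A ⧸ 𝔪) a m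
    have e2 : Ideal.Quotient.mk 𝔪 a • n = a • n := algebraMap_smul (A ⧸ 𝔪) a n
    rw [e1, e2, TensorProduct.smul_tmul]⟩

/-- the tensor product of two reduction maps, with values in the tensor product over `A ⧸ 𝔪`. -/
noncomputable def redT (ρ₁ : S₁ →ₐ[A] T₁) (ρ₂ : S₂ →ₐ[A] T₂) :
    S₁ ⊗[A] S₂ →ₐ[A] T₁ ⊗[A ⧸ 𝔪] T₂ :=
  (Algebra.TensorProduct.mapOfCompatibleSMul (A ⧸ 𝔪) A A T₁ T₂).comp
    (Algebra.TensorProduct.map ρ₁ ρ₂)

@[simp] theorem redT_tmul (ρ₁ : S₁ →ₐ[A] T₁) (ρ₂ : S₂ →ₐ[A] T₂) (a : S₁) (b : S₂) :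
    redT 𝔪 ρ₁ ρ₂ (a ⊗ₜ[A] b) = ρ₁ a ⊗ₜ[A ⧸ 𝔪] ρ₂ b := rfl

theorem mapOfCompatibleSMul_injective :
    Function.Injective (Algebra.TensorProduct.mapOfCompatibleSMul (A ⧸ 𝔪) A A T₁ T₂) :=
  (Algebra.TensorProduct.equivOfCompatibleSMul (A ⧸ 𝔪) A A T₁ T₂).injective

variable {𝔪}

theorem isRed_redT {ρ₁ : S₁ →ₐ[A] T₁} {ρ₂ : S₂ →ₐ[A] T₂} (h₁ : IsRed 𝔪 ρ₁) (h₂ : IsRed 𝔪 ρ₂) :
    IsRed 𝔪 (redT 𝔪 ρ₁ ρ₂) where
  surj := (Algebra.TensorProduct.mapOfCompatibleSMul_surjective (A ⧸ 𝔪) A A T₁ T₂).comp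
    (Algebra.TensorProduct.map_surjective ρ₁ ρ₂ h₁.surj h₂.surj)
  ker := by
    have e : RingHom.ker (redT 𝔪 ρ₁ ρ₂) = RingHom.ker (Algebra.TensorProduct.map ρ₁ ρ₂) := by
      ext z
      rw [RingHom.mem_ker, RingHom.mem_ker]
      change Algebra.TensorProduct.mapOfCompatibleSMul (A ⧸ 𝔪) A A T₁ T₂ _ = 0 ↔ _
      rw [← map_zero (Algebra.TensorProduct.mapOfCompatibleSMul (A ⧸ 𝔪) A A T₁ T₂)]
      exact (mapOfCompatibleSMul_injective 𝔪).eq_iff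
    rw [e, Algebra.TensorProduct.map_ker ρ₁ ρ₂ h₁.surj h₂.surj, h₁.ker, h₂.ker]
    have e1 : (𝔪.map (algebraMap A S₁)).map
        (Algebra.TensorProduct.includeLeft : S₁ →ₐ[A] S₁ ⊗[A] S₂) =
        𝔪.map (algebraMap A (S₁ ⊗[A] S₂)) := by
      rw [AlgHom.coe_ideal_map, Ideal.map_map, AlgHom.comp_algebraMap]
    have e2 : (𝔪.map (algebraMap A S₂)).map
        (Algebra.TensorProduct.includeRight : S₂ →ₐ[A] S₁ ⊗[A] S₂) =
        𝔪.map (algebraMap A (S₁ ⊗[A] S₂)) := by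
      rw [AlgHom.coe_ideal_map, Ideal.map_map, AlgHom.comp_algebraMap]
    rw [e1, e2, sup_idem]

end RedT

section Nat

variable {A : Type u} [CommRing A] (𝔪 : Ideal A)
  {S₁ S₂ S₃ T₁ T₂ T₃ : Type u} [CommRing S₁] [CommRing S₂] [CommRing S₃]
  [CommRing T₁] [CommRing T₂] [CommRing T₃]
  [Algebra A S₁] [Algebra A S₂] [Algebra A S₃] [Algebra A T₁] [Algebra A T₂] [Algebra A T₃]
  [Algebra (A ⧸ 𝔪) T₁] [Algebra (A ⧸ 𝔪) T₂] [Algebra (A ⧸ 𝔪) T₃]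
  [IsScalarTower A (A ⧸ 𝔪) T₁] [IsScalarTower A (A ⧸ 𝔪) T₂] [IsScalarTower A (A ⧸ 𝔪) T₃]
  {S₁' S₂' T₁' T₂' : Type u} [CommRing S₁'] [CommRing S₂'] [CommRing T₁'] [CommRing T₂']
  [Algebra A S₁'] [Algebra A S₂'] [Algebra A T₁'] [Algebra A T₂']
  [Algebra (A ⧸ 𝔪) T₁'] [Algebra (A ⧸ 𝔪) T₂']
  [IsScalarTower A (A ⧸ 𝔪) T₁'] [IsScalarTower A (A ⧸ 𝔪) T₂']

/-- naturality of `redT` with respect to tensor products of maps. -/
theorem redT_comp_map {ρ₁ : S₁ →ₐ[A] T₁} {ρ₂ : S₂ →ₐ[A] T₂} {ρ₁' : S₁' →ₐ[A] T₁'}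
    {ρ₂' : S₂' →ₐ[A] T₂'} {f₁ : S₁ →ₐ[A] S₁'} {f₂ : S₂ →ₐ[A] S₂'}
    {g₁ : T₁ →ₐ[A ⧸ 𝔪] T₁'} {g₂ : T₂ →ₐ[A ⧸ 𝔪] T₂'}
    (h₁ : ρ₁'.comp f₁ = (g₁.restrictScalars A).comp ρ₁)
    (h₂ : ρ₂'.comp f₂ = (g₂.restrictScalars A).comp ρ₂) :
    (redT 𝔪 ρ₁' ρ₂').comp (Algebra.TensorProduct.map f₁ f₂) =
      ((Algebra.TensorProduct.map g₁ g₂).restrictScalars A).comp (redT 𝔪 ρ₁ ρ₂) := by
  apply Algebra.TensorProduct.ext'
  intro a b
  have e1 : ρ₁' (f₁ a) = g₁ (ρ₁ a) := AlgHom.congr_fun h₁ a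
  have e2 : ρ₂' (f₂ b) = g₂ (ρ₂ b) := AlgHom.congr_fun h₂ b
  simp only [AlgHom.comp_apply, Algebra.TensorProduct.map_tmul, redT_tmul,
    AlgHom.restrictScalars_apply, e1, e2]

/-- naturality of `redT` with respect to the associator. -/
theorem redT_comp_assoc (ρ₁ : S₁ →ₐ[A] T₁) (ρ₂ : S₂ →ₐ[A] T₂) (ρ₃ : S₃ →ₐ[A] T₃) :
    (redT 𝔪 ρ₁ (redT 𝔪 ρ₂ ρ₃)).comp (Algebra.TensorProduct.assoc A A A S₁ S₂ S₃).toAlgHom =
      ((Algebra.TensorProduct.assoc (A ⧸ 𝔪) (A ⧸ 𝔪) (A ⧸ 𝔪) T₁ T₂ T₃).toAlgHom.restrictScalars A).comp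
        (redT 𝔪 (redT 𝔪 ρ₁ ρ₂) ρ₃) := by
  apply AlgHom.toLinearMap_injective
  apply TensorProduct.ext_threefold
  intro a b c
  rfl

/-- naturality of `redT` with respect to the left unitor. -/
theorem redT_comp_lid_symm (ρ : S₁ →ₐ[A] T₁) :
    (redT 𝔪 (Ideal.Quotient.mkₐ A 𝔪) ρ).comp (Algebra.TensorProduct.lid A S₁).symm.toAlgHom =
      ((Algebra.TensorProduct.lid (A ⧸ 𝔪) T₁).symm.toAlgHom.restrictScalars A).comp ρ := by
  apply AlgHom.ext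
  intro s
  rfl

/-- naturality of `redT` with respect to the right unitor. -/
theorem redT_comp_rid_symm (ρ : S₁ →ₐ[A] T₁) :
    (redT 𝔪 ρ (Ideal.Quotient.mkₐ A 𝔪)).comp (Algebra.TensorProduct.rid A A S₁).symm.toAlgHom =
      ((Algebra.TensorProduct.rid (A ⧸ 𝔪) (A ⧸ 𝔪) T₁).symm.toAlgHom.restrictScalars A).comp ρ := by
  apply AlgHom.ext
  intro s
  rfl

/-- naturality of `redT` with respect to the swap. -/
theorem redT_comp_comm (ρ₁ : S₁ →ₐ[A] T₁) (ρ₂ : S₂ →ₐ[A] T₂) :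
    (redT 𝔪 ρ₂ ρ₁).comp (Algebra.TensorProduct.comm A S₁ S₂).toAlgHom =
      ((Algebra.TensorProduct.comm (A ⧸ 𝔪) T₁ T₂).toAlgHom.restrictScalars A).comp
        (redT 𝔪 ρ₁ ρ₂) := by
  apply Algebra.TensorProduct.ext'
  intro a b
  rfl

/-- naturality of `redT` with respect to products of maps. -/
theorem comp_lift {ρ : S₁ →ₐ[A] T₁} {ρ' : S₁' →ₐ[A] T₁'} {f g : S₁ →ₐ[A] S₁'}
    {f' g' : T₁ →ₐ[A ⧸ 𝔪] T₁'}
    (hf : ρ'.comp f = (f'.restrictScalars A).comp ρ)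
    (hg : ρ'.comp g = (g'.restrictScalars A).comp ρ) :
    ρ'.comp (Algebra.TensorProduct.lift f g (fun _ _ => Commute.all _ _)) =
      ((Algebra.TensorProduct.lift f' g' (fun _ _ => Commute.all _ _)).restrictScalars A).comp
        (redT 𝔪 ρ ρ) := by
  apply Algebra.TensorProduct.ext'
  intro a b
  have e1 : ρ' (f a) = f' (ρ a) := AlgHom.congr_fun hf a
  have e2 : ρ' (g b) = g' (ρ b) := AlgHom.congr_fun hg b
  simp only [AlgHom.comp_apply, Algebra.TensorProduct.lift_tmul, redT_tmul,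
    AlgHom.restrictScalars_apply, map_mul, e1, e2]

/-- the structure maps are compatible with reduction. -/
theorem comp_ofId (ρ : S₁ →ₐ[A] T₁) :
    ρ.comp (Algebra.ofId A S₁) =
      ((Algebra.ofId (A ⧸ 𝔪) T₁).restrictScalars A).comp (Ideal.Quotient.mkₐ A 𝔪) := by
  apply AlgHom.ext
  intro a
  simp only [AlgHom.comp_apply, Algebra.ofId_apply, AlgHom.commutes, AlgHom.restrictScalars_apply,
    Ideal.Quotient.mkₐ_eq_mk]
  exact IsScalarTower.algebraMap_apply A (A ⧸ 𝔪) T₁ a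

end Nat

section Examples

variable {A : Type u} [CommRing A] (𝔪 : Ideal A)

theorem isRed_mk : IsRed 𝔪 (Ideal.Quotient.mkₐ A 𝔪) where
  surj := Ideal.Quotient.mkₐ_surjective A 𝔪
  ker := by
    ext a
    rw [RingHom.mem_ker]
    change Ideal.Quotient.mk 𝔪 a = 0 ↔ a ∈ Ideal.map (RingHom.id A) 𝔪
    rw [Ideal.map_id, Ideal.Quotient.eq_zero_iff_mem]

theorem isRed_includeRight (S : Type u) [CommRing S] [Algebra A S] :
    IsRed 𝔪 (Algebra.TensorProduct.includeRight : S →ₐ[A] (A ⧸ 𝔪) ⊗[A] S) where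
  surj := Algebra.TensorProduct.includeRight_surjective _ Ideal.Quotient.mk_surjective
  ker := by
    ext s
    rw [RingHom.mem_ker, ← Ideal.Quotient.eq_zero_iff_mem]
    have h := Algebra.TensorProduct.quotIdealMapEquivQuotTensor_mk S 𝔪 s
    change (1 : A ⧸ 𝔪) ⊗ₜ[A] s = 0 ↔ _
    rw [← h]
    exact map_eq_zero_iff _ (AlgEquiv.injective _)

variable {𝔪}

theorem IsRed.comp_algEquiv {S T T' : Type u} [CommRing S] [CommRing T] [CommRing T']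
    [Algebra A S] [Algebra A T] [Algebra A T'] {ρ : S →ₐ[A] T} (hρ : IsRed 𝔪 ρ) (e : T ≃ₐ[A] T') :
    IsRed 𝔪 (e.toAlgHom.comp ρ) where
  surj := e.surjective.comp hρ.surj
  ker := by
    rw [← hρ.ker]
    ext s
    rw [RingHom.mem_ker, RingHom.mem_ker]
    exact map_eq_zero_iff e e.injective

end Examples

end Groth.Agent.Lib.helper15.HopfLift
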