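import Mathlib
import Groth.Agent.Lib.Helper15.HopfLift0
import Groth.Agent.Lib.Helper26.FiniteEtaleLift

/-!
# Lifting a finite etale Hopf algebra over a henselian pair (helper15)

`(A, 𝔪)` a henselian pair, `D₀` a commutative Hopf algebra over `A ⧸ 𝔪`, finite etale as an algebra.
Then there is a Hopf algebra `D` over `A`, finite etale as an algebra, with `(A ⧸ 𝔪) ⊗[A] D ≃ₐc D₀`
(`exists_hopf_lift`).
-/

set_option autoImplicit false
set_option linter.style.haveILetI false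
set_option linter.unusedSectionVars false
universe u
open TensorProduct

namespace Groth.Agent.Lib.helper15.HopfLift

open Groth.Agent.Lib.helper26.SmoothHensLift Groth.Agent.Lib.helper26.HenselPair

section Lift

variable {A : Type u} [CommRing A] {𝔪 : Ideal A} (h𝔪 : HenselianRing A 𝔪)
  {D D₀ : Type u} [CommRing D] [CommRing D₀] [Algebra A D] [Module.Finite A D] [Algebra.Etale A D]
  [HopfAlgebra (A ⧸ 𝔪) D₀] [Algebra A D₀] [IsScalarTower A (A ⧸ 𝔪) D₀]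
  {π : D →ₐ[A] D₀} (hπ : IsRed 𝔪 π)

include h𝔪 hπ

theorem exists_comul : ∃ Δ : D →ₐ[A] D ⊗[A] D,
    (redT 𝔪 π π).comp Δ = ((Bialgebra.comulAlgHom (A ⧸ 𝔪) D₀).restrictScalars A).comp π :=
  (isRed_redT hπ hπ).exists_lift h𝔪 _

theorem exists_counit : ∃ ε : D →ₐ[A] A,
    (Ideal.Quotient.mkₐ A 𝔪).comp ε =
      ((Bialgebra.counitAlgHom (A ⧸ 𝔪) D₀).restrictScalars A).comp π :=
  (isRed_mk 𝔪).exists_lift h𝔪 _

theorem exists_antipode : ∃ σ : D →ₐ[A] D,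
    π.comp σ = ((HopfAlgebra.antipodeAlgHom (A ⧸ 𝔪) D₀).restrictScalars A).comp π :=
  hπ.exists_lift h𝔪 _

variable {Δ : D →ₐ[A] D ⊗[A] D} {ε : D →ₐ[A] A} {σ : D →ₐ[A] D}
  (hΔ : (redT 𝔪 π π).comp Δ = ((Bialgebra.comulAlgHom (A ⧸ 𝔪) D₀).restrictScalars A).comp π)
  (hε : (Ideal.Quotient.mkₐ A 𝔪).comp ε =
      ((Bialgebra.counitAlgHom (A ⧸ 𝔪) D₀).restrictScalars A).comp π)
  (hσ : π.comp σ = ((HopfAlgebra.antipodeAlgHom (A ⧸ 𝔪) D₀).restrictScalars A).comp π)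

omit h𝔪 hπ in
theorem hid : π.comp (AlgHom.id A D) = ((AlgHom.id (A ⧸ 𝔪) D₀).restrictScalars A).comp π := rfl

include hΔ in
theorem coassoc_of :
    (Algebra.TensorProduct.assoc A A A D D D).toAlgHom.comp
      ((Algebra.TensorProduct.map Δ (.id A D)).comp Δ) =
      (Algebra.TensorProduct.map (.id A D) Δ).comp Δ := by
  apply (isRed_redT hπ (isRed_redT hπ hπ)).eq_of_comp_eq h𝔪.jac
  apply AlgHom.ext
  intro d
  have n1 := AlgHom.congr_fun (redT_comp_map 𝔪 hΔ (hid (π := π))) (Δ d)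
  have n2 := AlgHom.congr_fun (redT_comp_map 𝔪 (hid (π := π)) hΔ) (Δ d)
  have n3 := AlgHom.congr_fun (redT_comp_assoc 𝔪 π π π) (Algebra.TensorProduct.map Δ (.id A D) (Δ d))
  have n4 : redT 𝔪 π π (Δ d) = Coalgebra.comul (R := A ⧸ 𝔪) (π d) := AlgHom.congr_fun hΔ d
  simp only [AlgHom.comp_apply] at n1 n2 n3 ⊢
  rw [n3, n1, n2, n4]
  exact Coalgebra.coassoc_apply (R := A ⧸ 𝔪) (π d)

include hΔ hε in
theorem rTensor_of :
    (Algebra.TensorProduct.map ε (.id A D)).comp Δ = (Algebra.TensorProduct.lid A D).symm := by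
  apply (isRed_redT (isRed_mk 𝔪) hπ).eq_of_comp_eq h𝔪.jac
  apply AlgHom.ext
  intro d
  have n1 := AlgHom.congr_fun (redT_comp_map 𝔪 hε (hid (π := π))) (Δ d)
  have n3 := AlgHom.congr_fun (redT_comp_lid_symm 𝔪 π) d
  have n4 : redT 𝔪 π π (Δ d) = Coalgebra.comul (R := A ⧸ 𝔪) (π d) := AlgHom.congr_fun hΔ d
  simp only [AlgHom.comp_apply] at n1 n3 ⊢
  refine (n1.trans ?_).trans n3.symm
  rw [n4]
  exact Coalgebra.rTensor_counit_comul (R := A ⧸ 𝔪) (π d)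

include hΔ hε in
theorem lTensor_of :
    (Algebra.TensorProduct.map (.id A D) ε).comp Δ = (Algebra.TensorProduct.rid A A D).symm := by
  apply (isRed_redT hπ (isRed_mk 𝔪)).eq_of_comp_eq h𝔪.jac
  apply AlgHom.ext
  intro d
  have n1 := AlgHom.congr_fun (redT_comp_map 𝔪 (hid (π := π)) hε) (Δ d)
  have n3 := AlgHom.congr_fun (redT_comp_rid_symm 𝔪 π) d
  have n4 : redT 𝔪 π π (Δ d) = Coalgebra.comul (R := A ⧸ 𝔪) (π d) := AlgHom.congr_fun hΔ d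
  simp only [AlgHom.comp_apply] at n1 n3 ⊢
  refine (n1.trans ?_).trans n3.symm
  rw [n4]
  exact Coalgebra.lTensor_counit_comul (R := A ⧸ 𝔪) (π d)

include hΔ in
theorem cocomm_of [Coalgebra.IsCocomm (A ⧸ 𝔪) D₀] :
    (Algebra.TensorProduct.comm A D D).toAlgHom.comp Δ = Δ := by
  apply (isRed_redT hπ hπ).eq_of_comp_eq h𝔪.jac
  apply AlgHom.ext
  intro d
  have n3 := AlgHom.congr_fun (redT_comp_comm 𝔪 π π) (Δ d)
  have n4 : redT 𝔪 π π (Δ d) = Coalgebra.comul (R := A ⧸ 𝔪) (π d) := AlgHom.congr_fun hΔ d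
  simp only [AlgHom.comp_apply] at n3 ⊢
  refine n3.trans ?_
  rw [n4]
  exact Coalgebra.comm_comul (R := A ⧸ 𝔪) (π d)

omit h𝔪 hπ [Module.Finite A D] [Algebra.Etale A D] [Algebra A D₀] [IsScalarTower A (A ⧸ 𝔪) D₀] in
theorem lift_antipode_id (t : D₀ ⊗[A ⧸ 𝔪] D₀) :
    Algebra.TensorProduct.lift (HopfAlgebra.antipodeAlgHom (A ⧸ 𝔪) D₀) (AlgHom.id (A ⧸ 𝔪) D₀)
      (fun _ _ => Commute.all _ _) t =
      LinearMap.mul' (A ⧸ 𝔪) D₀ ((HopfAlgebra.antipode (A ⧸ 𝔪)).rTensor D₀ t) := by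
  induction t using TensorProduct.induction_on with
  | zero => simp
  | tmul a b => simp
  | add x y hx hy => rw [map_add, hx, hy, map_add, map_add]

omit h𝔪 hπ [Module.Finite A D] [Algebra.Etale A D] [Algebra A D₀] [IsScalarTower A (A ⧸ 𝔪) D₀] in
theorem lift_id_antipode (t : D₀ ⊗[A ⧸ 𝔪] D₀) :
    Algebra.TensorProduct.lift (AlgHom.id (A ⧸ 𝔪) D₀) (HopfAlgebra.antipodeAlgHom (A ⧸ 𝔪) D₀)
      (fun _ _ => Commute.all _ _) t =
      LinearMap.mul' (A ⧸ 𝔪) D₀ ((HopfAlgebra.antipode (A ⧸ 𝔪)).lTensor D₀ t) := by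
  induction t using TensorProduct.induction_on with
  | zero => simp
  | tmul a b => simp
  | add x y hx hy => rw [map_add, hx, hy, map_add, map_add]

include hΔ hε hσ in
theorem antipode_rTensor_of :
    (Algebra.TensorProduct.lift σ (.id A D) fun _ _ => Commute.all _ _).comp Δ =
      (Algebra.ofId A D).comp ε := by
  apply hπ.eq_of_comp_eq h𝔪.jac
  apply AlgHom.ext
  intro d
  have n1 := AlgHom.congr_fun (comp_lift 𝔪 hσ (hid (π := π))) (Δ d)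
  have n3 := AlgHom.congr_fun (comp_ofId 𝔪 π) (ε d)
  have n4 : redT 𝔪 π π (Δ d) = Coalgebra.comul (R := A ⧸ 𝔪) (π d) := AlgHom.congr_fun hΔ d
  have n5 : Ideal.Quotient.mk 𝔪 (ε d) = Coalgebra.counit (R := A ⧸ 𝔪) (π d) :=
    AlgHom.congr_fun hε d
  simp only [AlgHom.comp_apply] at n1 n3 ⊢
  refine (n1.trans ?_).trans n3.symm
  rw [n4]
  simp only [AlgHom.restrictScalars_apply, Ideal.Quotient.mkₐ_eq_mk, n5, Algebra.ofId_apply]
  rw [lift_antipode_id]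
  exact HopfAlgebra.mul_antipode_rTensor_comul_apply (R := A ⧸ 𝔪) (π d)

include hΔ hε hσ in
theorem antipode_lTensor_of :
    (Algebra.TensorProduct.lift (.id A D) σ fun _ _ => Commute.all _ _).comp Δ =
      (Algebra.ofId A D).comp ε := by
  apply hπ.eq_of_comp_eq h𝔪.jac
  apply AlgHom.ext
  intro d
  have n1 := AlgHom.congr_fun (comp_lift 𝔪 (hid (π := π)) hσ) (Δ d)
  have n3 := AlgHom.congr_fun (comp_ofId 𝔪 π) (ε d)
  have n4 : redT 𝔪 π π (Δ d) = Coalgebra.comul (R := A ⧸ 𝔪) (π d) := AlgHom.congr_fun hΔ d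
  have n5 : Ideal.Quotient.mk 𝔪 (ε d) = Coalgebra.counit (R := A ⧸ 𝔪) (π d) :=
    AlgHom.congr_fun hε d
  simp only [AlgHom.comp_apply] at n1 n3 ⊢
  refine (n1.trans ?_).trans n3.symm
  rw [n4]
  simp only [AlgHom.restrictScalars_apply, Ideal.Quotient.mkₐ_eq_mk, n5, Algebra.ofId_apply]
  rw [lift_id_antipode]
  exact HopfAlgebra.mul_antipode_lTensor_comul_apply (R := A ⧸ 𝔪) (π d)

end Lift

section Assemble

variable {A : Type u} [CommRing A] {𝔪 : Ideal A} (h𝔪 : HenselianRing A 𝔪)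
  {D D₀ : Type u} [CommRing D] [CommRing D₀] [Algebra A D] [Module.Finite A D] [Algebra.Etale A D]
  [HopfAlgebra (A ⧸ 𝔪) D₀] [Algebra A D₀] [IsScalarTower A (A ⧸ 𝔪) D₀]
  [Coalgebra.IsCocomm (A ⧸ 𝔪) D₀]

include h𝔪 in
theorem exists_hopf_of_algEquiv (θ : (A ⧸ 𝔪) ⊗[A] D ≃ₐ[A ⧸ 𝔪] D₀) :
    ∃ (D' : Type u) (_ : CommRing D') (_ : HopfAlgebra A D'), Module.Finite A D' ∧
      Algebra.Etale A D' ∧ Coalgebra.IsCocomm A D' ∧
      Nonempty ((A ⧸ 𝔪) ⊗[A] D' ≃ₐc[A ⧸ 𝔪] D₀) := by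
  let π : D →ₐ[A] D₀ := (θ.restrictScalars A).toAlgHom.comp Algebra.TensorProduct.includeRight
  have hπ : IsRed 𝔪 π := (isRed_includeRight 𝔪 D).comp_algEquiv (θ.restrictScalars A)
  have hπθ : ∀ d, θ ((1 : A ⧸ 𝔪) ⊗ₜ[A] d) = π d := fun d => rfl
  obtain ⟨Δ, hΔ⟩ := exists_comul h𝔪 hπ
  obtain ⟨ε, hε⟩ := exists_counit h𝔪 hπ
  obtain ⟨σ, hσ⟩ := exists_antipode h𝔪 hπ
  letI bi : Bialgebra A D := Bialgebra.ofAlgHom Δ ε (coassoc_of h𝔪 hπ hΔ) (rTensor_of h𝔪 hπ hΔ hε)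
    (lTensor_of h𝔪 hπ hΔ hε)
  have hc : Bialgebra.comulAlgHom A D = Δ := AlgHom.ext fun _ => rfl
  have he : Bialgebra.counitAlgHom A D = ε := AlgHom.ext fun _ => rfl
  letI hopf : HopfAlgebra A D := HopfAlgebra.ofAlgHom σ
    (by rw [hc, he]; exact antipode_rTensor_of h𝔪 hπ hΔ hε hσ)
    (by rw [hc, he]; exact antipode_lTensor_of h𝔪 hπ hΔ hε hσ)
  refine ⟨D, inferInstance, hopf, ‹Module.Finite A D›, ‹Algebra.Etale A D›, ?_, ?_⟩
  · constructor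
    have := cocomm_of h𝔪 hπ hΔ
    exact congrArg AlgHom.toLinearMap this
  · have hcomul : ∀ t : D ⊗[A] D,
        Algebra.TensorProduct.map (θ : _ →ₐ[A ⧸ 𝔪] D₀) (θ : _ →ₐ[A ⧸ 𝔪] D₀)
          (TensorProduct.AlgebraTensorModule.tensorTensorTensorComm A (A ⧸ 𝔪) A (A ⧸ 𝔪)
            (A ⧸ 𝔪) (A ⧸ 𝔪) D D (((1 : A ⧸ 𝔪) ⊗ₜ[A ⧸ 𝔪] (1 : A ⧸ 𝔪)) ⊗ₜ[A] t)) =
          redT 𝔪 π π t := by
      intro t
      induction t using TensorProduct.induction_on with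
      | zero => rw [TensorProduct.tmul_zero, LinearEquiv.map_zero, map_zero, map_zero]
      | tmul a b =>
        rw [TensorProduct.AlgebraTensorModule.tensorTensorTensorComm_tmul,
          Algebra.TensorProduct.map_tmul, redT_tmul]
        rfl
      | add x y hx hy =>
        rw [TensorProduct.tmul_add, LinearEquiv.map_add, map_add, hx, hy, map_add]
    refine ⟨BialgEquiv.ofAlgEquiv θ ?_ ?_⟩
    · apply Algebra.TensorProduct.ext
      · ext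
      · apply AlgHom.ext
        intro d
        have n5 : Ideal.Quotient.mk 𝔪 (ε d) = Coalgebra.counit (R := A ⧸ 𝔪) (π d) :=
          AlgHom.congr_fun hε d
        change Coalgebra.counit (R := A ⧸ 𝔪) (π d) =
          Coalgebra.counit (R := A ⧸ 𝔪) ((1 : A ⧸ 𝔪) ⊗ₜ[A] d)
        rw [← n5, TensorProduct.counit_tmul]
        change _ = ε d • (1 : A ⧸ 𝔪)
        rw [Algebra.smul_def, mul_one]
        rfl
    · apply Algebra.TensorProduct.ext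
      · ext
      · apply AlgHom.ext
        intro d
        have n4 : redT 𝔪 π π (Δ d) = Coalgebra.comul (R := A ⧸ 𝔪) (π d) := AlgHom.congr_fun hΔ d
        change Algebra.TensorProduct.map (θ : _ →ₐ[A ⧸ 𝔪] D₀) (θ : _ →ₐ[A ⧸ 𝔪] D₀)
          (Coalgebra.comul (R := A ⧸ 𝔪) ((1 : A ⧸ 𝔪) ⊗ₜ[A] d)) =
          Coalgebra.comul (R := A ⧸ 𝔪) (π d)
        rw [TensorProduct.comul_tmul, CommSemiring.comul_apply, ← n4]
        exact hcomul (Δ d)

end Assemble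

section Main

variable {A : Type u} [CommRing A] {𝔪 : Ideal A}

/-- a finite etale cocommutative Hopf algebra over `A ⧸ 𝔪` lifts to `A`, for a henselian pair. -/
theorem exists_hopf_lift (h𝔪 : HenselianRing A 𝔪) (D₀ : Type u) [CommRing D₀]
    [HopfAlgebra (A ⧸ 𝔪) D₀] [Module.Finite (A ⧸ 𝔪) D₀] [Algebra.Etale (A ⧸ 𝔪) D₀]
    [Coalgebra.IsCocomm (A ⧸ 𝔪) D₀] :
    ∃ (D : Type u) (_ : CommRing D) (_ : HopfAlgebra A D), Module.Finite A D ∧
      Algebra.Etale A D ∧ Coalgebra.IsCocomm A D ∧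
      Nonempty ((A ⧸ 𝔪) ⊗[A] D ≃ₐc[A ⧸ 𝔪] D₀) := by
  obtain ⟨D, _, _, hfin, het, ⟨θ⟩⟩ :=
    Groth.Agent.Lib.helper26.FiniteEtaleLift.exists_finite_etale_lift 𝔪 h𝔪 D₀
  letI : Algebra A D₀ := Algebra.compHom D₀ (algebraMap A (A ⧸ 𝔪))
  haveI : IsScalarTower A (A ⧸ 𝔪) D₀ := IsScalarTower.of_algebraMap_eq (fun _ => rfl)
  exact exists_hopf_of_algEquiv h𝔪 θ

end Main

end Groth.Agent.Lib.helper15.HopfLift
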