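import Mathlib

/-!
# Conjugacy of complete families of orthogonal idempotent matrices (helper15)

* `rank_map_algebraMap`: the rank of a square matrix over a field does not change under a field
  extension.
* `exists_conj_of_rank_eq`: two complete families of orthogonal idempotent matrices over a field
  with the same ranks are conjugate by an invertible matrix.
-/

set_option autoImplicit false
set_option linter.unusedSectionVars false
universe u

namespace Groth.Agent.Lib.helper15.IdemConj

open Matrix

section Rank

theorem rank_block (F : Type*) [Field F] {ι : Type*} [Fintype ι] [DecidableEq ι] (r s : ℕ)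
    (e : ι ≃ Fin r ⊕ Fin s) :
    ((fromBlocks (1 : Matrix (Fin r) (Fin r) F) 0 0 (0 : Matrix (Fin s) (Fin s) F)).submatrix
      e e).rank = r := by
  classical
  rw [rank_submatrix, ← diagonal_one, ← diagonal_zero, fromBlocks_diagonal, rank_diagonal]
  rw [Fintype.card_subtype]
  have : (Finset.univ.filter fun i : Fin r ⊕ Fin s =>
      Sum.elim (fun _ : Fin r => (1 : F)) (fun _ : Fin s => (0 : F)) i ≠ 0) =
      Finset.univ.map ⟨Sum.inl, Sum.inl_injective⟩ := by
    ext i
    rcases i with i | i <;> simp
  rw [this, Finset.card_map, Finset.card_univ, Fintype.card_fin]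

theorem rank_map_algebraMap (k K : Type*) [Field k] [Field K] [Algebra k K] {m : ℕ}
    (M : Matrix (Fin m) (Fin m) k) : (M.map (algebraMap k K)).rank = M.rank := by
  obtain ⟨V, U, e, hV, hU, h⟩ := exists_rank_normal_form M
  have h2 := congrArg (fun A => A.map (algebraMap k K)) h
  simp only [Matrix.map_mul] at h2
  have hV' : IsUnit (V.map (algebraMap k K)).det := by
    have := (isUnit_iff_isUnit_det _).1 hV
    rw [← RingHom.mapMatrix_apply, ← RingHom.map_det]
    exact this.map _
  have hU' : IsUnit (U.map (algebraMap k K)).det := by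
    have := (isUnit_iff_isUnit_det _).1 hU
    rw [← RingHom.mapMatrix_apply, ← RingHom.map_det]
    exact this.map _
  rw [← rank_mul_eq_left_of_isUnit_det _ _ hU', ← rank_mul_eq_right_of_isUnit_det _ _ hV',
    ← Matrix.mul_assoc, h2]
  have h3 : ((fromBlocks (1 : Matrix (Fin M.rank) (Fin M.rank) k) 0 0
      (0 : Matrix (Fin (Fintype.card (Fin m) - M.rank)) (Fin (Fintype.card (Fin m) - M.rank)) k)).submatrix
        e e).map (algebraMap k K) =
      (fromBlocks (1 : Matrix (Fin M.rank) (Fin M.rank) K) 0 0
      (0 : Matrix (Fin (Fintype.card (Fin m) - M.rank)) (Fin (Fintype.card (Fin m) - M.rank)) K)).submatrix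
        e e := by
    rw [← submatrix_map, fromBlocks_map]
    simp
  rw [h3, rank_block]

end Rank

section Conj

variable {k : Type*} [Field k] {ι : Type*} [Fintype ι] [DecidableEq ι] {m : ℕ}

theorem exists_conj_of_rank_eq (P Q : ι → Matrix (Fin m) (Fin m) k)
    (hP : ∀ a b, P a * P b = if a = b then P a else 0) (hP1 : ∑ a, P a = 1)
    (hQ : ∀ a b, Q a * Q b = if a = b then Q a else 0)
    (hr : ∀ a, (P a).rank = (Q a).rank) :
    ∃ g : Matrix (Fin m) (Fin m) k, IsUnit g.det ∧ ∀ a, g * P a = Q a * g := by
  classical
  let p : ι → (Fin m → k) →ₗ[k] (Fin m → k) := fun a => Matrix.toLin' (P a)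
  let q : ι → (Fin m → k) →ₗ[k] (Fin m → k) := fun a => Matrix.toLin' (Q a)
  have hpp : ∀ a b, p a ∘ₗ p b = if a = b then p a else 0 := by
    intro a b
    change Matrix.toLin' (P a) ∘ₗ Matrix.toLin' (P b) = _
    rw [← Matrix.toLin'_mul, hP]
    split_ifs <;> simp [p]
  have hqq : ∀ a b, q a ∘ₗ q b = if a = b then q a else 0 := by
    intro a b
    change Matrix.toLin' (Q a) ∘ₗ Matrix.toLin' (Q b) = _
    rw [← Matrix.toLin'_mul, hQ]
    split_ifs <;> simp [q]
  have hp1 : ∑ a, p a = LinearMap.id := by
    change ∑ a, Matrix.toLin' (P a) = _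
    rw [← map_sum, hP1, Matrix.toLin'_one]
  have hfr : ∀ a, Module.finrank k (LinearMap.range (p a)) = Module.finrank k (LinearMap.range (q a)) :=
    fun a => hr a
  let θ : ∀ a, LinearMap.range (p a) ≃ₗ[k] LinearMap.range (q a) :=
    fun a => LinearEquiv.ofFinrankEq _ _ (hfr a)
  let h : ι → (Fin m → k) →ₗ[k] (Fin m → k) := fun a =>
    (LinearMap.range (q a)).subtype ∘ₗ (θ a).toLinearMap ∘ₗ (p a).rangeRestrict
  let h' : ι → (Fin m → k) →ₗ[k] (Fin m → k) := fun a =>
    (LinearMap.range (p a)).subtype ∘ₗ (θ a).symm.toLinearMap ∘ₗ (q a).rangeRestrict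
  -- F2
  have hF2 : ∀ a b, h a ∘ₗ p b = if a = b then h a else 0 := by
    intro a b
    have e : (p a).rangeRestrict ∘ₗ p b = if a = b then (p a).rangeRestrict else 0 := by
      apply LinearMap.ext
      intro v
      apply Subtype.ext
      have := congrArg (fun φ => φ v) (hpp a b)
      simp only [LinearMap.comp_apply] at this
      split_ifs with hab
      · simpa [hab] using this
      · simpa [hab] using this
    change (LinearMap.range (q a)).subtype ∘ₗ (θ a).toLinearMap ∘ₗ ((p a).rangeRestrict ∘ₗ p b) = _
    rw [e]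
    split_ifs <;> simp [h]
  -- F1
  have hF1 : ∀ a b, q b ∘ₗ h a = if a = b then h a else 0 := by
    intro a b
    apply LinearMap.ext
    intro v
    have hv : h a v ∈ LinearMap.range (q a) := ((θ a) ((p a).rangeRestrict v)).2
    obtain ⟨w, hw⟩ := hv
    have := congrArg (fun φ => φ w) (hqq b a)
    simp only [LinearMap.comp_apply] at this
    rw [LinearMap.comp_apply, ← hw, this]
    by_cases hab : a = b
    · subst hab; simpa using hw
    · have hba : ¬ b = a := fun e => hab e.symm
      simp [hab, hba]
  -- F3
  have hF3 : ∀ a b, h' a ∘ₗ h b = if a = b then p a else 0 := by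
    intro a b
    apply LinearMap.ext
    intro v
    by_cases hab : a = b
    · subst hab
      have e1 : (q a).rangeRestrict (h a v) = θ a ((p a).rangeRestrict v) := by
        apply Subtype.ext
        have := congrArg (fun φ => φ v) (hF1 a a)
        simp only [LinearMap.comp_apply, if_true] at this
        exact this
      change ((LinearMap.range (p a)).subtype ((θ a).symm ((q a).rangeRestrict (h a v)))) = _
      rw [e1, LinearEquiv.symm_apply_apply]
      simp
    · have e1 : (q a).rangeRestrict (h b v) = 0 := by
        apply Subtype.ext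
        have := congrArg (fun φ => φ v) (hF1 b a)
        have hba : ¬ b = a := fun e => hab e.symm
        simp only [LinearMap.comp_apply, hba, if_false, LinearMap.zero_apply] at this
        exact this
      change ((LinearMap.range (p a)).subtype ((θ a).symm ((q a).rangeRestrict (h b v)))) = _
      rw [e1]
      simp [hab]
  let g : (Fin m → k) →ₗ[k] (Fin m → k) := ∑ a, h a
  let g' : (Fin m → k) →ₗ[k] (Fin m → k) := ∑ a, h' a
  have hg1 : ∀ b, g ∘ₗ p b = h b := by
    intro b
    apply LinearMap.ext
    intro v
    change (∑ a, h a) (p b v) = _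
    rw [LinearMap.sum_apply]
    have : ∀ a, h a (p b v) = (if a = b then h a else 0) v := fun a => by
      rw [← hF2 a b]; rfl
    simp only [this]
    rw [← LinearMap.sum_apply]
    simp
  have hg2 : ∀ b, q b ∘ₗ g = h b := by
    intro b
    apply LinearMap.ext
    intro v
    change q b ((∑ a, h a) v) = _
    rw [LinearMap.sum_apply, map_sum]
    have : ∀ a, q b (h a v) = (if a = b then h a else 0) v := fun a => by
      rw [← hF1 a b]; rfl
    simp only [this]
    rw [← LinearMap.sum_apply]
    simp
  have hg3 : g' ∘ₗ g = LinearMap.id := by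
    apply LinearMap.ext
    intro v
    change (∑ a, h' a) ((∑ b, h b) v) = _
    rw [LinearMap.sum_apply]
    have : ∀ a, h' a ((∑ b, h b) v) = p a v := fun a => by
      rw [LinearMap.sum_apply, map_sum]
      have h2 : ∀ b, h' a (h b v) = (if a = b then p a else 0) v := fun b => by
        rw [← hF3 a b]; rfl
      simp only [h2]
      rw [← LinearMap.sum_apply]
      simp
    simp only [this]
    rw [← LinearMap.sum_apply, hp1]
  refine ⟨LinearMap.toMatrix' g, ?_, ?_⟩
  · apply Matrix.isUnit_det_of_left_inverse (B := LinearMap.toMatrix' g')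
    rw [← LinearMap.toMatrix'_comp, hg3, LinearMap.toMatrix'_id]
  · intro a
    have e1 : LinearMap.toMatrix' (p a) = P a := LinearMap.toMatrix'_toLin' _
    have e2 : LinearMap.toMatrix' (q a) = Q a := LinearMap.toMatrix'_toLin' _
    rw [← e1, ← e2, ← LinearMap.toMatrix'_comp, ← LinearMap.toMatrix'_comp, hg1, hg2]

end Conj

end Groth.Agent.Lib.helper15.IdemConj
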