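import Mathlib
import Groth.Agent.Lib.Helper15.IdemConj

/-!
# More on complete families of orthogonal idempotent matrices (helper15)

* `sum_rank_eq`: the ranks of a complete family of orthogonal idempotents add up to the size.
* `exists_fibre_fn`: a function `Fin m → ι` with prescribed fibre cardinalities.
* `diagIdem c a`: the diagonal idempotent with ones at the places `i` with `c i = a`; its rank.
-/

set_option autoImplicit false
set_option linter.unusedSectionVars false
universe u

namespace Groth.Agent.Lib.helper15.IdemConj

open Matrix

variable {k : Type*} [Field k] {ι : Type*} [Fintype ι] [DecidableEq ι] {m : ℕ}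

theorem sum_rank_eq (P : ι → Matrix (Fin m) (Fin m) k)
    (hP : ∀ a b, P a * P b = if a = b then P a else 0) (hP1 : ∑ a, P a = 1) :
    ∑ a, (P a).rank = m := by
  classical
  let p : ι → (Fin m → k) →ₗ[k] (Fin m → k) := fun a => Matrix.toLin' (P a)
  have hpp : ∀ a b, p a ∘ₗ p b = if a = b then p a else 0 := by
    intro a b
    change Matrix.toLin' (P a) ∘ₗ Matrix.toLin' (P b) = _
    rw [← Matrix.toLin'_mul, hP]
    split_ifs <;> simp [p]
  have hp1 : ∑ a, p a = LinearMap.id := by
    change ∑ a, Matrix.toLin' (P a) = _
    rw [← map_sum, hP1, Matrix.toLin'_one]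
  let e : (Fin m → k) ≃ₗ[k] (∀ a, LinearMap.range (p a)) :=
    { toFun := fun v a => (p a).rangeRestrict v
      map_add' := fun v w => by funext a; simp
      map_smul' := fun c v => by funext a; simp
      invFun := fun w => ∑ a, (w a : Fin m → k)
      left_inv := fun v => by
        change ∑ a, p a v = v
        rw [← LinearMap.sum_apply, hp1]
        rfl
      right_inv := fun w => by
        funext b
        apply Subtype.ext
        change p b (∑ a, (w a : Fin m → k)) = w b
        rw [map_sum]
        have : ∀ a, p b (w a : Fin m → k) = if a = b then (w a : Fin m → k) else 0 := by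
          intro a
          obtain ⟨u, hu⟩ := (w a).2
          rw [← hu]
          have := congrArg (fun φ => φ u) (hpp b a)
          simp only [LinearMap.comp_apply] at this
          rw [this]
          by_cases hab : a = b
          · subst hab; simp
          · have hba : ¬ b = a := fun e => hab e.symm
            simp [hab, hba]
        simp only [this]
        simp }
  have h1 := e.finrank_eq
  rw [Module.finrank_fin_fun, Module.finrank_pi_fintype] at h1
  exact h1.symm

theorem exists_fibre_fn (d : ι → ℕ) (hd : ∑ a, d a = m) :
    ∃ c : Fin m → ι, ∀ a, Fintype.card {i // c i = a} = d a := by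
  have hcard : Fintype.card (Fin m) = Fintype.card (Σ a, Fin (d a)) := by
    simp [hd]
  let e : Fin m ≃ Σ a, Fin (d a) := Fintype.equivOfCardEq hcard
  refine ⟨fun i => (e i).1, fun a => ?_⟩
  have e2 : {i // (e i).1 = a} ≃ Fin (d a) :=
    (e.subtypeEquiv (p := fun i => (e i).1 = a) (q := fun s => s.1 = a) (fun i => Iff.rfl)).trans
      (Equiv.sigmaSubtype a)
  rw [Fintype.card_congr e2, Fintype.card_fin]

/-- the diagonal idempotent attached to `c : Fin m → ι` and `a : ι`. -/
def diagIdem (k : Type*) [Field k] (c : Fin m → ι) (a : ι) : Matrix (Fin m) (Fin m) k :=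
  Matrix.diagonal fun i => if c i = a then 1 else 0

theorem rank_diagIdem (c : Fin m → ι) (a : ι) :
    (diagIdem k c a).rank = Fintype.card {i // c i = a} := by
  classical
  rw [diagIdem, rank_diagonal]
  apply Fintype.card_congr
  refine Equiv.subtypeEquivRight fun i => ?_
  by_cases h : c i = a <;> simp [h]

theorem diagIdem_mul (c : Fin m → ι) (a b : ι) :
    diagIdem k c a * diagIdem k c b = if a = b then diagIdem k c a else 0 := by
  rw [diagIdem, diagIdem, Matrix.diagonal_mul_diagonal]
  by_cases hab : a = b
  · subst hab
    simp only [if_true]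
    congr 1
    funext i
    by_cases h : c i = a <;> simp [h]
  · simp only [hab, if_false]
    rw [← Matrix.diagonal_zero]
    congr 1
    funext i
    by_cases h : c i = a
    · have : ¬ c i = b := fun e => hab (h.symm.trans e)
      simp [h, hab]
    · simp [h]

theorem sum_diagIdem (c : Fin m → ι) : ∑ a, diagIdem k c a = 1 := by
  ext i j
  rw [Matrix.sum_apply]
  simp only [diagIdem, Matrix.diagonal_apply, Matrix.one_apply]
  by_cases hij : i = j
  · simp [hij]
  · simp [hij]

theorem diagIdem_map (K : Type*) [Field K] [Algebra k K] (c : Fin m → ι) (a : ι) :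
    (diagIdem k c a).map (algebraMap k K) = diagIdem K c a := by
  rw [diagIdem, diagIdem, Matrix.diagonal_map (map_zero _)]
  congr 1
  funext i
  by_cases h : c i = a <;> simp [h]

theorem eq_zero_of_rank_eq_zero (A : Matrix (Fin m) (Fin m) k) (h : A.rank = 0) : A = 0 := by
  have h1 : LinearMap.range A.mulVecLin = ⊥ := Submodule.finrank_eq_zero.1 h
  have h2 : A.mulVecLin = 0 := LinearMap.range_eq_bot.1 h1
  have h3 : Matrix.toLin' A = 0 := h2
  have := congrArg LinearMap.toMatrix' h3
  simpa using this

end Groth.Agent.Lib.helper15.IdemConj
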