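import Mathlib
import Groth.Agent.Lib.Helper23.TA1

/-!
# helper15: lifting acyclicity and flatness along a square-zero thickening (module level)

`X` a `ℤ`-indexed complex of flat `A`-modules, `J` an ideal of square zero, `Y` a complex of flat
`A ⧸ J`-modules with a termwise surjection `π : X → Y` whose kernel is `J X`.  If `Y` is exact
in degrees `≤ b` and the cokernel of `Y b → Y (b+1)` is flat over `A ⧸ J`, then `N ⊗ X` is exact in
degrees `≤ b` for every `A`-module `N`, so `X` is exact there and the cokernel of `X b → X (b+1)`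
is flat over `A`.
-/

set_option autoImplicit false
set_option linter.style.haveILetI false
universe u
open TensorProduct

namespace Groth.Agent.Lib.helper15.KosSqZero

open Groth.Agent.Lib.helper23.TA

/-- transport of exactness along additive equivalences. -/
lemma exact_of_addEquiv' {M₁ M₂ M₃ M₁' M₂' M₃' : Type*} [AddCommGroup M₁] [AddCommGroup M₂]
    [AddCommGroup M₃] [AddCommGroup M₁'] [AddCommGroup M₂'] [AddCommGroup M₃']
    (f : M₁ → M₂) (g : M₂ → M₃) (f' : M₁' → M₂') (g' : M₂' → M₃')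
    (e₁ : M₁ ≃+ M₁') (e₂ : M₂ ≃+ M₂') (e₃ : M₃ ≃+ M₃')
    (h₁ : ∀ x, e₂ (f x) = f' (e₁ x)) (h₂ : ∀ x, e₃ (g x) = g' (e₂ x))
    (h : Function.Exact f' g') : Function.Exact f g := by
  intro y
  constructor
  · intro hy
    have h0 : g' (e₂ y) = 0 := by rw [← h₂, hy, map_zero]
    obtain ⟨x', hx'⟩ := (h _).1 h0
    refine ⟨e₁.symm x', e₂.injective ?_⟩
    rw [h₁, AddEquiv.apply_symm_apply, hx']
  · rintro ⟨x, rfl⟩
    apply e₃.injective
    rw [h₂, h₁, map_zero]
    exact h.apply_apply_eq_zero _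

section LemmaB

variable {R : Type u} [CommRing R]
variable (X : ℤ → Type u) [∀ i, AddCommGroup (X i)] [∀ i, Module R (X i)]
  (d : ∀ i, X i →ₗ[R] X (i + 1))

/-- the map `coker (d i) → X (i+1+1)` induced by `d (i+1)` -/
noncomputable def cokerMap (i : ℤ) (h : Function.Exact (d i) (d (i + 1))) :
    (X (i + 1) ⧸ LinearMap.range (d i)) →ₗ[R] X (i + 1 + 1) :=
  (LinearMap.range (d i)).liftQ (d (i + 1)) (by
    rintro _ ⟨x, rfl⟩
    exact h.apply_apply_eq_zero x)

lemma cokerMap_comp_mkQ (i : ℤ) (h : Function.Exact (d i) (d (i + 1))) :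
    cokerMap X d i h ∘ₗ (LinearMap.range (d i)).mkQ = d (i + 1) :=
  Submodule.liftQ_mkQ _ _ _

lemma cokerMap_injective (i : ℤ) (h : Function.Exact (d i) (d (i + 1))) :
    Function.Injective (cokerMap X d i h) := by
  rw [← LinearMap.ker_eq_bot]
  exact Submodule.ker_liftQ_eq_bot _ _ _ (le_of_eq (LinearMap.exact_iff.1 h))

lemma exact_cokerMap_mkQ (i : ℤ) (h : Function.Exact (d i) (d (i + 1))) :
    Function.Exact (cokerMap X d i h) (LinearMap.range (d (i + 1))).mkQ := by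
  rw [LinearMap.exact_iff, Submodule.ker_mkQ, cokerMap, Submodule.range_liftQ]

/-- the cokernels of the differentials are flat in the exact range, if the last one is. -/
theorem flat_coker (hflat : ∀ i, Module.Flat R (X i)) (b : ℤ)
    (hex : ∀ i, i < b → Function.Exact (d i) (d (i + 1)))
    (hQ : Module.Flat R (X (b + 1) ⧸ LinearMap.range (d b))) :
    ∀ i, i ≤ b → Module.Flat R (X (i + 1) ⧸ LinearMap.range (d i)) := by
  suffices H : ∀ (n : ℕ) (i : ℤ), i + n = b →
      Module.Flat R (X (i + 1) ⧸ LinearMap.range (d i)) by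
    intro i hi
    exact H (b - i).toNat i (by rw [Int.toNat_of_nonneg (by omega)]; ring)
  intro n
  induction n with
  | zero =>
    intro i hi
    have : i = b := by simpa using hi
    subst this
    exact hQ
  | succ n ih =>
    intro i hi
    have hib : i < b := by push_cast at hi; omega
    haveI : Module.Flat R (X (i + 1 + 1) ⧸ LinearMap.range (d (i + 1))) :=
      ih (i + 1) (by push_cast at hi; omega)
    haveI := hflat (i + 1 + 1)
    exact flat_of_exact (cokerMap X d i (hex i hib)) (LinearMap.range (d (i + 1))).mkQ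
      (cokerMap_injective X d i (hex i hib)) (Submodule.mkQ_surjective _)
      (exact_cokerMap_mkQ X d i (hex i hib))

/-- universal coefficients: a complex of flat modules, exact in degrees `≤ b` and with flat
cokernel of `d b`, stays exact in degrees `≤ b` after tensoring with any module. -/
theorem lTensor_exact_of_flat_coker (hflat : ∀ i, Module.Flat R (X i)) (b : ℤ)
    (hex : ∀ i, i < b → Function.Exact (d i) (d (i + 1)))
    (hQ : Module.Flat R (X (b + 1) ⧸ LinearMap.range (d b)))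
    (N : Type u) [AddCommGroup N] [Module R N] (i : ℤ) (hi : i < b) :
    Function.Exact ((d i).lTensor N) ((d (i + 1)).lTensor N) := by
  have e0 := hex i hi
  haveI : Module.Flat R (X (i + 1 + 1) ⧸ LinearMap.range (d (i + 1))) :=
    flat_coker X d hflat b hex hQ (i + 1) (by omega)
  have hinj : Function.Injective ((cokerMap X d i e0).lTensor N) :=
    LinearMap.lTensor_injective_of_exact_of_flat (LinearMap.range (d (i + 1))).mkQ
      (Submodule.mkQ_surjective _) _ (cokerMap_injective X d i e0)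
      (exact_cokerMap_mkQ X d i e0) N
  have hmid : Function.Exact ((d i).lTensor N) ((LinearMap.range (d i)).mkQ.lTensor N) :=
    lTensor_exact N (LinearMap.exact_map_mkQ_range (d i)) (Submodule.mkQ_surjective _)
  have h2 : (d (i + 1)).lTensor N =
      ((cokerMap X d i e0).lTensor N) ∘ₗ ((LinearMap.range (d i)).mkQ.lTensor N) := by
    rw [← LinearMap.lTensor_comp, cokerMap_comp_mkQ]
  rw [h2, Function.Injective.comp_exact_iff_exact hinj]
  exact hmid

end LemmaB

section Chase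

variable {R : Type*} [Ring R]
  {X₁' X₁ X₁'' X₂' X₂ X₂'' X₃' X₃ X₃'' : Type*}
  [AddCommGroup X₁'] [AddCommGroup X₁] [AddCommGroup X₁'']
  [AddCommGroup X₂'] [AddCommGroup X₂] [AddCommGroup X₂'']
  [AddCommGroup X₃'] [AddCommGroup X₃] [AddCommGroup X₃'']
  [Module R X₁'] [Module R X₁] [Module R X₁'']
  [Module R X₂'] [Module R X₂] [Module R X₂'']
  [Module R X₃'] [Module R X₃] [Module R X₃'']

/-- middle exactness in a short exact sequence of three-term complexes. -/
theorem exact_middle (a₁' : X₁' →ₗ[R] X₁) (a₁ : X₁ →ₗ[R] X₁'')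
    (a₂' : X₂' →ₗ[R] X₂) (a₂ : X₂ →ₗ[R] X₂'')
    (a₃' : X₃' →ₗ[R] X₃) (a₃ : X₃ →ₗ[R] X₃'')
    (d₁' : X₁' →ₗ[R] X₂') (d₂' : X₂' →ₗ[R] X₃')
    (d₁ : X₁ →ₗ[R] X₂) (d₂ : X₂ →ₗ[R] X₃)
    (d₁'' : X₁'' →ₗ[R] X₂'') (d₂'' : X₂'' →ₗ[R] X₃'')
    (c1' : ∀ x, a₂' (d₁' x) = d₁ (a₁' x)) (c2' : ∀ x, a₃' (d₂' x) = d₂ (a₂' x))
    (c1 : ∀ x, a₂ (d₁ x) = d₁'' (a₁ x)) (c2 : ∀ x, a₃ (d₂ x) = d₂'' (a₂ x))
    (ha₁ : Function.Surjective a₁) (ha₂ : Function.Exact a₂' a₂) (ha₃ : Function.Injective a₃')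
    (hd : ∀ x, d₂ (d₁ x) = 0)
    (h' : Function.Exact d₁' d₂') (h'' : Function.Exact d₁'' d₂'') :
    Function.Exact d₁ d₂ := by
  intro x
  constructor
  · intro hx
    have h1 : d₂'' (a₂ x) = 0 := by rw [← c2, hx, map_zero]
    obtain ⟨y'', hy''⟩ := (h'' _).1 h1
    obtain ⟨y, rfl⟩ := ha₁ y''
    have h2 : a₂ (x - d₁ y) = 0 := by rw [map_sub, c1, hy'', sub_self]
    obtain ⟨x', hx'⟩ := (ha₂ _).1 h2
    have h3 : a₃' (d₂' x') = 0 := by rw [c2', hx', map_sub, hx, hd, sub_self]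
    have h4 : d₂' x' = 0 := by
      apply ha₃
      rw [h3, map_zero]
    obtain ⟨y', hy'⟩ := (h' _).1 h4
    refine ⟨y + a₁' y', ?_⟩
    rw [map_add, ← c1', hy', hx']
    abel
  · rintro ⟨y, rfl⟩
    exact hd y

end Chase

section LemmaA

variable {A : Type u} [CommRing A] (J : Ideal A)

/-- dévissage along `0 → J N → N → N / J N → 0` for a square-zero ideal `J`. -/
theorem lTensor_exact_of_sqZero (hJ : J * J = ⊥) {X₁ X₂ X₃ : Type u}
    [AddCommGroup X₁] [Module A X₁] [AddCommGroup X₂] [Module A X₂] [AddCommGroup X₃] [Module A X₃]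
    [Module.Flat A X₃] (d₁ : X₁ →ₗ[A] X₂) (d₂ : X₂ →ₗ[A] X₃) (hd : d₂ ∘ₗ d₁ = 0)
    (h : ∀ (N : Type u) [AddCommGroup N] [Module A N], (∀ j ∈ J, ∀ n : N, j • n = 0) →
      Function.Exact (d₁.lTensor N) (d₂.lTensor N))
    (N : Type u) [AddCommGroup N] [Module A N] :
    Function.Exact (d₁.lTensor N) (d₂.lTensor N) := by
  let N' : Submodule A N := J • ⊤
  have hN' : ∀ j ∈ J, ∀ n : N', j • n = 0 := by
    intro j hj n
    apply Subtype.ext
    have h1 : j • (n : N) ∈ J • (J • (⊤ : Submodule A N)) := Submodule.smul_mem_smul hj n.2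
    rw [← Submodule.mul_smul, hJ, Submodule.bot_smul] at h1
    simpa using h1
  have hN'' : ∀ j ∈ J, ∀ n : N ⧸ N', j • n = 0 := by
    intro j hj n
    obtain ⟨n, rfl⟩ := N'.mkQ_surjective n
    rw [← map_smul, Submodule.mkQ_apply, Submodule.Quotient.mk_eq_zero]
    exact Submodule.smul_mem_smul hj Submodule.mem_top
  have hι : Function.Injective N'.subtype := Submodule.subtype_injective _
  have hq : Function.Surjective N'.mkQ := N'.mkQ_surjective
  have hιq : Function.Exact N'.subtype N'.mkQ := LinearMap.exact_subtype_mkQ N'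
  refine exact_middle (N'.subtype.rTensor X₁) (N'.mkQ.rTensor X₁)
    (N'.subtype.rTensor X₂) (N'.mkQ.rTensor X₂) (N'.subtype.rTensor X₃) (N'.mkQ.rTensor X₃)
    (d₁.lTensor N') (d₂.lTensor N') (d₁.lTensor N) (d₂.lTensor N)
    (d₁.lTensor (N ⧸ N')) (d₂.lTensor (N ⧸ N')) ?_ ?_ ?_ ?_ ?_ ?_ ?_ ?_ (h N' hN') (h (N ⧸ N') hN'')
  · intro x
    rw [← LinearMap.comp_apply, ← LinearMap.comp_apply, LinearMap.rTensor_comp_lTensor,
      LinearMap.lTensor_comp_rTensor]
  · intro x
    rw [← LinearMap.comp_apply, ← LinearMap.comp_apply, LinearMap.rTensor_comp_lTensor,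
      LinearMap.lTensor_comp_rTensor]
  · intro x
    rw [← LinearMap.comp_apply, ← LinearMap.comp_apply, LinearMap.rTensor_comp_lTensor,
      LinearMap.lTensor_comp_rTensor]
  · intro x
    rw [← LinearMap.comp_apply, ← LinearMap.comp_apply, LinearMap.rTensor_comp_lTensor,
      LinearMap.lTensor_comp_rTensor]
  · exact LinearMap.rTensor_surjective X₁ hq
  · exact rTensor_exact X₂ hιq hq
  · exact Module.Flat.rTensor_preserves_injective_linearMap N'.subtype hι
  · intro x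
    rw [← LinearMap.comp_apply, ← LinearMap.lTensor_comp, hd, LinearMap.lTensor_zero,
      LinearMap.zero_apply]

end LemmaA

section LemmaC

variable {A : Type u} [CommRing A] (J : Ideal A)

/-- if `J N = 0` and `π : X → Y` is surjective with kernel in `J X`, then `N ⊗ π` is bijective. -/
theorem lTensor_bijective_of_ker_le {N X Y : Type*} [AddCommGroup N] [Module A N]
    [AddCommGroup X] [Module A X] [AddCommGroup Y] [Module A Y]
    (hN : ∀ j ∈ J, ∀ n : N, j • n = 0) (π : X →ₗ[A] Y) (hπ : Function.Surjective π)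
    (hker : LinearMap.ker π ≤ J • ⊤) : Function.Bijective (π.lTensor N) := by
  refine ⟨?_, LinearMap.lTensor_surjective N hπ⟩
  have hex : Function.Exact ((LinearMap.ker π).subtype.lTensor N) (π.lTensor N) :=
    lTensor_exact N (LinearMap.exact_subtype_ker_map π) hπ
  have hz : (LinearMap.ker π).subtype.lTensor N = 0 := by
    apply TensorProduct.ext'
    intro n x
    rw [LinearMap.lTensor_tmul, LinearMap.zero_apply, Submodule.subtype_apply]
    have hx : (x : X) ∈ J • (⊤ : Submodule A X) := hker x.2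
    refine Submodule.smul_induction_on (p := fun y => n ⊗ₜ[A] y = 0) hx ?_ ?_
    · intro j hj y _
      rw [← TensorProduct.smul_tmul, hN j hj, TensorProduct.zero_tmul]
    · intro y z hy hz
      rw [TensorProduct.tmul_add, hy, hz, add_zero]
  rw [injective_iff_map_eq_zero]
  intro z hz'
  obtain ⟨w, rfl⟩ := (hex z).1 hz'
  rw [hz, LinearMap.zero_apply]

end LemmaC

section Core

variable {A : Type u} [CommRing A] (J : Ideal A)

/-- transfer of tensor-exactness from `A ⧸ J` to `A` for modules killed by `J`. -/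
theorem lTensor_exact_transfer
    {N : Type u} [AddCommGroup N] [Module A N] [Module (A ⧸ J) N] [IsScalarTower A (A ⧸ J) N]
    {X₁ X₂ X₃ Y₁ Y₂ Y₃ : Type u}
    [AddCommGroup X₁] [Module A X₁] [AddCommGroup X₂] [Module A X₂] [AddCommGroup X₃] [Module A X₃]
    [AddCommGroup Y₁] [Module A Y₁] [Module (A ⧸ J) Y₁] [IsScalarTower A (A ⧸ J) Y₁]
    [AddCommGroup Y₂] [Module A Y₂] [Module (A ⧸ J) Y₂] [IsScalarTower A (A ⧸ J) Y₂]
    [AddCommGroup Y₃] [Module A Y₃] [Module (A ⧸ J) Y₃] [IsScalarTower A (A ⧸ J) Y₃]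
    (d₁ : X₁ →ₗ[A] X₂) (d₂ : X₂ →ₗ[A] X₃) (e₁ : Y₁ →ₗ[A ⧸ J] Y₂) (e₂ : Y₂ →ₗ[A ⧸ J] Y₃)
    (π₁ : X₁ →ₗ[A] Y₁) (π₂ : X₂ →ₗ[A] Y₂) (π₃ : X₃ →ₗ[A] Y₃)
    (h₁ : Function.Surjective π₁) (h₂ : Function.Surjective π₂) (h₃ : Function.Surjective π₃)
    (k₁ : LinearMap.ker π₁ ≤ J • ⊤) (k₂ : LinearMap.ker π₂ ≤ J • ⊤)
    (k₃ : LinearMap.ker π₃ ≤ J • ⊤)
    (c₁ : ∀ x, π₂ (d₁ x) = e₁ (π₁ x)) (c₂ : ∀ x, π₃ (d₂ x) = e₂ (π₂ x))
    (h : Function.Exact (e₁.lTensor N) (e₂.lTensor N)) :
    Function.Exact (d₁.lTensor N) (d₂.lTensor N) := by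
  have hN : ∀ j ∈ J, ∀ n : N, j • n = 0 := by
    intro j hj n
    rw [← algebraMap_smul (A ⧸ J) j n, Ideal.Quotient.algebraMap_eq,
      Ideal.Quotient.eq_zero_iff_mem.2 hj, zero_smul]
  have hs : Function.Surjective (algebraMap A (A ⧸ J)) := Ideal.Quotient.mk_surjective
  haveI : TensorProduct.CompatibleSMul A (A ⧸ J) N Y₁ :=
    TensorProduct.CompatibleSMul.of_algebraMap_surjective N Y₁ hs
  haveI : TensorProduct.CompatibleSMul A (A ⧸ J) N Y₂ :=
    TensorProduct.CompatibleSMul.of_algebraMap_surjective N Y₂ hs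
  haveI : TensorProduct.CompatibleSMul A (A ⧸ J) N Y₃ :=
    TensorProduct.CompatibleSMul.of_algebraMap_surjective N Y₃ hs
  let ε₁ : N ⊗[A] X₁ ≃+ N ⊗[A ⧸ J] Y₁ :=
    (LinearEquiv.ofBijective (π₁.lTensor N)
      (lTensor_bijective_of_ker_le J hN π₁ h₁ k₁)).toAddEquiv.trans
      (TensorProduct.equivOfCompatibleSMul (A ⧸ J) A A N Y₁).toAddEquiv
  let ε₂ : N ⊗[A] X₂ ≃+ N ⊗[A ⧸ J] Y₂ :=
    (LinearEquiv.ofBijective (π₂.lTensor N)
      (lTensor_bijective_of_ker_le J hN π₂ h₂ k₂)).toAddEquiv.trans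
      (TensorProduct.equivOfCompatibleSMul (A ⧸ J) A A N Y₂).toAddEquiv
  let ε₃ : N ⊗[A] X₃ ≃+ N ⊗[A ⧸ J] Y₃ :=
    (LinearEquiv.ofBijective (π₃.lTensor N)
      (lTensor_bijective_of_ker_le J hN π₃ h₃ k₃)).toAddEquiv.trans
      (TensorProduct.equivOfCompatibleSMul (A ⧸ J) A A N Y₃).toAddEquiv
  refine exact_of_addEquiv' _ _ _ _ ε₁ ε₂ ε₃ ?_ ?_ h
  · intro z
    induction z using TensorProduct.induction_on with
    | zero => simp
    | tmul n x =>
      change n ⊗ₜ[A ⧸ J] π₂ (d₁ x) = n ⊗ₜ[A ⧸ J] e₁ (π₁ x)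
      rw [c₁]
    | add a b ha hb => rw [map_add, map_add, ha, hb, map_add, map_add]
  · intro z
    induction z using TensorProduct.induction_on with
    | zero => simp
    | tmul n x =>
      change n ⊗ₜ[A ⧸ J] π₃ (d₂ x) = n ⊗ₜ[A ⧸ J] e₂ (π₂ x)
      rw [c₂]
    | add a b ha hb => rw [map_add, map_add, ha, hb, map_add, map_add]

/-- **Core**: tensor-exactness of `X` in degrees `≤ b` from exactness of `Y = X / J X` there
together with flatness of the cokernel of `Y b → Y (b+1)`. -/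
theorem core (hJ : J * J = ⊥)
    (X : ℤ → Type u) [∀ i, AddCommGroup (X i)] [∀ i, Module A (X i)]
    (hXflat : ∀ i, Module.Flat A (X i)) (d : ∀ i, X i →ₗ[A] X (i + 1))
    (hdd : ∀ i, d (i + 1) ∘ₗ d i = 0)
    (Y : ℤ → Type u) [∀ i, AddCommGroup (Y i)] [∀ i, Module A (Y i)]
    [∀ i, Module (A ⧸ J) (Y i)] [∀ i, IsScalarTower A (A ⧸ J) (Y i)]
    (hYflat : ∀ i, Module.Flat (A ⧸ J) (Y i)) (dY : ∀ i, Y i →ₗ[A ⧸ J] Y (i + 1))
    (π : ∀ i, X i →ₗ[A] Y i) (hπ : ∀ i, Function.Surjective (π i))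
    (hker : ∀ i, LinearMap.ker (π i) ≤ J • ⊤)
    (hcomm : ∀ i x, π (i + 1) (d i x) = dY i (π i x))
    (b : ℤ) (hex : ∀ i, i < b → Function.Exact (dY i) (dY (i + 1)))
    (hQ : Module.Flat (A ⧸ J) (Y (b + 1) ⧸ LinearMap.range (dY b)))
    (N : Type u) [AddCommGroup N] [Module A N] (i : ℤ) (hi : i < b) :
    Function.Exact ((d i).lTensor N) ((d (i + 1)).lTensor N) := by
  haveI := hXflat (i + 1 + 1)
  refine lTensor_exact_of_sqZero J hJ (d i) (d (i + 1)) (hdd i) ?_ N
  intro N' _ _ hN'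
  have hT : Module.IsTorsionBySet A N' J := fun x a => hN' a.1 a.2 x
  letI : Module (A ⧸ J) N' := hT.module
  haveI : IsScalarTower A (A ⧸ J) N' := hT.isScalarTower
  exact lTensor_exact_transfer J (d i) (d (i + 1)) (dY i) (dY (i + 1)) (π i) (π (i + 1))
    (π (i + 1 + 1)) (hπ _) (hπ _) (hπ _) (hker _) (hker _) (hker _) (hcomm i) (hcomm (i + 1))
    (lTensor_exact_of_flat_coker Y dY hYflat b hex hQ N' i hi)

/-- exactness from tensor-exactness with the unit. -/
theorem exact_of_lTensor_self {X₁ X₂ X₃ : Type u}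
    [AddCommGroup X₁] [Module A X₁] [AddCommGroup X₂] [Module A X₂] [AddCommGroup X₃] [Module A X₃]
    (d₁ : X₁ →ₗ[A] X₂) (d₂ : X₂ →ₗ[A] X₃)
    (h : Function.Exact (d₁.lTensor A) (d₂.lTensor A)) : Function.Exact d₁ d₂ := by
  have key : ∀ {P Q : Type u} [AddCommGroup P] [Module A P] [AddCommGroup Q] [Module A Q]
      (f : P →ₗ[A] Q) (z : A ⊗[A] P),
      (TensorProduct.lid A Q) ((f.lTensor A) z) = f ((TensorProduct.lid A P) z) := by
    intro P Q _ _ _ _ f z
    induction z using TensorProduct.induction_on with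
    | zero => simp
    | tmul a x => simp
    | add a b ha hb => rw [map_add, map_add, ha, hb, map_add, map_add]
  refine exact_of_addEquiv' _ _ _ _ (TensorProduct.lid A X₁).symm.toAddEquiv
    (TensorProduct.lid A X₂).symm.toAddEquiv (TensorProduct.lid A X₃).symm.toAddEquiv ?_ ?_ h
  · intro x
    apply (TensorProduct.lid A X₂).injective
    change (TensorProduct.lid A X₂) ((TensorProduct.lid A X₂).symm (d₁ x)) =
      (TensorProduct.lid A X₂) ((d₁.lTensor A) ((TensorProduct.lid A X₁).symm x))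
    rw [key, LinearEquiv.apply_symm_apply, LinearEquiv.apply_symm_apply]
  · intro x
    apply (TensorProduct.lid A X₃).injective
    change (TensorProduct.lid A X₃) ((TensorProduct.lid A X₃).symm (d₂ x)) =
      (TensorProduct.lid A X₃) ((d₂.lTensor A) ((TensorProduct.lid A X₂).symm x))
    rw [key, LinearEquiv.apply_symm_apply, LinearEquiv.apply_symm_apply]

end Core

end Groth.Agent.Lib.helper15.KosSqZero
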