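import Mathlib
import Groth.Prelude.Def_Koszul
import Groth.Prelude.Def_LCI2
import Groth.Agent.Lib.Helper15.KosSqZeroA
import Groth.Agent.LibKoszulFlat29
import Groth.Agent.Lib.Helper7.KoszulLow

/-!
# helper15: Koszul-regular sequences and flatness lift along square-zero thickenings

Glue between the module-level statement of `KosSqZeroA` and the mapping-cone Koszul complexes.
-/

set_option autoImplicit false
set_option linter.style.haveILetI false
universe u
open CategoryTheory CategoryTheory.Limits CochainComplex ChangeOfRings TensorProduct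

namespace Groth.Agent.Lib.helper15.KosSqZero

section Unit

variable {B : Type u} [CommRing B] (I : Ideal B)

theorem one_tmul_eq_zero_iff' {M : Type u} [AddCommGroup M] [Module B M] (x : M) :
    ((1 : B ⧸ I) ⊗ₜ[B] x = 0) ↔ x ∈ (I • ⊤ : Submodule B M) := by
  rw [← (TensorProduct.quotTensorEquivQuotSMul M I).map_eq_zero_iff,
    TensorProduct.quotTensorEquivQuotSMul_mk_one_tmul, Submodule.Quotient.mk_eq_zero]

theorem mem_smul_top_of_tmul_eq_zero_aux [inst : Module B (B ⧸ I)]
    (hinst : ∀ (b : B) (y : B ⧸ I),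
      @SMul.smul B (B ⧸ I) inst.toDistribMulAction.toMulAction.toSMul b y =
        Ideal.Quotient.mk I b * y)
    {M : Type u} [AddCommGroup M] [Module B M] (x : M)
    (h : (1 : B ⧸ I) ⊗ₜ[B] x = 0) : x ∈ (I • ⊤ : Submodule B M) := by
  have : inst = Algebra.toModule := by
    refine Module.ext' _ _ (fun b y => (hinst b y).trans ?_)
    rw [Algebra.smul_def]
    rfl
  subst this
  exact (one_tmul_eq_zero_iff' I x).1 h

theorem mem_smul_top_of_tmul_eq_zero (M : ModuleCat.{u} B) (x : M)
    (h : ((1 : B ⧸ I) ⊗ₜ[B,Ideal.Quotient.mk I] x) = 0) : x ∈ (I • ⊤ : Submodule B M) :=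
  @mem_smul_top_of_tmul_eq_zero_aux B _ I (Module.compHom _ (Ideal.Quotient.mk I))
    (fun _ _ => rfl) M _ _ x h

end Unit

section Cmp

variable {B : Type u} [CommRing B] (I : Ideal B)

/-- the unit `M → (B ⧸ I) ⊗ M` as an additive map -/
noncomputable def unitMap (M : ModuleCat.{u} B) :
    M →+ (ModuleCat.extendScalars.{u, u, u} (Ideal.Quotient.mk I)).obj M where
  toFun x := (1 : B ⧸ I) ⊗ₜ[B,Ideal.Quotient.mk I] x
  map_zero' := TensorProduct.tmul_zero _ _
  map_add' := TensorProduct.tmul_add _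

theorem unitMap_map {M M' : ModuleCat.{u} B} (g : M ⟶ M') (x : M) :
    ((ModuleCat.extendScalars.{u, u, u} (Ideal.Quotient.mk I)).map g).hom (unitMap I M x) =
      unitMap I M' (g.hom x) := rfl

theorem unitMap_smul (M : ModuleCat.{u} B) (b : B) (x : M) :
    unitMap I M (b • x) = Ideal.Quotient.mk I b • unitMap I M x := by
  have h1 : b • x = (b • 𝟙 M : M ⟶ M).hom x := rfl
  rw [h1, ← unitMap_map, Groth.Agent.LibKoszulFlat29.extendScalars_map_smul,
    CategoryTheory.Functor.map_id]
  rfl

theorem unitMap_surjective (M : ModuleCat.{u} B) : Function.Surjective (unitMap I M) := by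
  intro z
  induction z using TensorProduct.induction_on with
  | zero => exact ⟨0, map_zero _⟩
  | tmul s m =>
    obtain ⟨b, rfl⟩ := Ideal.Quotient.mk_surjective s
    refine ⟨b • m, ?_⟩
    rw [unitMap_smul]
    exact (ModuleCat.ExtendScalars.smul_tmul (f := Ideal.Quotient.mk I)
      (Ideal.Quotient.mk I b) 1 m).trans (by rw [mul_one]; rfl)
  | add a b ha hb =>
    obtain ⟨x, rfl⟩ := ha
    obtain ⟨y, rfl⟩ := hb
    exact ⟨x + y, map_add _ _ _⟩

theorem mem_smul_top_of_unitMap_eq_zero (M : ModuleCat.{u} B) (x : M)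
    (h : unitMap I M x = 0) : x ∈ (I • ⊤ : Submodule B M) :=
  mem_smul_top_of_tmul_eq_zero I M x h

variable (K : CochainComplex (ModuleCat.{u} B) ℤ)

/-- the base-changed complex -/
noncomputable abbrev FK : CochainComplex (ModuleCat.{u} (B ⧸ I)) ℤ :=
  ((ModuleCat.extendScalars.{u, u, u} (Ideal.Quotient.mk I)).mapHomologicalComplex
    (ComplexShape.up ℤ)).obj K

/-- the unit in degree `i` -/
noncomputable def unitX (i : ℤ) : K.X i →+ (FK I K).X i := unitMap I (K.X i)

theorem unitX_smul (i : ℤ) (b : B) (x : K.X i) :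
    unitX I K i (b • x) = Ideal.Quotient.mk I b • unitX I K i x :=
  unitMap_smul I (K.X i) b x

theorem unitX_d (i j : ℤ) (x : K.X i) :
    ((FK I K).d i j).hom (unitX I K i x) = unitX I K j ((K.d i j).hom x) := rfl

theorem unitX_surjective (i : ℤ) : Function.Surjective (unitX I K i) :=
  unitMap_surjective I (K.X i)

theorem mem_smul_top_of_unitX_eq_zero (i : ℤ) (x : K.X i) (h : unitX I K i x = 0) :
    x ∈ (I • ⊤ : Submodule B (K.X i)) :=
  mem_smul_top_of_unitMap_eq_zero I (K.X i) x h

variable (K' : CochainComplex (ModuleCat.{u} (B ⧸ I)) ℤ) (e : FK I K ≅ K')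

/-- the comparison map `K → K'` -/
noncomputable def cmp (i : ℤ) : K.X i →+ K'.X i :=
  (e.hom.f i).hom.toAddMonoidHom.comp (unitX I K i)

theorem cmp_apply (i : ℤ) (x : K.X i) :
    cmp I K K' e i x = (e.hom.f i).hom (unitX I K i x) := rfl

theorem cmp_smul (i : ℤ) (b : B) (x : K.X i) :
    cmp I K K' e i (b • x) = Ideal.Quotient.mk I b • cmp I K K' e i x := by
  rw [cmp_apply, cmp_apply, unitX_smul, map_smul]

theorem cmp_d (i j : ℤ) (x : K.X i) :
    cmp I K K' e j ((K.d i j).hom x) = (K'.d i j).hom (cmp I K K' e i x) := by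
  rw [cmp_apply, cmp_apply, ← unitX_d]
  have h := e.hom.comm i j
  have h2 := congrArg (fun t => t.hom (unitX I K i x)) h
  exact h2.symm

theorem bijective_f (i : ℤ) : Function.Bijective (e.hom.f i).hom := by
  have : IsIso (e.hom.f i) := inferInstance
  exact ConcreteCategory.bijective_of_isIso (e.hom.f i)

theorem cmp_surjective (i : ℤ) : Function.Surjective (cmp I K K' e i) := by
  intro y
  obtain ⟨z, rfl⟩ := (bijective_f I K K' e i).2 y
  obtain ⟨x, rfl⟩ := unitX_surjective I K i z
  exact ⟨x, rfl⟩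

theorem mem_smul_top_of_cmp_eq_zero (i : ℤ) (x : K.X i) (h : cmp I K K' e i x = 0) :
    x ∈ (I • ⊤ : Submodule B (K.X i)) := by
  apply mem_smul_top_of_unitX_eq_zero
  apply (bijective_f I K K' e i).1
  rw [map_zero]
  exact h

end Cmp

section Kos

open Groth.Agent.Lib.helper7.KoszulLow Groth.Agent.Lib.helper23.TA

variable {S : Type u} [CommRing S]

lemma exactAt_succ_iff' (E : CochainComplex (ModuleCat.{u} S) ℤ) (k : ℤ) :
    E.ExactAt (k + 1) ↔ Function.Exact (E.d k (k + 1)).hom (E.d (k + 1) (k + 1 + 1)).hom := by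
  rw [HomologicalComplex.exactAt_iff' E k (k + 1) (k + 1 + 1) (by simp) (by simp)]
  exact ShortComplex.ShortExact.moduleCat_exact_iff_function_exact _

/-- the terms of the Koszul complex are flat. -/
theorem flat_koszul : ∀ (l : List S) (n : ℤ), Module.Flat S ((Koszul.koszul S l).X n)
  | [], n => by
    by_cases hn : n = 0
    · subst hn
      exact Module.Flat.of_linearEquiv (HomologicalComplex.singleObjXSelf (ComplexShape.up ℤ) 0
        (ModuleCat.of S S)).toLinearEquiv
    · have : Subsingleton ((Koszul.koszul S ([] : List S)).X n) :=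
        ModuleCat.subsingleton_of_isZero
          (HomologicalComplex.isZero_single_obj_X (ComplexShape.up ℤ) 0 _ n hn)
      infer_instance
  | x :: l, n => by
    haveI := flat_koszul l (n + 1)
    haveI := flat_koszul l n
    haveI := flat_prod (A := S) ((Koszul.koszul S l).X (n + 1)) ((Koszul.koszul S l).X n)
    exact Module.Flat.of_linearEquiv (coneEquiv (x • 𝟙 (Koszul.koszul S l)) n (n + 1) rfl)

/-- the image of the last Koszul differential is the ideal generated by the sequence. -/
theorem map_range_eq_ofList (l : List S) :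
    (LinearMap.range ((Koszul.koszul S l).d (-1) 0).hom).map (lowData S l).e0.toLinearMap =
      Ideal.ofList l := by
  apply le_antisymm
  · rintro _ ⟨_, ⟨x, rfl⟩, rfl⟩
    change (lowData S l).e0 (((Koszul.koszul S l).d (-1) 0).hom x) ∈ _
    rw [(lowData S l).hd1]
    refine Ideal.sum_mem _ (fun i _ => Ideal.mul_mem_left _ _ (Ideal.subset_span ?_))
    exact List.get_mem l i
  · change Ideal.span _ ≤ _
    rw [Ideal.span_le]
    intro y hy
    obtain ⟨i, rfl⟩ := List.mem_iff_get.1 hy
    refine ⟨_, ⟨(lowData S l).e1.symm (Pi.single i 1), rfl⟩, ?_⟩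
    change (lowData S l).e0 (((Koszul.koszul S l).d (-1) 0).hom _) = _
    rw [(lowData S l).hd1, LinearEquiv.apply_symm_apply, Finset.sum_eq_single i]
    · rw [Pi.single_eq_same, one_mul]
    · intro j _ hj
      rw [Pi.single_eq_of_ne hj, zero_mul]
    · intro h
      exact absurd (Finset.mem_univ i) h

/-- the cokernel of the last Koszul differential, over a base ring `R`. -/
theorem nonempty_coker_equiv (R : Type u) [CommRing R] [Algebra R S] (l : List S) (i j : ℤ)
    (hi : i = -1) (hj : j = 0)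
    [Module R ((Koszul.koszul S l).X i)] [IsScalarTower R S ((Koszul.koszul S l).X i)]
    [Module R ((Koszul.koszul S l).X j)] [IsScalarTower R S ((Koszul.koszul S l).X j)] :
    Nonempty (((Koszul.koszul S l).X j ⧸
      LinearMap.range (((Koszul.koszul S l).d i j).hom.restrictScalars R)) ≃ₗ[R]
        (S ⧸ Ideal.ofList l)) := by
  subst hi hj
  let p : Submodule S ((Koszul.koszul S l).X 0) :=
    LinearMap.range ((Koszul.koszul S l).d (-1) 0).hom
  let E1 : ((Koszul.koszul S l).X 0 ⧸ p) ≃ₗ[S] (S ⧸ Ideal.ofList l) :=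
    Submodule.Quotient.equiv p (Ideal.ofList l) (lowData S l).e0 (map_range_eq_ofList l)
  let E2 : ((Koszul.koszul S l).X 0 ⧸ p.restrictScalars R) ≃ₗ[R] ((Koszul.koszul S l).X 0 ⧸ p) :=
    Submodule.Quotient.restrictScalarsEquiv R p
  have hr : LinearMap.range (((Koszul.koszul S l).d (-1) 0).hom.restrictScalars R) =
      p.restrictScalars R := LinearMap.range_restrictScalars _
  exact ⟨(Submodule.quotEquivOfEq _ _ hr).trans (E2.trans (E1.restrictScalars R))⟩

end Kos

section Main

open Groth.Agent.Lib.helper7.KoszulLow Groth.Agent.Lib.helper23.TA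

variable (A B : Type u) [CommRing A] [CommRing B] [Algebra A B] (J : Ideal A)

local notation "JB" => Ideal.map (algebraMap A B) J

/-- **Koszul-regular sequences with flat quotient lift along square-zero thickenings of the
base** (no finiteness hypotheses). -/
theorem koszulRegular_and_flat_of_sqZero
    [Module.Flat A B] (hJ : J * J = ⊥) (rs : List B)
    (hreg : LCI.IsKoszulRegularSeq (B ⧸ JB) (rs.map (Ideal.Quotient.mk JB)))
    (hflat : Module.Flat (A ⧸ J) ((B ⧸ JB) ⧸ Ideal.ofList (rs.map (Ideal.Quotient.mk JB)))) :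
    LCI.IsKoszulRegularSeq B rs ∧ Module.Flat A (B ⧸ Ideal.ofList rs) := by
  obtain ⟨e⟩ := Groth.Agent.LibKoszulFlat29.nonempty_koszul_iso (Ideal.Quotient.mk JB) rs
  obtain ⟨K, hK⟩ : ∃ K : CochainComplex (ModuleCat.{u} B) ℤ, K = Koszul.koszul B rs := ⟨_, rfl⟩
  obtain ⟨K', hK'⟩ : ∃ K' : CochainComplex (ModuleCat.{u} (B ⧸ JB)) ℤ,
    K' = Koszul.koszul (B ⧸ JB) (rs.map (Ideal.Quotient.mk JB)) := ⟨_, rfl⟩
  rw [← hK, ← hK'] at e
  -- module structures
  letI mA : ∀ i, Module A (K.X i) := fun i => Module.compHom (K.X i) (algebraMap A B)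
  haveI tA : ∀ i, IsScalarTower A B (K.X i) :=
    fun i => IsScalarTower.of_algebraMap_smul (fun _ _ => rfl)
  letI mQ : ∀ i, Module (A ⧸ J) (K'.X i) :=
    fun i => Module.compHom (K'.X i) (algebraMap (A ⧸ J) (B ⧸ JB))
  haveI tQ : ∀ i, IsScalarTower (A ⧸ J) (B ⧸ JB) (K'.X i) :=
    fun i => IsScalarTower.of_algebraMap_smul (fun _ _ => rfl)
  letI mA' : ∀ i, Module A (K'.X i) :=
    fun i => Module.compHom (K'.X i) (algebraMap A (B ⧸ JB))
  haveI tA' : ∀ i, IsScalarTower A (A ⧸ J) (K'.X i) :=
    fun i => IsScalarTower.of_algebraMap_smul (fun a y => by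
      change algebraMap (A ⧸ J) (B ⧸ JB) (algebraMap A (A ⧸ J) a) • y =
        algebraMap A (B ⧸ JB) a • y
      rw [← IsScalarTower.algebraMap_apply])
  -- flatness of the terms
  have hXflat : ∀ i, Module.Flat A (K.X i) := fun i => by
    haveI : Module.Flat B (K.X i) := by rw [hK]; exact flat_koszul rs i
    exact Module.Flat.trans A B (K.X i)
  haveI hBbar : Module.Flat (A ⧸ J) (B ⧸ JB) :=
    Module.Flat.of_linearEquiv (Algebra.TensorProduct.quotIdealMapEquivQuotTensor B J).toLinearEquiv
  have hYflat : ∀ i, Module.Flat (A ⧸ J) (K'.X i) := fun i => by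
    haveI : Module.Flat (B ⧸ JB) (K'.X i) := by rw [hK']; exact flat_koszul _ i
    exact Module.Flat.trans (A ⧸ J) (B ⧸ JB) (K'.X i)
  -- differentials and comparison maps
  let d : ∀ i, K.X i →ₗ[A] K.X (i + 1) := fun i => (K.d i (i + 1)).hom.restrictScalars A
  let dY : ∀ i, K'.X i →ₗ[A ⧸ J] K'.X (i + 1) :=
    fun i => (K'.d i (i + 1)).hom.restrictScalars (A ⧸ J)
  let π : ∀ i, K.X i →ₗ[A] K'.X i := fun i =>
    { toFun := cmp JB K K' e i
      map_add' := map_add _
      map_smul' := fun a x => by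
        change cmp JB K K' e i (algebraMap A B a • x) =
          algebraMap A (B ⧸ JB) a • cmp JB K K' e i x
        rw [cmp_smul]
        rfl }
  have hdd : ∀ i, d (i + 1) ∘ₗ d i = 0 := fun i => by
    ext x
    exact congrArg (fun t => t.hom x) (K.d_comp_d i (i + 1) (i + 1 + 1))
  have hπ : ∀ i, Function.Surjective (π i) := fun i => cmp_surjective JB K K' e i
  have hker : ∀ i, LinearMap.ker (π i) ≤ J • ⊤ := fun i x hx => by
    have h1 : x ∈ (JB • ⊤ : Submodule B (K.X i)) :=
      mem_smul_top_of_cmp_eq_zero JB K K' e i x hx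
    have h2 := Ideal.smul_restrictScalars J (⊤ : Submodule B (K.X i))
    rw [Submodule.restrictScalars_top] at h2
    rw [← h2]
    exact h1
  have hcomm : ∀ i x, π (i + 1) (d i x) = dY i (π i x) :=
    fun i x => cmp_d JB K K' e i (i + 1) x
  have hex : ∀ i, i < -1 → Function.Exact (dY i) (dY (i + 1)) := fun i hi => by
    have h1 : K'.ExactAt (i + 1) := by
      rw [hK']
      exact (HomologicalComplex.exactAt_iff_isZero_homology _ _).2 (hreg (i + 1) (by omega))
    exact (exactAt_succ_iff' K' i).1 h1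
  have hQ : Module.Flat (A ⧸ J) (K'.X (-1 + 1) ⧸ LinearMap.range (dY (-1))) := by
    subst hK'
    obtain ⟨E⟩ := nonempty_coker_equiv (A ⧸ J) (rs.map (Ideal.Quotient.mk JB)) (-1) (-1 + 1)
      rfl (by norm_num)
    exact Module.Flat.of_linearEquiv E
  have T := core J hJ (fun i => K.X i) hXflat d hdd (fun i => K'.X i) hYflat dY π hπ hker hcomm
    (-1) hex hQ
  constructor
  · intro n hn
    have hEx : K.ExactAt n := by
      rcases lt_or_gt_of_ne hn with h | h
      · obtain ⟨i, rfl⟩ : ∃ i, n = i + 1 := ⟨n - 1, by ring⟩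
        rw [exactAt_succ_iff']
        exact exact_of_lTensor_self (d i) (d (i + 1)) (T A i (by omega))
      · have : Subsingleton (K.X n) := by rw [hK]; exact (lowData B rs).zero_pos n h
        exact HomologicalComplex.ExactAt.of_isZero (ModuleCat.isZero_of_subsingleton _)
    subst hK
    exact (HomologicalComplex.exactAt_iff_isZero_homology _ _).1 hEx
  · haveI := hXflat (-2 + 1 + 1)
    have h1 : Module.Flat A (K.X (-2 + 1 + 1) ⧸ LinearMap.range (d (-2 + 1))) :=
      flat_quotient_range (d (-2)) (d (-2 + 1)) (hdd (-2))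
        (fun N _ _ => T N (-2) (by norm_num))
    subst hK
    obtain ⟨E⟩ := nonempty_coker_equiv A rs (-2 + 1) (-2 + 1 + 1) (by norm_num) (by norm_num)
    exact Module.Flat.of_linearEquiv E.symm

end Main

end Groth.Agent.Lib.helper15.KosSqZero
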