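import Mathlib
import Groth.Prelude.Def_SGA1t
import Groth.Agent.Lib.Helper15.GalCover

/-!
# Principal `μ_n`-covers of a local ring are Kummer (helper15), algebra side
-/

set_option autoImplicit false
set_option linter.style.haveILetI false
set_option linter.unusedSectionVars false

universe u

open TensorProduct Polynomial

namespace Groth.Agent.Lib.helper15.GalCover

section sep'

variable {A : Type u} [CommRing A] {B : Type u} [CommRing B] [Algebra A B]
  [Module.Finite A B] [Algebra.Etale A B]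

/-- variant of `span_pow_eq_top` testing only the algebraic closures of the residue fields at
the maximal ideals -/
theorem span_pow_eq_top' (T : B) (m : ℕ)
    (h : ∀ (𝔪 : Ideal A) [𝔪.IsMaximal],
      letI := Ideal.Quotient.field 𝔪
      Function.Injective (fun ψ : B →ₐ[A] AlgebraicClosure (A ⧸ 𝔪) => ψ T) ∧
        Nat.card (B →ₐ[A] AlgebraicClosure (A ⧸ 𝔪)) ≤ m) :
    Submodule.span A (Set.range fun i : Fin m => T ^ (i : ℕ)) = ⊤ := by
  by_contra hne
  obtain ⟨M', hM', hle⟩ := (eq_top_or_exists_le_coatom _).resolve_left hne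
  haveI : IsSimpleModule A (B ⧸ M') := isSimpleModule_iff_isCoatom.mpr hM'
  obtain ⟨𝔪, h𝔪, ⟨e⟩⟩ := isSimpleModule_iff_quot_maximal.mp ‹IsSimpleModule A (B ⧸ M')›
  haveI := h𝔪
  letI := Ideal.Quotient.field 𝔪
  let Ω := AlgebraicClosure (A ⧸ 𝔪)
  let lam : B →ₗ[A] (A ⧸ 𝔪) := e.toLinearMap ∘ₗ M'.mkQ
  have hlam : Function.Surjective lam := e.surjective.comp (Submodule.mkQ_surjective M')
  let μ : B →ₗ[A] Ω := (Algebra.linearMap (A ⧸ 𝔪) Ω).restrictScalars A ∘ₗ lam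
  have hμ : ∀ b, μ b = algebraMap (A ⧸ 𝔪) Ω (lam b) := fun b => rfl
  have hμT : ∀ i : Fin m, μ (T ^ (i : ℕ)) = 0 := by
    intro i
    have h1 : T ^ (i : ℕ) ∈ M' := hle (Submodule.subset_span ⟨i, rfl⟩)
    have h2 : lam (T ^ (i : ℕ)) = 0 := by
      change e (M'.mkQ (T ^ (i : ℕ))) = 0
      rw [Submodule.mkQ_apply, (Submodule.Quotient.mk_eq_zero M').mpr h1, map_zero]
    rw [hμ, h2, map_zero]
  let μbar : Ω ⊗[A] B →ₗ[Ω] Ω := LinearMap.liftBaseChange Ω μ
  have hμbar : ∀ (ω : Ω) (b : B), μbar (ω ⊗ₜ b) = ω • μ b := fun ω b =>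
    LinearMap.liftBaseChange_tmul Ω μ ω b
  obtain ⟨hinj, hcard⟩ := h 𝔪
  have hspan := span_tmul_pow_eq_top Ω T m hinj hcard
  have hzero : μbar = 0 := by
    apply LinearMap.ext_on_range hspan
    intro i
    rw [hμbar, hμT, smul_zero, LinearMap.zero_apply]
  obtain ⟨b, hb⟩ := hlam 1
  have h1 : μbar ((1 : Ω) ⊗ₜ b) = 1 := by
    rw [hμbar, hμ, hb, map_one, one_smul]
  rw [hzero, LinearMap.zero_apply] at h1
  exact zero_ne_one h1

end sep'

section localRoots

variable {A : Type u} [CommRing A] [IsLocalRing A]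

/-- in a local ring, an `m`-th root of unity congruent to `1` is `1` when `m` is invertible -/
theorem eq_one_of_pow_eq_one_of_sub_mem {m : ℕ} (hm : IsUnit ((m : ℕ) : A)) (v : A)
    (hv : v ^ m = 1) (hv1 : v - 1 ∈ IsLocalRing.maximalIdeal A) : v = 1 := by
  have h1 : (∑ i ∈ Finset.range m, v ^ i) * (v - 1) = v ^ m - 1 := geom_sum_mul v m
  have hpow : ∀ i : ℕ, v ^ i - 1 ∈ IsLocalRing.maximalIdeal A := fun i => by
    rw [← geom_sum_mul]
    exact Ideal.mul_mem_left _ _ hv1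
  have h2 : (∑ i ∈ Finset.range m, v ^ i) - (m : A) ∈ IsLocalRing.maximalIdeal A := by
    have e : (∑ i ∈ Finset.range m, v ^ i) - (m : A) = ∑ i ∈ Finset.range m, (v ^ i - 1) := by
      rw [Finset.sum_sub_distrib, Finset.sum_const, Finset.card_range, nsmul_eq_mul, mul_one]
    rw [e]
    exact Ideal.sum_mem _ fun i _ => hpow i
  have h3 : IsUnit (∑ i ∈ Finset.range m, v ^ i) := by
    by_contra hnu
    have h4 : (∑ i ∈ Finset.range m, v ^ i) ∈ IsLocalRing.maximalIdeal A :=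
      (IsLocalRing.mem_maximalIdeal _).mpr hnu
    have h5 : (m : A) ∈ IsLocalRing.maximalIdeal A := by
      have := Ideal.sub_mem _ h4 h2
      rwa [sub_sub_cancel] at this
    exact (IsLocalRing.mem_maximalIdeal _).mp h5 hm
  rw [hv, sub_self] at h1
  exact sub_eq_zero.mp ((h3.mul_right_eq_zero).mp h1)

variable {n : ℕ} (hn : IsUnit ((n : ℕ) : A)) {ζ₀ : A} (hζ₀ : IsPrimitiveRoot ζ₀ n)

include hn hζ₀ in
theorem isUnit_pow_sub_one (i : ℕ) (hi : ¬ n ∣ i) : IsUnit (ζ₀ ^ i - 1) := by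
  by_contra hnu
  have h1 : ζ₀ ^ i - 1 ∈ IsLocalRing.maximalIdeal A := (IsLocalRing.mem_maximalIdeal _).mpr hnu
  have h2 : (ζ₀ ^ i) ^ n = 1 := by
    rw [← pow_mul, mul_comm, pow_mul, hζ₀.pow_eq_one, one_pow]
  have h3 := eq_one_of_pow_eq_one_of_sub_mem hn (ζ₀ ^ i) h2 h1
  exact hi (hζ₀.dvd_of_pow_eq_one i h3)

include hn hζ₀ in
theorem isUnit_pow_sub_pow (i j : ℕ) (hi : i < n) (hj : j < n) (hij : i ≠ j) :
    IsUnit (ζ₀ ^ i - ζ₀ ^ j) := by
  have hn0 : n ≠ 0 := by omega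
  have key : ∀ i j : ℕ, i < n → j < i → IsUnit (ζ₀ ^ i - ζ₀ ^ j) := by
    intro i j hi hji
    have e : ζ₀ ^ i - ζ₀ ^ j = ζ₀ ^ j * (ζ₀ ^ (i - j) - 1) := by
      rw [mul_sub, mul_one, ← pow_add, Nat.add_sub_cancel' hji.le]
    rw [e]
    refine ((hζ₀.isUnit hn0).pow j).mul (isUnit_pow_sub_one hn hζ₀ (i - j) ?_)
    intro hd
    have := Nat.le_of_dvd (by omega) hd
    omega
  rcases Nat.lt_or_gt_of_ne hij with h | h
  · have := (key j i hj h).neg
    rwa [neg_sub] at this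
  · exact key i j hi h

include hn hζ₀ in
theorem exists_pow_eq_of_pow_eq_one [NeZero n] (ζ : A) (hζ : ζ ^ n = 1) :
    ∃ j < n, ζ₀ ^ j = ζ := by
  have hn0 : n ≠ 0 := NeZero.ne n
  let res := IsLocalRing.residue A
  have hprim : IsPrimitiveRoot (res ζ₀) n := by
    rw [IsPrimitiveRoot.iff_def]
    refine ⟨by rw [← map_pow, hζ₀.pow_eq_one, map_one], fun l hl => ?_⟩
    by_contra hnl
    have hu := isUnit_pow_sub_one hn hζ₀ l hnl
    have h0 : res (ζ₀ ^ l - 1) = 0 := by rw [map_sub, map_pow, hl, map_one, sub_self]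
    exact (IsLocalRing.residue_ne_zero_iff_isUnit _).mpr hu h0
  have hζbar : (res ζ) ^ n = 1 := by rw [← map_pow, hζ, map_one]
  obtain ⟨j, hj, hjζ⟩ := hprim.eq_pow_of_pow_eq_one hζbar
  refine ⟨j, hj, ?_⟩
  set w := ζ₀ ^ j with hw
  have hwn : w ^ n = 1 := by rw [hw, ← pow_mul, mul_comm, pow_mul, hζ₀.pow_eq_one, one_pow]
  have hww : w ^ (n - 1) * w = 1 := by rw [← pow_succ, Nat.sub_add_cancel (by omega), hwn]
  set v := ζ * w ^ (n - 1) with hv
  have hvn : v ^ n = 1 := by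
    rw [hv, mul_pow, hζ, one_mul, ← pow_mul, mul_comm, pow_mul, hwn, one_pow]
  have hv1 : v - 1 ∈ IsLocalRing.maximalIdeal A := by
    rw [← IsLocalRing.residue_eq_zero_iff]
    change res (v - 1) = 0
    have hnn : n - 1 + 1 = n := Nat.sub_add_cancel (by omega)
    rw [map_sub, map_one, hv, map_mul, ← hjζ, map_pow, hw, map_pow, ← pow_succ', hnn, ← pow_mul,
      mul_comm, pow_mul, hprim.pow_eq_one, one_pow, sub_self]
  have := eq_one_of_pow_eq_one_of_sub_mem hn v hvn hv1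
  calc w = v * w := by rw [this, one_mul]
    _ = ζ * (w ^ (n - 1) * w) := by rw [hv, mul_assoc]
    _ = ζ := by rw [hww, mul_one]

end localRoots

section Kummer

variable {A : Type u} [CommRing A] [IsLocalRing A] {B : Type u} [CommRing B] [Algebra A B]
  [Module.Finite A B] [Algebra.Etale A B] {n : ℕ} [NeZero n] (hn : IsUnit ((n : ℕ) : A))
  {ζ₀ : A} (hζ₀ : IsPrimitiveRoot ζ₀ n)
  (σ : rootsOfUnity n A → (B →ₐ[A] B)) (h1 : σ 1 = AlgHom.id A B)
  (hmul : ∀ g h, σ (g * h) = (σ h).comp (σ g))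
  (htr : ∀ (Ω : Type u) [Field Ω] [IsAlgClosed Ω] [Algebra A Ω] (ψ ψ' : B →ₐ[A] Ω),
    ∃! g, ψ.comp (σ g) = ψ')

omit [IsLocalRing A] [NeZero n] in
theorem rootsOfUnity_coe_pow (ζ : rootsOfUnity n A) : (((ζ : Aˣ) : A)) ^ n = 1 := by
  have h2 := (mem_rootsOfUnity n (ζ : Aˣ)).mp ζ.2
  have h3 := congrArg Units.val h2
  simpa using h3

omit [IsLocalRing A] in
theorem toRootsOfUnity_pow_coe (j : ℕ) :
    (((hζ₀.toRootsOfUnity ^ j : rootsOfUnity n A) : Aˣ) : A) = ζ₀ ^ j := by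
  rw [SubmonoidClass.coe_pow, Units.val_pow_eq_pow_val, hζ₀.val_toRootsOfUnity_coe]

omit [IsLocalRing A] in
theorem toRootsOfUnity_pow_n : hζ₀.toRootsOfUnity ^ n = 1 := by
  apply Subtype.ext
  apply Units.ext
  rw [toRootsOfUnity_pow_coe, hζ₀.pow_eq_one]
  rfl

include hn in
theorem exists_eq_pow (ζ : rootsOfUnity n A) : ∃ j < n, hζ₀.toRootsOfUnity ^ j = ζ := by
  obtain ⟨j, hj, hjζ⟩ := exists_pow_eq_of_pow_eq_one hn hζ₀ _ (rootsOfUnity_coe_pow ζ)
  refine ⟨j, hj, ?_⟩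
  apply Subtype.ext
  apply Units.ext
  rw [toRootsOfUnity_pow_coe, hjζ]

/-- the `ζ₀`-eigenprojection -/
noncomputable def kE (b : B) : B :=
  ∑ j ∈ Finset.range n, (ζ₀ ^ (n - 1)) ^ j • σ (hζ₀.toRootsOfUnity ^ j) b

omit [IsLocalRing A] [Module.Finite A B] [Algebra.Etale A B] in
include h1 hmul in
theorem kE_eigen (b : B) : σ hζ₀.toRootsOfUnity (kE hζ₀ σ b) = ζ₀ • kE hζ₀ σ b := by
  set g₀ := hζ₀.toRootsOfUnity with hg₀
  set u := ζ₀ ^ (n - 1) with hu
  have hn0 : n ≠ 0 := NeZero.ne n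
  have hζu : ζ₀ * u = 1 := by
    rw [hu, ← pow_succ', Nat.sub_add_cancel (by omega), hζ₀.pow_eq_one]
  have hun : u ^ n = 1 := by rw [hu, ← pow_mul, mul_comm, pow_mul, hζ₀.pow_eq_one, one_pow]
  have hg₀n : g₀ ^ n = 1 := toRootsOfUnity_pow_n hζ₀
  let f : ℕ → B := fun j => (ζ₀ * u ^ j) • σ (g₀ ^ j) b
  have hf0 : f 0 = ζ₀ • b := by
    change (ζ₀ * u ^ 0) • σ (g₀ ^ 0) b = _
    rw [pow_zero, pow_zero, mul_one, h1]
    rfl
  have hfn : f n = ζ₀ • b := by
    change (ζ₀ * u ^ n) • σ (g₀ ^ n) b = _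
    rw [hun, hg₀n, mul_one, h1]
    rfl
  have hfs : ∀ j, f (j + 1) = u ^ j • σ g₀ (σ (g₀ ^ j) b) := by
    intro j
    change (ζ₀ * u ^ (j + 1)) • σ (g₀ ^ (j + 1)) b = _
    rw [pow_succ g₀, hmul, pow_succ' u, ← mul_assoc, hζu, one_mul]
    rfl
  have hsum : ∑ j ∈ Finset.range n, f (j + 1) = ∑ j ∈ Finset.range n, f j := by
    have e1 := Finset.sum_range_succ' f n
    have e2 := Finset.sum_range_succ f n
    rw [e1, hf0, ← hfn] at e2
    exact add_right_cancel e2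
  unfold kE
  rw [map_sum, Finset.smul_sum]
  calc ∑ j ∈ Finset.range n, σ g₀ (u ^ j • σ (g₀ ^ j) b)
      = ∑ j ∈ Finset.range n, f (j + 1) :=
        Finset.sum_congr rfl fun j _ => by rw [map_smul, hfs]
    _ = ∑ j ∈ Finset.range n, f j := hsum
    _ = ∑ j ∈ Finset.range n, ζ₀ • u ^ j • σ (g₀ ^ j) b :=
        Finset.sum_congr rfl fun j _ => by
          change (ζ₀ * u ^ j) • σ (g₀ ^ j) b = _
          rw [mul_smul]

omit [IsLocalRing A] [Module.Finite A B] [Algebra.Etale A B] in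
include h1 hmul in
theorem kE_eigen_pow (b : B) (j : ℕ) :
    σ (hζ₀.toRootsOfUnity ^ j) (kE hζ₀ σ b) = ζ₀ ^ j • kE hζ₀ σ b := by
  induction j with
  | zero =>
    rw [pow_zero, h1, pow_zero, one_smul]
    rfl
  | succ j ih =>
    rw [pow_succ, hmul, AlgHom.comp_apply, ih, map_smul, kE_eigen hζ₀ σ h1 hmul, smul_smul,
      pow_succ]

omit [IsLocalRing A] in
include h1 hmul htr in
theorem exists_kE_ne_zero (Ω : Type u) [Field Ω] [IsAlgClosed Ω] [Algebra A Ω]
    (x₀ : B →ₐ[A] Ω) : ∃ b : B, x₀ (kE hζ₀ σ b) ≠ 0 := by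
  classical
  by_contra hcon
  push Not at hcon
  set g₀ := hζ₀.toRootsOfUnity with hg₀
  let χ : Fin n → (B →* Ω) := fun j => ((x₀.comp (σ (g₀ ^ (j : ℕ))) : B →ₐ[A] Ω) : B →* Ω)
  have hχ : ∀ (j : Fin n) (b : B), χ j b = x₀ (σ (g₀ ^ (j : ℕ)) b) := fun j b => rfl
  have hχinj : Function.Injective χ := by
    intro i j hij
    have h2 : x₀.comp (σ (g₀ ^ (i : ℕ))) = x₀.comp (σ (g₀ ^ (j : ℕ))) := by
      ext b
      exact DFunLike.congr_fun hij b
    obtain ⟨g, _, hg⟩ := htr Ω x₀ (x₀.comp (σ (g₀ ^ (j : ℕ))))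
    have e1 := hg _ h2
    have e2 := hg _ rfl
    have e3 : g₀ ^ (i : ℕ) = g₀ ^ (j : ℕ) := e1.trans e2.symm
    have e4 : ζ₀ ^ (i : ℕ) = ζ₀ ^ (j : ℕ) := by
      rw [← toRootsOfUnity_pow_coe hζ₀, ← toRootsOfUnity_pow_coe hζ₀, ← hg₀, e3]
    exact Fin.ext (hζ₀.pow_inj i.2 j.2 e4)
  have hli : LinearIndependent Ω (fun j : Fin n => (χ j : B → Ω)) :=
    (linearIndependent_monoidHom B Ω).comp χ hχinj
  have hzero : ∑ j : Fin n, (algebraMap A Ω (ζ₀ ^ (n - 1))) ^ (j : ℕ) • (χ j : B → Ω) = 0 := by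
    funext b
    rw [Finset.sum_apply, Pi.zero_apply, ← hcon b]
    unfold kE
    rw [map_sum, ← Fin.sum_univ_eq_sum_range]
    refine Finset.sum_congr rfl fun j _ => ?_
    rw [Pi.smul_apply, hχ, smul_eq_mul, map_smul, Algebra.smul_def]
    simp only [map_pow]
    rfl
  have := Fintype.linearIndependent_iff.mp hli _ hzero ⟨0, Nat.pos_of_ne_zero (NeZero.ne n)⟩
  rw [pow_zero] at this
  exact one_ne_zero this

include hn htr in
theorem kummer_sep (Ω : Type u) [Field Ω] [IsAlgClosed Ω] [Algebra A Ω]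
    (hker : ∀ a : A, algebraMap A Ω a = 0 → a ∈ IsLocalRing.maximalIdeal A)
    (t : B) (ht : ∀ j : ℕ, σ (hζ₀.toRootsOfUnity ^ j) t = ζ₀ ^ j • t)
    (x₀ : B →ₐ[A] Ω) (hx₀ : x₀ t ≠ 0) :
    Function.Injective (fun ψ : B →ₐ[A] Ω => ψ t) ∧ Nat.card (B →ₐ[A] Ω) ≤ n := by
  set g₀ := hζ₀.toRootsOfUnity with hg₀
  have hpt : ∀ ψ : B →ₐ[A] Ω, ∃ j < n, x₀.comp (σ (g₀ ^ j)) = ψ := by
    intro ψ
    obtain ⟨g, hg, _⟩ := htr Ω x₀ ψ
    obtain ⟨j, hj, rfl⟩ := exists_eq_pow hn hζ₀ g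
    exact ⟨j, hj, hg⟩
  have hval : ∀ j, (x₀.comp (σ (g₀ ^ j))) t = algebraMap A Ω (ζ₀ ^ j) * x₀ t := by
    intro j
    rw [AlgHom.comp_apply, ht, map_smul, Algebra.smul_def]
  constructor
  · intro ψ ψ' h
    obtain ⟨j, hj, rfl⟩ := hpt ψ
    obtain ⟨j', hj', rfl⟩ := hpt ψ'
    have h' : (x₀.comp (σ (g₀ ^ j))) t = (x₀.comp (σ (g₀ ^ j'))) t := h
    rw [hval, hval] at h'
    have h2 := mul_right_cancel₀ hx₀ h'
    have h3 : algebraMap A Ω (ζ₀ ^ j - ζ₀ ^ j') = 0 := by rw [map_sub, h2, sub_self]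
    have h4 := hker _ h3
    by_contra hne
    have hjj : j ≠ j' := fun e => hne (by rw [e])
    exact (IsLocalRing.mem_maximalIdeal _).mp h4 (isUnit_pow_sub_pow hn hζ₀ j j' hj hj' hjj)
  · have hs : Function.Surjective (fun j : Fin n => x₀.comp (σ (g₀ ^ (j : ℕ)))) := by
      intro ψ
      obtain ⟨j, hj, rfl⟩ := hpt ψ
      exact ⟨⟨j, hj⟩, rfl⟩
    have := Nat.card_le_card_of_surjective _ hs
    rwa [Nat.card_fin] at this

omit [Module.Finite A B] [Algebra.Etale A B] in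
include hn in
theorem kummer_pow_mem (t : B) (ht : ∀ j : ℕ, σ (hζ₀.toRootsOfUnity ^ j) t = ζ₀ ^ j • t)
    (hspan : Submodule.span A (Set.range fun i : Fin n => t ^ (i : ℕ)) = ⊤) :
    ∃ a : A, t ^ n = algebraMap A B a := by
  classical
  set g₀ := hζ₀.toRootsOfUnity with hg₀
  have hn0 : 0 < n := Nat.pos_of_ne_zero (NeZero.ne n)
  obtain ⟨c, hc⟩ := (Submodule.mem_span_range_iff_exists_fun A).mp
    (hspan ▸ (Submodule.mem_top : t ^ n ∈ (⊤ : Submodule A B)))
  have h1' : ∀ j : ℕ, σ (g₀ ^ j) (t ^ n) = t ^ n := by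
    intro j
    rw [map_pow, ht, _root_.smul_pow, ← pow_mul, mul_comm, pow_mul, hζ₀.pow_eq_one, one_pow, one_smul]
  have h2 : ∀ j : ℕ, σ (g₀ ^ j) (t ^ n) =
      ∑ i : Fin n, (c i * (ζ₀ ^ (i : ℕ)) ^ j) • t ^ (i : ℕ) := by
    intro j
    rw [← hc, map_sum]
    refine Finset.sum_congr rfl fun i _ => ?_
    rw [map_smul, map_pow, ht, _root_.smul_pow, smul_smul, ← pow_mul, ← pow_mul, mul_comm j]
  have h3 : (n : A) • t ^ n = ∑ j ∈ Finset.range n, σ (g₀ ^ j) (t ^ n) := by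
    rw [Finset.sum_congr rfl fun j _ => h1' j, Finset.sum_const, Finset.card_range,
      Nat.cast_smul_eq_nsmul]
  have hgeom : ∀ i : Fin n, (i : ℕ) ≠ 0 → ∑ j ∈ Finset.range n, (ζ₀ ^ (i : ℕ)) ^ j = 0 := by
    intro i hi
    have hu := isUnit_pow_sub_one hn hζ₀ i (fun hd => by
      have := Nat.le_of_dvd (by omega) hd
      have := i.2
      omega)
    have hin : (ζ₀ ^ (i : ℕ)) ^ n = 1 := by
      rw [← pow_mul, mul_comm, pow_mul, hζ₀.pow_eq_one, one_pow]
    have := geom_sum_mul (ζ₀ ^ (i : ℕ)) n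
    rw [hin, sub_self] at this
    exact (hu.mul_left_eq_zero).mp this
  have h4 : ∑ j ∈ Finset.range n, σ (g₀ ^ j) (t ^ n) = ((n : A) * c ⟨0, hn0⟩) • (1 : B) := by
    rw [Finset.sum_congr rfl fun j _ => h2 j, Finset.sum_comm,
      Finset.sum_eq_single (⟨0, hn0⟩ : Fin n)]
    · simp only [pow_zero, one_pow, mul_one]
      rw [Finset.sum_const, Finset.card_range, ← Nat.cast_smul_eq_nsmul A, smul_smul]
    · intro i _ hi
      have hi' : (i : ℕ) ≠ 0 := fun h => hi (Fin.ext h)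
      rw [← Finset.sum_smul, ← Finset.mul_sum, hgeom i hi', mul_zero, zero_smul]
    · intro h
      exact absurd (Finset.mem_univ _) h
  refine ⟨c ⟨0, hn0⟩, ?_⟩
  have : (n : A) • t ^ n = (n : A) • algebraMap A B (c ⟨0, hn0⟩) := by
    rw [h3, h4, mul_smul, Algebra.algebraMap_eq_smul_one]
  exact hn.smul_left_cancel.mp this

include hn hζ₀ h1 hmul htr in
theorem kummer_model
    (hsurj : Function.Surjective (PrimeSpectrum.comap (algebraMap A B))) :
    ∃ (a : Aˣ) (ε : SGA1t.kummer A (fun _ : Unit => (a : A)) (fun _ => n) ≃ₐ[A] B),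
      ∀ (ζ : rootsOfUnity n A) (x : SGA1t.kummer A (fun _ : Unit => (a : A)) (fun _ => n)),
        σ ζ (ε x) =
          ε (SGA1t.kummerTwist A (fun _ : Unit => (a : A)) (fun _ => n) (fun _ => ζ) x) := by
  classical
  set g₀ := hζ₀.toRootsOfUnity with hg₀
  have hn0 : 0 < n := Nat.pos_of_ne_zero (NeZero.ne n)
  haveI : Module.Flat A B := inferInstance
  haveI : Module.FaithfullyFlat A B := Module.FaithfullyFlat.of_comap_surjective hsurj
  have hinjAB : Function.Injective (algebraMap A B) := FaithfulSMul.algebraMap_injective A B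
  haveI : Nontrivial B := hinjAB.nontrivial
  letI := Ideal.Quotient.field (IsLocalRing.maximalIdeal A)
  let Ω := AlgebraicClosure (A ⧸ IsLocalRing.maximalIdeal A)
  have hker : ∀ a : A, algebraMap A Ω a = 0 → a ∈ IsLocalRing.maximalIdeal A := by
    intro a ha
    rw [IsScalarTower.algebraMap_apply A (A ⧸ IsLocalRing.maximalIdeal A) Ω] at ha
    have := (map_eq_zero_iff _ (algebraMap (A ⧸ IsLocalRing.maximalIdeal A) Ω).injective).mp ha
    exact Ideal.Quotient.eq_zero_iff_mem.mp this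
  have hker' : ∀ a : A, a ∈ IsLocalRing.maximalIdeal A → algebraMap A Ω a = 0 := by
    intro a ha
    rw [IsScalarTower.algebraMap_apply A (A ⧸ IsLocalRing.maximalIdeal A) Ω,
      Ideal.Quotient.algebraMap_eq, Ideal.Quotient.eq_zero_iff_mem.mpr ha, map_zero]
  -- a point
  haveI : Nontrivial (Ω ⊗[A] B) := inferInstance
  obtain ⟨q⟩ : Nonempty (PrimeSpectrum (Ω ⊗[A] B)) := inferInstance
  let x₀ : B →ₐ[A] Ω := (ptEquiv Ω).symm q
  obtain ⟨b, hb⟩ := exists_kE_ne_zero hζ₀ σ h1 hmul htr Ω x₀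
  set t := kE hζ₀ σ b with ht_def
  have ht : ∀ j : ℕ, σ (g₀ ^ j) t = ζ₀ ^ j • t := fun j => kE_eigen_pow hζ₀ σ h1 hmul b j
  have htζ : ∀ ζ : rootsOfUnity n A, σ ζ t = ((ζ : Aˣ) : A) • t := by
    intro ζ
    obtain ⟨j, _, rfl⟩ := exists_eq_pow hn hζ₀ ζ
    rw [ht, toRootsOfUnity_pow_coe]
  -- span
  have hspan : Submodule.span A (Set.range fun i : Fin n => t ^ (i : ℕ)) = ⊤ := by
    apply span_pow_eq_top' t n
    intro 𝔪' h𝔪'
    obtain rfl : 𝔪' = IsLocalRing.maximalIdeal A := IsLocalRing.eq_maximalIdeal h𝔪'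
    exact kummer_sep hn hζ₀ σ htr Ω hker t ht x₀ hb
  obtain ⟨a, ha⟩ := kummer_pow_mem hn hζ₀ σ t ht hspan
  have haunit : IsUnit a := by
    by_contra hnu
    have h2 := hker' a ((IsLocalRing.mem_maximalIdeal _).mpr hnu)
    have h3 : x₀ t ^ n = 0 := by rw [← map_pow, ha, AlgHom.commutes, h2]
    exact hb ((pow_eq_zero_iff (NeZero.ne n)).mp h3)
  obtain ⟨au, rfl⟩ := haunit
  have htunit : IsUnit t := by
    have : IsUnit (t ^ n) := by
      rw [ha]
      exact au.isUnit.map _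
    exact (isUnit_pow_iff (NeZero.ne n)).mp this
  have hroots : ∀ i j : Fin n, i ≠ j →
      IsUnit (algebraMap A B (ζ₀ ^ (i : ℕ)) * t - algebraMap A B (ζ₀ ^ (j : ℕ)) * t) := by
    intro i j hij
    rw [← sub_mul, ← map_sub]
    exact ((isUnit_pow_sub_pow hn hζ₀ i j i.2 j.2 (fun h => hij (Fin.ext h))).map _).mul htunit
  have hindep : ∀ c : A[X], c.natDegree < n → aeval t c = 0 → c = 0 := by
    intro c hc hcT
    apply Polynomial.map_injective _ hinjAB
    rw [Polynomial.map_zero]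
    apply eq_zero_of_roots (c.map (algebraMap A B))
      (fun j : Fin n => algebraMap A B (ζ₀ ^ (j : ℕ)) * t) hroots
    · rw [Fintype.card_fin]
      exact lt_of_le_of_lt natDegree_map_le hc
    · intro j
      rw [eval_map_algebraMap, ← Algebra.smul_def, ← ht j, Polynomial.aeval_algHom_apply, hcT,
        map_zero]
  -- the isomorphism
  set g : A[X] := X ^ n - C (au : A) with hg
  have hgmonic : g.Monic := monic_X_pow_sub_C _ (NeZero.ne n)
  have hgdeg : g.natDegree = n := natDegree_X_pow_sub_C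
  let e := MvPolynomial.uniqueAlgEquiv A Unit
  let φ : MvPolynomial Unit A →ₐ[A] B := MvPolynomial.aeval (fun _ => t)
  have hφe : ∀ q : MvPolynomial Unit A, φ q = aeval t (e q) := by
    intro q
    have : φ = (Polynomial.aeval t : A[X] →ₐ[A] B).comp e.toAlgHom := by
      apply MvPolynomial.algHom_ext
      intro i
      simp [φ, e]
    rw [this]
    rfl
  have he_gen : e ((MvPolynomial.X () : MvPolynomial Unit A) ^ n - MvPolynomial.C (au : A)) = g := by
    simp [e, hg]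
  have hφg : φ ((MvPolynomial.X () : MvPolynomial Unit A) ^ n - MvPolynomial.C (au : A)) = 0 := by
    change MvPolynomial.aeval (fun _ => t) _ = 0
    rw [map_sub, map_pow, MvPolynomial.aeval_X, MvPolynomial.aeval_C, ha, sub_self]
  have hker2 : RingHom.ker (φ : MvPolynomial Unit A →+* B) =
      Ideal.span (Set.range fun i : Unit =>
        (MvPolynomial.X i : MvPolynomial Unit A) ^ n - MvPolynomial.C (au : A)) := by
    apply le_antisymm
    · intro q hq
      have hq0 : aeval t (e q) = 0 := by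
        rw [← hφe]
        exact hq
      have hg0 : aeval t g = 0 := by
        rw [← he_gen, ← hφe]
        exact hφg
      have hr : (e q) %ₘ g = 0 := by
        apply hindep
        · rw [← hgdeg]
          exact natDegree_modByMonic_lt _ hgmonic (by
            intro h1'
            rw [h1', natDegree_one] at hgdeg
            exact (NeZero.ne n) hgdeg.symm)
        · have := congrArg (aeval t) (modByMonic_add_div (e q) g)
          rw [map_add, map_mul, hq0, hg0, zero_mul, add_zero] at this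
          exact this
      obtain ⟨r, hr⟩ := (modByMonic_eq_zero_iff_dvd hgmonic).mp hr
      have : q = ((MvPolynomial.X () : MvPolynomial Unit A) ^ n - MvPolynomial.C (au : A)) *
          e.symm r := by
        apply e.injective
        rw [map_mul, he_gen, e.apply_symm_apply, hr]
      rw [this]
      exact Ideal.mul_mem_right _ _ (Ideal.subset_span ⟨(), rfl⟩)
    · rw [Ideal.span_le]
      rintro _ ⟨i, rfl⟩
      exact hφg
  have hsurjφ : Function.Surjective φ := by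
    intro y
    have hy : y ∈ Submodule.span A (Set.range fun i : Fin n => t ^ (i : ℕ)) :=
      hspan ▸ Submodule.mem_top
    induction hy using Submodule.span_induction with
    | mem x hx =>
      obtain ⟨i, rfl⟩ := hx
      exact ⟨MvPolynomial.X () ^ (i : ℕ), by
        change MvPolynomial.aeval (fun _ => t) _ = _
        rw [map_pow, MvPolynomial.aeval_X]⟩
    | zero => exact ⟨0, map_zero _⟩
    | add x y _ _ hx hy =>
      obtain ⟨x', rfl⟩ := hx
      obtain ⟨y', rfl⟩ := hy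
      exact ⟨x' + y', map_add _ _ _⟩
    | smul r x _ hx =>
      obtain ⟨x', rfl⟩ := hx
      exact ⟨r • x', map_smul _ _ _⟩
  let ε : SGA1t.kummer A (fun _ : Unit => (au : A)) (fun _ => n) ≃ₐ[A] B :=
    (Ideal.quotientEquivAlgOfEq A hker2.symm).trans (Ideal.quotientKerAlgEquivOfSurjective hsurjφ)
  have hε : ∀ q : MvPolynomial Unit A, ε (Ideal.Quotient.mk _ q) = φ q := fun q => rfl
  refine ⟨au, ε, fun ζ x => ?_⟩
  obtain ⟨q, rfl⟩ := Ideal.Quotient.mk_surjective x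
  have htw : SGA1t.kummerTwist A (fun _ : Unit => (au : A)) (fun _ => n) (fun _ => ζ)
      (Ideal.Quotient.mk _ q) = Ideal.Quotient.mk _
        (MvPolynomial.aeval (R := A)
          (fun i : Unit => MvPolynomial.C (((ζ : Aˣ) : A)) * MvPolynomial.X i) q) := rfl
  rw [htw, hε, hε]
  change σ ζ (MvPolynomial.aeval (fun _ => t) q) = MvPolynomial.aeval (fun _ => t)
    (MvPolynomial.aeval (R := A)
      (fun i : Unit => MvPolynomial.C (((ζ : Aˣ) : A)) * MvPolynomial.X i) q)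
  rw [MvPolynomial.comp_aeval_apply, MvPolynomial.comp_aeval_apply]
  have hfun : (fun _ : Unit => σ ζ t) = fun i : Unit =>
      (MvPolynomial.aeval (R := A) fun _ : Unit => t)
        (MvPolynomial.C (((ζ : Aˣ) : A)) * MvPolynomial.X i) := by
    funext i
    rw [htζ, map_mul, MvPolynomial.aeval_C, MvPolynomial.aeval_X, Algebra.smul_def]
  rw [hfun]

end Kummer

end Groth.Agent.Lib.helper15.GalCover
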