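import Mathlib

/-!
# Dual lattices in `K^n` (helper15)

`O` a domain with fraction field `K`.  For an `O`-submodule `L ⊆ K^n` containing `O^n`:
* `dual L = {y | ∀ x ∈ L, y ⬝ x ∈ O}`;
* `dualEquiv : Module.Dual O L ≃ₗ[O] dual L`;
* `dual_le_On`, `Cn_le_dual`: bounds for the dual lattice.
-/

set_option autoImplicit false
set_option linter.style.haveILetI false

universe u

namespace Groth.Agent.Lib.helper15.LatDual

variable {O : Type u} [CommRing O] {K : Type u} [Field K] [Algebra O K] {n : ℕ}

/-- `x ↦ y ⬝ x` as an `O`-linear map -/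
noncomputable def dotL (y : Fin n → K) : (Fin n → K) →ₗ[O] K where
  toFun x := y ⬝ᵥ x
  map_add' := dotProduct_add y
  map_smul' c x := by
    simp only [RingHom.id_apply]
    rw [dotProduct_smul]

theorem dotL_apply (y x : Fin n → K) : dotL (O := O) y x = y ⬝ᵥ x := rfl

/-- the dual lattice -/
def dual (L : Submodule O (Fin n → K)) : Submodule O (Fin n → K) where
  carrier := {y | ∀ x ∈ L, y ⬝ᵥ x ∈ (1 : Submodule O K)}
  zero_mem' := by
    intro x _
    rw [zero_dotProduct]
    exact zero_mem _
  add_mem' := by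
    intro a b ha hb x hx
    rw [add_dotProduct]
    exact add_mem (ha x hx) (hb x hx)
  smul_mem' := by
    intro c a ha x hx
    rw [smul_dotProduct]
    exact Submodule.smul_mem _ c (ha x hx)

theorem mem_dual {L : Submodule O (Fin n → K)} {y : Fin n → K} :
    y ∈ dual L ↔ ∀ x ∈ L, y ⬝ᵥ x ∈ (1 : Submodule O K) := Iff.rfl

/-- `O^n ⊆ K^n` -/
abbrev On (O : Type u) [CommRing O] (K : Type u) [Field K] [Algebra O K] (n : ℕ) :
    Submodule O (Fin n → K) :=
  Submodule.pi Set.univ (fun _ : Fin n => (1 : Submodule O K))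

theorem single_mem_On (i : Fin n) (r : O) : Pi.single i (algebraMap O K r) ∈ On O K n := by
  classical
  rw [Submodule.mem_pi]
  intro j _
  by_cases h : j = i
  · subst h
    rw [Pi.single_eq_same]
    exact Submodule.mem_one.2 ⟨r, rfl⟩
  · rw [Pi.single_eq_of_ne h]
    exact zero_mem _

theorem single_one_mem_On (i : Fin n) : Pi.single i (1 : K) ∈ On O K n := by
  have := single_mem_On (O := O) (K := K) i 1
  rwa [map_one] at this

theorem dual_le_On {L : Submodule O (Fin n → K)} (h : On O K n ≤ L) : dual L ≤ On O K n := by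
  classical
  intro y hy
  rw [Submodule.mem_pi]
  intro i _
  have := hy (Pi.single i 1) (h (single_one_mem_On i))
  rwa [dotProduct_single, mul_one] at this

theorem Cn_le_dual {L : Submodule O (Fin n → K)} (C : Ideal O) (OT : Submodule O K)
    (hC : ∀ c ∈ C, ∀ x ∈ OT, c • x ∈ (1 : Submodule O K))
    (h : L ≤ Submodule.pi Set.univ (fun _ : Fin n => OT)) :
    Submodule.pi Set.univ (fun _ : Fin n => C • (1 : Submodule O K)) ≤ dual L := by
  intro y hy x hx
  rw [Submodule.mem_pi] at hy
  have hx' := h hx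
  rw [Submodule.mem_pi] at hx'
  unfold dotProduct
  apply Submodule.sum_mem
  intro i _
  have hyi := hy i (Set.mem_univ i)
  refine Submodule.smul_induction_on hyi ?_ ?_
  · intro c hc z hz
    obtain ⟨r, rfl⟩ := Submodule.mem_one.1 hz
    have : (c • algebraMap O K r) * x i = r • (c • x i) := by
      rw [Algebra.smul_def, Algebra.smul_def, Algebra.smul_def]
      ring
    rw [this]
    exact Submodule.smul_mem _ r (hC c hc _ (hx' i (Set.mem_univ i)))
  · intro a b ha hb
    rw [add_mul]
    exact add_mem ha hb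

section psi

variable [IsDomain O] [IsFractionRing O K] (L : Submodule O (Fin n → K)) (hL : On O K n ≤ L)

/-- a functional on `L ⊇ O^n` as a vector of `K^n` -/
noncomputable def Psi : Module.Dual O ↥L →ₗ[O] (Fin n → K) :=
  LinearMap.pi (fun i => Algebra.linearMap O K ∘ₗ
    LinearMap.applyₗ (⟨Pi.single i 1, hL (single_one_mem_On i)⟩ : ↥L))

theorem Psi_apply (f : Module.Dual O ↥L) (i : Fin n) :
    Psi L hL f i = algebraMap O K (f ⟨Pi.single i 1, hL (single_one_mem_On i)⟩) := rfl

theorem Psi_dot (f : Module.Dual O ↥L) (x : ↥L) :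
    Psi L hL f ⬝ᵥ (x : Fin n → K) = algebraMap O K (f x) := by
  classical
  obtain ⟨d, hd⟩ := IsLocalization.exist_integer_multiples (nonZeroDivisors O)
    (Finset.univ : Finset (Fin n)) (fun i => (x : Fin n → K) i)
  have hd0 : algebraMap O K (d : O) ≠ 0 := by
    rw [Ne, map_eq_zero_iff _ (IsFractionRing.injective O K)]
    exact nonZeroDivisors.ne_zero d.2
  choose a ha using fun i => hd i (Finset.mem_univ i)
  have hx : (d : O) • x = ∑ i, a i • (⟨Pi.single i 1, hL (single_one_mem_On i)⟩ : ↥L) := by
    apply Subtype.ext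
    rw [Submodule.coe_smul, Submodule.coe_sum]
    funext j
    rw [Pi.smul_apply, Finset.sum_apply]
    have hterm : ∀ i, ((a i • (⟨Pi.single i 1, hL (single_one_mem_On i)⟩ : ↥L) : ↥L) :
        Fin n → K) j = if j = i then algebraMap O K (a i) else 0 := by
      intro i
      rw [Submodule.coe_smul, Pi.smul_apply]
      change a i • (Pi.single i (1 : K) : Fin n → K) j = _
      rw [Pi.single_apply]
      split_ifs
      · rw [Algebra.smul_def, mul_one]
      · rw [smul_zero]
    simp only [hterm]
    rw [Finset.sum_ite_eq Finset.univ j, if_pos (Finset.mem_univ j), ha j]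
  have h1 := congrArg (fun z => algebraMap O K (f z)) hx
  simp only [map_smul, map_sum, smul_eq_mul, map_mul] at h1
  apply mul_left_cancel₀ hd0
  rw [h1]
  unfold dotProduct
  rw [Finset.mul_sum]
  apply Finset.sum_congr rfl
  intro i _
  rw [Psi_apply, ha i]
  have : ((d : O) • (x : Fin n → K) i) = algebraMap O K (d : O) * (x : Fin n → K) i := by
    rw [Algebra.smul_def]
  rw [this]
  ring

theorem Psi_injective : Function.Injective (Psi L hL) := by
  rw [injective_iff_map_eq_zero]
  intro f hf
  ext x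
  have := Psi_dot L hL f x
  rw [hf, zero_dotProduct] at this
  rw [LinearMap.zero_apply]
  apply IsFractionRing.injective O K
  rw [← this, map_zero]

theorem range_Psi : LinearMap.range (Psi L hL) = dual L := by
  classical
  apply le_antisymm
  · rintro _ ⟨f, rfl⟩ x hx
    rw [Psi_dot L hL f ⟨x, hx⟩]
    exact Submodule.mem_one.2 ⟨_, rfl⟩
  · intro y hy
    let g : ↥L →ₗ[O] K := dotL y ∘ₗ L.subtype
    have hg : ∀ x, g x ∈ LinearMap.range (Algebra.linearMap O K) := fun x => by
      obtain ⟨r, hr⟩ := Submodule.mem_one.1 (hy x x.2)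
      exact ⟨r, hr⟩
    let σ := LinearEquiv.ofInjective (Algebra.linearMap O K) (IsFractionRing.injective O K)
    let f : Module.Dual O ↥L := σ.symm.toLinearMap ∘ₗ g.codRestrict _ hg
    have hf : ∀ x : ↥L, algebraMap O K (f x) = y ⬝ᵥ (x : Fin n → K) := by
      intro x
      have := σ.apply_symm_apply (g.codRestrict _ hg x)
      exact congrArg Subtype.val this
    refine ⟨f, ?_⟩
    funext i
    rw [Psi_apply, hf]
    change y ⬝ᵥ Pi.single i 1 = y i
    rw [dotProduct_single, mul_one]

/-- `Hom_O(L, O) ≃ L^∨` -/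
noncomputable def dualEquiv : Module.Dual O ↥L ≃ₗ[O] ↥(dual L) :=
  (LinearEquiv.ofInjective (Psi L hL) (Psi_injective L hL)).trans
    (LinearEquiv.ofEq _ _ (range_Psi L hL))

end psi

end Groth.Agent.Lib.helper15.LatDual
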