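import Mathlib
import Groth.Agent.Lib.Helper15.LatDual
import Groth.Agent.Lib.Helper15.CanDual4

/-!
# Duality of lattices in `K^n` over a one-dimensional Gorenstein local domain (helper15)

`O` a one-dimensional Noetherian local domain with fraction field `K` such that `K ⧸ O` is an
injective `O`-module (i.e. `O` is Gorenstein).  For `O`-submodules of `K^n`, with
`dual L = {y | ∀ x ∈ L, y ⬝ x ∈ O}`:

* `rl_dual_le` : `ℓ(J^∨ / I^∨) ≤ ℓ(I / J)`;
* for an interval `[A, B]` with `A^∨ = B`, `B^∨ = A`, `ℓ(B/A) < ∞` and `A ≤ L ≤ B`: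
  `rl_dual_top` (`ℓ(B / L^∨) = ℓ(L / A)`), `rl_bot_dual` (`ℓ(L^∨ / A) = ℓ(B / L)`),
  `dual_dual` (`L^∨∨ = L`);
* `dual_pi` : `(I^n)^∨ = (O : I)^n`; `rl_pi` : `ℓ(I^n / J^n) = n ℓ(I / J)`.
-/

set_option autoImplicit false
set_option linter.style.haveILetI false
set_option linter.unusedSectionVars false

universe u

namespace Groth.Agent.Lib.helper15.LatDual

open Groth.Agent.Lib.helper15.RelLen Groth.Agent.Lib.helper15.CanDual
  Groth.Agent.Lib.helper15.TFCurv

section lam

variable {O : Type u} [CommRing O] {K : Type u} [Field K] [Algebra O K] {n : ℕ}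

theorem dual_anti {I J : Submodule O (Fin n → K)} (h : I ≤ J) : dual J ≤ dual I :=
  fun _ hy x hx => hy x (h hx)

theorem le_dual_dual (I : Submodule O (Fin n → K)) : I ≤ dual (dual I) := by
  intro x hx y hy
  rw [dotProduct_comm]
  exact hy x hx

/-- the map `J^∨ → Hom(I/J, K/O)` -/
noncomputable def LamN (J I : Submodule O (Fin n → K)) :
    ↥(dual J) →ₗ[O] ((↥I ⧸ J.submoduleOf I) →ₗ[O] (K ⧸ (1 : Submodule O K))) where
  toFun y := Submodule.liftQ (J.submoduleOf I)
    ((1 : Submodule O K).mkQ ∘ₗ dotL (y : Fin n → K) ∘ₗ I.subtype) (by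
      intro i hi
      rw [LinearMap.mem_ker]
      simp only [LinearMap.comp_apply, Submodule.subtype_apply, dotL_apply]
      rw [Submodule.mkQ_apply, Submodule.Quotient.mk_eq_zero]
      exact y.2 _ hi)
  map_add' y z := by
    apply Submodule.linearMap_qext
    ext i
    simp only [LinearMap.comp_apply, LinearMap.add_apply, Submodule.mkQ_apply,
      Submodule.liftQ_apply, Submodule.subtype_apply, dotL_apply, Submodule.coe_add,
      add_dotProduct, Submodule.Quotient.mk_add]
  map_smul' c y := by
    apply Submodule.linearMap_qext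
    ext i
    simp only [LinearMap.comp_apply, LinearMap.smul_apply, Submodule.mkQ_apply,
      Submodule.liftQ_apply, Submodule.subtype_apply, dotL_apply, Submodule.coe_smul,
      smul_dotProduct, Submodule.Quotient.mk_smul, RingHom.id_apply]

theorem LamN_apply (J I : Submodule O (Fin n → K)) (y : ↥(dual J)) (i : ↥I) :
    LamN J I y (Submodule.Quotient.mk i) =
      (1 : Submodule O K).mkQ ((y : Fin n → K) ⬝ᵥ (i : Fin n → K)) := by
  change Submodule.liftQ (J.submoduleOf I) _ _ (Submodule.Quotient.mk i) = _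
  rw [Submodule.liftQ_apply]
  rfl

theorem ker_LamN (J I : Submodule O (Fin n → K)) :
    LinearMap.ker (LamN J I) = (dual I).submoduleOf (dual J) := by
  ext y
  rw [LinearMap.mem_ker]
  change _ ↔ (y : Fin n → K) ∈ dual I
  rw [mem_dual]
  constructor
  · intro h i hi
    have := LamN_apply J I y ⟨i, hi⟩
    rw [h, LinearMap.zero_apply] at this
    rw [← Submodule.Quotient.mk_eq_zero, ← Submodule.mkQ_apply]
    exact this.symm
  · intro h
    apply Submodule.linearMap_qext
    ext i
    change LamN J I y (Submodule.Quotient.mk i) = 0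
    rw [LamN_apply, Submodule.mkQ_apply, Submodule.Quotient.mk_eq_zero]
    exact h _ i.2

end lam

section duality

variable {O : Type u} [CommRing O] [IsDomain O] [IsNoetherianRing O] [IsLocalRing O]
  {K : Type u} [Field K] [Algebra O K] [IsFractionRing O K] {n : ℕ}

/-- `ℓ(J^∨ / I^∨) ≤ ℓ(I / J)` -/
theorem rl_dual_le (hdim : ringKrullDim O = 1) [Module.Injective O (K ⧸ (1 : Submodule O K))]
    (J I : Submodule O (Fin n → K)) (hfin : rl J I ≠ ⊤) :
    rl (dual I) (dual J) ≤ rl J I := by
  have h1 := length_hom_eq_mul (K ⧸ (1 : Submodule O K)) (↥I ⧸ J.submoduleOf I)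
    (Module.length_ne_top_iff.mp hfin)
  rw [length_hom_residueField_eq_one hdim (1 : Submodule O K) one_ne_bot one_fg', mul_one] at h1
  unfold rl
  have h2 : Module.length O (↥(dual J) ⧸ LinearMap.ker (LamN J I)) =
      Module.length O ↥(LinearMap.range (LamN J I)) :=
    LinearEquiv.length_eq (LamN J I).quotKerEquivRange
  rw [← ker_LamN, ← h1, h2]
  exact Module.length_le_of_injective (LinearMap.range (LamN J I)).subtype
    (Submodule.subtype_injective _)

section interval

variable (hdim : ringKrullDim O = 1) [Module.Injective O (K ⧸ (1 : Submodule O K))]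
  {A B : Submodule O (Fin n → K)} (hA : dual A = B) (hB : dual B = A) (hfin : rl A B ≠ ⊤)

include hdim hA hB hfin

theorem interval_aux {L : Submodule O (Fin n → K)} (h1 : A ≤ L) (h2 : L ≤ B) :
    rl (dual L) B = rl A L ∧ rl A (dual L) = rl L B := by
  have hd1 : A ≤ dual L := hB ▸ dual_anti h2
  have hd2 : dual L ≤ B := hA ▸ dual_anti h1
  have e1 := rl_add h1 h2
  have e2 := rl_add hd1 hd2
  have f1 : rl A L ≠ ⊤ := by
    intro h
    rw [h, add_top] at e1
    exact hfin e1
  have f2 : rl L B ≠ ⊤ := by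
    intro h
    rw [h, top_add] at e1
    exact hfin e1
  have l1 : rl (dual L) B ≤ rl A L := by
    have := rl_dual_le hdim A L f1
    rwa [hA] at this
  have l2 : rl A (dual L) ≤ rl L B := by
    have := rl_dual_le hdim L B f2
    rwa [hB] at this
  -- `e1 : rl A B = rl L B + rl A L`, `e2 : rl A B = rl (dual L) B + rl A (dual L)`
  have f3 : rl (dual L) B ≠ ⊤ := ne_top_of_le_ne_top f1 l1
  have f4 : rl A (dual L) ≠ ⊤ := ne_top_of_le_ne_top f2 l2
  rw [e1] at e2
  lift rl A L to ℕ using f1 with a
  lift rl L B to ℕ using f2 with b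
  lift rl (dual L) B to ℕ using f3 with c
  lift rl A (dual L) to ℕ using f4 with d
  norm_cast at e2 l1 l2 ⊢
  omega

theorem rl_dual_top {L : Submodule O (Fin n → K)} (h1 : A ≤ L) (h2 : L ≤ B) :
    rl (dual L) B = rl A L := (interval_aux hdim hA hB hfin h1 h2).1

theorem rl_bot_dual {L : Submodule O (Fin n → K)} (h1 : A ≤ L) (h2 : L ≤ B) :
    rl A (dual L) = rl L B := (interval_aux hdim hA hB hfin h1 h2).2

theorem dual_dual {L : Submodule O (Fin n → K)} (h1 : A ≤ L) (h2 : L ≤ B) :
    dual (dual L) = L := by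
  have hd1 : A ≤ dual L := hB ▸ dual_anti h2
  have hd2 : dual L ≤ B := hA ▸ dual_anti h1
  have hdd1 : A ≤ dual (dual L) := hB ▸ dual_anti hd2
  apply le_antisymm _ (le_dual_dual L)
  have e1 : rl A (dual (dual L)) = rl A L := by
    rw [rl_bot_dual hdim hA hB hfin hd1 hd2, rl_dual_top hdim hA hB hfin h1 h2]
  have e2 := rl_add h1 (le_dual_dual L)
  rw [e1] at e2
  have f1 : rl A L ≠ ⊤ := by
    have e0 := rl_add h1 h2
    intro h
    rw [h, add_top] at e0
    exact hfin e0
  have h0 : rl L (dual (dual L)) = 0 := enat_aux2 f1 e2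
  exact (rl_eq_zero_iff _ _).1 h0

end interval

end duality

section pi

variable {O : Type u} [CommRing O] {K : Type u} [Field K] [Algebra O K] {n : ℕ}

/-- `(I^n)^∨ = (O : I)^n` -/
theorem dual_pi (I : Submodule O K) :
    dual (Submodule.pi Set.univ (fun _ : Fin n => I)) =
      Submodule.pi Set.univ (fun _ : Fin n => (1 : Submodule O K) / I) := by
  classical
  ext y
  rw [mem_dual, Submodule.mem_pi]
  constructor
  · intro h i _
    rw [Submodule.mem_div_iff_forall_mul_mem]
    intro a ha
    have hmem : (Pi.single i a : Fin n → K) ∈ Submodule.pi Set.univ (fun _ : Fin n => I) := by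
      rw [Submodule.mem_pi]
      intro j _
      by_cases hj : j = i
      · subst hj
        rw [Pi.single_eq_same]
        exact ha
      · rw [Pi.single_eq_of_ne hj]
        exact zero_mem _
    have := h _ hmem
    rwa [dotProduct_single] at this
  · intro h x hx
    rw [Submodule.mem_pi] at hx
    unfold dotProduct
    apply Submodule.sum_mem
    intro i _
    exact (Submodule.mem_div_iff_forall_mul_mem.1 (h i (Set.mem_univ i))) _ (hx i (Set.mem_univ i))

/-- `ℓ(I^n / J^n) = n ℓ(I / J)` -/
theorem rl_pi (J I : Submodule O K) :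
    rl (Submodule.pi Set.univ (fun _ : Fin n => J)) (Submodule.pi Set.univ (fun _ : Fin n => I)) =
      n * rl J I := by
  classical
  let φ : (Fin n → ↥I) →ₗ[O] (Fin n → K) :=
    LinearMap.pi (fun i => I.subtype ∘ₗ LinearMap.proj i)
  have hφ : ∀ x i, φ x i = (x i : K) := fun x i => rfl
  have h1 : (⊤ : Submodule O (Fin n → ↥I)).map φ = Submodule.pi Set.univ (fun _ : Fin n => I) := by
    ext y
    rw [Submodule.mem_map, Submodule.mem_pi]
    constructor
    · rintro ⟨x, _, rfl⟩ i _
      rw [hφ]
      exact (x i).2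
    · intro h
      exact ⟨fun i => ⟨y i, h i (Set.mem_univ i)⟩, Submodule.mem_top, rfl⟩
  have h2 : (Submodule.pi Set.univ (fun _ : Fin n => J)).comap φ =
      Submodule.pi Set.univ (fun _ : Fin n => J.submoduleOf I) := by
    ext x
    rw [Submodule.mem_comap, Submodule.mem_pi, Submodule.mem_pi]
    rfl
  rw [← h1, ← rl_map, h2, rl_top,
    (Submodule.quotientPi (fun _ : Fin n => J.submoduleOf I)).length_eq, Module.length_pi]
  rw [ENat.card_eq_coe_fintype_card, Fintype.card_fin]
  rfl

end pi

end Groth.Agent.Lib.helper15.LatDual
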