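import Mathlib
import Groth.Agent.Lib.Helper15.TFCurv1

/-!
# The normalisation of a one-dimensional local domain; a principal reduction of `𝔪` (helper15)

`O` a Noetherian local domain of dimension one with infinite residue field whose integral closure
`Õ` in the fraction field is a finite `O`-module.

* `isDedekindDomain_integralClosure`, `finite_primeSpectrum_integralClosure`,
  `isPrincipalIdealRing_integralClosure`: `Õ` is a semi-local principal ideal domain.
* `exists_reduction`: there is `x ∈ 𝔪`, `x ≠ 0`, with `𝔪 Õ = x Õ`.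
-/

set_option autoImplicit false
set_option linter.style.haveILetI false
set_option linter.unusedSectionVars false
universe u

namespace Groth.Agent.Lib.helper15.TFCurv

open IsLocalRing

variable (O : Type u) [CommRing O] [IsDomain O] [IsNoetherianRing O]
  (K : Type u) [Field K] [Algebra O K] [IsFractionRing O K]

theorem algebraMap_integralClosure_injective :
    Function.Injective (algebraMap O ↥(integralClosure O K)) := by
  intro a b hab
  apply IsFractionRing.injective O K
  exact congrArg (fun z : ↥(integralClosure O K) => (z : K)) hab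

theorem dimensionLEOne_of_krullDimLE [Ring.KrullDimLE 1 O] : Ring.DimensionLEOne O :=
  ⟨fun {_} hp hp' => Ring.krullDimLE_one_iff_of_noZeroDivisors.mp ‹_› _ hp hp'⟩

theorem isDedekindDomain_integralClosure [Ring.KrullDimLE 1 O]
    (hfin : Module.Finite O ↥(integralClosure O K)) :
    IsDedekindDomain ↥(integralClosure O K) := by
  haveI := dimensionLEOne_of_krullDimLE O
  haveI h1 : IsNoetherianRing ↥(integralClosure O K) :=
    isNoetherian_of_tower O (inferInstance : IsNoetherian O ↥(integralClosure O K))
  haveI h2 : Ring.DimensionLEOne ↥(integralClosure O K) := inferInstance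
  haveI h3 : IsIntegrallyClosed ↥(integralClosure O K) :=
    integralClosure.isIntegrallyClosedOfFiniteExtension K (L := K)
  exact { h1, h2, h3 with }

variable [IsLocalRing O]

theorem finite_primeSpectrum_of_local [Ring.KrullDimLE 1 O] : Finite (PrimeSpectrum O) := by
  classical
  refine Finite.of_injective (fun p : PrimeSpectrum O => (p.asIdeal = ⊥ : Prop)) ?_
  intro p q hpq
  have hpq' : (p.asIdeal = ⊥) ↔ (q.asIdeal = ⊥) := by
    simpa using hpq
  apply PrimeSpectrum.ext
  by_cases hp : p.asIdeal = ⊥
  · rw [hp, hpq'.mp hp]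
  · have hq : q.asIdeal ≠ ⊥ := fun h => hp (hpq'.mpr h)
    have h1 := Ring.krullDimLE_one_iff_of_noZeroDivisors.mp ‹_› _ hp p.2
    have h2 := Ring.krullDimLE_one_iff_of_noZeroDivisors.mp ‹_› _ hq q.2
    rw [IsLocalRing.eq_maximalIdeal h1, IsLocalRing.eq_maximalIdeal h2]

theorem finite_maximals_integralClosure [Ring.KrullDimLE 1 O]
    (hfin : Module.Finite O ↥(integralClosure O K)) :
    {I : Ideal ↥(integralClosure O K) | I.IsMaximal}.Finite := by
  haveI := finite_primeSpectrum_of_local O
  haveI : Finite (PrimeSpectrum ↥(integralClosure O K)) :=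
    Algebra.QuasiFinite.finite_primeSpectrum O ↥(integralClosure O K)
  refine (Set.finite_range (fun p : PrimeSpectrum ↥(integralClosure O K) => p.asIdeal)).subset ?_
  intro I hI
  exact ⟨⟨I, Ideal.IsMaximal.isPrime hI⟩, rfl⟩

theorem isPrincipalIdealRing_integralClosure [Ring.KrullDimLE 1 O]
    (hfin : Module.Finite O ↥(integralClosure O K)) :
    IsPrincipalIdealRing ↥(integralClosure O K) := by
  haveI := isDedekindDomain_integralClosure O K hfin
  exact IsPrincipalIdealRing.of_finite_maximals (finite_maximals_integralClosure O K hfin)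

/-- maximal ideals of the normalisation lie over the maximal ideal -/
theorem algebraMap_mem_of_isMaximal (P : Ideal ↥(integralClosure O K)) (hP : P.IsMaximal)
    (a : O) (ha : a ∈ maximalIdeal O) : algebraMap O ↥(integralClosure O K) a ∈ P := by
  haveI := hP
  have h1 : (P.comap (algebraMap O ↥(integralClosure O K))).IsMaximal :=
    Ideal.isMaximal_comap_of_isIntegral_of_isMaximal P
  have h2 := IsLocalRing.eq_maximalIdeal h1
  have : a ∈ P.comap (algebraMap O ↥(integralClosure O K)) := h2 ▸ ha
  exact this

/-- **a principal reduction of the maximal ideal**: `𝔪 Õ = x Õ` for some `x ∈ 𝔪` -/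
theorem exists_reduction [Ring.KrullDimLE 1 O] [Infinite (ResidueField O)]
    (hm : maximalIdeal O ≠ ⊥) (hfin : Module.Finite O ↥(integralClosure O K)) :
    ∃ x ∈ maximalIdeal O, x ≠ 0 ∧ ∀ a ∈ maximalIdeal O, ∃ c : ↥(integralClosure O K),
      algebraMap O ↥(integralClosure O K) a = algebraMap O ↥(integralClosure O K) x * c := by
  classical
  haveI := isPrincipalIdealRing_integralClosure O K hfin
  have hinj := algebraMap_integralClosure_injective O K
  set I : Ideal ↥(integralClosure O K) :=
    (maximalIdeal O).map (algebraMap O ↥(integralClosure O K)) with hI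
  obtain ⟨t, ht⟩ := (IsPrincipalIdealRing.principal I).principal
  have ht' : I = Ideal.span {t} := ht
  have ht0 : t ≠ 0 := by
    rintro rfl
    obtain ⟨a, ha, ha0⟩ := Submodule.exists_mem_ne_zero_of_ne_bot hm
    have h1 : algebraMap O ↥(integralClosure O K) a ∈ I := Ideal.mem_map_of_mem _ ha
    rw [ht', Ideal.mem_span_singleton', ] at h1
    obtain ⟨c, hc⟩ := h1
    rw [mul_zero] at hc
    exact ha0 (hinj (hc.symm.trans (map_zero _).symm))
  -- the linear map `𝔪 → Õ`
  let g : ↥(maximalIdeal O) →ₗ[O] ↥(integralClosure O K) :=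
    (Algebra.linearMap O ↥(integralClosure O K)) ∘ₗ (maximalIdeal O).subtype
  have hg : ∀ v : ↥(maximalIdeal O), g v = algebraMap O ↥(integralClosure O K) (v : O) :=
    fun v => rfl
  let N : Ideal ↥(integralClosure O K) → Submodule O ↥(maximalIdeal O) :=
    fun P => Submodule.comap g ((P * I).restrictScalars O)
  have hNmem : ∀ P v, v ∈ N P ↔ algebraMap O ↥(integralClosure O K) (v : O) ∈ P * I :=
    fun P v => Iff.rfl
  let S : Finset (Ideal ↥(integralClosure O K)) :=
    (finite_maximals_integralClosure O K hfin).toFinset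
  have hS : ∀ P, P ∈ S ↔ P.IsMaximal := fun P => by
    simp only [S, Set.Finite.mem_toFinset, Set.mem_ofPred_eq]
  obtain ⟨v, hv⟩ := exists_notMem_of_finset (O := O) (S.image N) (by
    intro N' hN'
    obtain ⟨P, hP, rfl⟩ := Finset.mem_image.mp hN'
    have hPmax := (hS P).mp hP
    intro htop
    have h1 : I ≤ P * I := by
      rw [hI, Ideal.map_le_iff_le_comap]
      intro a ha
      have : (⟨a, ha⟩ : ↥(maximalIdeal O)) ∈ N P := htop ▸ Submodule.mem_top
      exact (hNmem P _).mp this
    have h2 : t ∈ P * I := h1 (ht' ▸ Ideal.mem_span_singleton_self t)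
    rw [ht', Ideal.mem_mul_span_singleton] at h2
    obtain ⟨z, hz, hzt⟩ := h2
    have h3 : (z - 1) * t = 0 := by rw [sub_mul, hzt, one_mul, sub_self]
    have h4 : z = 1 := by
      rcases mul_eq_zero.mp h3 with h | h
      · exact sub_eq_zero.mp h
      · exact absurd h ht0
    exact hPmax.ne_top ((Ideal.eq_top_iff_one P).mpr (h4 ▸ hz))) (by
    intro N' hN'
    obtain ⟨P, hP, rfl⟩ := Finset.mem_image.mp hN'
    have hPmax := (hS P).mp hP
    rw [Submodule.smul_le]
    intro a ha w _
    rw [hNmem]
    have h1 : ((a • w : ↥(maximalIdeal O)) : O) = a * (w : O) := rfl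
    rw [h1, map_mul]
    exact Ideal.mul_mem_mul (algebraMap_mem_of_isMaximal O K P hPmax a ha)
      (Ideal.mem_map_of_mem _ w.2))
  have hvI : algebraMap O ↥(integralClosure O K) (v : O) ∈ I := Ideal.mem_map_of_mem _ v.2
  rw [ht', Ideal.mem_span_singleton'] at hvI
  obtain ⟨u, hu⟩ := hvI
  have hunit : IsUnit u := by
    by_contra hnu
    obtain ⟨P, hPmax, huP⟩ := exists_max_ideal_of_mem_nonunits (mem_nonunits_iff.mpr hnu)
    apply hv (N P) (Finset.mem_image.mpr ⟨P, (hS P).mpr hPmax, rfl⟩)
    rw [hNmem, ← hu, ht']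
    exact Ideal.mul_mem_mul huP (Ideal.mem_span_singleton_self t)
  obtain ⟨u', rfl⟩ := hunit
  refine ⟨(v : O), v.2, ?_, ?_⟩
  · intro h0
    rw [h0, map_zero] at hu
    rcases mul_eq_zero.mp hu with h | h
    · exact u'.ne_zero h
    · exact ht0 h
  · intro a ha
    have haI : algebraMap O ↥(integralClosure O K) a ∈ I := Ideal.mem_map_of_mem _ ha
    rw [ht', Ideal.mem_span_singleton'] at haI
    obtain ⟨c, hc⟩ := haI
    refine ⟨c * ↑u'⁻¹, ?_⟩
    rw [← hu, ← hc]
    calc c * t = c * ((↑u'⁻¹ * ↑u') * t) := by rw [Units.inv_mul, one_mul]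
      _ = ↑u' * t * (c * ↑u'⁻¹) := by ring

end Groth.Agent.Lib.helper15.TFCurv
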