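import Mathlib
import Groth.Agent.Lib.Helper15.TFCurv1

/-!
# Choosing a basis of a free module over a semilocal ring inside a generating submodule (helper15)

`O` local with infinite residue field, `R` an `O`-algebra with finitely many maximal ideals all
containing the image of `𝔪_O`, `N` a free `R`-module with finite basis `b`, `M ⊆ N` an
`O`-submodule generating `N` over `R`. Then some family in `M` is an `R`-basis of `N`.
-/

set_option autoImplicit false
set_option linter.style.haveILetI false
set_option linter.unusedSectionVars false
universe u v w

namespace Groth.Agent.Lib.helper15.TFCurv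

open IsLocalRing

section core

variable {O : Type u} [CommRing O] [IsLocalRing O] [Infinite (ResidueField O)]
  {R : Type v} [CommRing R] [Algebra O R]
  {N : Type w} [AddCommGroup N] [Module R N] [Module O N] [IsScalarTower O R N]
  {ι : Type*} [Fintype ι] [DecidableEq ι]

/-- the submodule of `m ∈ M` with `det(v with i-th entry m) ∈ P` -/
def detSub (b : Module.Basis ι R N) (M : Submodule O N) (P : Ideal R) (v : ι → N) (i : ι) :
    Submodule O M where
  carrier := {m | b.det (Function.update v i (m : N)) ∈ P}
  add_mem' := by
    intro x y hx hy
    simp only [Set.mem_ofPred_eq] at hx hy ⊢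
    rw [Submodule.coe_add, AlternatingMap.map_update_add]
    exact P.add_mem hx hy
  zero_mem' := by
    simp only [Set.mem_ofPred_eq]
    rw [Submodule.coe_zero, AlternatingMap.map_update_zero]
    exact P.zero_mem
  smul_mem' := by
    intro c x hx
    simp only [Set.mem_ofPred_eq] at hx ⊢
    rw [Submodule.coe_smul, ← algebraMap_smul R c (x : N), AlternatingMap.map_update_smul]
    exact P.mul_mem_left _ hx

theorem mem_detSub (b : Module.Basis ι R N) (M : Submodule O N) (P : Ideal R) (v : ι → N) (i : ι)
    (m : M) : m ∈ detSub b M P v i ↔ b.det (Function.update v i (m : N)) ∈ P := Iff.rfl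

theorem exists_family_isUnit_det
    (hfinmax : {P : Ideal R | P.IsMaximal}.Finite)
    (hlie : ∀ P : Ideal R, P.IsMaximal → ∀ a ∈ maximalIdeal O, algebraMap O R a ∈ P)
    (b : Module.Basis ι R N) (M : Submodule O N)
    (hM : Submodule.span R (M : Set N) = ⊤) :
    ∃ e : ι → N, (∀ i, e i ∈ M) ∧ IsUnit (b.det e) := by
  classical
  have key : ∀ s : Finset ι, ∃ e : ι → N, (∀ i ∈ s, e i ∈ M) ∧
      ∀ P : Ideal R, P.IsMaximal → ∃ v : ι → N, (∀ i ∈ s, v i = e i) ∧ b.det v ∉ P := by
    intro s
    induction s using Finset.induction_on with
    | empty =>
      refine ⟨b, by simp, fun P hP => ⟨b, by simp, ?_⟩⟩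
      rw [b.det_self]
      exact fun h => hP.ne_top ((Ideal.eq_top_iff_one P).mpr h)
    | insert i s his ih =>
      obtain ⟨e, he, hv⟩ := ih
      choose v hv1 hv2 using hv
      let v' : Ideal R → ι → N := fun P => if h : P.IsMaximal then v P h else b
      have hv' : ∀ P (h : P.IsMaximal), v' P = v P h := fun P h => dif_pos h
      let W : Ideal R → Submodule O M := fun P => detSub b M P (v' P) i
      obtain ⟨m, hm⟩ := exists_notMem_of_finset (hfinmax.toFinset.image W) (by
        intro S hS
        rw [Finset.mem_image] at hS
        obtain ⟨P, hP, rfl⟩ := hS
        rw [Set.Finite.mem_toFinset] at hP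
        have hP' : P.IsMaximal := hP
        intro htop
        -- the `R`-linear functional `x ↦ det (update v i x)`
        let L : N →ₗ[R] R := (b.det : MultilinearMap R (fun _ : ι => N) R).toLinearMap (v' P) i
        have hL : ∀ x, L x = b.det (Function.update (v' P) i x) := fun x => rfl
        have hle : Submodule.span R (M : Set N) ≤ (P.restrictScalars R).comap L := by
          rw [Submodule.span_le]
          intro x hx
          have : (⟨x, hx⟩ : M) ∈ W P := htop ▸ Submodule.mem_top
          exact this
        rw [hM] at hle
        have h3 : L (v' P i) ∈ P := hle Submodule.mem_top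
        rw [hL, Function.update_eq_self, hv' P hP'] at h3
        exact hv2 P hP' h3) (by
        intro S hS
        rw [Finset.mem_image] at hS
        obtain ⟨P, hP, rfl⟩ := hS
        rw [Set.Finite.mem_toFinset] at hP
        have hP' : P.IsMaximal := hP
        rw [Submodule.smul_le]
        intro a ha x _
        change b.det (Function.update (v' P) i ((a • x : M) : N)) ∈ P
        rw [Submodule.coe_smul, ← algebraMap_smul R a (x : N), AlternatingMap.map_update_smul]
        exact P.mul_mem_right _ (hlie P hP' a ha))
      refine ⟨Function.update e i (m : N), ?_, ?_⟩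
      · intro j hj
        rw [Finset.mem_insert] at hj
        by_cases hji : j = i
        · subst hji
          rw [Function.update_self]
          exact m.2
        · rw [Function.update_of_ne hji]
          exact he j (hj.resolve_left hji)
      · intro P hP
        refine ⟨Function.update (v P hP) i (m : N), ?_, ?_⟩
        · intro j hj
          rw [Finset.mem_insert] at hj
          by_cases hji : j = i
          · subst hji
            rw [Function.update_self, Function.update_self]
          · rw [Function.update_of_ne hji, Function.update_of_ne hji]
            exact hv1 P hP j (hj.resolve_left hji)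
        · have h4 : m ∉ W P := hm (W P) (Finset.mem_image_of_mem W
            ((Set.Finite.mem_toFinset hfinmax).mpr hP))
          intro h5
          apply h4
          change b.det (Function.update (v' P) i (m : N)) ∈ P
          rw [hv' P hP]
          exact h5
  obtain ⟨e, he, hv⟩ := key Finset.univ
  refine ⟨e, fun i => he i (Finset.mem_univ i), ?_⟩
  by_contra hnu
  obtain ⟨P, hP, hmem⟩ := exists_max_ideal_of_mem_nonunits hnu
  obtain ⟨v, hve, hvP⟩ := hv P hP
  have : v = e := funext fun i => hve i (Finset.mem_univ i)
  rw [this] at hvP
  exact hvP hmem

end core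

end Groth.Agent.Lib.helper15.TFCurv
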