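import Mathlib
import Groth.Agent.Lib.Helper15.LatDual2
import Groth.Agent.Lib.Helper15.TFCurv3
import Groth.Agent.Lib.Helper15.TFCurv5
import Groth.Agent.S15009

/-!
# Shrinking a lattice over the conductor by one (helper15)

`O` a one-dimensional Gorenstein local domain with algebraically closed residue field and finite
normalisation `Õ`, `C = (O : Õ)` the conductor.  If `C^n ≤ L ≤ Õ^n` and `ℓ(L / C^n) > ℓ(Õ^n / O^n)`
then `L` is isomorphic to a lattice `L'` with `C^n ≤ L' ≤ Õ^n` and `ℓ(L / C^n) = ℓ(L' / C^n) + 1`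
(`shrink`).
-/

set_option autoImplicit false
set_option linter.style.haveILetI false
set_option linter.unusedSectionVars false

universe u

namespace Groth.Agent.Lib.helper15.LatDual

open Groth.Agent.Lib.helper15.RelLen Groth.Agent.Lib.helper15.CanDual
  Groth.Agent.Lib.helper15.TFCurv

section simple

variable {O : Type u} [CommRing O] [IsLocalRing O] [IsAlgClosed (IsLocalRing.ResidueField O)]
  {R : Type u} [CommRing R] [Algebra O R] [Algebra.IsIntegral O R]

/-- `R = O + 𝔪` for every maximal ideal `𝔪` of an integral `O`-algebra -/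
theorem exists_sub_mem_of_isMaximal (𝔪 : Ideal R) [h𝔪 : 𝔪.IsMaximal] (a : R) :
    ∃ o : O, a - algebraMap O R o ∈ 𝔪 := by
  letI : Field (R ⧸ 𝔪) := Ideal.Quotient.field 𝔪
  have hcomap : 𝔪.comap (algebraMap O R) = IsLocalRing.maximalIdeal O :=
    IsLocalRing.eq_maximalIdeal (Ideal.isMaximal_comap_of_isIntegral_of_isMaximal 𝔪)
  let f : IsLocalRing.ResidueField O →+* R ⧸ 𝔪 :=
    Ideal.Quotient.lift (IsLocalRing.maximalIdeal O)
      ((Ideal.Quotient.mk 𝔪).comp (algebraMap O R)) (by
        intro x hx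
        rw [← hcomap] at hx
        rw [RingHom.comp_apply, Ideal.Quotient.eq_zero_iff_mem]
        exact hx)
  have hfc : f.comp (IsLocalRing.residue O) = (Ideal.Quotient.mk 𝔪).comp (algebraMap O R) := by
    ext x
    rfl
  have hf : f.IsIntegral := by
    intro y
    obtain ⟨b, rfl⟩ := Ideal.Quotient.mk_surjective y
    obtain ⟨p, hp, hpb⟩ := Algebra.IsIntegral.isIntegral (R := O) b
    refine ⟨p.map (IsLocalRing.residue O), hp.map _, ?_⟩
    rw [Polynomial.eval₂_map, hfc, ← Polynomial.hom_eval₂, hpb, map_zero]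
  obtain ⟨z, hz⟩ := (IsAlgClosed.ringHom_bijective_of_isIntegral f hf).2 (Ideal.Quotient.mk 𝔪 a)
  obtain ⟨o, rfl⟩ := IsLocalRing.residue_surjective z
  refine ⟨o, ?_⟩
  rw [← Ideal.Quotient.eq_zero_iff_mem, map_sub, sub_eq_zero]
  exact hz.symm

/-- a simple module over an integral `O`-algebra is a simple `O`-module -/
theorem isSimpleModule_of_tower {S : Type*} [AddCommGroup S] [Module R S] [Module O S]
    [IsScalarTower O R S] [IsSimpleModule R S] : IsSimpleModule O S := by
  haveI hmax : (Module.annihilator R S).IsMaximal := IsSimpleModule.annihilator_isMaximal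
  rw [isSimpleModule_iff_toSpanSingleton_surjective]
  refine ⟨IsSimpleModule.nontrivial R S, fun x hx y => ?_⟩
  obtain ⟨a, rfl⟩ := IsSimpleModule.toSpanSingleton_surjective R hx y
  obtain ⟨o, ho⟩ := exists_sub_mem_of_isMaximal (O := O) (Module.annihilator R S) a
  refine ⟨o, ?_⟩
  have := Module.mem_annihilator.1 ho x
  rw [sub_smul, sub_eq_zero, algebraMap_smul] at this
  simp only [LinearMap.toSpanSingleton_apply]
  exact this.symm

/-- a proper submodule of a finite module lies in a submodule of `O`-colength one -/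
theorem exists_colength_one {N : Type u} [AddCommGroup N] [Module R N] [Module O N]
    [IsScalarTower O R N] [Module.Finite R N] (N₀ : Submodule R N) (h : N₀ ≠ ⊤) :
    ∃ P : Submodule R N, N₀ ≤ P ∧ Module.length O (N ⧸ P.restrictScalars O) = 1 := by
  obtain ⟨P, hP, hle⟩ := (eq_top_or_exists_le_coatom N₀).resolve_left h
  refine ⟨P, hle, ?_⟩
  haveI : IsSimpleModule R (N ⧸ P) := isSimpleModule_iff_isCoatom.mpr hP
  haveI : IsSimpleModule O (N ⧸ P) := isSimpleModule_of_tower (R := R)
  rw [(Submodule.Quotient.restrictScalarsEquiv O P).length_eq]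
  exact Module.length_eq_one O (N ⧸ P)

end simple

section stab

variable {O : Type u} [CommRing O] {K : Type u} [Field K] [Algebra O K] {n : ℕ}

/-- `Õ ⊆ K` as a submodule -/
abbrev OT (O : Type u) [CommRing O] (K : Type u) [Field K] [Algebra O K] : Submodule O K :=
  Subalgebra.toSubmodule (integralClosure O K)

/-- `Õ^n ⊆ K^n` -/
abbrev OTn (O : Type u) [CommRing O] (K : Type u) [Field K] [Algebra O K] (n : ℕ) :
    Submodule O (Fin n → K) :=
  Submodule.pi Set.univ (fun _ : Fin n => OT O K)

/-- `C^n ⊆ K^n`, `C = (O : Õ)` the conductor -/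
abbrev Cn (O : Type u) [CommRing O] (K : Type u) [Field K] [Algebra O K] (n : ℕ) :
    Submodule O (Fin n → K) :=
  Submodule.pi Set.univ (fun _ : Fin n => (1 : Submodule O K) / OT O K)

/-- stability under the normalisation -/
def Stab (W : Submodule O (Fin n → K)) : Prop :=
  ∀ (a : ↥(integralClosure O K)) (x : Fin n → K), x ∈ W → a • x ∈ W

/-- a stable submodule as a module over the normalisation -/
def toR (W : Submodule O (Fin n → K)) (hW : Stab W) :
    Submodule ↥(integralClosure O K) (Fin n → K) where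
  carrier := W
  add_mem' := W.add_mem
  zero_mem' := W.zero_mem
  smul_mem' := fun a x hx => hW a x hx

theorem mem_toR {W : Submodule O (Fin n → K)} (hW : Stab W) (x : Fin n → K) :
    x ∈ toR W hW ↔ x ∈ W := Iff.rfl

theorem stab_OTn : Stab (OTn O K n) := by
  intro a x hx
  rw [Submodule.mem_pi] at hx ⊢
  intro i _
  rw [Pi.smul_apply]
  exact (integralClosure O K).mul_mem a.2 (hx i (Set.mem_univ i))

theorem stab_dual {P : Submodule O (Fin n → K)} (hP : Stab P) : Stab (dual P) := by
  intro a y hy x hx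
  have h1 : (a • y) ⬝ᵥ x = y ⬝ᵥ (a • x) := by
    rw [smul_dotProduct, dotProduct_smul]
  rw [h1]
  exact hy _ (hP a x hx)

theorem stab_map (T : (Fin n → K) ≃ₗ[K] (Fin n → K)) {W : Submodule O (Fin n → K)}
    (hW : Stab W) : Stab (W.map (T.restrictScalars O).toLinearMap) := by
  rintro a _ ⟨x, hx, rfl⟩
  refine ⟨a • x, hW a x hx, ?_⟩
  change T (a • x) = a • T x
  exact T.toLinearMap.map_smul_of_tower a x

theorem stab_comap (T : (Fin n → K) ≃ₗ[K] (Fin n → K)) {W : Submodule O (Fin n → K)}
    (hW : Stab W) : Stab (W.comap (T.restrictScalars O).toLinearMap) := by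
  intro a x hx
  rw [Submodule.mem_comap] at hx ⊢
  have : (T.restrictScalars O).toLinearMap (a • x) = a • (T.restrictScalars O).toLinearMap x :=
    T.toLinearMap.map_smul_of_tower a x
  rw [this]
  exact hW a _ hx

theorem On_le_of_single_mem {W : Submodule O (Fin n → K)}
    (h : ∀ i : Fin n, (Pi.single i (1 : K) : Fin n → K) ∈ W) : On O K n ≤ W := by
  classical
  intro x hx
  rw [Submodule.mem_pi] at hx
  have hx' : ∀ i, ∃ c : O, algebraMap O K c = x i := fun i =>
    Submodule.mem_one.mp (hx i (Set.mem_univ i))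
  choose c hc using hx'
  have : x = ∑ i, c i • (Pi.single i (1 : K) : Fin n → K) := by
    funext j
    rw [Finset.sum_apply, Finset.sum_eq_single j]
    · rw [Pi.smul_apply, Pi.single_eq_same, Algebra.smul_def, mul_one, hc]
    · intro b _ hb
      rw [Pi.smul_apply, Pi.single_eq_of_ne (Ne.symm hb), smul_zero]
    · intro h
      exact absurd (Finset.mem_univ j) h
  rw [this]
  exact Submodule.sum_mem _ fun i _ => Submodule.smul_mem _ _ (h i)

theorem OTn_le_of_stab {W : Submodule O (Fin n → K)} (hW : Stab W) (h : On O K n ≤ W) :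
    OTn O K n ≤ W := by
  classical
  intro x hx
  rw [Submodule.mem_pi] at hx
  have : x = ∑ i, (⟨x i, hx i (Set.mem_univ i)⟩ : ↥(integralClosure O K)) •
      (Pi.single i (1 : K) : Fin n → K) := by
    funext j
    rw [Finset.sum_apply, Finset.sum_eq_single j]
    · rw [Pi.smul_apply, Pi.single_eq_same, Subalgebra.smul_def, smul_eq_mul, mul_one]
    · intro b _ hb
      rw [Pi.smul_apply, Pi.single_eq_of_ne (Ne.symm hb), smul_zero]
    · intro h
      exact absurd (Finset.mem_univ j) h
  rw [this]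
  exact Submodule.sum_mem _ fun i _ => hW _ _ (h (single_one_mem_On i))

theorem On_le_OTn : On O K n ≤ OTn O K n := by
  intro x hx
  rw [Submodule.mem_pi] at hx ⊢
  intro i hi
  obtain ⟨c, hc⟩ := Submodule.mem_one.mp (hx i hi)
  rw [← hc]
  exact (integralClosure O K).algebraMap_mem c

theorem rl_map_inj {R : Type*} [Ring R] {M N : Type*} [AddCommGroup M] [Module R M]
    [AddCommGroup N] [Module R N] (φ : M →ₗ[R] N) (hφ : Function.Injective φ)
    (Q P : Submodule R M) : rl (Q.map φ) (P.map φ) = rl Q P := by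
  rw [← rl_map, Submodule.comap_map_eq_of_injective hφ]

theorem rl_anti_left {R : Type*} [Ring R] {M : Type*} [AddCommGroup M] [Module R M]
    {Q₁ Q₂ S : Submodule R M} (h1 : Q₁ ≤ Q₂) (h2 : Q₂ ≤ S) : rl Q₂ S ≤ rl Q₁ S := by
  rw [rl_add h1 h2]
  exact le_self_add

end stab

section move

variable {O : Type u} [CommRing O] [IsDomain O] [IsNoetherianRing O] [IsLocalRing O]
  {K : Type u} [Field K] [Algebra O K] [IsFractionRing O K] {n : ℕ}

theorem OTn_fg (hfin : Module.Finite O ↥(integralClosure O K)) : (OTn O K n).FG :=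
  Submodule.fg_pi fun _ => Module.Finite.iff_fg.mp hfin

/-- a nonzero element of the conductor -/
theorem exists_conductor_elt (hfin : Module.Finite O ↥(integralClosure O K)) :
    ∃ a : O, a ≠ 0 ∧ algebraMap O K a ∈ (1 : Submodule O K) / OT O K := by
  obtain ⟨a, ha0, ha⟩ := exists_smul_le (O := O) (K := K) (N := OT O K) (J := 1)
    (Module.Finite.iff_fg.mp hfin) one_ne_bot
  refine ⟨a, ha0, ?_⟩
  rw [Submodule.mem_div_iff_forall_mul_mem]
  intro x hx
  rw [← Algebra.smul_def]
  exact ha x hx

theorem span_eq_top_of_Cn_le (hfin : Module.Finite O ↥(integralClosure O K))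
    {W : Submodule O (Fin n → K)} (h : Cn O K n ≤ W) :
    Submodule.span K (Set.range W.subtype) = ⊤ := by
  classical
  obtain ⟨a, ha0, ha⟩ := exists_conductor_elt (O := O) (K := K) hfin
  have haK : algebraMap O K a ≠ 0 := algebraMap_ne_zero ha0
  rw [eq_top_iff, ← (Pi.basisFun K (Fin n)).span_eq, Submodule.span_le]
  rintro _ ⟨i, rfl⟩
  have hmem : Pi.single i (algebraMap O K a) ∈ W := by
    apply h
    rw [Submodule.mem_pi]
    intro j _
    by_cases hj : j = i
    · subst hj
      rw [Pi.single_eq_same]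
      exact ha
    · rw [Pi.single_eq_of_ne hj]
      exact zero_mem _
  have h1 : (Pi.basisFun K (Fin n)) i =
      (algebraMap O K a)⁻¹ • (Pi.single i (algebraMap O K a) : Fin n → K) := by
    rw [Pi.basisFun_apply]
    funext j
    rw [Pi.smul_apply, Pi.single_apply, Pi.single_apply]
    split_ifs
    · rw [smul_eq_mul, inv_mul_cancel₀ haK]
    · rw [smul_zero]
  rw [h1]
  exact Submodule.smul_mem _ _ (Submodule.subset_span ⟨⟨_, hmem⟩, rfl⟩)

/-- a lattice containing `C^n` can be moved between `O^n` and `Õ^n` -/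
theorem exists_move (hdim : ringKrullDim O = 1) [IsAlgClosed (IsLocalRing.ResidueField O)]
    (hfin : Module.Finite O ↥(integralClosure O K))
    {W : Submodule O (Fin n → K)} (h1 : Cn O K n ≤ W) (h2 : W ≤ OTn O K n) :
    ∃ T : (Fin n → K) ≃ₗ[K] (Fin n → K),
      On O K n ≤ W.map (T.restrictScalars O).toLinearMap ∧
      W.map (T.restrictScalars O).toLinearMap ≤ OTn O K n := by
  haveI : Module.Finite O ↥W := Module.Finite.iff_fg.mpr ((OTn_fg hfin).of_le h2)
  obtain ⟨T, hT1, hT2⟩ := Groth.Agent.S15009.exists_lattice_aux O hdim K hfin ↥W n W.subtype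
    (span_eq_top_of_Cn_le hfin h1)
  refine ⟨T, On_le_of_single_mem fun i => ?_, ?_⟩
  · obtain ⟨m, hm⟩ := hT1 i
    exact ⟨m, m.2, hm⟩
  · rintro _ ⟨x, hx, rfl⟩
    rw [Submodule.mem_pi]
    intro i _
    exact hT2 ⟨x, hx⟩ i

/-- the conductor is a principal ideal of the normalisation -/
theorem exists_conductor_gen (hdim : ringKrullDim O = 1)
    (hfin : Module.Finite O ↥(integralClosure O K)) :
    ∃ c : K, c ≠ 0 ∧ ∀ y : K, y ∈ (1 : Submodule O K) / OT O K ↔ c⁻¹ * y ∈ OT O K := by
  haveI : Ring.KrullDimLE 1 O := Ring.krullDimLE_iff.mpr hdim.le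
  haveI := isPrincipalIdealRing_integralClosure O K hfin
  let I : Ideal ↥(integralClosure O K) :=
    { carrier := {x | (x : K) ∈ (1 : Submodule O K) / OT O K}
      add_mem' := by
        intro x y hx hy
        change ((x + y : ↥(integralClosure O K)) : K) ∈ (1 : Submodule O K) / OT O K
        rw [Subalgebra.coe_add]
        exact add_mem hx hy
      zero_mem' := by
        change ((0 : ↥(integralClosure O K)) : K) ∈ (1 : Submodule O K) / OT O K
        rw [Subalgebra.coe_zero]
        exact zero_mem _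
      smul_mem' := by
        intro a x hx
        change ((a * x : ↥(integralClosure O K)) : K) ∈ (1 : Submodule O K) / OT O K
        rw [Subalgebra.coe_mul]
        have hx' : (x : K) ∈ (1 : Submodule O K) / OT O K := hx
        rw [Submodule.mem_div_iff_forall_mul_mem] at hx' ⊢
        intro z hz
        have : (a : K) * (x : K) * z = (x : K) * ((a : K) * z) := by ring
        rw [this]
        exact hx' _ ((integralClosure O K).mul_mem a.2 hz) }
  have hI : ∀ x : ↥(integralClosure O K), x ∈ I ↔ (x : K) ∈ (1 : Submodule O K) / OT O K :=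
    fun x => Iff.rfl
  obtain ⟨c₀, hc₀⟩ := (IsPrincipalIdealRing.principal I).principal
  have hc₀' : I = Ideal.span {c₀} := hc₀
  obtain ⟨a, ha0, ha⟩ := exists_conductor_elt (O := O) (K := K) hfin
  have hc0 : (c₀ : K) ≠ 0 := by
    intro h
    have h0 : c₀ = 0 := Subtype.ext h
    have haI : (⟨algebraMap O K a, (integralClosure O K).algebraMap_mem a⟩ :
        ↥(integralClosure O K)) ∈ I := (hI _).2 ha
    rw [hc₀', h0, Ideal.span_singleton_zero, Ideal.mem_bot] at haI
    have : algebraMap O K a = 0 := congrArg Subtype.val haI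
    exact algebraMap_ne_zero ha0 this
  refine ⟨(c₀ : K), hc0, fun y => ?_⟩
  constructor
  · intro hy
    have hyOT : y ∈ OT O K := by
      have := (Submodule.mem_div_iff_forall_mul_mem.1 hy) 1 ((integralClosure O K).one_mem)
      rw [mul_one] at this
      obtain ⟨o, rfl⟩ := Submodule.mem_one.1 this
      exact (integralClosure O K).algebraMap_mem o
    have hyI : (⟨y, hyOT⟩ : ↥(integralClosure O K)) ∈ I := (hI _).2 hy
    rw [hc₀', Ideal.mem_span_singleton'] at hyI
    obtain ⟨b, hb⟩ := hyI
    have hb' : (b : K) * (c₀ : K) = y := by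
      have := congrArg Subtype.val hb
      rwa [Subalgebra.coe_mul] at this
    have : (c₀ : K)⁻¹ * y = (b : K) := by
      rw [← hb']
      field_simp
    rw [this]
    exact b.2
  · intro hy
    have hmem : (c₀ * ⟨(c₀ : K)⁻¹ * y, hy⟩ : ↥(integralClosure O K)) ∈ I := by
      rw [hc₀']
      exact Ideal.mul_mem_right _ _ (Ideal.mem_span_singleton_self c₀)
    have h2 := (hI _).1 hmem
    rw [Subalgebra.coe_mul] at h2
    have : (c₀ : K) * ((c₀ : K)⁻¹ * y) = y := by
      field_simp
    rwa [this] at h2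

/-- a proper stable submodule of `Õ^n` lies in a stable submodule of colength one -/
theorem exists_colength_one_stab [IsAlgClosed (IsLocalRing.ResidueField O)]
    (hfin : Module.Finite O ↥(integralClosure O K))
    {Q : Submodule O (Fin n → K)} (hQst : Stab Q) (hQ2 : Q ≤ OTn O K n) (hQne : Q ≠ OTn O K n) :
    ∃ P : Submodule O (Fin n → K), Q ≤ P ∧ P ≤ OTn O K n ∧ Stab P ∧ rl P (OTn O K n) = 1 := by
  classical
  let OTnR : Submodule ↥(integralClosure O K) (Fin n → K) := toR (OTn O K n) stab_OTn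
  let QR : Submodule ↥(integralClosure O K) (Fin n → K) := toR Q hQst
  -- finiteness
  haveI hfinO : Module.Finite O ↥OTnR := by
    have : Module.Finite O ↥(OTn O K n) := Module.Finite.iff_fg.mpr (OTn_fg hfin)
    exact this
  haveI : Module.Finite ↥(integralClosure O K) ↥OTnR :=
    Module.Finite.of_restrictScalars_finite O _ _
  haveI : Algebra.IsIntegral O ↥(integralClosure O K) := inferInstance
  have hN₀ : QR.submoduleOf OTnR ≠ ⊤ := by
    intro h
    apply hQne
    apply le_antisymm hQ2
    intro x hx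
    have : (⟨x, hx⟩ : ↥OTnR) ∈ QR.submoduleOf OTnR := h ▸ Submodule.mem_top
    exact this
  obtain ⟨P', hP'1, hP'2⟩ := exists_colength_one (O := O) (QR.submoduleOf OTnR) hN₀
  let P : Submodule O (Fin n → K) := (P'.map OTnR.subtype).restrictScalars O
  have hPmem : ∀ x : Fin n → K, x ∈ P ↔ ∃ h : x ∈ OTn O K n, (⟨x, h⟩ : ↥OTnR) ∈ P' := by
    intro x
    constructor
    · rintro ⟨p, hp, rfl⟩
      exact ⟨p.2, hp⟩
    · rintro ⟨h, hp⟩
      exact ⟨⟨x, h⟩, hp, rfl⟩
  refine ⟨P, ?_, ?_, ?_, ?_⟩
  · intro x hx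
    rw [hPmem]
    exact ⟨hQ2 hx, hP'1 (show (⟨x, hQ2 hx⟩ : ↥OTnR) ∈ QR.submoduleOf OTnR from hx)⟩
  · intro x hx
    exact ((hPmem x).1 hx).1
  · intro a x hx
    obtain ⟨h, hp⟩ := (hPmem x).1 hx
    rw [hPmem]
    exact ⟨stab_OTn a x h, P'.smul_mem a hp⟩
  · let φ : ↥OTnR →ₗ[O] (Fin n → K) := OTnR.subtype.restrictScalars O
    have hφ : ∀ x, φ x = (x : Fin n → K) := fun x => rfl
    have h1 : (⊤ : Submodule O ↥OTnR).map φ = OTn O K n := by
      ext x
      constructor
      · rintro ⟨p, _, rfl⟩
        exact p.2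
      · intro hx
        exact ⟨⟨x, hx⟩, Submodule.mem_top, rfl⟩
    have h2 : P.comap φ = P'.restrictScalars O := by
      ext x
      rw [Submodule.mem_comap, hφ, hPmem]
      constructor
      · rintro ⟨_, hp⟩
        exact hp
      · intro hp
        exact ⟨x.2, hp⟩
    rw [← h1, ← rl_map, h2, rl_top]
    exact hP'2

end move

section shrink

variable {O : Type u} [CommRing O] [IsDomain O] [IsNoetherianRing O] [IsLocalRing O]
  {K : Type u} [Field K] [Algebra O K] [IsFractionRing O K] {n : ℕ}

theorem OT_ne_bot : OT O K ≠ ⊥ := by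
  intro h
  have : (1 : K) ∈ OT O K := (integralClosure O K).one_mem
  rw [h, Submodule.mem_bot] at this
  exact one_ne_zero this

theorem dual_OTn : dual (OTn O K n) = Cn O K n := dual_pi (OT O K)

theorem dual_Cn (hdim : ringKrullDim O = 1) [Module.Injective O (K ⧸ (1 : Submodule O K))]
    (hfin : Module.Finite O ↥(integralClosure O K)) : dual (Cn O K n) = OTn O K n := by
  rw [Cn, dual_pi, div_div_of_fg (1 : Submodule O K) hdim one_ne_bot one_fg' OT_ne_bot
    (Module.Finite.iff_fg.mp hfin)]

theorem rl_Cn_OTn_ne_top (hdim : ringKrullDim O = 1)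
    (hfin : Module.Finite O ↥(integralClosure O K)) : rl (Cn O K n) (OTn O K n) ≠ ⊤ := by
  haveI : Ring.KrullDimLE 1 O := Ring.krullDimLE_iff.mpr hdim.le
  rw [rl_pi]
  have h0 : (1 : Submodule O K) / OT O K ≠ ⊥ := by
    obtain ⟨a, ha0, ha⟩ := exists_conductor_elt (O := O) (K := K) hfin
    intro h
    rw [h, Submodule.mem_bot] at ha
    exact algebraMap_ne_zero ha0 ha
  have h1 : rl ((1 : Submodule O K) / OT O K) (OT O K) ≠ ⊤ :=
    rl_ne_top h0 (Module.Finite.iff_fg.mp hfin)
  exact WithTop.mul_ne_top (ENat.natCast_ne_top n) h1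

/-- the shrinking step -/
theorem shrink (hdim : ringKrullDim O = 1) [IsAlgClosed (IsLocalRing.ResidueField O)]
    [Module.Injective O (K ⧸ (1 : Submodule O K))]
    (hfin : Module.Finite O ↥(integralClosure O K))
    (L : Submodule O (Fin n → K)) (h1 : Cn O K n ≤ L) (h2 : L ≤ OTn O K n)
    (hlt : rl (On O K n) (OTn O K n) < rl (Cn O K n) L) :
    ∃ L' : Submodule O (Fin n → K), Cn O K n ≤ L' ∧ L' ≤ OTn O K n ∧ Nonempty (↥L ≃ₗ[O] ↥L') ∧
      rl (Cn O K n) L = rl (Cn O K n) L' + 1 := by
  classical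
  have hA : dual (Cn O K n) = OTn O K n := dual_Cn hdim hfin
  have hB : dual (OTn O K n) = Cn O K n := dual_OTn
  have hfinAB : rl (Cn O K n) (OTn O K n) ≠ ⊤ := rl_Cn_OTn_ne_top hdim hfin
  -- step 1: the dual lattice
  set D := dual L with hD
  have hD1 : Cn O K n ≤ D := hB ▸ dual_anti h2
  have hD2 : D ≤ OTn O K n := hA ▸ dual_anti h1
  have hDrl : rl D (OTn O K n) = rl (Cn O K n) L := rl_dual_top hdim hA hB hfinAB h1 h2
  -- step 2: move it between `O^n` and `Õ^n`
  obtain ⟨T, hT1, hT2⟩ := exists_move hdim hfin hD1 hD2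
  -- step 3: the stable hull of `D`
  set Q := (OTn O K n).comap (T.restrictScalars O).toLinearMap with hQ
  have hDQ : D ≤ Q := Submodule.map_le_iff_le_comap.1 hT2
  have hQst : Stab Q := stab_comap T stab_OTn
  have hQ2 : Q ≤ OTn O K n := by
    have hW : OTn O K n ≤ (OTn O K n).map (T.restrictScalars O).toLinearMap :=
      OTn_le_of_stab (stab_map T stab_OTn) (hT1.trans (Submodule.map_mono hD2))
    intro x hx
    obtain ⟨x', hx', hxx⟩ := hW hx
    have : x' = x := T.injective hxx
    rw [← this]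
    exact hx'
  -- step 4: it is proper
  have hQne : Q ≠ OTn O K n := by
    intro hQe
    have hmap : (OTn O K n).map (T.restrictScalars O).toLinearMap = OTn O K n := by
      apply le_antisymm
      · rw [Submodule.map_le_iff_le_comap, ← hQ, hQe]
      · intro y hy
        refine ⟨T.symm y, ?_, T.apply_symm_apply y⟩
        rw [← hQe, hQ]
        change T (T.symm y) ∈ OTn O K n
        rw [T.apply_symm_apply]
        exact hy
    have e1 : rl D (OTn O K n) = rl (D.map (T.restrictScalars O).toLinearMap) (OTn O K n) := by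
      have := rl_map_inj (T.restrictScalars O).toLinearMap (T.restrictScalars O).injective D
        (OTn O K n)
      rw [hmap] at this
      exact this.symm
    have e2 := rl_anti_left hT1 hT2
    rw [← e1, hDrl] at e2
    exact absurd hlt (not_lt.mpr e2)
  -- step 5: a stable submodule of colength one
  obtain ⟨P, hQP, hP2, hPst, hPrl⟩ := exists_colength_one_stab hfin hQst hQ2 hQne
  -- step 6: its dual
  set N' := dual P with hN'
  have hN1 : Cn O K n ≤ N' := hB ▸ dual_anti hP2
  have hN2 : N' ≤ L := by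
    have := dual_anti (hDQ.trans hQP)
    rwa [hD, dual_dual hdim hA hB hfinAB h1 h2] at this
  have hN3 : N' ≤ OTn O K n := hN2.trans h2
  have hNst : Stab N' := stab_dual hPst
  have hNrl : rl (Cn O K n) N' = 1 := by
    rw [hN', rl_bot_dual hdim hA hB hfinAB (hD1.trans (hDQ.trans hQP)) hP2, hPrl]
  -- step 7: `N'` is a free `Õ`-module
  obtain ⟨T', hT'1, hT'2⟩ := exists_move hdim hfin hN1 hN3
  have hT'N : N'.map (T'.restrictScalars O).toLinearMap = OTn O K n :=
    le_antisymm hT'2 (OTn_le_of_stab (stab_map T' hNst) hT'1)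
  -- step 8: a generator of the conductor
  obtain ⟨c, hc0, hc⟩ := exists_conductor_gen (O := O) (K := K) hdim hfin
  have hcn : ∀ y : Fin n → K, y ∈ Cn O K n ↔ c⁻¹ • y ∈ OTn O K n := by
    intro y
    rw [Submodule.mem_pi, Submodule.mem_pi]
    constructor
    · intro h i hi
      rw [Pi.smul_apply, smul_eq_mul]
      exact (hc _).1 (h i hi)
    · intro h i hi
      have := h i hi
      rw [Pi.smul_apply, smul_eq_mul] at this
      exact (hc _).2 this
  let g : (Fin n → K) ≃ₗ[K] (Fin n → K) := T'.trans (LinearEquiv.smulOfNeZero K _ c hc0)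
  have hg : ∀ x, g x = c • T' x := fun x => rfl
  let gO : (Fin n → K) →ₗ[O] (Fin n → K) := (g.restrictScalars O).toLinearMap
  have hgO : ∀ x, gO x = c • T' x := fun x => rfl
  have hgOinj : Function.Injective gO := (g.restrictScalars O).injective
  have hgN : N'.map gO = Cn O K n := by
    ext y
    constructor
    · rintro ⟨x, hx, rfl⟩
      rw [hcn, hgO, smul_smul, inv_mul_cancel₀ hc0, one_smul, ← hT'N]
      exact ⟨x, hx, rfl⟩
    · intro hy
      rw [hcn, ← hT'N] at hy
      obtain ⟨x, hx, hxy⟩ := hy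
      refine ⟨x, hx, ?_⟩
      have hxy' : T' x = c⁻¹ • y := hxy
      rw [hgO, hxy', smul_smul, mul_inv_cancel₀ hc0, one_smul]
  have hgOT : (OTn O K n).map gO ≤ OTn O K n := by
    rintro _ ⟨x, hx, rfl⟩
    have hcx : c • x ∈ Cn O K n := by
      rw [hcn, smul_smul, inv_mul_cancel₀ hc0, one_smul]
      exact hx
    have h3 : gO (c • x) ∈ Cn O K n := by
      rw [← hgN]
      exact ⟨c • x, hN1 hcx, rfl⟩
    have h4 : gO (c • x) = c • gO x := by
      rw [hgO, hgO, map_smul]
    rw [h4, hcn, smul_smul, inv_mul_cancel₀ hc0, one_smul] at h3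
    exact h3
  refine ⟨L.map gO, ?_, ?_, ⟨Submodule.equivMapOfInjective gO hgOinj L⟩, ?_⟩
  · rw [← hgN]
    exact Submodule.map_mono hN2
  · exact (Submodule.map_mono h2).trans hgOT
  · rw [rl_add hN1 hN2, hNrl, ← hgN, rl_map_inj gO hgOinj]

end shrink

end Groth.Agent.Lib.helper15.LatDual
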