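import Mathlib
import Groth.Agent.Lib.Helper15.LieInv

/-!
# Lie-stable subspaces of comodules over a unipotent group in characteristic zero (helper15)

* `isSubcomod_of_lieStable`: a subspace stable under the infinitesimal action is a subcomodule.
-/

set_option autoImplicit false

namespace Groth.Agent.Lib.helper15.LieStable

open TensorProduct Groth.Agent.Lib.helper15.HeightOne Groth.Agent.Lib.helper15.ComodOps
  Groth.Agent.Lib.helper15.ComodFin Groth.Agent.Lib.helper15.LieInv

universe u v

variable {k : Type u} [Field k] {A : Type v} [CommRing A] [HopfAlgebra k A]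

section Basics

variable {V : Type*} [AddCommGroup V] [Module k V] [HopfRep.Comod k A V]

/-- a subspace stable under the infinitesimal action of every `ε`-derivation -/
def IsLieStable (U : Submodule k V) : Prop :=
  ∀ φ : A →ₗ[k] k, IsEpsDer φ → ∀ u ∈ U,
    slV φ (HopfRep.Comod.coact (k := k) (A := A) u) ∈ U

omit [HopfRep.Comod k A V] in
lemma mem_range_of_rTensor_mkQ_eq_zero (W : Submodule k V) (s : V ⊗[k] A)
    (h : W.mkQ.rTensor A s = 0) : s ∈ LinearMap.range (W.subtype.rTensor A) :=
  (rTensor_exact A (LinearMap.exact_subtype_mkQ W) (Submodule.mkQ_surjective W) s).1 h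

omit [HopfRep.Comod k A V] in
lemma slV_mem_of_mem_range (W : Submodule k V) (φ : A →ₗ[k] k) (s : V ⊗[k] A)
    (hs : s ∈ LinearMap.range (W.subtype.rTensor A)) : slV φ s ∈ W := by
  obtain ⟨t, rfl⟩ := hs
  induction t with
  | zero => simp
  | tmul w a => simp only [LinearMap.rTensor_tmul, Submodule.subtype_apply, slV_tmul]; exact W.smul_mem _ w.2
  | add x y hx hy => simp only [map_add]; exact W.add_mem hx hy

omit [HopfRep.Comod k A V] in
lemma range_rTensor_subtype_mono {U U' : Submodule k V} (h : U ≤ U') :
    LinearMap.range (U.subtype.rTensor A) ≤ LinearMap.range (U'.subtype.rTensor A) := by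
  rintro _ ⟨t, rfl⟩
  refine ⟨(Submodule.inclusion h).rTensor A t, ?_⟩
  rw [← LinearMap.comp_apply, ← LinearMap.rTensor_comp]
  rfl

/-- the image of a Lie-stable subspace in a quotient comodule is Lie-stable -/
lemma isLieStable_map_mkQ (W : Submodule k V) (hW : HopfRep.IsSubcomod (k := k) (A := A) W)
    (U : Submodule k V) (hU : IsLieStable (k := k) (A := A) U) :
    letI := quotComod W hW
    IsLieStable (k := k) (A := A) (U.map W.mkQ) := by
  let _ := quotComod W hW
  intro φ hφ q hq
  obtain ⟨u, hu, rfl⟩ := hq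
  show slV φ (quotCoact W hW (W.mkQ u)) ∈ _
  rw [quotCoact_mk, slV_rTensor]
  exact ⟨_, hU φ hφ u hu, rfl⟩

end Basics

section Fixed

variable [CharZero k] [Algebra.FiniteType k A]

/-- a nonzero Lie-stable subspace of a finite-dimensional comodule over a unipotent group contains
a nonzero fixed vector -/
theorem exists_fixed_of_lieStable (hU : HopfRep.IsUnipotent k A) (N : ℕ) :
    ∀ (W : Type v) [AddCommGroup W] [Module k W] [HopfRep.Comod k A W] [Module.Finite k W],
      Module.finrank k W = N → ∀ U : Submodule k W, U ≠ ⊥ → IsLieStable (k := k) (A := A) U →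
      ∃ u ∈ U, u ≠ 0 ∧ u ∈ HopfRep.fixedPts k A W := by
  induction N using Nat.strong_induction_on with
  | _ N ih =>
    intro W _ _ _ _ hN U hU0 hLS
    by_cases hUF : U ⊓ HopfRep.fixedPts k A W = ⊥
    · exfalso
      have hWnt : Nontrivial W := by
        obtain ⟨u, hu, hu0⟩ := Submodule.exists_mem_ne_zero_of_ne_bot hU0
        exact ⟨⟨u, 0, hu0⟩⟩
      have hFne : HopfRep.fixedPts k A W ≠ ⊥ := hU W inferInstance hWnt
      have hFsub : HopfRep.IsSubcomod (k := k) (A := A) (HopfRep.fixedPts k A W) :=
        fixedPts_isSubcomod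
      let _ : HopfRep.Comod k A (W ⧸ HopfRep.fixedPts k A W) := quotComod _ hFsub
      have hlt : Module.finrank k (W ⧸ HopfRep.fixedPts k A W) < N := by
        have h1 := Submodule.finrank_quotient_add_finrank (HopfRep.fixedPts k A W)
        have h2 : 1 ≤ Module.finrank k (HopfRep.fixedPts k A W) :=
          Submodule.one_le_finrank_iff.mpr hFne
        omega
      have hUbar0 : U.map (HopfRep.fixedPts k A W).mkQ ≠ ⊥ := by
        intro h
        have hle : U ≤ HopfRep.fixedPts k A W := by
          intro u hu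
          have : (HopfRep.fixedPts k A W).mkQ u ∈ U.map (HopfRep.fixedPts k A W).mkQ :=
            ⟨u, hu, rfl⟩
          rw [h, Submodule.mem_bot, Submodule.mkQ_apply, Submodule.Quotient.mk_eq_zero] at this
          exact this
        apply hU0
        rw [eq_bot_iff, ← hUF]
        exact le_inf le_rfl hle
      obtain ⟨q, hqU, hq0, hqfix⟩ := ih _ hlt (W ⧸ HopfRep.fixedPts k A W) rfl
        (U.map (HopfRep.fixedPts k A W).mkQ) hUbar0 (isLieStable_map_mkQ _ hFsub U hLS)
      obtain ⟨u, hu, rfl⟩ := hqU
      have hfix : quotCoact _ hFsub ((HopfRep.fixedPts k A W).mkQ u) =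
          (HopfRep.fixedPts k A W).mkQ u ⊗ₜ[k] (1 : A) := hqfix
      have hz0 : (HopfRep.fixedPts k A W).mkQ.rTensor A
          (HopfRep.Comod.coact (k := k) (A := A) u - u ⊗ₜ[k] (1 : A)) = 0 := by
        rw [map_sub, ← quotCoact_mk _ hFsub, LinearMap.rTensor_tmul]
        exact sub_eq_zero.2 hfix
      have hzr := mem_range_of_rTensor_mkQ_eq_zero _ _ hz0
      have hkill : ∀ φ : A →ₗ[k] k, IsEpsDer φ →
          LinearMap.lTensor W φ (HopfRep.Comod.coact (k := k) (A := A) u) = 0 := by
        intro φ hφ
        have h1 : slV φ (HopfRep.Comod.coact (k := k) (A := A) u) ∈ HopfRep.fixedPts k A W := by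
          have e : HopfRep.Comod.coact (k := k) (A := A) u =
              (HopfRep.Comod.coact (k := k) (A := A) u - u ⊗ₜ[k] (1 : A)) + u ⊗ₜ[k] (1 : A) := by
            abel
          rw [e, map_add, slV_tmul, isEpsDer_one hφ, zero_smul, add_zero]
          exact slV_mem_of_mem_range _ φ _ hzr
        have h2 : slV φ (HopfRep.Comod.coact (k := k) (A := A) u) ∈ U ⊓ HopfRep.fixedPts k A W :=
          ⟨hLS φ hφ u hu, h1⟩
        rw [hUF, Submodule.mem_bot] at h2
        exact (TensorProduct.rid k W).injective (by rw [map_zero]; exact h2)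
      have hufix := fixed_of_lie_invariant hU _ W rfl u hkill
      apply hq0
      rw [Submodule.mkQ_apply, Submodule.Quotient.mk_eq_zero]
      exact hufix
    · obtain ⟨u, hu, hu0⟩ := Submodule.exists_mem_ne_zero_of_ne_bot hUF
      exact ⟨u, hu.1, hu0, hu.2⟩

/-- finite-dimensional case: Lie-stable subspaces are subcomodules -/
theorem isSubcomod_of_lieStable_fin (hU : HopfRep.IsUnipotent k A) (N : ℕ) :
    ∀ (W : Type v) [AddCommGroup W] [Module k W] [HopfRep.Comod k A W] [Module.Finite k W],
      Module.finrank k W = N → ∀ U : Submodule k W, IsLieStable (k := k) (A := A) U →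
      HopfRep.IsSubcomod (k := k) (A := A) U := by
  induction N using Nat.strong_induction_on with
  | _ N ih =>
    intro W _ _ _ _ hN U hLS
    by_cases hU0 : U = ⊥
    · subst hU0
      intro w hw
      rw [(Submodule.mem_bot k).1 hw, map_zero]
      exact zero_mem _
    · obtain ⟨u₀, hu₀U, hu₀0, hu₀fix⟩ := exists_fixed_of_lieStable hU _ W rfl U hU0 hLS
      have hfix₀ : HopfRep.Comod.coact (k := k) (A := A) u₀ = u₀ ⊗ₜ[k] (1 : A) := hu₀fix
      have hLsub : HopfRep.IsSubcomod (k := k) (A := A) (Submodule.span k {u₀}) := by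
        intro w hw
        obtain ⟨c, rfl⟩ := Submodule.mem_span_singleton.1 hw
        rw [map_smul, hfix₀]
        exact ⟨(c • (⟨u₀, Submodule.mem_span_singleton_self u₀⟩ : Submodule.span k {u₀})) ⊗ₜ[k]
          (1 : A), by simp [TensorProduct.smul_tmul']⟩
      have hLU : Submodule.span k {u₀} ≤ U := by
        rw [Submodule.span_le]
        intro x hx
        rw [Set.mem_singleton_iff] at hx
        rw [hx]; exact hu₀U
      let _ : HopfRep.Comod k A (W ⧸ Submodule.span k {u₀}) := quotComod _ hLsub
      have hlt : Module.finrank k (W ⧸ Submodule.span k {u₀}) < N := by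
        have h1 := Submodule.finrank_quotient_add_finrank (Submodule.span k {u₀})
        have h2 : Module.finrank k (Submodule.span k {u₀}) = 1 := finrank_span_singleton hu₀0
        omega
      have hbar := ih _ hlt (W ⧸ Submodule.span k {u₀}) rfl
        (U.map (Submodule.span k {u₀}).mkQ) (isLieStable_map_mkQ _ hLsub U hLS)
      intro u hu
      obtain ⟨tbar, htbar⟩ := hbar ((Submodule.span k {u₀}).mkQ u) ⟨u, hu, rfl⟩
      let g : U →ₗ[k] (U.map (Submodule.span k {u₀}).mkQ) :=
        ((Submodule.span k {u₀}).mkQ.domRestrict U).codRestrict _ (fun x => ⟨x, x.2, rfl⟩)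
      have hg : Function.Surjective g := by
        rintro ⟨_, ⟨x, hx, rfl⟩⟩
        exact ⟨⟨x, hx⟩, rfl⟩
      obtain ⟨t, rfl⟩ := LinearMap.rTensor_surjective A hg tbar
      have hcomm : (Submodule.span k {u₀}).mkQ.rTensor A (U.subtype.rTensor A t) =
          (U.map (Submodule.span k {u₀}).mkQ).subtype.rTensor A (g.rTensor A t) := by
        rw [← LinearMap.comp_apply, ← LinearMap.comp_apply, ← LinearMap.rTensor_comp,
          ← LinearMap.rTensor_comp]
        rfl
      have hq : HopfRep.Comod.coact (k := k) (A := A) ((Submodule.span k {u₀}).mkQ u) =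
          (Submodule.span k {u₀}).mkQ.rTensor A (HopfRep.Comod.coact (k := k) (A := A) u) :=
        quotCoact_mk _ hLsub u
      have hdiff : (Submodule.span k {u₀}).mkQ.rTensor A
          (HopfRep.Comod.coact (k := k) (A := A) u - U.subtype.rTensor A t) = 0 := by
        rw [map_sub, hcomm, htbar, hq, sub_self]
      have h1 := mem_range_of_rTensor_mkQ_eq_zero _ _ hdiff
      have h2 := range_rTensor_subtype_mono (A := A) hLU h1
      have e : HopfRep.Comod.coact (k := k) (A := A) u =
          (HopfRep.Comod.coact (k := k) (A := A) u - U.subtype.rTensor A t) +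
            U.subtype.rTensor A t := by abel
      rw [e]
      exact Submodule.add_mem _ h2 ⟨t, rfl⟩

/-- **Lie-stable subspaces are subcomodules** (unipotent group, characteristic zero) -/
theorem isSubcomod_of_lieStable (hU : HopfRep.IsUnipotent k A) (V : Type v) [AddCommGroup V]
    [Module k V] [HopfRep.Comod k A V] (U : Submodule k V)
    (hLS : IsLieStable (k := k) (A := A) U) : HopfRep.IsSubcomod (k := k) (A := A) U := by
  intro u hu
  have hW : HopfRep.IsSubcomod (k := k) (A := A) (RCV (k := k) (A := A) u) := RCV_isSubcomod u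
  let _ : HopfRep.Comod k A (RCV (k := k) (A := A) u) := subComod _ hW
  have hfin : Module.Finite k (RCV (k := k) (A := A) u) := Module.Finite.iff_fg.2 (RCV_fg u)
  have hLS' : IsLieStable (k := k) (A := A) (U.comap (RCV (k := k) (A := A) u).subtype) := by
    intro φ hφ w hw
    rw [Submodule.mem_comap] at hw ⊢
    have e : (RCV (k := k) (A := A) u).subtype (slV φ (subCoact _ hW w)) =
        slV φ (HopfRep.Comod.coact (k := k) (A := A) (w : V)) := by
      rw [← slV_rTensor, subtype_subCoact]
    show (RCV (k := k) (A := A) u).subtype (slV φ (subCoact _ hW w)) ∈ U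
    rw [e]
    exact hLS φ hφ _ hw
  have hsub := isSubcomod_of_lieStable_fin hU _ (RCV (k := k) (A := A) u) rfl _ hLS'
  obtain ⟨t, ht⟩ := hsub ⟨u, mem_RCV u⟩ (by rw [Submodule.mem_comap]; exact hu)
  have ht' : (U.comap (RCV (k := k) (A := A) u).subtype).subtype.rTensor A t =
      subCoact _ hW ⟨u, mem_RCV u⟩ := ht
  have h2 := congrArg ((RCV (k := k) (A := A) u).subtype.rTensor A) ht'
  rw [subtype_subCoact] at h2
  let j : (U.comap (RCV (k := k) (A := A) u).subtype) →ₗ[k] U :=
    ((RCV (k := k) (A := A) u).subtype.domRestrict _).codRestrict U (fun x => x.2)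
  refine ⟨j.rTensor A t, ?_⟩
  rw [← h2, ← LinearMap.comp_apply, ← LinearMap.comp_apply, ← LinearMap.rTensor_comp,
    ← LinearMap.rTensor_comp]
  rfl

end Fixed

end Groth.Agent.Lib.helper15.LieStable
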