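import Mathlib
import Groth.Agent.Lib.Helper15.DualTensorFlat

/-!
# From a finitely generated subcomodule of a flat Hopf algebra to a matrix corepresentation (helper15)

`A` a commutative Hopf algebra over `R`, flat as an `R`-module; `E ⊆ A` a finitely presented
`R`-submodule with `Δ E ⊆ E ⊗ A`, whose dual `E*` is finite projective.  Then `E*` is a comodule
(`Lam`), and completing it by a trivial comodule gives a matrix `a` with `Δ a_ij = Σ a_il ⊗ a_lj`,
`ε a_ij = δ_ij`, invertible determinant, and `E ⊆ R[a_ij]` (`exists_matrix`).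
-/

set_option autoImplicit false

namespace Groth.Agent.Lib.helper15.MatCorep

open TensorProduct Groth.Agent.Lib.helper15.DualTensorFlat

section Coact

variable {R : Type*} [CommRing R] {A : Type*} [CommRing A] [HopfAlgebra R A] [Module.Flat R A]
  (E : Submodule R A)
  (hE : ∀ x ∈ E, Coalgebra.comul (R := R) x ∈ LinearMap.range (E.subtype.rTensor A))

theorem rTensor_subtype_injective : Function.Injective (E.subtype.rTensor A) :=
  Module.Flat.rTensor_preserves_injective_linearMap E.subtype E.injective_subtype

/-- the coaction on a subcomodule `E ⊆ A`. -/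
noncomputable def coactE : E →ₗ[R] E ⊗[R] A :=
  (LinearEquiv.ofInjective (E.subtype.rTensor A)
    (rTensor_subtype_injective E)).symm.toLinearMap ∘ₗ
    ((Coalgebra.comul (R := R) (A := A)) ∘ₗ E.subtype).codRestrict
      (LinearMap.range (E.subtype.rTensor A)) (fun x => hE x.1 x.2)

theorem rTensor_coactE (e : E) :
    E.subtype.rTensor A (coactE E hE e) = Coalgebra.comul (R := R) (e : A) := by
  set f := E.subtype.rTensor A with hf
  set y : LinearMap.range f := (((Coalgebra.comul (R := R) (A := A)) ∘ₗ E.subtype).codRestrict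
      (LinearMap.range f) (fun x => hE x.1 x.2)) e with hy
  have h1 : (LinearEquiv.ofInjective f (rTensor_subtype_injective E))
      ((LinearEquiv.ofInjective f (rTensor_subtype_injective E)).symm y) = y :=
    LinearEquiv.apply_symm_apply _ _
  have h2 := congrArg Subtype.val h1
  rw [LinearEquiv.ofInjective_apply] at h2
  exact h2

/-- counit for the coaction on `E`. -/
theorem rid_lTensor_counit_coactE (e : E) :
    TensorProduct.rid R E ((Coalgebra.counit (R := R) (A := A)).lTensor E (coactE E hE e)) = e := by
  apply E.injective_subtype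
  have h1 : ∀ s : E ⊗[R] A,
      E.subtype (TensorProduct.rid R E ((Coalgebra.counit (R := R) (A := A)).lTensor E s)) =
      TensorProduct.rid R A
        ((Coalgebra.counit (R := R) (A := A)).lTensor A (E.subtype.rTensor A s)) := by
    intro s
    induction s with
    | zero => simp
    | tmul x a => simp
    | add x y hx hy => simp only [map_add, hx, hy]
  rw [h1, rTensor_coactE, Coalgebra.lTensor_counit_comul, TensorProduct.rid_tmul, one_smul]
  rfl

/-- `f ↦ (f ⊗ id) ∘ ρ`. -/
noncomputable def mu : Module.Dual R E →ₗ[R] (E →ₗ[R] A) where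
  toFun f := (TensorProduct.lid R A).toLinearMap ∘ₗ LinearMap.rTensor A f ∘ₗ coactE E hE
  map_add' f g := by
    ext e
    simp [LinearMap.rTensor_add]
  map_smul' r f := by
    ext e
    simp [LinearMap.rTensor_smul]

theorem mu_apply (f : Module.Dual R E) (e : E) :
    mu E hE f e = TensorProduct.lid R A (LinearMap.rTensor A f (coactE E hE e)) := rfl

theorem counit_mu (f : Module.Dual R E) (e : E) :
    Coalgebra.counit (R := R) (mu E hE f e) = f e := by
  have h1 : ∀ s : E ⊗[R] A,
      Coalgebra.counit (R := R) (TensorProduct.lid R A (LinearMap.rTensor A f s)) =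
      f (TensorProduct.rid R E ((Coalgebra.counit (R := R) (A := A)).lTensor E s)) := by
    intro s
    induction s with
    | zero => simp
    | tmul x a => simp [mul_comm]
    | add x y hx hy => simp only [map_add, hx, hy]
  rw [mu_apply, h1, rid_lTensor_counit_coactE]

theorem mu_counit (e : E) :
    mu E hE ((Coalgebra.counit (R := R) (A := A)) ∘ₗ E.subtype) e = (e : A) := by
  have h1 : ∀ s : E ⊗[R] A,
      LinearMap.rTensor A ((Coalgebra.counit (R := R) (A := A)) ∘ₗ E.subtype) s =
      (Coalgebra.counit (R := R) (A := A)).rTensor A (E.subtype.rTensor A s) := by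
    intro s
    rw [LinearMap.rTensor_comp]
    rfl
  rw [mu_apply, h1, rTensor_coactE, Coalgebra.rTensor_counit_comul, TensorProduct.lid_tmul,
    one_smul]

/-- `mu f` is a comodule map `E → A`. -/
theorem comul_mu (f : Module.Dual R E) (e : E) :
    Coalgebra.comul (R := R) (mu E hE f e) = (mu E hE f).rTensor A (coactE E hE e) := by
  have hco : (coactE E hE).rTensor A (coactE E hE e) =
      (TensorProduct.assoc R E A A).symm
        ((Coalgebra.comul (R := R) (A := A)).lTensor E (coactE E hE e)) := by
    have hinj2 : Function.Injective ((E.subtype.rTensor A).rTensor A) :=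
      Module.Flat.rTensor_preserves_injective_linearMap _ (rTensor_subtype_injective E)
    apply hinj2
    have l1 : (E.subtype.rTensor A).rTensor A ((coactE E hE).rTensor A (coactE E hE e)) =
        (Coalgebra.comul (R := R) (A := A)).rTensor A (Coalgebra.comul (R := R) (e : A)) := by
      rw [← LinearMap.comp_apply, ← LinearMap.rTensor_comp]
      have : E.subtype.rTensor A ∘ₗ coactE E hE =
          Coalgebra.comul (R := R) (A := A) ∘ₗ E.subtype := by
        ext x
        exact rTensor_coactE E hE x
      rw [this, LinearMap.rTensor_comp, LinearMap.comp_apply, rTensor_coactE]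
    have l2 : (E.subtype.rTensor A).rTensor A ((TensorProduct.assoc R E A A).symm
        ((Coalgebra.comul (R := R) (A := A)).lTensor E (coactE E hE e))) =
        (TensorProduct.assoc R A A A).symm ((Coalgebra.comul (R := R) (A := A)).lTensor A
          (Coalgebra.comul (R := R) (e : A))) := by
      have h3 : ∀ z : E ⊗[R] (A ⊗[R] A),
          (E.subtype.rTensor A).rTensor A ((TensorProduct.assoc R E A A).symm z) =
          (TensorProduct.assoc R A A A).symm (E.subtype.rTensor (A ⊗[R] A) z) := by
        intro z
        rw [LinearMap.rTensor_tensor]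
        simp
      rw [h3]
      congr 1
      have h1 := LinearMap.congr_fun (LinearMap.rTensor_comp_lTensor E E.subtype
        (Coalgebra.comul (R := R) (A := A))) (coactE E hE e)
      have h2 := LinearMap.congr_fun (LinearMap.lTensor_comp_rTensor E E.subtype
        (Coalgebra.comul (R := R) (A := A))) (coactE E hE e)
      have h4 := h1.trans h2.symm
      rw [LinearMap.comp_apply, LinearMap.comp_apply, rTensor_coactE] at h4
      exact h4
    rw [l1, l2, Coalgebra.coassoc_symm_apply]
  have hT : ∀ z : E ⊗[R] (A ⊗[R] A),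
      ((TensorProduct.lid R A).toLinearMap ∘ₗ LinearMap.rTensor A f).rTensor A
        ((TensorProduct.assoc R E A A).symm z) =
      TensorProduct.lid R (A ⊗[R] A) (LinearMap.rTensor (A ⊗[R] A) f z) := by
    intro z
    induction z with
    | zero => simp
    | tmul x w =>
      induction w with
      | zero => simp
      | tmul a b => simp [TensorProduct.smul_tmul']
      | add w₁ w₂ h₁ h₂ => simp only [TensorProduct.tmul_add, map_add, h₁, h₂]
    | add z₁ z₂ h₁ h₂ => simp only [map_add, h₁, h₂]
  have hD : ∀ s : E ⊗[R] A, TensorProduct.lid R (A ⊗[R] A) (LinearMap.rTensor (A ⊗[R] A) f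
      ((Coalgebra.comul (R := R) (A := A)).lTensor E s)) =
      Coalgebra.comul (R := R) (TensorProduct.lid R A (LinearMap.rTensor A f s)) := by
    intro s
    induction s with
    | zero => simp
    | tmul x a => simp
    | add s₁ s₂ h₁ h₂ => simp only [map_add, h₁, h₂]
  have hmu : mu E hE f =
      ((TensorProduct.lid R A).toLinearMap ∘ₗ LinearMap.rTensor A f) ∘ₗ coactE E hE := rfl
  have e1 : (mu E hE f).rTensor A (coactE E hE e) =
      ((TensorProduct.lid R A).toLinearMap ∘ₗ LinearMap.rTensor A f).rTensor A
        ((coactE E hE).rTensor A (coactE E hE e)) := by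
    rw [hmu, LinearMap.rTensor_comp, LinearMap.comp_apply]
  rw [e1, hco, hT, hD]
  rfl

end Coact

section Mat

variable {R : Type*} [CommRing R] {A : Type*} [CommRing A] [HopfAlgebra R A] [Module.Flat R A]
  (E : Submodule R A)
  (hE : ∀ x ∈ E, Coalgebra.comul (R := R) x ∈ LinearMap.range (E.subtype.rTensor A))
  [Module.FinitePresentation R E]

/-- the (left) coaction on the dual of `E`, written as a map `E* → E* ⊗ A`. -/
noncomputable def Lam : Module.Dual R E →ₗ[R] Module.Dual R E ⊗[R] A :=
  (dualTensorEquiv R E A).symm.toLinearMap ∘ₗ mu E hE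

theorem dualTensorHom_Lam (f : Module.Dual R E) :
    dualTensorHom R E A (Lam E hE f) = mu E hE f :=
  dualTensorHom_symm_apply _

variable {d : ℕ} (fs : Fin d → Module.Dual R E) (ξ : Fin d → (Module.Dual R E →ₗ[R] R))

/-- matrix coefficients of `E*` with respect to a "dual basis". -/
noncomputable def bb (i j : Fin d) : A := pair (ξ j) (Lam E hE (fs i))

variable (h : ∀ f : Module.Dual R E, f = ∑ i, ξ i f • fs i)

include h in
theorem mu_fs (i : Fin d) (e : E) : mu E hE (fs i) e = ∑ j, (fs j) e • bb E hE fs ξ i j := by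
  have h1 := eq_sum_tmul_pair fs ξ h (Lam E hE (fs i))
  have h2 : dualTensorHom R E A (Lam E hE (fs i)) e =
      dualTensorHom R E A (∑ j, fs j ⊗ₜ[R] pair (ξ j) (Lam E hE (fs i))) e := by
    rw [← h1]
  rw [dualTensorHom_Lam, map_sum, LinearMap.sum_apply] at h2
  rw [h2]
  refine Finset.sum_congr rfl fun j _ => ?_
  rw [dualTensorHom_apply]
  rfl

include h in
theorem bb_mul_P (i m : Fin d) : bb E hE fs ξ i m = ∑ j, ξ m (fs j) • bb E hE fs ξ i j := by
  have h1 := eq_sum_tmul_pair fs ξ h (Lam E hE (fs i))
  have h2 := congrArg (pair (ξ m)) h1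
  rw [map_sum] at h2
  simp only [pair_tmul] at h2
  exact h2

include h in
theorem P_mul_bb (i j : Fin d) : ∑ l, ξ l (fs i) • bb E hE fs ξ l j = bb E hE fs ξ i j := by
  have h1 := congrArg (fun f => pair (ξ j) (Lam E hE f)) (h (fs i))
  simp only [map_sum, map_smul] at h1
  exact h1.symm

theorem counit_bb (i j : Fin d) :
    Coalgebra.counit (R := R) (bb E hE fs ξ i j) = ξ j (fs i) := by
  have h1 : (Coalgebra.counit (R := R) (A := A)).lTensor (Module.Dual R E) (Lam E hE (fs i)) =
      fs i ⊗ₜ[R] (1 : R) := by
    apply dualTensorHom_injective (R := R) (E := E) (M := R)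
    ext e
    rw [dualTensorHom_lTensor, dualTensorHom_Lam, counit_mu, dualTensorHom_apply, smul_eq_mul,
      mul_one]
  have h2 := pair_lTensor (ξ j) (Coalgebra.counit (R := R) (A := A)) (Lam E hE (fs i))
  rw [h1, pair_tmul, smul_eq_mul, mul_one] at h2
  exact h2.symm

include h in
theorem comul_bb (i j : Fin d) : Coalgebra.comul (R := R) (bb E hE fs ξ i j) =
    ∑ l, bb E hE fs ξ i l ⊗ₜ[R] bb E hE fs ξ l j := by
  have hsum : ∀ (ν : Fin d → (E →ₗ[R] A)) (s : E ⊗[R] A),
      (∑ l, ν l).rTensor A s = ∑ l, (ν l).rTensor A s := by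
    intro ν s
    induction s with
    | zero => simp
    | tmul x c => simp [LinearMap.sum_apply, TensorProduct.sum_tmul]
    | add s₁ s₂ h₁ h₂ => simp only [map_add, h₁, h₂, Finset.sum_add_distrib]
  have hK3 : ∀ (g : Module.Dual R E) (a : A) (s : E ⊗[R] A),
      (dualTensorHom R E A (g ⊗ₜ[R] a)).rTensor A s =
      a ⊗ₜ[R] (TensorProduct.lid R A (LinearMap.rTensor A g s)) := by
    intro g a s
    induction s with
    | zero => simp
    | tmul x c => simp [TensorProduct.smul_tmul]
    | add s₁ s₂ h₁ h₂ => simp only [map_add, TensorProduct.tmul_add, h₁, h₂]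
  have hmu : mu E hE (fs i) = ∑ l, dualTensorHom R E A (fs l ⊗ₜ[R] bb E hE fs ξ i l) := by
    ext e'
    rw [mu_fs E hE fs ξ h, LinearMap.sum_apply]
    refine Finset.sum_congr rfl fun l _ => ?_
    rw [dualTensorHom_apply]
  have hT : (Coalgebra.comul (R := R) (A := A)).lTensor (Module.Dual R E) (Lam E hE (fs i)) =
      ∑ l, (TensorProduct.mk R A A (bb E hE fs ξ i l)).lTensor (Module.Dual R E)
        (Lam E hE (fs l)) := by
    apply dualTensorHom_injective (R := R) (E := E) (M := A ⊗[R] A)
    ext e
    rw [dualTensorHom_lTensor, dualTensorHom_Lam, comul_mu, map_sum, LinearMap.sum_apply]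
    have hr : ∀ l, dualTensorHom R E (A ⊗[R] A)
        ((TensorProduct.mk R A A (bb E hE fs ξ i l)).lTensor (Module.Dual R E)
          (Lam E hE (fs l))) e = bb E hE fs ξ i l ⊗ₜ[R] mu E hE (fs l) e := by
      intro l
      rw [dualTensorHom_lTensor, dualTensorHom_Lam]
      rfl
    simp only [hr]
    rw [hmu, hsum]
    refine Finset.sum_congr rfl fun l _ => ?_
    rw [hK3]
    rfl
  have h2 := pair_lTensor (ξ j) (Coalgebra.comul (R := R) (A := A)) (Lam E hE (fs i))
  rw [hT, map_sum] at h2
  rw [show bb E hE fs ξ i j = pair (ξ j) (Lam E hE (fs i)) from rfl, ← h2]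
  refine Finset.sum_congr rfl fun l _ => ?_
  rw [pair_lTensor]
  rfl

end Mat

end Groth.Agent.Lib.helper15.MatCorep
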