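import Mathlib
import Groth.Agent.Lib.Helper15.MatCorep

/-!
# Matrix corepresentation from a subcomodule with projective dual (helper15)

`exists_matrix`: see `MatCorep`.  `exists_dualBasis`: dual basis of a finite projective module.
-/

set_option autoImplicit false

namespace Groth.Agent.Lib.helper15.MatCorep

open TensorProduct Groth.Agent.Lib.helper15.DualTensorFlat

theorem exists_dualBasis {R : Type*} [CommRing R] (Q : Type*) [AddCommGroup Q] [Module R Q]
    [Module.Finite R Q] [Module.Projective R Q] :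
    ∃ (d : ℕ) (fs : Fin d → Q) (ξ : Fin d → (Q →ₗ[R] R)), ∀ f : Q, f = ∑ i, ξ i f • fs i := by
  classical
  obtain ⟨d, π, hπ⟩ := Module.Finite.exists_fin' R Q
  obtain ⟨s, hs⟩ := Module.projective_lifting_property π LinearMap.id hπ
  refine ⟨d, fun i => π (Pi.single i 1), fun i => LinearMap.proj i ∘ₗ s, fun f => ?_⟩
  have h1 : f = π (s f) := (LinearMap.congr_fun hs f).symm
  have h2 : s f = ∑ i, (s f) i • (Pi.single i (1 : R) : Fin d → R) := by
    ext j
    simp [Finset.sum_apply, Pi.single_apply]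
  conv_lhs => rw [h1, h2]
  rw [map_sum]
  refine Finset.sum_congr rfl fun i _ => ?_
  rw [map_smul]
  rfl

section Final

variable {R : Type*} [CommRing R] {A : Type*} [CommRing A] [HopfAlgebra R A] [Module.Flat R A]
  (E : Submodule R A)
  (hE : ∀ x ∈ E, Coalgebra.comul (R := R) x ∈ LinearMap.range (E.subtype.rTensor A))
  [Module.FinitePresentation R E]

include hE in
theorem exists_matrix [Module.Finite R (Module.Dual R E)]
    [Module.Projective R (Module.Dual R E)] :
    ∃ (d : ℕ) (a : Matrix (Fin d) (Fin d) A),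
      (∀ i j, Coalgebra.comul (R := R) (a i j) = ∑ l, a i l ⊗ₜ[R] a l j) ∧
      (∀ i j, Coalgebra.counit (R := R) (a i j) = if i = j then 1 else 0) ∧
      ∃ u : A, u * a.det = 1 ∧
        (E : Set A) ⊆ Algebra.adjoin R (Set.range (fun p : Fin d × Fin d => a p.1 p.2) ∪ {u}) := by
  classical
  obtain ⟨d, fs, ξ, h⟩ := exists_dualBasis (R := R) (Module.Dual R E)
  obtain ⟨bM, hbM⟩ : ∃ bM : Matrix (Fin d) (Fin d) A, ∀ i j, bM i j = bb E hE fs ξ i j :=
    ⟨Matrix.of (bb E hE fs ξ), fun _ _ => rfl⟩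
  obtain ⟨PR, hPR⟩ : ∃ PR : Matrix (Fin d) (Fin d) R, ∀ i j, PR i j = ξ j (fs i) :=
    ⟨Matrix.of (fun i j => ξ j (fs i)), fun _ _ => rfl⟩
  -- basic identities
  have hbP : bM * PR.map (algebraMap R A) = bM := by
    refine Matrix.ext fun i m => ?_
    rw [Matrix.mul_apply, hbM i m, bb_mul_P E hE fs ξ h i m]
    refine Finset.sum_congr rfl fun j _ => ?_
    rw [Matrix.map_apply, hPR, hbM, Algebra.smul_def, mul_comm]
  have hPb : PR.map (algebraMap R A) * bM = bM := by
    refine Matrix.ext fun i j => ?_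
    rw [Matrix.mul_apply, hbM i j, ← P_mul_bb E hE fs ξ h i j]
    refine Finset.sum_congr rfl fun l _ => ?_
    rw [Matrix.map_apply, hPR, hbM, Algebra.smul_def]
  have hPP : PR * PR = PR := by
    refine Matrix.ext fun i j => ?_
    rw [Matrix.mul_apply, hPR i j]
    have h1 := congrArg (ξ j) (h (fs i))
    rw [map_sum] at h1
    rw [h1]
    refine Finset.sum_congr rfl fun l _ => ?_
    rw [hPR, hPR, map_smul, smul_eq_mul]
  obtain ⟨a, ha⟩ : ∃ a : Matrix (Fin d) (Fin d) A, a = bM + (1 - PR.map (algebraMap R A)) :=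
    ⟨_, rfl⟩
  -- maps to `A ⊗ A`
  have hmapP : ∀ φ : A →+* A ⊗[R] A, (∀ r, φ (algebraMap R A r) = algebraMap R (A ⊗[R] A) r) →
      (PR.map (algebraMap R A)).map φ = PR.map (algebraMap R (A ⊗[R] A)) := by
    intro φ hφ
    refine Matrix.ext fun i j => ?_
    rw [Matrix.map_apply, Matrix.map_apply, Matrix.map_apply, hφ]
  have hmapa : ∀ φ : A →+* A ⊗[R] A, (∀ r, φ (algebraMap R A r) = algebraMap R (A ⊗[R] A) r) →
      a.map φ = bM.map φ + (1 - PR.map (algebraMap R (A ⊗[R] A))) := by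
    intro φ hφ
    rw [ha, Matrix.map_add _ (map_add φ), Matrix.map_sub _ (map_sub φ),
      Matrix.map_one _ (map_zero φ) (map_one φ), hmapP φ hφ]
  have hPTPT : PR.map (algebraMap R (A ⊗[R] A)) * PR.map (algebraMap R (A ⊗[R] A)) =
      PR.map (algebraMap R (A ⊗[R] A)) := by
    rw [← Matrix.map_mul, hPP]
  have hZZ : (1 - PR.map (algebraMap R (A ⊗[R] A))) * (1 - PR.map (algebraMap R (A ⊗[R] A))) =
      1 - PR.map (algebraMap R (A ⊗[R] A)) := by
    rw [mul_sub, mul_one, sub_mul, one_mul, hPTPT, sub_self, sub_zero]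
  have hbZ : ∀ φ : A →+* A ⊗[R] A, (∀ r, φ (algebraMap R A r) = algebraMap R (A ⊗[R] A) r) →
      bM.map φ * (1 - PR.map (algebraMap R (A ⊗[R] A))) = 0 := by
    intro φ hφ
    rw [mul_sub, mul_one, ← hmapP φ hφ, ← Matrix.map_mul, hbP, sub_self]
  have hZb : ∀ φ : A →+* A ⊗[R] A, (∀ r, φ (algebraMap R A r) = algebraMap R (A ⊗[R] A) r) →
      (1 - PR.map (algebraMap R (A ⊗[R] A))) * bM.map φ = 0 := by
    intro φ hφ
    rw [sub_mul, one_mul, ← hmapP φ hφ, ← Matrix.map_mul, hPb, sub_self]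
  set Δr : A →+* A ⊗[R] A := (Bialgebra.comulAlgHom R A).toRingHom with hΔr
  set iL : A →+* A ⊗[R] A :=
    (Algebra.TensorProduct.includeLeft : A →ₐ[R] A ⊗[R] A).toRingHom with hiL
  set iR : A →+* A ⊗[R] A :=
    (Algebra.TensorProduct.includeRight : A →ₐ[R] A ⊗[R] A).toRingHom with hiR
  have hΔc : ∀ r, Δr (algebraMap R A r) = algebraMap R (A ⊗[R] A) r :=
    fun r => (Bialgebra.comulAlgHom R A).commutes r
  have hLc : ∀ r, iL (algebraMap R A r) = algebraMap R (A ⊗[R] A) r :=
    fun r => (Algebra.TensorProduct.includeLeft : A →ₐ[R] A ⊗[R] A).commutes r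
  have hRc : ∀ r, iR (algebraMap R A r) = algebraMap R (A ⊗[R] A) r :=
    fun r => (Algebra.TensorProduct.includeRight : A →ₐ[R] A ⊗[R] A).commutes r
  have hiLa : ∀ x : A, iL x = x ⊗ₜ[R] (1 : A) := fun x => rfl
  have hiRa : ∀ x : A, iR x = (1 : A) ⊗ₜ[R] x := fun x => rfl
  have hΔa : ∀ x : A, Δr x = Coalgebra.comul (R := R) x := fun x => rfl
  have hbΔ : bM.map Δr = bM.map iL * bM.map iR := by
    refine Matrix.ext fun i j => ?_
    rw [Matrix.map_apply, Matrix.mul_apply, hΔa, hbM, comul_bb E hE fs ξ h i j]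
    refine Finset.sum_congr rfl fun l _ => ?_
    rw [Matrix.map_apply, Matrix.map_apply, hiLa, hiRa, Algebra.TensorProduct.tmul_mul_tmul,
      mul_one, one_mul, hbM, hbM]
  have hmain : a.map Δr = a.map iL * a.map iR := by
    rw [hmapa Δr hΔc, hmapa iL hLc, hmapa iR hRc, add_mul, mul_add, mul_add, hbZ iL hLc,
      hZb iR hRc, hZZ, hbΔ, add_zero, zero_add]
  have hcomul : ∀ i j, Coalgebra.comul (R := R) (a i j) = ∑ l, a i l ⊗ₜ[R] a l j := by
    intro i j
    have h1 := congrFun (congrFun hmain i) j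
    rw [Matrix.map_apply, Matrix.mul_apply, hΔa] at h1
    rw [h1]
    refine Finset.sum_congr rfl fun l _ => ?_
    rw [Matrix.map_apply, Matrix.map_apply, hiLa, hiRa, Algebra.TensorProduct.tmul_mul_tmul,
      mul_one, one_mul]
  have hcounit : ∀ i j, Coalgebra.counit (R := R) (a i j) = if i = j then 1 else 0 := by
    intro i j
    rw [ha, Matrix.add_apply, Matrix.sub_apply, Matrix.map_apply, hPR, hbM, map_add, map_sub,
      counit_bb, Bialgebra.counit_algebraMap, Matrix.one_apply]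
    split_ifs with hij
    · rw [Bialgebra.counit_one]
      ring
    · rw [map_zero]
      ring
  have hSa : a.map (HopfAlgebra.antipode R) * a = 1 := by
    refine Matrix.ext fun i j => ?_
    rw [Matrix.mul_apply, Matrix.one_apply]
    have h1 := HopfAlgebra.mul_antipode_rTensor_comul_apply (R := R) (a i j)
    rw [hcomul i j, map_sum, map_sum, hcounit i j] at h1
    simp only [LinearMap.rTensor_tmul, LinearMap.mul'_apply] at h1
    have h2 : ∑ l, (a.map (HopfAlgebra.antipode R)) i l * a l j =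
        ∑ l, (HopfAlgebra.antipode R) (a i l) * a l j :=
      Finset.sum_congr rfl fun l _ => by rw [Matrix.map_apply]
    rw [h2, h1]
    split_ifs <;> simp
  refine ⟨d, a, hcomul, hcounit, (a.map (HopfAlgebra.antipode R)).det, ?_, ?_⟩
  · rw [← Matrix.det_mul, hSa, Matrix.det_one]
  · set S := Algebra.adjoin R (Set.range (fun p : Fin d × Fin d => a p.1 p.2) ∪
      {(a.map (HopfAlgebra.antipode R)).det}) with hS
    have hbS : ∀ i j, bb E hE fs ξ i j ∈ S := by
      intro i j
      have h1 : bb E hE fs ξ i j = a i j - ((1 : Matrix (Fin d) (Fin d) A) i j -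
          algebraMap R A (PR i j)) := by
        rw [ha, Matrix.add_apply, Matrix.sub_apply, Matrix.map_apply, hbM]
        ring
      rw [h1]
      refine S.sub_mem (Algebra.subset_adjoin (Or.inl ⟨(i, j), rfl⟩)) (S.sub_mem ?_
        (S.algebraMap_mem _))
      rw [Matrix.one_apply]
      split_ifs
      · exact S.one_mem
      · exact S.zero_mem
    intro x hx
    have h1 := mu_counit E hE ⟨x, hx⟩
    have h2 := congrArg (fun f => mu E hE f ⟨x, hx⟩)
      (h ((Coalgebra.counit (R := R) (A := A)) ∘ₗ E.subtype))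
    simp only [map_sum, map_smul, LinearMap.sum_apply, LinearMap.smul_apply] at h2
    rw [h1] at h2
    have h3 : x = ∑ i, (ξ i) ((Coalgebra.counit (R := R) (A := A)) ∘ₗ E.subtype) •
        (mu E hE (fs i)) ⟨x, hx⟩ := h2
    change x ∈ S
    rw [h3]
    refine S.sum_mem fun i _ => S.smul_mem ?_ _
    rw [mu_fs E hE fs ξ h]
    exact S.sum_mem fun j _ => S.smul_mem (hbS i j) _

end Final

end Groth.Agent.Lib.helper15.MatCorep
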