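import Mathlib
import Groth.Prelude.Def_HopfRep
import Groth.Agent.Lib.Helper15.MatCorep2

/-!
# Matrix corepresentations from finite projective comodules (helper15)

* `comodE`: the `HopfRep.Comod` structure on a subcomodule `E ⊆ A` of a flat Hopf algebra.
* `exists_matrix_of_b`: completing a "projective" matrix of coefficients (`b = bP = Pb`, `P² = P`,
  `Δ b_ij = Σ b_il ⊗ b_lj`, `ε b_ij = P_ij`) to a genuine matrix corepresentation `a = b + (1 - P)`.
* `exists_matrix_of_comod`: a finite projective right comodule `P` gives a matrix corepresentation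
  whose coefficient algebra contains all `(χ ⊗ id)(ρ p)`.
-/

set_option autoImplicit false

namespace Groth.Agent.Lib.helper15.MatCorep

open TensorProduct Groth.Agent.Lib.helper15.DualTensorFlat

section ComodE

variable {R : Type*} [CommRing R] {A : Type*} [CommRing A] [HopfAlgebra R A] [Module.Flat R A]
  (E : Submodule R A)
  (hE : ∀ x ∈ E, Coalgebra.comul (R := R) x ∈ LinearMap.range (E.subtype.rTensor A))

theorem coactE_coassoc (e : E) : (coactE E hE).rTensor A (coactE E hE e) =
    (TensorProduct.assoc R E A A).symm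
      ((Coalgebra.comul (R := R) (A := A)).lTensor E (coactE E hE e)) := by
  have hinj2 : Function.Injective ((E.subtype.rTensor A).rTensor A) :=
    Module.Flat.rTensor_preserves_injective_linearMap _ (rTensor_subtype_injective E)
  apply hinj2
  have l1 : (E.subtype.rTensor A).rTensor A ((coactE E hE).rTensor A (coactE E hE e)) =
      (Coalgebra.comul (R := R) (A := A)).rTensor A (Coalgebra.comul (R := R) (e : A)) := by
    rw [← LinearMap.comp_apply, ← LinearMap.rTensor_comp]
    have : E.subtype.rTensor A ∘ₗ coactE E hE =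
        Coalgebra.comul (R := R) (A := A) ∘ₗ E.subtype := by
      ext x
      exact rTensor_coactE E hE x
    rw [this, LinearMap.rTensor_comp, LinearMap.comp_apply, rTensor_coactE]
  have l2 : (E.subtype.rTensor A).rTensor A ((TensorProduct.assoc R E A A).symm
      ((Coalgebra.comul (R := R) (A := A)).lTensor E (coactE E hE e))) =
      (TensorProduct.assoc R A A A).symm ((Coalgebra.comul (R := R) (A := A)).lTensor A
        (Coalgebra.comul (R := R) (e : A))) := by
    have h3 : ∀ z : E ⊗[R] (A ⊗[R] A),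
        (E.subtype.rTensor A).rTensor A ((TensorProduct.assoc R E A A).symm z) =
        (TensorProduct.assoc R A A A).symm (E.subtype.rTensor (A ⊗[R] A) z) := by
      intro z
      rw [LinearMap.rTensor_tensor]
      simp
    rw [h3]
    congr 1
    have h1 := LinearMap.congr_fun (LinearMap.rTensor_comp_lTensor E E.subtype
      (Coalgebra.comul (R := R) (A := A))) (coactE E hE e)
    have h2 := LinearMap.congr_fun (LinearMap.lTensor_comp_rTensor E E.subtype
      (Coalgebra.comul (R := R) (A := A))) (coactE E hE e)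
    have h4 := h1.trans h2.symm
    rw [LinearMap.comp_apply, LinearMap.comp_apply, rTensor_coactE] at h4
    exact h4
  rw [l1, l2, Coalgebra.coassoc_symm_apply]

/-- the comodule structure on a subcomodule of `A`. -/
@[reducible] noncomputable def comodE : HopfRep.Comod R A E where
  coact := coactE E hE
  coassoc := by
    ext e
    simp only [LinearMap.comp_apply, LinearEquiv.coe_coe]
    rw [coactE_coassoc, LinearEquiv.apply_symm_apply]
  counit_comp := by
    ext e
    simp only [LinearMap.comp_apply]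
    have h1 := rid_lTensor_counit_coactE E hE e
    have h2 : (Coalgebra.counit (R := R) (A := A)).lTensor E (coactE E hE e) =
        (TensorProduct.rid R E).symm e := by
      rw [LinearEquiv.eq_symm_apply]
      exact h1
    rw [h2]
    rfl

end ComodE

section MatAlg

variable {R : Type*} [CommRing R] {A : Type*} [CommRing A] [HopfAlgebra R A]

theorem exists_matrix_of_b {d : ℕ} (bM : Matrix (Fin d) (Fin d) A) (PR : Matrix (Fin d) (Fin d) R)
    (hbP : bM * PR.map (algebraMap R A) = bM) (hPb : PR.map (algebraMap R A) * bM = bM)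
    (hPP : PR * PR = PR)
    (hbcomul : ∀ i j, Coalgebra.comul (R := R) (bM i j) = ∑ l, bM i l ⊗ₜ[R] bM l j)
    (hbcounit : ∀ i j, Coalgebra.counit (R := R) (bM i j) = PR i j) :
    ∃ a : Matrix (Fin d) (Fin d) A,
      (∀ i j, Coalgebra.comul (R := R) (a i j) = ∑ l, a i l ⊗ₜ[R] a l j) ∧
      (∀ i j, Coalgebra.counit (R := R) (a i j) = if i = j then 1 else 0) ∧
      ∃ u : A, u * a.det = 1 ∧ ∀ i j,
        bM i j ∈ Algebra.adjoin R (Set.range (fun p : Fin d × Fin d => a p.1 p.2) ∪ {u}) := by
  classical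
  obtain ⟨a, ha⟩ : ∃ a : Matrix (Fin d) (Fin d) A, a = bM + (1 - PR.map (algebraMap R A)) :=
    ⟨_, rfl⟩
  have hmapP : ∀ φ : A →+* A ⊗[R] A, (∀ r, φ (algebraMap R A r) = algebraMap R (A ⊗[R] A) r) →
      (PR.map (algebraMap R A)).map φ = PR.map (algebraMap R (A ⊗[R] A)) := by
    intro φ hφ
    refine Matrix.ext fun i j => ?_
    rw [Matrix.map_apply, Matrix.map_apply, Matrix.map_apply, hφ]
  have hmapa : ∀ φ : A →+* A ⊗[R] A, (∀ r, φ (algebraMap R A r) = algebraMap R (A ⊗[R] A) r) →
      a.map φ = bM.map φ + (1 - PR.map (algebraMap R (A ⊗[R] A))) := by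
    intro φ hφ
    rw [ha, Matrix.map_add _ (map_add φ), Matrix.map_sub _ (map_sub φ),
      Matrix.map_one _ (map_zero φ) (map_one φ), hmapP φ hφ]
  have hPTPT : PR.map (algebraMap R (A ⊗[R] A)) * PR.map (algebraMap R (A ⊗[R] A)) =
      PR.map (algebraMap R (A ⊗[R] A)) := by
    rw [← Matrix.map_mul, hPP]
  have hZZ : (1 - PR.map (algebraMap R (A ⊗[R] A))) * (1 - PR.map (algebraMap R (A ⊗[R] A))) =
      1 - PR.map (algebraMap R (A ⊗[R] A)) := by
    rw [mul_sub, mul_one, sub_mul, one_mul, hPTPT, sub_self, sub_zero]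
  have hbZ : ∀ φ : A →+* A ⊗[R] A, (∀ r, φ (algebraMap R A r) = algebraMap R (A ⊗[R] A) r) →
      bM.map φ * (1 - PR.map (algebraMap R (A ⊗[R] A))) = 0 := by
    intro φ hφ
    rw [mul_sub, mul_one, ← hmapP φ hφ, ← Matrix.map_mul, hbP, sub_self]
  have hZb : ∀ φ : A →+* A ⊗[R] A, (∀ r, φ (algebraMap R A r) = algebraMap R (A ⊗[R] A) r) →
      (1 - PR.map (algebraMap R (A ⊗[R] A))) * bM.map φ = 0 := by
    intro φ hφ
    rw [sub_mul, one_mul, ← hmapP φ hφ, ← Matrix.map_mul, hPb, sub_self]
  set Δr : A →+* A ⊗[R] A := (Bialgebra.comulAlgHom R A).toRingHom with hΔr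
  set iL : A →+* A ⊗[R] A :=
    (Algebra.TensorProduct.includeLeft : A →ₐ[R] A ⊗[R] A).toRingHom with hiL
  set iR : A →+* A ⊗[R] A :=
    (Algebra.TensorProduct.includeRight : A →ₐ[R] A ⊗[R] A).toRingHom with hiR
  have hΔc : ∀ r, Δr (algebraMap R A r) = algebraMap R (A ⊗[R] A) r :=
    fun r => (Bialgebra.comulAlgHom R A).commutes r
  have hLc : ∀ r, iL (algebraMap R A r) = algebraMap R (A ⊗[R] A) r :=
    fun r => (Algebra.TensorProduct.includeLeft : A →ₐ[R] A ⊗[R] A).commutes r
  have hRc : ∀ r, iR (algebraMap R A r) = algebraMap R (A ⊗[R] A) r :=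
    fun r => (Algebra.TensorProduct.includeRight : A →ₐ[R] A ⊗[R] A).commutes r
  have hiLa : ∀ x : A, iL x = x ⊗ₜ[R] (1 : A) := fun x => rfl
  have hiRa : ∀ x : A, iR x = (1 : A) ⊗ₜ[R] x := fun x => rfl
  have hΔa : ∀ x : A, Δr x = Coalgebra.comul (R := R) x := fun x => rfl
  have hbΔ : bM.map Δr = bM.map iL * bM.map iR := by
    refine Matrix.ext fun i j => ?_
    rw [Matrix.map_apply, Matrix.mul_apply, hΔa, hbcomul i j]
    refine Finset.sum_congr rfl fun l _ => ?_
    rw [Matrix.map_apply, Matrix.map_apply, hiLa, hiRa, Algebra.TensorProduct.tmul_mul_tmul,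
      mul_one, one_mul]
  have hmain : a.map Δr = a.map iL * a.map iR := by
    rw [hmapa Δr hΔc, hmapa iL hLc, hmapa iR hRc, add_mul, mul_add, mul_add, hbZ iL hLc,
      hZb iR hRc, hZZ, hbΔ, add_zero, zero_add]
  have hcomul : ∀ i j, Coalgebra.comul (R := R) (a i j) = ∑ l, a i l ⊗ₜ[R] a l j := by
    intro i j
    have h1 := congrFun (congrFun hmain i) j
    rw [Matrix.map_apply, Matrix.mul_apply, hΔa] at h1
    rw [h1]
    refine Finset.sum_congr rfl fun l _ => ?_
    rw [Matrix.map_apply, Matrix.map_apply, hiLa, hiRa, Algebra.TensorProduct.tmul_mul_tmul,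
      mul_one, one_mul]
  have hcounit : ∀ i j, Coalgebra.counit (R := R) (a i j) = if i = j then 1 else 0 := by
    intro i j
    rw [ha, Matrix.add_apply, Matrix.sub_apply, Matrix.map_apply, map_add, map_sub,
      hbcounit, Bialgebra.counit_algebraMap, Matrix.one_apply]
    split_ifs with hij
    · rw [Bialgebra.counit_one]
      ring
    · rw [map_zero]
      ring
  have hSa : a.map (HopfAlgebra.antipode R) * a = 1 := by
    refine Matrix.ext fun i j => ?_
    rw [Matrix.mul_apply, Matrix.one_apply]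
    have h1 := HopfAlgebra.mul_antipode_rTensor_comul_apply (R := R) (a i j)
    rw [hcomul i j, map_sum, map_sum, hcounit i j] at h1
    simp only [LinearMap.rTensor_tmul, LinearMap.mul'_apply] at h1
    have h2 : ∑ l, (a.map (HopfAlgebra.antipode R)) i l * a l j =
        ∑ l, (HopfAlgebra.antipode R) (a i l) * a l j :=
      Finset.sum_congr rfl fun l _ => by rw [Matrix.map_apply]
    rw [h2, h1]
    split_ifs <;> simp
  refine ⟨a, hcomul, hcounit, (a.map (HopfAlgebra.antipode R)).det, ?_, ?_⟩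
  · rw [← Matrix.det_mul, hSa, Matrix.det_one]
  · set S := Algebra.adjoin R (Set.range (fun p : Fin d × Fin d => a p.1 p.2) ∪
      {(a.map (HopfAlgebra.antipode R)).det}) with hS
    intro i j
    have h1 : bM i j = a i j - ((1 : Matrix (Fin d) (Fin d) A) i j -
        algebraMap R A (PR i j)) := by
      rw [ha, Matrix.add_apply, Matrix.sub_apply, Matrix.map_apply]
      ring
    rw [h1]
    refine S.sub_mem (Algebra.subset_adjoin (Or.inl ⟨(i, j), rfl⟩)) (S.sub_mem ?_
      (S.algebraMap_mem _))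
    rw [Matrix.one_apply]
    split_ifs
    · exact S.one_mem
    · exact S.zero_mem

end MatAlg

section OfComod

variable {R : Type*} [CommRing R] {A : Type*} [CommRing A] [HopfAlgebra R A]
  (P : Type*) [AddCommGroup P] [Module R P] [Module.Finite R P] [Module.Projective R P]
  [c : HopfRep.Comod R A P]

omit [Module.Finite R P] [Module.Projective R P] c in
theorem pair_assoc_tmul (ξ : P →ₗ[R] R) (t : P ⊗[R] A) (b : A) :
    pair (M := A ⊗[R] A) ξ (TensorProduct.assoc R P A A (t ⊗ₜ[R] b)) = pair ξ t ⊗ₜ[R] b := by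
  induction t with
  | zero => simp
  | tmul p a =>
    rw [TensorProduct.assoc_tmul, pair_tmul, pair_tmul, TensorProduct.smul_tmul']
  | add x y hx hy => rw [TensorProduct.add_tmul, map_add, map_add, hx, hy, map_add,
      TensorProduct.add_tmul]

theorem exists_matrix_of_comod :
    ∃ (d : ℕ) (a : Matrix (Fin d) (Fin d) A),
      (∀ i j, Coalgebra.comul (R := R) (a i j) = ∑ l, a i l ⊗ₜ[R] a l j) ∧
      (∀ i j, Coalgebra.counit (R := R) (a i j) = if i = j then 1 else 0) ∧
      ∃ u : A, u * a.det = 1 ∧ ∀ (χ : P →ₗ[R] R) (p : P),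
        pair χ (HopfRep.Comod.coact (k := R) (A := A) p) ∈
          Algebra.adjoin R (Set.range (fun q : Fin d × Fin d => a q.1 q.2) ∪ {u}) := by
  classical
  obtain ⟨d, ps, ξ, h⟩ := exists_dualBasis (R := R) P
  set ρ : P →ₗ[R] P ⊗[R] A := HopfRep.Comod.coact (k := R) (A := A) with hρ
  obtain ⟨bM, hbM⟩ : ∃ bM : Matrix (Fin d) (Fin d) A, ∀ i j, bM i j = pair (ξ i) (ρ (ps j)) :=
    ⟨Matrix.of (fun i j => pair (ξ i) (ρ (ps j))), fun _ _ => rfl⟩
  obtain ⟨PR, hPR⟩ : ∃ PR : Matrix (Fin d) (Fin d) R, ∀ i j, PR i j = ξ i (ps j) :=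
    ⟨Matrix.of (fun i j => ξ i (ps j)), fun _ _ => rfl⟩
  have hexp : ∀ j, ρ (ps j) = ∑ i, ps i ⊗ₜ[R] bM i j := by
    intro j
    have h1 := eq_sum_tmul_pair ps ξ h (ρ (ps j))
    rw [h1]
    refine Finset.sum_congr rfl fun i _ => ?_
    rw [hbM]
  have hPb : PR.map (algebraMap R A) * bM = bM := by
    refine Matrix.ext fun i j => ?_
    rw [Matrix.mul_apply]
    conv_rhs => rw [hbM, hexp j, map_sum]
    refine Finset.sum_congr rfl fun l _ => ?_
    rw [pair_tmul, Matrix.map_apply, hPR, Algebra.smul_def]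
  have hbP : bM * PR.map (algebraMap R A) = bM := by
    refine Matrix.ext fun i j => ?_
    rw [Matrix.mul_apply]
    have h1 := congrArg (fun p => pair (ξ i) (ρ p)) (h (ps j))
    simp only [map_sum, map_smul] at h1
    rw [hbM i j, h1]
    refine Finset.sum_congr rfl fun l _ => ?_
    rw [Matrix.map_apply, hPR, hbM, Algebra.smul_def, mul_comm]
  have hPP : PR * PR = PR := by
    refine Matrix.ext fun i j => ?_
    rw [Matrix.mul_apply, hPR i j]
    have h1 := congrArg (ξ i) (h (ps j))
    rw [map_sum] at h1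
    rw [h1]
    refine Finset.sum_congr rfl fun l _ => ?_
    rw [hPR, hPR, map_smul, smul_eq_mul, mul_comm]
  have hbcomul : ∀ i j, Coalgebra.comul (R := R) (bM i j) = ∑ l, bM i l ⊗ₜ[R] bM l j := by
    intro i j
    have h1 := pair_lTensor (ξ i) (Coalgebra.comul (R := R) (A := A)) (ρ (ps j))
    have h2 : (Coalgebra.comul (R := R) (A := A)).lTensor P (ρ (ps j)) =
        TensorProduct.assoc R P A A (ρ.rTensor A (ρ (ps j))) :=
      (LinearMap.congr_fun (HopfRep.Comod.coassoc (k := R) (A := A) (V := P)) (ps j)).symm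
    rw [hbM i j, ← h1, h2]
    conv_lhs => rw [hexp j, map_sum, map_sum, map_sum]
    refine Finset.sum_congr rfl fun l _ => ?_
    rw [LinearMap.rTensor_tmul, pair_assoc_tmul, hbM i l]
  have hbcounit : ∀ i j, Coalgebra.counit (R := R) (bM i j) = PR i j := by
    intro i j
    have h1 := pair_lTensor (ξ i) (Coalgebra.counit (R := R) (A := A)) (ρ (ps j))
    have h2 : (Coalgebra.counit (R := R) (A := A)).lTensor P (ρ (ps j)) = ps j ⊗ₜ[R] (1 : R) :=
      LinearMap.congr_fun (HopfRep.Comod.counit_comp (k := R) (A := A) (V := P)) (ps j)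
    rw [h2, pair_tmul, smul_eq_mul, mul_one] at h1
    rw [hbM, ← h1, hPR]
  obtain ⟨a, hc, hu, u, hdet, hmem⟩ := exists_matrix_of_b bM PR hbP hPb hPP hbcomul hbcounit
  refine ⟨d, a, hc, hu, u, hdet, fun χ p => ?_⟩
  set S := Algebra.adjoin R (Set.range (fun q : Fin d × Fin d => a q.1 q.2) ∪ {u}) with hS
  have h1 := congrArg (fun p => pair χ (ρ p)) (h p)
  simp only [map_sum, map_smul] at h1
  rw [h1]
  refine S.sum_mem fun j _ => S.smul_mem ?_ _
  rw [hexp j, map_sum]
  refine S.sum_mem fun i _ => ?_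
  rw [pair_tmul]
  exact S.smul_mem (hmem i j) _

end OfComod

end Groth.Agent.Lib.helper15.MatCorep
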