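import Mathlib
import Groth.Agent.Lib.Helper16.CycFlat1
import Groth.Agent.Lib.Helper17.FibreStalk

/-!
# Lengths of local rings at maximal points under flat morphisms (helper15)

* `subsingleton_primeSpectrum_stalk`: the local ring at a maximal point has exactly one prime.
* `isFiniteLength_stalk_of_maximal`: on a locally Noetherian scheme it has finite length.
* `maximal_of_flat`: a flat morphism maps maximal points to maximal points.
* `length_stalk_eq_mul`: `length O_x = length O_{π x} · length (O_x / m_{π x} O_x)` for `π` flat and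
  `O_{π x}` of finite length.
* `length_fibRing_eq_one`: if the fibre ring at a maximal point `x` is reduced then it has length one.
-/

set_option autoImplicit false
set_option linter.style.haveILetI false
universe u
open CategoryTheory CategoryTheory.Limits AlgebraicGeometry IsLocalRing TensorProduct

namespace Groth.Agent.Lib.helper15.MaxPtLen

open Groth.Agent.Lib.helper17.FibreStalk Groth.Agent.Lib.helper16.CycFlat

theorem subsingleton_primeSpectrum_stalk {X : Scheme.{u}} (x : X) (hx : ∀ z : X, z ⤳ x → z = x) :
    Subsingleton (PrimeSpectrum (X.presheaf.stalk x)) := by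
  refine ⟨fun p q => ?_⟩
  have hinj : Function.Injective (X.fromSpecStalk x) :=
    (X.fromSpecStalk x).isEmbedding.injective
  apply hinj
  have hp : (X.fromSpecStalk x) p ⤳ x := by
    have : (X.fromSpecStalk x) p ∈ Set.range (X.fromSpecStalk x) := ⟨p, rfl⟩
    rwa [Scheme.range_fromSpecStalk] at this
  have hq : (X.fromSpecStalk x) q ⤳ x := by
    have : (X.fromSpecStalk x) q ∈ Set.range (X.fromSpecStalk x) := ⟨q, rfl⟩
    rwa [Scheme.range_fromSpecStalk] at this
  rw [hx _ hp, hx _ hq]

theorem krullDimLE_zero_stalk {X : Scheme.{u}} (x : X) (hx : ∀ z : X, z ⤳ x → z = x) :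
    Ring.KrullDimLE 0 (X.presheaf.stalk x) := by
  haveI := subsingleton_primeSpectrum_stalk x hx
  exact ⟨Order.krullDim_nonpos_of_subsingleton⟩

theorem isFiniteLength_stalk_of_maximal {X : Scheme.{u}} [IsLocallyNoetherian X] (x : X)
    (hx : ∀ z : X, z ⤳ x → z = x) :
    IsFiniteLength (X.presheaf.stalk x) (X.presheaf.stalk x) := by
  haveI := krullDimLE_zero_stalk x hx
  haveI : IsArtinianRing (X.presheaf.stalk x) := isArtinianRing_iff_krullDimLE_zero.mpr inferInstance
  rw [isFiniteLength_iff_isNoetherian_isArtinian]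
  exact ⟨inferInstance, inferInstance⟩

theorem maximal_of_flat {X Y : Scheme.{u}} (π : X ⟶ Y) [Flat π] (x : X)
    (hx : ∀ z : X, z ⤳ x → z = x) : ∀ y : Y, y ⤳ π x → y = π x := by
  intro y hy
  obtain ⟨x', hx', rfl⟩ := Flat.generalizingMap π hy
  rw [hx x' hx']

theorem length_stalk_eq_mul {X Y : Scheme.{u}} (π : X ⟶ Y) [Flat π] (x : X)
    (hfin : IsFiniteLength (Y.presheaf.stalk (π x)) (Y.presheaf.stalk (π x))) :
    Module.length (X.presheaf.stalk x) (X.presheaf.stalk x) =
      Module.length (Y.presheaf.stalk (π x)) (Y.presheaf.stalk (π x)) *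
        Module.length (X.presheaf.stalk x) (FibRing π x) := by
  have hflat : (π.stalkMap x).hom.Flat := (Flat.iff_flat_stalkMap (f := π)).1 inferInstance x
  letI := (π.stalkMap x).hom.toAlgebra
  haveI : Module.Flat (Y.presheaf.stalk (π x)) (X.presheaf.stalk x) := hflat
  have h1 := length_baseChange_mul (A := Y.presheaf.stalk (π x)) (B := X.presheaf.stalk x)
    (Y.presheaf.stalk (π x)) hfin
  refine Eq.trans ?_ h1
  exact (TensorProduct.AlgebraTensorModule.rid (Y.presheaf.stalk (π x)) (X.presheaf.stalk x)
    (X.presheaf.stalk x)).symm.length_eq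

/-- A quotient of a local ring with a single prime which is reduced is the residue field. -/
theorem length_quotient_eq_one_of_isReduced {B : Type u} [CommRing B] [IsLocalRing B]
    [Ring.KrullDimLE 0 B] (I : Ideal B) (hI : I ≠ ⊤) [IsReduced (B ⧸ I)] :
    Module.length B (B ⧸ I) = 1 := by
  have hle : I ≤ maximalIdeal B := IsLocalRing.le_maximalIdeal hI
  have hge : maximalIdeal B ≤ I := by
    intro b hb
    have hnil : IsNilpotent b := by
      rw [← Ring.KrullDimLE.nilradical_eq_maximalIdeal B] at hb
      exact hb
    have h2 : IsNilpotent (Ideal.Quotient.mk I b) := hnil.map _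
    have h3 : Ideal.Quotient.mk I b = 0 := h2.eq_zero
    exact Ideal.Quotient.eq_zero_iff_mem.mp h3
  have hI' : I = maximalIdeal B := le_antisymm hle hge
  subst hI'
  haveI : IsSimpleModule B (B ⧸ maximalIdeal B) :=
    isSimpleModule_iff_quot_maximal.mpr ⟨_, inferInstance, ⟨LinearEquiv.refl _ _⟩⟩
  exact Module.length_eq_one B _

end Groth.Agent.Lib.helper15.MaxPtLen
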