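import Mathlib

/-!
# The unit group of a monoid scheme (helper15)

For a monoid object `M` of `Over S`: `unitsObj M = {(a, b) | a b = 1 = b a} ⊆ M × M` (a pullback), `unitsIncl M` the first
projection; it is a monomorphism and a `T`-point of `M` factors through it iff it is a unit of the monoid `M(T)`.
-/

set_option autoImplicit false
universe u

namespace Groth.Agent.Lib.helper15.MonUnits

open CategoryTheory MonoidalCategory CartesianMonoidalCategory MonObj AlgebraicGeometry

variable {S : Scheme.{u}} (M : Over S) [MonObj M]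

/-- `(a, b) ↦ (a b, b a)` -/
noncomputable abbrev mulPair : M ⊗ M ⟶ M ⊗ M := lift μ[M] ((β_ M M).hom ≫ μ[M])

/-- the point `(1, 1)` -/
noncomputable abbrev onePair : 𝟙_ (Over S) ⟶ M ⊗ M := lift η[M] η[M]

/-- the scheme of pairs of mutually inverse points -/
noncomputable abbrev unitsObj : Over S := Limits.pullback (mulPair M) (onePair M)

/-- the first projection -/
noncomputable abbrev unitsIncl : unitsObj M ⟶ M := Limits.pullback.fst (mulPair M) (onePair M) ≫ fst M M

/-- the projection to `M × M` -/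
noncomputable abbrev unitsPair : unitsObj M ⟶ M ⊗ M := Limits.pullback.fst (mulPair M) (onePair M)

lemma braid_lift {T : Over S} (a b : T ⟶ M) : lift a b ≫ (β_ M M).hom = lift b a := by
  apply CartesianMonoidalCategory.hom_ext <;> simp

lemma key {T : Over S} (g : T ⟶ unitsObj M) :
    (g ≫ unitsPair M ≫ fst M M) * (g ≫ unitsPair M ≫ snd M M) = 1 ∧
    (g ≫ unitsPair M ≫ snd M M) * (g ≫ unitsPair M ≫ fst M M) = 1 := by
  have hc : (g ≫ unitsPair M) ≫ mulPair M = toUnit T ≫ onePair M := by
    unfold unitsPair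
    rw [Category.assoc, Limits.pullback.condition, ← Category.assoc]
    congr 1
    exact toUnit_unique _ _
  have h1 : (g ≫ unitsPair M) ≫ μ[M] = 1 := by
    have := congrArg (fun t => t ≫ fst M M) hc
    simp only [mulPair, onePair, Category.assoc, lift_fst] at this
    rw [Category.assoc, this, Hom.one_def]
  have h2 : (g ≫ unitsPair M) ≫ (β_ M M).hom ≫ μ[M] = 1 := by
    have := congrArg (fun t => t ≫ snd M M) hc
    simp only [mulPair, onePair, Category.assoc, lift_snd] at this
    rw [Category.assoc, this, Hom.one_def]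
  constructor
  · rw [Hom.mul_def, ← Category.assoc, ← Category.assoc g, ← comp_lift, lift_fst_snd,
      Category.comp_id]
    exact h1
  · rw [Hom.mul_def, ← Category.assoc, ← Category.assoc g, ← braid_lift, ← comp_lift, lift_fst_snd,
      Category.comp_id, Category.assoc]
    exact h2

instance mono_unitsIncl : Mono (unitsIncl M) := by
  constructor
  intro T g₁ g₂ h
  apply Limits.pullback.hom_ext
  · apply CartesianMonoidalCategory.hom_ext
    · simpa only [Category.assoc] using h
    · have k1 := key M g₁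
      have k2 := key M g₂
      have h' : g₁ ≫ unitsPair M ≫ fst M M = g₂ ≫ unitsPair M ≫ fst M M := h
      rw [h'] at k1
      have := left_inv_eq_right_inv k1.2 k2.1
      simpa only [Category.assoc] using this
  · exact toUnit_unique _ _

lemma factors_iff {T : Over S} (m : T ⟶ M) : (∃ g : T ⟶ unitsObj M, g ≫ unitsIncl M = m) ↔ IsUnit m := by
  constructor
  · rintro ⟨g, rfl⟩
    have hk := key M g
    exact ⟨⟨g ≫ unitsPair M ≫ fst M M, g ≫ unitsPair M ≫ snd M M, hk.1, hk.2⟩, rfl⟩
  · rintro ⟨u, rfl⟩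
    have hu1 : lift (u : T ⟶ M) ((u⁻¹ : (T ⟶ M)ˣ) : T ⟶ M) ≫ μ[M] = toUnit T ≫ η[M] := by
      rw [← Hom.mul_def, ← Hom.one_def]
      exact u.mul_inv
    have hu2 : lift ((u⁻¹ : (T ⟶ M)ˣ) : T ⟶ M) (u : T ⟶ M) ≫ μ[M] = toUnit T ≫ η[M] := by
      rw [← Hom.mul_def, ← Hom.one_def]
      exact u.inv_mul
    refine ⟨Limits.pullback.lift (lift (u : T ⟶ M) ((u⁻¹ : (T ⟶ M)ˣ) : T ⟶ M)) (toUnit T) ?_, ?_⟩
    · apply CartesianMonoidalCategory.hom_ext
      · simp only [mulPair, onePair, Category.assoc, lift_fst]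
        exact hu1
      · simp only [mulPair, onePair, Category.assoc, lift_snd]
        rw [← Category.assoc, braid_lift]
        exact hu2
    · unfold unitsIncl
      rw [← Category.assoc, Limits.pullback.lift_fst, lift_fst]

/-- any other representing object is isomorphic to `unitsObj M` -/
lemma exists_iso_of_represents (G : Over S) (i : G ⟶ M) [Mono i]
    (hi : ∀ (T : Over S) (m : T ⟶ M), (∃ g : T ⟶ G, g ≫ i = m) ↔ IsUnit m) :
    ∃ b : G ≅ unitsObj M, b.hom ≫ unitsIncl M = i := by
  obtain ⟨a, ha⟩ := (hi _ (unitsIncl M)).2 ((factors_iff M _).1 ⟨𝟙 _, Category.id_comp _⟩)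
  obtain ⟨b, hb⟩ := (factors_iff M i).2 ((hi _ i).1 ⟨𝟙 _, Category.id_comp _⟩)
  refine ⟨⟨b, a, ?_, ?_⟩, hb⟩
  · rw [← cancel_mono i, Category.assoc, ha, hb, Category.id_comp]
  · rw [← cancel_mono (unitsIncl M), Category.assoc, hb, ha, Category.id_comp]

end Groth.Agent.Lib.helper15.MonUnits
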