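import Mathlib
import Groth.Agent.Lib.Helper15.GLnConj
import Groth.Agent.Lib.Helper15.IdemConj
import Groth.Agent.Lib.Helper15.GroupAlgHom

/-!
# Diagonalisable subgroups of `GL_m`: descent of conjugacy from `K` to `k` (helper15)
-/

set_option autoImplicit false
universe u

namespace Groth.Agent.Lib.helper15.MuNConj

open CategoryTheory MonoidalCategory CartesianMonoidalCategory MonObj GrpObj AlgebraicGeometry Limits
open scoped TensorProduct
open Groth.Agent.Lib.helper15.HopfDict Groth.Agent.Lib.helper15.HopfPtsSch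
  Groth.Agent.Lib.helper15.GLnMat Groth.Agent.Lib.helper15.BCHopf WithConv CoordGrp

variable (k K : Type u) [Field k] [Field K] [Algebra k K] (m : ℕ) (M : Type) [CommGroup M]

/-- the `K`-form of an algebra map `GLn m k → k[M]`. -/
noncomputable def rhoK (ρ : GLn m k →ₐ[k] MonoidAlgebra k M) :
    K ⊗[k] GLn m k →ₐ[K] MonoidAlgebra K M :=
  BCHopf.ext K ((mapRange k K M).comp ρ)

lemma rhoK_tmul (ρ : GLn m k →ₐ[k] MonoidAlgebra k M) (a : GLn m k) :
    rhoK k K m M ρ ((1 : K) ⊗ₜ[k] a) = mapRange k K M (ρ a) := by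
  rw [rhoK, BCHopf.ext_tmul, map_one, _root_.one_mul]
  rfl

/-- the isomorphism `Spec K[M] ≅ (Spec k[M])_K`. -/
noncomputable def xD : GaGm.GA K (MonoidAlgebra K M) ≅
    (Over.pullback (fK k K)).obj (GaGm.GA k (MonoidAlgebra k M)) :=
  bcIso (mapRange k K M) (mapRange_bijective k K M)

/-- the isomorphism `Spec (K ⊗ GLn) ≅ (GL_m)_K`. -/
noncomputable def xG : GaGm.GA K (K ⊗[k] GLn m k) ≅
    (Over.pullback (fK k K)).obj (GaGm.GA k (GLn m k)) :=
  bcIso (inclR k K (GLn m k)) (inclR_bijective k K (GLn m k))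

instance : IsMonHom (xD k K M).hom := isMonHom_bcPt _ (mapRange_comul k K M)
instance : IsMonHom (xG k K m).hom := isMonHom_bcPt _ (inclR_comul k K (GLn m k))

theorem xD_natural (ρ : GLn m k →ₐ[k] MonoidAlgebra k M) :
    (xD k K M).hom ≫ (Over.pullback (fK k K)).map (specMap ρ) =
      specMap (rhoK k K m M ρ) ≫ (xG k K m).hom :=
  bcPt_natural (inclR k K (GLn m k)) (mapRange k K M) ρ (rhoK k K m M ρ)
    (fun a => rhoK_tmul k K m M ρ a)

section Aux

variable {k K m M}

theorem isGL_map {R : Type u} [CommRing R] {H H' : Type u} [CommRing H] [CommRing H']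
    [Bialgebra R H] [Bialgebra R H'] (ρ : H →ₐc[R] H') {x : Matrix (Fin m) (Fin m) H}
    (hx : IsGL R x) : IsGL R ((ρ : H →ₐ[R] H').mapMatrix x) := by
  intro i j
  simp only [AlgHom.mapMatrix_apply, Matrix.map_apply]
  have h := CoalgHomClass.map_comp_comul_apply ρ (x i j)
  change TensorProduct.map (ρ : H →ₗ[R] H') (ρ : H →ₗ[R] H') _ = CoalgebraStruct.comul (ρ (x i j)) at h
  change CoalgebraStruct.comul (ρ (x i j)) = _
  rw [← h, hx i j, map_sum]
  rfl

theorem counit_map {R : Type u} [CommRing R] {H H' : Type u} [CommRing H] [CommRing H']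
    [Bialgebra R H] [Bialgebra R H'] (ρ : H →ₐc[R] H') (a : H) :
    CoalgebraStruct.counit (R := R) (ρ a) = CoalgebraStruct.counit (R := R) a :=
  CoalgHomClass.counit_comp_apply ρ a

theorem mapMatrix_rhoK (ρ : GLn m k →ₐ[k] MonoidAlgebra k M) :
    (rhoK k K m M ρ).mapMatrix (genMatK k K m) =
      (ρ.mapMatrix (GLn.genMat m k)).map (mapRange k K M) := by
  refine Matrix.ext fun i j => ?_
  simp only [AlgHom.mapMatrix_apply, Matrix.map_apply, genMatK, GLn.genMat]
  exact rhoK_tmul k K m M ρ _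

end Aux

section Core

variable {k K m M}

/-- linear-algebra core: from the conjugacy over `K` to a conjugating matrix over `k`. -/
theorem exists_matrix_core [Fintype M] [DecidableEq M]
    (Nσ Nτ : Matrix (Fin m) (Fin m) (MonoidAlgebra k M))
    (hσ : IsGL k Nσ) (hτ : IsGL k Nτ)
    (hσ1 : ∀ i j, CoalgebraStruct.counit (R := k) (Nσ i j) = if i = j then 1 else 0)
    (r : M →* M) (hr : Function.Bijective r)
    (Γ : Matrix (Fin m) (Fin m) K) (hΓ : IsUnit Γ.det)
    (h : Γ.map (algebraMap K (MonoidAlgebra K M)) * Nσ.map (mapRange k K M) =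
      (Nτ.map (mapRange k K M)).map (MonoidAlgebra.mapDomainAlgHom K K r) *
        Γ.map (algebraMap K (MonoidAlgebra K M))) :
    ∃ g₀ : Matrix (Fin m) (Fin m) k, IsUnit g₀.det ∧
      g₀.map (algebraMap k (MonoidAlgebra k M)) * Nσ =
        Nτ.map (MonoidAlgebra.mapDomainAlgHom k k r) * g₀.map (algebraMap k (MonoidAlgebra k M)) := by
  -- coefficientwise identity over `K`
  have hK : ∀ a : M, Γ * (coeffMat Nσ (r a)).map (algebraMap k K) =
      (coeffMat Nτ a).map (algebraMap k K) * Γ := by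
    intro a
    have h1 := congrArg (fun N => coeffMat N (r a)) h
    simp only [coeffMat_const_mul, coeffMat_mul_const, coeffMat_map_mapDomain r hr.1,
      coeffMat_map_mapRange] at h1
    exact h1
  -- ranks
  have hrank : ∀ a : M, (coeffMat Nσ (r a)).rank = (coeffMat Nτ a).rank := by
    intro a
    rw [← IdemConj.rank_map_algebraMap k K (coeffMat Nσ (r a)),
      ← IdemConj.rank_map_algebraMap k K (coeffMat Nτ a),
      ← Matrix.rank_mul_eq_right_of_isUnit_det Γ _ hΓ, hK a,
      Matrix.rank_mul_eq_left_of_isUnit_det Γ _ hΓ]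
  -- idempotent relations
  have hP : ∀ a b : M, coeffMat Nσ (r a) * coeffMat Nσ (r b) =
      if a = b then coeffMat Nσ (r a) else 0 := by
    intro a b
    rw [coeffMat_mul_coeffMat hσ]
    by_cases hab : a = b
    · subst hab; simp
    · have : ¬ r a = r b := fun e => hab (hr.1 e)
      simp [hab, this]
  have hP1 : ∑ a : M, coeffMat Nσ (r a) = 1 := by
    rw [← sum_coeffMat hσ1]
    exact (Equiv.ofBijective r hr).sum_comp (fun b => coeffMat Nσ b)
  have hQ : ∀ a b : M, coeffMat Nτ a * coeffMat Nτ b = if a = b then coeffMat Nτ a else 0 :=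
    fun a b => coeffMat_mul_coeffMat hτ a b
  obtain ⟨g₀, hg₀, hconj⟩ := IdemConj.exists_conj_of_rank_eq
    (fun a => coeffMat Nσ (r a)) (fun a => coeffMat Nτ a) hP hP1 hQ hrank
  refine ⟨g₀, hg₀, ?_⟩
  apply coeffMat_ext
  intro b
  obtain ⟨a, rfl⟩ := hr.2 b
  rw [coeffMat_const_mul, coeffMat_mul_const, coeffMat_map_mapDomain r hr.1]
  exact hconj a

theorem isIdem_field (e : K) (he : IsIdempotentElem e) : e = 0 ∨ e = 1 := by
  have h : e * (e - 1) = 0 := by
    have := he.eq
    rw [mul_sub, this, _root_.mul_one, sub_self]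
  rcases mul_eq_zero.1 h with h | h
  · exact Or.inl h
  · exact Or.inr (sub_eq_zero.1 h)

/-- scheme-level core of the descent of conjugacy. -/
theorem core [Fintype M] [DecidableEq M]
    (ρσ ρτ : GLn m k →ₐc[k] MonoidAlgebra k M)
    (g : 𝟙_ (Over (Spec (CommRingCat.of K))) ⟶
      (Over.pullback (fK k K)).obj (GaGm.GA k (GLn m k)))
    (φ₁ : (Over.pullback (fK k K)).obj (GaGm.GA k (MonoidAlgebra k M)) ⟶
      (Over.pullback (fK k K)).obj (GaGm.GA k (MonoidAlgebra k M))) [IsIso φ₁] [IsMonHom φ₁]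
    (h : AGF.conjBy g ((Over.pullback (fK k K)).map
        (specMap (ρσ : GLn m k →ₐ[k] MonoidAlgebra k M))) =
      φ₁ ≫ (Over.pullback (fK k K)).map
        (specMap (ρτ : GLn m k →ₐ[k] MonoidAlgebra k M))) :
    ∃ (g₀ : 𝟙_ (Over (Spec (CommRingCat.of k))) ⟶ GaGm.GA k (GLn m k)) (r : M ≃* M),
      AGF.conjBy g₀ (specMap (ρσ : GLn m k →ₐ[k] MonoidAlgebra k M)) =
        specMap (MonoidAlgebra.mapDomainAlgHom k k (r : M →* M)) ≫
          specMap (ρτ : GLn m k →ₐ[k] MonoidAlgebra k M) := by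
  -- the automorphism of `Spec K[M]`
  let φ2 : GaGm.GA K (MonoidAlgebra K M) ⟶ GaGm.GA K (MonoidAlgebra K M) :=
    (xD k K M).hom ≫ φ₁ ≫ (xD k K M).inv
  have hφ2 : IsMonHom φ2 := inferInstance
  let φ3 : GaGm.GA K (MonoidAlgebra K M) ⟶ GaGm.GA K (MonoidAlgebra K M) :=
    (xD k K M).hom ≫ inv φ₁ ≫ (xD k K M).inv
  have hφ3 : IsMonHom φ3 := by
    have : IsMonHom (inv φ₁) := by
      have : IsMonHom (asIso φ₁).inv := inferInstance
      exact this
    infer_instance
  have h32 : φ3 ≫ φ2 = 𝟙 _ := by simp [φ2, φ3]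
  obtain ⟨θ, hθ⟩ := exists_bialgHom_of_isMonHom φ2
  obtain ⟨θ', hθ'⟩ := exists_bialgHom_of_isMonHom φ3
  have hθinj : Function.Injective θ := by
    rw [hθ, hθ', ← specMap_comp, ← specMap_id] at h32
    have h1 := BTExactSch.specMap_injective h32
    intro a b hab
    have ha := congrArg (fun f => f a) h1
    have hb := congrArg (fun f => f b) h1
    simp only [AlgHom.comp_apply, AlgHom.id_apply] at ha hb
    rw [← ha, ← hb]
    exact congrArg θ' hab
  obtain ⟨r', hr'⟩ := GroupAlgHom.exists_monoidHom_of_bialgHom (isIdem_field (K := K)) θ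
  have hθeq : θ = MonoidAlgebra.mapDomainBialgHom K r' :=
    GroupAlgHom.eq_mapDomainBialgHom θ r' hr'
  have hr'inj : Function.Injective r' := by
    intro a b hab
    have h1 : θ (MonoidAlgebra.single a 1) = θ (MonoidAlgebra.single b 1) := by
      rw [hr', hr', hab]
    have h2 := hθinj h1
    exact MonoidAlgebra.single_left_injective (R := K) (one_ne_zero) h2
  have hr'bij : Function.Bijective r' := Finite.injective_iff_bijective.1 hr'inj
  -- the transported equation
  have hnat : (Over.pullback (fK k K)).map (specMap (ρτ : GLn m k →ₐ[k] MonoidAlgebra k M)) =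
      (xD k K M).inv ≫ specMap (rhoK k K m M ρτ) ≫ (xG k K m).hom := by
    rw [← xD_natural, Iso.inv_hom_id_assoc]
  have E : AGF.conjBy (g ≫ (xG k K m).inv) (specMap (rhoK k K m M ρσ)) =
      φ2 ≫ specMap (rhoK k K m M ρτ) := by
    have h1 := congrArg (fun t => ((xD k K M).hom ≫ t) ≫ (xG k K m).inv) h
    beta_reduce at h1
    rw [GrpPtsLemmas.comp_conjBy, xD_natural, GrpPtsLemmas.conjBy_comp] at h1
    rw [Category.assoc, Iso.hom_inv_id, Category.comp_id] at h1
    rw [h1, hnat]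
    simp [φ2]
  obtain ⟨gm, hgm⟩ := exists_ptOf (g ≫ (xG k K m).inv)
  rw [hgm, hθ, ← specMap_comp] at E
  have E2 := (GLnConj.conjBy_ptOf_eq_iff (isGL_genMatK k K m)
    (fun u v huv => algHom_ext_matK huv) gm (rhoK k K m M ρσ)
    ((θ : MonoidAlgebra K M →ₐ[K] MonoidAlgebra K M).comp (rhoK k K m M ρτ))).1 E
  have hΓ : IsUnit (gm.mapMatrix (genMatK k K m)).det := isUnit_det_mapMatrixK gm
  have e1 : ((θ : MonoidAlgebra K M →ₐ[K] MonoidAlgebra K M).comp
      (rhoK k K m M ρτ)).mapMatrix (genMatK k K m) =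
      (((ρτ : GLn m k →ₐ[k] MonoidAlgebra k M).mapMatrix (GLn.genMat m k)).map
        (mapRange k K M)).map (MonoidAlgebra.mapDomainAlgHom K K r') := by
    rw [← mapMatrix_rhoK, hθeq]
    refine Matrix.ext fun i j => ?_
    simp only [AlgHom.mapMatrix_apply, Matrix.map_apply, AlgHom.comp_apply]
    rfl
  rw [mapMatrix_rhoK, e1] at E2
  have hσ1 : ∀ i j, CoalgebraStruct.counit (R := k)
      (((ρσ : GLn m k →ₐ[k] MonoidAlgebra k M).mapMatrix (GLn.genMat m k)) i j) =
      if i = j then 1 else 0 := by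
    intro i j
    simp only [AlgHom.mapMatrix_apply, Matrix.map_apply, GLn.genMat]
    exact (counit_map ρσ _).trans (GLn.counit_X i j)
  obtain ⟨g₀, hg₀, hconj⟩ := exists_matrix_core
    ((ρσ : GLn m k →ₐ[k] MonoidAlgebra k M).mapMatrix (GLn.genMat m k))
    ((ρτ : GLn m k →ₐ[k] MonoidAlgebra k M).mapMatrix (GLn.genMat m k))
    (isGL_map ρσ isGL_genMat) (isGL_map ρτ isGL_genMat) hσ1 r' hr'bij _ hΓ E2
  refine ⟨ptOf (ofMat (k := k) g₀ hg₀), MulEquiv.ofBijective r' hr'bij, ?_⟩
  rw [← specMap_comp]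
  refine (GLnConj.conjBy_ptOf_eq_iff (isGL_genMat (k := k) (m := m))
    (fun u v huv => algHom_ext_mat huv) (ofMat (k := k) g₀ hg₀)
    (ρσ : GLn m k →ₐ[k] MonoidAlgebra k M) _).2 ?_
  rw [mapMatrix_ofMat]
  have e2 : ((MonoidAlgebra.mapDomainAlgHom k k
      ((MulEquiv.ofBijective r' hr'bij : M ≃* M) : M →* M)).comp
      (ρτ : GLn m k →ₐ[k] MonoidAlgebra k M)).mapMatrix (GLn.genMat m k) =
      ((ρτ : GLn m k →ₐ[k] MonoidAlgebra k M).mapMatrix (GLn.genMat m k)).map
        (MonoidAlgebra.mapDomainAlgHom k k r') := by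
    refine Matrix.ext fun i j => ?_
    simp only [AlgHom.mapMatrix_apply, Matrix.map_apply, AlgHom.comp_apply]
    rfl
  rw [e2]
  exact hconj

end Core

end Groth.Agent.Lib.helper15.MuNConj
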