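import Mathlib
import Groth.Agent.Lib.Helper15.MuNConj
import Groth.Agent.Lib.Helper15.IdemConj2

/-!
# Diagonalisable subgroups of `GL_m`: descent of a subgroup from `K` to `k` (helper15)

* `diagM c : GLn m k →ₐc[k] k[M]`, the diagonal embedding with characters `c i`.
-/

set_option autoImplicit false
set_option linter.unusedSectionVars false
universe u

namespace Groth.Agent.Lib.helper15.MuNDesc

open CategoryTheory MonoidalCategory CartesianMonoidalCategory MonObj GrpObj AlgebraicGeometry Limits
open scoped TensorProduct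
open Groth.Agent.Lib.helper15.HopfDict Groth.Agent.Lib.helper15.HopfPtsSch
  Groth.Agent.Lib.helper15.GLnMat Groth.Agent.Lib.helper15.BCHopf WithConv CoordGrp
  Groth.Agent.Lib.helper15.MuNConj

section Diag

variable (k : Type u) [CommRing k] {m : ℕ} {M : Type} [CommGroup M] (c : Fin m → M)

lemma prod_single : ∏ i, (MonoidAlgebra.single (c i) (1 : k)) = MonoidAlgebra.single (∏ i, c i) 1 := by
  have h := map_prod (MonoidAlgebra.of k M) c Finset.univ
  simp only [MonoidAlgebra.of_apply] at h
  exact h.symm

/-- the diagonal point, as an algebra map. -/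
noncomputable def diagAlg : GLn m k →ₐ[k] MonoidAlgebra k M :=
  GLn.pt m k (Matrix.diagonal fun i => MonoidAlgebra.single (c i) (1 : k))
    (MonoidAlgebra.single (∏ i, c i)⁻¹ 1) (by
      rw [Matrix.det_diagonal, prod_single, MonoidAlgebra.single_mul_single, mul_inv_cancel,
        _root_.mul_one]
      rfl)

@[simp] lemma diagAlg_X (i j : Fin m) :
    diagAlg k c (GLn.X i j) = if i = j then MonoidAlgebra.single (c i) (1 : k) else 0 := by
  rw [diagAlg, GLn.pt_X, Matrix.diagonal_apply]

@[simp] lemma diagAlg_Dinv : diagAlg k c GLn.Dinv = MonoidAlgebra.single (∏ i, c i)⁻¹ (1 : k) := by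
  rw [diagAlg, GLn.pt_Dinv]

/-- the diagonal embedding as a bialgebra map. -/
noncomputable def diagM : GLn m k →ₐc[k] MonoidAlgebra k M :=
  BialgHom.ofAlgHom (diagAlg k c)
    (by
      apply GLn.algHom_ext
      · intro i j
        change CoalgebraStruct.counit (R := k) (diagAlg k c (GLn.X i j)) =
          CoalgebraStruct.counit (R := k) (GLn.X i j : GLn m k)
        rw [diagAlg_X, GLn.counit_X]
        split_ifs <;> simp [MonoidAlgebra.counit_single]
      · change CoalgebraStruct.counit (R := k) (diagAlg k c GLn.Dinv) =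
          CoalgebraStruct.counit (R := k) (GLn.Dinv : GLn m k)
        rw [diagAlg_Dinv, GLn.counit_Dinv]
        simp [MonoidAlgebra.counit_single])
    (by
      apply GLn.algHom_ext
      · intro i j
        change Algebra.TensorProduct.map _ _ (CoalgebraStruct.comul (R := k) (GLn.X i j : GLn m k)) =
          CoalgebraStruct.comul (R := k) (diagAlg k c (GLn.X i j))
        rw [GLn.comul_X, map_sum]
        simp only [Algebra.TensorProduct.map_tmul, diagAlg_X]
        simp only [TensorProduct.ite_tmul, TensorProduct.zero_tmul, Finset.sum_ite_eq, Finset.mem_univ, if_true,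
          TensorProduct.tmul_ite]
        split_ifs with h
        · subst h
          simp [MonoidAlgebra.comul_single]
        · simp [h]
      · change Algebra.TensorProduct.map _ _ (CoalgebraStruct.comul (R := k) (GLn.Dinv : GLn m k)) =
          CoalgebraStruct.comul (R := k) (diagAlg k c GLn.Dinv)
        rw [GLn.comul_Dinv, Algebra.TensorProduct.map_tmul, diagAlg_Dinv]
        simp [MonoidAlgebra.comul_single])

lemma mapMatrix_diagM :
    ((diagM k c : GLn m k →ₐ[k] MonoidAlgebra k M)).mapMatrix (GLn.genMat m k) =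
      Matrix.diagonal fun i => MonoidAlgebra.single (c i) (1 : k) := by
  refine Matrix.ext fun i j => ?_
  simp only [AlgHom.mapMatrix_apply, Matrix.map_apply, GLn.genMat, Matrix.diagonal_apply]
  exact diagAlg_X k c i j

theorem diagM_surjective [Finite M] (hc : Subgroup.closure (Set.range c) = ⊤) :
    Function.Surjective (diagM k c) := by
  classical
  let f : GLn m k →ₐ[k] MonoidAlgebra k M := diagAlg k c
  let T : Submonoid M :=
    { carrier := {a | MonoidAlgebra.single a (1 : k) ∈ f.range}
      one_mem' := by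
        change MonoidAlgebra.single (1 : M) (1 : k) ∈ f.range
        have : MonoidAlgebra.single (1 : M) (1 : k) = 1 := rfl
        rw [this]
        exact Subalgebra.one_mem _
      mul_mem' := by
        intro a b ha hb
        change MonoidAlgebra.single (a * b) (1 : k) ∈ f.range
        have : MonoidAlgebra.single (a * b) (1 : k) =
            MonoidAlgebra.single a 1 * MonoidAlgebra.single b 1 := by
          rw [MonoidAlgebra.single_mul_single, _root_.mul_one]
        rw [this]
        exact Subalgebra.mul_mem _ ha hb }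
  have hT : Submonoid.closure (Set.range c) ≤ T := by
    rw [Submonoid.closure_le]
    rintro _ ⟨i, rfl⟩
    change MonoidAlgebra.single (c i) (1 : k) ∈ f.range
    refine ⟨GLn.X i i, ?_⟩
    change diagAlg k c (GLn.X i i) = _
    rw [diagAlg_X, if_pos rfl]
  have htop : Submonoid.closure (Set.range c) = ⊤ := by
    rw [← Subgroup.closure_toSubmonoid_of_finite, hc]
    rfl
  rw [htop] at hT
  intro z
  change z ∈ Set.range f
  change z ∈ f.range
  induction z using MonoidAlgebra.induction_linear with
  | zero => exact Subalgebra.zero_mem _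
  | add x y hx hy => exact Subalgebra.add_mem _ hx hy
  | single a r =>
    have : MonoidAlgebra.single a r = r • MonoidAlgebra.single a (1 : k) := by
      rw [MonoidAlgebra.smul_single, smul_eq_mul, _root_.mul_one]
    rw [this]
    exact Subalgebra.smul_mem _ (hT (Submonoid.mem_top a)) r

end Diag

section Gen

variable {k K : Type u} [Field k] [Field K] [Algebra k K] {m : ℕ} {M : Type} [CommGroup M]

lemma sum_single_cf [Fintype M] (z : MonoidAlgebra K M) :
    ∑ a, MonoidAlgebra.single a (cf a z) = z := by
  classical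
  apply ext_cf
  intro b
  rw [map_sum]
  simp only [cf_single]
  simp

/-- if `ρ'` is surjective, the characters occurring in its matrix generate `M`. -/
theorem closure_eq_top_of_surjective [Fintype M]
    (ρ' : K ⊗[k] GLn m k →ₐc[K] MonoidAlgebra K M) (hsurj : Function.Surjective ρ') :
    Subgroup.closure {a : M | coeffMat
      ((ρ' : K ⊗[k] GLn m k →ₐ[K] MonoidAlgebra K M).mapMatrix (genMatK k K m)) a ≠ 0} = ⊤ := by
  classical
  set N' := (ρ' : K ⊗[k] GLn m k →ₐ[K] MonoidAlgebra K M).mapMatrix (genMatK k K m) with hN'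
  set Hs := Subgroup.closure {a : M | coeffMat N' a ≠ 0} with hHs
  let q : M →* M ⧸ Hs := QuotientGroup.mk' Hs
  let π : MonoidAlgebra K M →ₐ[K] MonoidAlgebra K (M ⧸ Hs) := MonoidAlgebra.mapDomainAlgHom K K q
  let ρ2 : K ⊗[k] GLn m k →ₐ[K] MonoidAlgebra K (M ⧸ Hs) :=
    π.comp (ρ' : K ⊗[k] GLn m k →ₐ[K] MonoidAlgebra K M)
  let triv : K ⊗[k] GLn m k →ₐ[K] MonoidAlgebra K (M ⧸ Hs) :=
    (Algebra.ofId K (MonoidAlgebra K (M ⧸ Hs))).comp (Bialgebra.counitAlgHom K (K ⊗[k] GLn m k))
  -- the counit of the entries
  have hcounit : ∀ i j, CoalgebraStruct.counit (R := K) (N' i j) = if i = j then 1 else 0 := by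
    intro i j
    rw [hN']
    simp only [AlgHom.mapMatrix_apply, Matrix.map_apply, genMatK]
    refine (counit_map ρ' _).trans ?_
    rw [TensorProduct.counit_tmul, GLn.counit_X]
    split_ifs <;> simp
  have hπ : ∀ i j, π (N' i j) = MonoidAlgebra.single 1 (if i = j then (1 : K) else 0) := by
    intro i j
    rw [← hcounit i j, ← sum_cf (N' i j)]
    conv_lhs => rw [← sum_single_cf (N' i j)]
    rw [map_sum]
    have : ∀ a, π (MonoidAlgebra.single a (cf a (N' i j))) =
        MonoidAlgebra.single 1 (cf a (N' i j)) := by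
      intro a
      change MonoidAlgebra.mapDomainAlgHom K K q (MonoidAlgebra.single a _) = _
      rw [MonoidAlgebra.mapDomainAlgHom_apply, MonoidAlgebra.mapDomain_single]
      by_cases h0 : cf a (N' i j) = 0
      · rw [h0]; simp
      · have ha : a ∈ Hs := by
          apply Subgroup.subset_closure
          intro hzero
          apply h0
          have := congrFun (congrFun hzero i) j
          simpa [coeffMat_apply] using this
        have : q a = 1 := (QuotientGroup.eq_one_iff a).2 ha
        rw [this]
    simp only [this]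
    exact (map_sum (MonoidAlgebra.lsingle (R := K) (1 : M ⧸ Hs)) _ _).symm
  have heq : ρ2 = triv := by
    apply algHom_ext_matK
    refine Matrix.ext fun i j => ?_
    simp only [AlgHom.mapMatrix_apply, Matrix.map_apply]
    change π (N' i j) = algebraMap K _ (CoalgebraStruct.counit (R := K) (genMatK k K m i j))
    rw [hπ i j, MonoidAlgebra.coe_algebraMap]
    simp only [Function.comp_apply, genMatK]
    rw [TensorProduct.counit_tmul, GLn.counit_X]
    split_ifs <;> simp
  rw [eq_top_iff]
  intro a _
  -- `single (q a) 1` is in the image of `triv`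
  obtain ⟨y, hy⟩ := hsurj (MonoidAlgebra.single a 1)
  have h1 : ρ2 y = MonoidAlgebra.single (q a) 1 := by
    change π (ρ' y) = _
    rw [hy]
    change MonoidAlgebra.mapDomainAlgHom K K q (MonoidAlgebra.single a _) = _
    rw [MonoidAlgebra.mapDomainAlgHom_apply, MonoidAlgebra.mapDomain_single]
  rw [heq] at h1
  change algebraMap K _ (CoalgebraStruct.counit (R := K) y) = _ at h1
  rw [MonoidAlgebra.coe_algebraMap] at h1
  simp only [Function.comp_apply] at h1
  have h2 := congrArg (cf (q a)) h1
  rw [cf_single, cf_single] at h2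
  by_cases hq : (1 : M ⧸ Hs) = q a
  · exact (QuotientGroup.eq_one_iff a).1 hq.symm
  · rw [if_neg hq, if_pos rfl] at h2
    exact absurd h2 zero_ne_one

end Gen

section Core2

variable {k K : Type u} [Field k] [Field K] [Algebra k K] {m : ℕ} {M : Type} [CommGroup M]

lemma coeffMat_diagonal_single [DecidableEq M] (F : Type u) [Field F] (c : Fin m → M) (a : M) :
    coeffMat (Matrix.diagonal fun i => MonoidAlgebra.single (c i) (1 : F)) a =
      IdemConj.diagIdem F c a := by
  ext i j
  rw [coeffMat_apply, IdemConj.diagIdem, Matrix.diagonal_apply, Matrix.diagonal_apply]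
  by_cases hij : i = j
  · rw [if_pos hij, if_pos hij, cf_single]
  · rw [if_neg hij, if_neg hij, map_zero]

/-- scheme-level core of the descent of a diagonalisable subgroup. -/
theorem core2 [Fintype M] [DecidableEq M]
    (ρ' : K ⊗[k] GLn m k →ₐc[K] MonoidAlgebra K M) (hsurj : Function.Surjective ρ') :
    ∃ (c : Fin m → M) (gm : K ⊗[k] GLn m k →ₐ[K] K),
      Function.Surjective (diagM k c) ∧
      AGF.conjBy (ptOf gm) (specMap (ρ' : K ⊗[k] GLn m k →ₐ[K] MonoidAlgebra K M)) =
        specMap (rhoK k K m M (diagM k c : GLn m k →ₐ[k] MonoidAlgebra k M)) := by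
  set N' := (ρ' : K ⊗[k] GLn m k →ₐ[K] MonoidAlgebra K M).mapMatrix (genMatK k K m) with hN'
  have hGL : IsGL K N' := isGL_map ρ' (isGL_genMatK k K m)
  have hcounit : ∀ i j, CoalgebraStruct.counit (R := K) (N' i j) = if i = j then 1 else 0 := by
    intro i j
    rw [hN']
    simp only [AlgHom.mapMatrix_apply, Matrix.map_apply, genMatK]
    refine (counit_map ρ' _).trans ?_
    rw [TensorProduct.counit_tmul, GLn.counit_X]
    split_ifs <;> simp
  have hR : ∀ a b : M, coeffMat N' a * coeffMat N' b = if a = b then coeffMat N' a else 0 :=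
    fun a b => coeffMat_mul_coeffMat hGL a b
  have hR1 : ∑ a : M, coeffMat N' a = 1 := sum_coeffMat hcounit
  have hsum : ∑ a : M, (coeffMat N' a).rank = m := IdemConj.sum_rank_eq _ hR hR1
  obtain ⟨c, hc⟩ := IdemConj.exists_fibre_fn (fun a : M => (coeffMat N' a).rank) hsum
  have hrank : ∀ a : M, (coeffMat N' a).rank = (IdemConj.diagIdem K c a).rank := by
    intro a
    rw [IdemConj.rank_diagIdem, hc a]
  obtain ⟨Γ, hΓ, hconj⟩ := IdemConj.exists_conj_of_rank_eq (fun a => coeffMat N' a)
    (fun a => IdemConj.diagIdem K c a) hR hR1 (IdemConj.diagIdem_mul c) hrank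
  refine ⟨c, ofMatK Γ hΓ, ?_, ?_⟩
  · apply diagM_surjective
    have h1 := closure_eq_top_of_surjective ρ' hsurj
    rw [eq_top_iff, ← h1]
    apply Subgroup.closure_mono
    intro a ha
    by_contra hnot
    apply ha
    apply IdemConj.eq_zero_of_rank_eq_zero
    rw [← hc a]
    rw [Fintype.card_eq_zero_iff]
    exact ⟨fun ⟨i, hi⟩ => hnot ⟨i, hi⟩⟩
  · refine (GLnConj.conjBy_ptOf_eq_iff (isGL_genMatK k K m)
      (fun u v huv => algHom_ext_matK huv) (ofMatK Γ hΓ)
      (ρ' : K ⊗[k] GLn m k →ₐ[K] MonoidAlgebra K M) _).2 ?_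
    rw [mapMatrix_ofMatK, mapMatrix_rhoK, mapMatrix_diagM]
    apply coeffMat_ext
    intro a
    rw [coeffMat_const_mul, coeffMat_mul_const, coeffMat_map_mapRange, coeffMat_diagonal_single,
      IdemConj.diagIdem_map]
    exact hconj a

end Core2

end Groth.Agent.Lib.helper15.MuNDesc
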