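import Mathlib
import Groth.Prelude.Def_SGA3b
import Groth.Agent.Lib.Helper15.MultKer0

/-!
# A Hopf algebra which is diagonalisable over the members of a jointly injective finite family of
flat algebras is of multiplicative type (helper15)
-/

set_option autoImplicit false
set_option linter.style.haveILetI false
set_option linter.unusedSectionVars false
universe u
open TensorProduct SGA3b

namespace Groth.Agent.Lib.helper15.MultKer

open Groth.Agent.Lib.helper15.Rigid Groth.Agent.Lib.helper15.MultLocal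
  Groth.Agent.Lib.helper15.MultType Groth.Agent.Lib.helper15.DiagSub
  Groth.Agent.Lib.helper15.HensGL

section Field

lemma idem_of_field {K : Type*} [Field K] (e : K) (he : IsIdempotentElem e) : e = 0 ∨ e = 1 := by
  rcases eq_or_ne e 0 with h | h
  · exact Or.inl h
  · right
    have : e * e = e * 1 := by rw [he.eq, mul_one]
    exact mul_left_cancel₀ h this

theorem mulEquiv_of_bialgEquiv_field {K : Type u} [Field K] {P Q : Type u} [CommGroup P]
    [CommGroup Q] (θ : MonoidAlgebra K P ≃ₐc[K] MonoidAlgebra K Q) : Nonempty (P ≃* Q) := by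
  let θ₁ : MonoidAlgebra K P →ₐc[K] MonoidAlgebra K Q := θ
  let θ₂ : MonoidAlgebra K Q →ₐc[K] MonoidAlgebra K P := θ.symm
  obtain ⟨f, hf⟩ := GroupAlgHom.exists_monoidHom_of_bialgHom (C := K) (M := Q) (N := P)
    idem_of_field θ₁
  obtain ⟨g, hg⟩ := GroupAlgHom.exists_monoidHom_of_bialgHom (C := K) (M := P) (N := Q)
    idem_of_field θ₂
  have hP := MonoidAlgebra.single_left_injective (R := K) (M := P) (one_ne_zero (α := K))
  have hQ := MonoidAlgebra.single_left_injective (R := K) (M := Q) (one_ne_zero (α := K))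
  refine ⟨{ toFun := f, invFun := g, left_inv := ?_, right_inv := ?_, map_mul' := f.map_mul }⟩
  · intro p
    apply hP
    change MonoidAlgebra.single (g (f p)) (1 : K) = MonoidAlgebra.single p 1
    rw [← hg, ← hf]
    exact θ.symm_apply_apply _
  · intro q
    apply hQ
    change MonoidAlgebra.single (f (g q)) (1 : K) = MonoidAlgebra.single q 1
    rw [← hf, ← hg]
    exact θ.apply_symm_apply _

variable {R : Type u} [CommRing R] {B : Type u} [CommRing B] [HopfAlgebra R B]

theorem mulEquiv_of_common_field {S₁ S₂ K : Type u} [CommRing S₁] [CommRing S₂] [Field K]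
    [Algebra R S₁] [Algebra R S₂] [Algebra R K] [Algebra S₁ K] [Algebra S₂ K]
    [IsScalarTower R S₁ K] [IsScalarTower R S₂ K] {P₁ P₂ : Type u} [CommGroup P₁] [CommGroup P₂]
    (E₁ : S₁ ⊗[R] B ≃ₐc[S₁] MonoidAlgebra S₁ P₁) (E₂ : S₂ ⊗[R] B ≃ₐc[S₂] MonoidAlgebra S₂ P₂) :
    Nonempty (P₁ ≃* P₂) := by
  let EK₁ : K ⊗[R] B ≃ₐc[K] MonoidAlgebra K P₁ := (cancelBialg R S₁ K B).symm.trans (bcDiag K E₁)
  let EK₂ : K ⊗[R] B ≃ₐc[K] MonoidAlgebra K P₂ := (cancelBialg R S₂ K B).symm.trans (bcDiag K E₂)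
  exact mulEquiv_of_bialgEquiv_field (EK₁.symm.trans EK₂)

theorem mulEquiv_of_ringHom_field {S₁ S₂ K : Type u} [CommRing S₁] [CommRing S₂] [Field K]
    [Algebra R S₁] [Algebra R S₂] (f₁ : S₁ →+* K) (f₂ : S₂ →+* K)
    (h : f₁.comp (algebraMap R S₁) = f₂.comp (algebraMap R S₂))
    {P₁ P₂ : Type u} [CommGroup P₁] [CommGroup P₂]
    (E₁ : S₁ ⊗[R] B ≃ₐc[S₁] MonoidAlgebra S₁ P₁) (E₂ : S₂ ⊗[R] B ≃ₐc[S₂] MonoidAlgebra S₂ P₂) :
    Nonempty (P₁ ≃* P₂) := by
  letI : Algebra R K := (f₁.comp (algebraMap R S₁)).toAlgebra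
  letI : Algebra S₁ K := f₁.toAlgebra
  letI : Algebra S₂ K := f₂.toAlgebra
  haveI : IsScalarTower R S₁ K := IsScalarTower.of_algebraMap_eq fun r => rfl
  haveI : IsScalarTower R S₂ K := IsScalarTower.of_algebraMap_eq fun r => RingHom.congr_fun h r
  exact mulEquiv_of_common_field (K := K) E₁ E₂

theorem mulEquiv_of_nontrivial_tensor {S₁ S₂ : Type u} [CommRing S₁] [CommRing S₂]
    [Algebra R S₁] [Algebra R S₂] {P₁ P₂ : Type u} [CommGroup P₁] [CommGroup P₂]
    (E₁ : S₁ ⊗[R] B ≃ₐc[S₁] MonoidAlgebra S₁ P₁) (E₂ : S₂ ⊗[R] B ≃ₐc[S₂] MonoidAlgebra S₂ P₂)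
    [Nontrivial (S₁ ⊗[R] S₂)] : Nonempty (P₁ ≃* P₂) := by
  obtain ⟨𝔫, h𝔫⟩ := Ideal.exists_maximal (S₁ ⊗[R] S₂)
  letI : Field ((S₁ ⊗[R] S₂) ⧸ 𝔫) := Ideal.Quotient.field 𝔫
  let σ₁ : S₁ →ₐ[R] S₁ ⊗[R] S₂ := Algebra.TensorProduct.includeLeft
  let σ₂ : S₂ →ₐ[R] S₁ ⊗[R] S₂ := Algebra.TensorProduct.includeRight
  refine mulEquiv_of_ringHom_field (K := (S₁ ⊗[R] S₂) ⧸ 𝔫)
    ((Ideal.Quotient.mk 𝔫).comp σ₁.toRingHom) ((Ideal.Quotient.mk 𝔫).comp σ₂.toRingHom) ?_ E₁ E₂
  ext r
  simp only [RingHom.comp_apply]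
  congr 1
  exact (σ₁.commutes r).trans (σ₂.commutes r).symm

end Field

section PiProj

variable {T : Type u} [CommRing T] {κ : Type u} [Fintype κ] [DecidableEq κ]
  (S : κ → Type u) [∀ j, CommRing (S j)] [∀ j, Algebra T (S j)]

/-- the algebra structure on a factor of a product given by the projection. -/
@[reducible] noncomputable def projAlgebra (j : κ) : Algebra (∀ j, S j) (S j) :=
  (Pi.evalRingHom S j).toAlgebra

attribute [local instance] projAlgebra

lemma projAlgebra_smul (j : κ) (r : ∀ j, S j) (s : S j) : r • s = r j * s := rfl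

instance (j : κ) : IsScalarTower T (∀ j, S j) (S j) :=
  IsScalarTower.of_algebraMap_eq fun _ => rfl

/-- the inclusion of a factor as a linear map over the product. -/
noncomputable def singleLin (j : κ) : S j →ₗ[∀ j, S j] (∀ j, S j) where
  toFun s := Pi.single j s
  map_add' s s' := Pi.single_add j s s'
  map_smul' r s := by
    funext k
    rw [RingHom.id_apply, projAlgebra_smul]
    change Pi.single j (r j * s) k = r k * Pi.single j s k
    by_cases hk : k = j
    · subst hk
      rw [Pi.single_eq_same, Pi.single_eq_same]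
    · rw [Pi.single_eq_of_ne hk, Pi.single_eq_of_ne hk, mul_zero]

theorem ji_proj : JI (R := ∀ j, S j) S := by
  intro N _ _ n h
  have key : ∀ j, (Pi.single j (1 : S j) : ∀ j, S j) • n = 0 := by
    intro j
    have h1 := congrArg (fun z => TensorProduct.lid (∀ j, S j) N
      (LinearMap.rTensor N (singleLin S j) z)) (h j)
    simp only [LinearMap.rTensor_tmul, TensorProduct.lid_tmul, map_zero] at h1
    exact h1
  have hsum : (∑ j, (Pi.single j (1 : S j) : ∀ j, S j)) = 1 :=
    Finset.univ_sum_single (1 : ∀ j, S j)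
  rw [← one_smul (∀ j, S j) n, ← hsum, Finset.sum_smul]
  exact Finset.sum_eq_zero fun j _ => key j

variable {S}

/-- gluing: a Hopf algebra which becomes diagonalisable of one type `P` over every member of a
finite jointly injective family of flat algebras is of multiplicative type of constant type. -/
theorem isMultTypeConst_of_family {B' : Type u} [CommRing B'] [HopfAlgebra T B']
    [∀ j, Module.Flat T (S j)] (ji : JI (R := T) S) (P : Type u) [CommGroup P]
    (E : ∀ j, S j ⊗[T] B' ≃ₐc[S j] MonoidAlgebra (S j) P) : IsMultTypeConst T B' := by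
  classical
  haveI : Module.FaithfullyFlat T (∀ j, S j) := faithfullyFlat_pi ji
  refine ⟨∀ j, S j, inferInstance, inferInstance, inferInstance, P, inferInstance, ?_⟩
  let γ : P → (∀ j, S j) ⊗[T] B' :=
    fun p => glue S (fun j => (E j).symm (MonoidAlgebra.single p 1))
  let E' : ∀ j, S j ⊗[∀ j, S j] ((∀ j, S j) ⊗[T] B') ≃ₐc[S j] MonoidAlgebra (S j) P :=
    fun j => (cancelBialg T (∀ j, S j) (S j) B').trans (E j)
  refine isDiag_of_family_groupLike (ji_proj S) γ E' ?_
  intro j p
  change E j (cancelBialg T (∀ j, S j) (S j) B' ((1 : S j) ⊗ₜ[∀ j, S j] γ p)) = _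
  rw [cancelBialg_one_tmul]
  have : (IsScalarTower.toAlgHom T (∀ j, S j) (S j)).toLinearMap = pr (R := T) S j := rfl
  rw [this, pr_glue, BialgEquiv.apply_symm_apply]

end PiProj

section Main

variable {R : Type u} [CommRing R] {B : Type u} [CommRing B] [HopfAlgebra R B]

/-- base change of a diagonalisation along `T`. -/
theorem nonempty_bcDiag_tensor (T : Type u) [CommRing T] [Algebra R T] {S₀ : Type u} [CommRing S₀]
    [Algebra R S₀] {P : Type u} [CommGroup P] (E : S₀ ⊗[R] B ≃ₐc[S₀] MonoidAlgebra S₀ P) :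
    Nonempty ((T ⊗[R] S₀) ⊗[T] (T ⊗[R] B) ≃ₐc[T ⊗[R] S₀] MonoidAlgebra (T ⊗[R] S₀) P) := by
  letI : Algebra S₀ (T ⊗[R] S₀) := Algebra.TensorProduct.rightAlgebra
  haveI : IsScalarTower R S₀ (T ⊗[R] S₀) := IsScalarTower.of_algebraMap_eq fun r => by
    change algebraMap R T r ⊗ₜ[R] (1 : S₀) = (1 : T) ⊗ₜ[R] algebraMap R S₀ r
    rw [Algebra.algebraMap_eq_smul_one, Algebra.algebraMap_eq_smul_one, TensorProduct.smul_tmul]
  exact ⟨((cancelBialg R T (T ⊗[R] S₀) B).trans (cancelBialg R S₀ (T ⊗[R] S₀) B).symm).trans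
    (bcDiag (T ⊗[R] S₀) E)⟩

/-- change of type along an isomorphism of groups. -/
theorem nonempty_equiv_of_mulEquiv {S₀ : Type u} [CommRing S₀] {C : Type u} [CommRing C]
    [Bialgebra S₀ C] {P Q : Type u} [CommGroup P] [CommGroup Q]
    (E : C ≃ₐc[S₀] MonoidAlgebra S₀ P) (e : P ≃* Q) :
    Nonempty (C ≃ₐc[S₀] MonoidAlgebra S₀ Q) :=
  ⟨E.trans (BialgEquiv.ofBijective (MonoidAlgebra.mapDomainBialgHom S₀ (e : P →* Q))
    (mapDomainBialgHom_bijective S₀ (e : P →* Q) e.bijective))⟩

/-- a Hopf algebra which is diagonalisable over the members of a jointly injective finite family of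
flat algebras (with possibly different types) is of multiplicative type. -/
theorem isMultType_of_fcover (𝒞 : FCover R B) : IsMultType R B := by
  classical
  let rel : 𝒞.ι → 𝒞.ι → Prop := fun i j => Nonempty (𝒞.P i ≃* 𝒞.P j)
  have hrefl : ∀ i, rel i i := fun i => ⟨MulEquiv.refl _⟩
  have hsymm : ∀ {i j}, rel i j → rel j i := fun h => h.elim fun e => ⟨e.symm⟩
  have htrans : ∀ {i j k}, rel i j → rel j k → rel i k :=
    fun h h' => h.elim fun e => h'.elim fun f => ⟨e.trans f⟩
  have hsub : ∀ i j, ¬ rel i j → Subsingleton (𝒞.S i ⊗[R] 𝒞.S j) := by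
    intro i j hij
    by_contra hns
    rw [not_subsingleton_iff_nontrivial] at hns
    exact hij (mulEquiv_of_nontrivial_tensor (𝒞.E i) (𝒞.E j))
  -- descend the indicator idempotents of the classes
  have hdesc : ∀ i, ∃ r : R, ∀ j, algebraMap R (𝒞.S j) r = if rel i j then 1 else 0 := by
    intro i
    refine exists_scalar_of_family 𝒞.ji (fun j => if rel i j then 1 else 0) ?_
    intro j k
    by_cases hjk : rel j k
    · have hiff : rel i j ↔ rel i k := ⟨fun h => htrans h hjk, fun h => htrans h (hsymm hjk)⟩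
      by_cases hij : rel i j
      · rw [if_pos hij, if_pos (hiff.mp hij)]
      · rw [if_neg hij, if_neg (fun h => hij (hiff.mpr h)), TensorProduct.zero_tmul,
          TensorProduct.tmul_zero]
    · haveI := hsub j k hjk
      exact Subsingleton.elim _ _
  choose r hr using hdesc
  refine ⟨Set.range r, ?_, ?_⟩
  · have hprod : ∏ i, (1 - r i) = 0 := by
      apply 𝒞.ji R
      intro j
      have e1 : (1 : 𝒞.S j) ⊗ₜ[R] (∏ i, (1 - r i)) =
          (algebraMap R (𝒞.S j) (∏ i, (1 - r i))) ⊗ₜ[R] (1 : R) := by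
        rw [Algebra.algebraMap_eq_smul_one, TensorProduct.smul_tmul, smul_eq_mul, mul_one]
      rw [e1, map_prod, Finset.prod_eq_zero (Finset.mem_univ j), TensorProduct.zero_tmul]
      rw [map_sub, map_one, hr j j, if_pos (hrefl j), sub_self]
    rw [Ideal.eq_top_iff_one, ← Ideal.Quotient.eq_zero_iff_mem]
    have h1 : Ideal.Quotient.mk (Ideal.span (Set.range r)) (∏ i, (1 - r i)) = 1 := by
      rw [map_prod]
      apply Finset.prod_eq_one
      intro i _
      rw [map_sub, map_one,
        Ideal.Quotient.eq_zero_iff_mem.mpr (Ideal.subset_span (Set.mem_range_self i)), sub_zero]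
    rw [hprod, map_zero] at h1
    rw [map_one]
    exact h1.symm
  · rintro _ ⟨i, rfl⟩
    set T := Localization.Away (r i) with hT
    let κ : Type u := {j : 𝒞.ι // rel i j}
    let S' : κ → Type u := fun j => T ⊗[R] 𝒞.S j.1
    have hE : ∀ j : κ, Nonempty (S' j ⊗[T] (T ⊗[R] B) ≃ₐc[S' j] MonoidAlgebra (S' j) (𝒞.P i)) := by
      intro j
      obtain ⟨E₁⟩ := nonempty_bcDiag_tensor T (𝒞.E j.1)
      obtain ⟨e⟩ := hsymm j.2
      exact nonempty_equiv_of_mulEquiv E₁ e
    have hji : JI (R := T) S' := by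
      intro N' _ _ n h
      letI : Module R N' := Module.compHom N' (algebraMap R T)
      haveI : IsScalarTower R T N' := IsScalarTower.of_algebraMap_smul fun _ _ => rfl
      apply 𝒞.ji N' n
      intro j
      by_cases hij : rel i j
      · have h1 := h ⟨j, hij⟩
        have h2 := congrArg (fun z => TensorProduct.comm R N' (𝒞.S j)
          (TensorProduct.AlgebraTensorModule.cancelBaseChange R T T N' (𝒞.S j)
            (TensorProduct.comm T (T ⊗[R] 𝒞.S j) N' z))) h1
        simp only [TensorProduct.comm_tmul, map_zero] at h2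
        have e1 : (1 : T ⊗[R] 𝒞.S j) = (1 : T) ⊗ₜ[R] (1 : 𝒞.S j) := rfl
        rw [e1, TensorProduct.AlgebraTensorModule.cancelBaseChange_tmul, one_smul,
          TensorProduct.comm_tmul] at h2
        exact h2
      · have h0 : algebraMap R (𝒞.S j) (r i) = 0 := by rw [hr i j, if_neg hij]
        obtain ⟨u, hu⟩ := (IsLocalization.Away.algebraMap_isUnit (S := T) (r i)).exists_left_inv
        have e1 : n = (r i) • (u • n) := by
          change n = algebraMap R T (r i) • (u • n)
          rw [smul_smul, mul_comm, hu, one_smul]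
        rw [e1, ← TensorProduct.smul_tmul, Algebra.smul_def, h0, zero_mul, TensorProduct.zero_tmul]
    exact isMultTypeConst_of_family (S := S') hji (𝒞.P i) (fun j => Classical.choice (hE j))

end Main

end Groth.Agent.Lib.helper15.MultKer
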