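import Mathlib
import Groth.Prelude.Def_SGA3b
import Groth.Agent.Lib.Helper15.MultKer1

/-!
# Being of multiplicative type is local for jointly injective finite flat families (helper15)

* `isMultType_of_family`: if `S a ⊗ B` is of multiplicative type over `S a` for every member of a
  finite jointly injective family of flat `R`-algebras, then `B` is of multiplicative type over `R`.
-/

set_option autoImplicit false
set_option linter.style.haveILetI false
set_option linter.unusedSectionVars false
universe u
open TensorProduct SGA3b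

namespace Groth.Agent.Lib.helper15.MultKer

open Groth.Agent.Lib.helper15.Rigid Groth.Agent.Lib.helper15.MultLocal
  Groth.Agent.Lib.helper15.MultType Groth.Agent.Lib.helper15.DiagSub
  Groth.Agent.Lib.helper15.HensGL

section Local

variable {R : Type u} [CommRing R] {B : Type u} [CommRing B] [HopfAlgebra R B]
  {α : Type u} [Fintype α] [DecidableEq α]
  {S : α → Type u} [∀ a, CommRing (S a)] [∀ a, Algebra R (S a)] [∀ a, Module.Flat R (S a)]

/-- being of multiplicative type is local for finite jointly injective families of flat algebras. -/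
theorem isMultType_of_family (ji : JI (R := R) S)
    (h : ∀ a, IsMultType (S a) (S a ⊗[R] B)) : IsMultType R B := by
  classical
  have h𝒟 : ∀ a, Nonempty (FCover (S a) (S a ⊗[R] B)) := fun a => nonempty_fcover (h a)
  let 𝒟 : ∀ a, FCover (S a) (S a ⊗[R] B) := fun a => Classical.choice (h𝒟 a)
  let ι' : Type u := Σ a, (𝒟 a).ι
  let S' : ι' → Type u := fun x => (𝒟 x.1).S x.2
  letI algR : ∀ x : ι', Algebra R (S' x) := fun x =>
    ((algebraMap (S x.1) (S' x)).comp (algebraMap R (S x.1))).toAlgebra
  haveI tower : ∀ x : ι', IsScalarTower R (S x.1) (S' x) := fun x =>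
    IsScalarTower.of_algebraMap_eq fun _ => rfl
  have hflat : ∀ x : ι', Module.Flat R (S' x) := fun x => Module.Flat.trans R (S x.1) (S' x)
  refine isMultType_of_fcover
    { ι := ι'
      S := S'
      flat := hflat
      P := fun x => (𝒟 x.1).P x.2
      E := fun x => (cancelBialg R (S x.1) (S' x) B).symm.trans ((𝒟 x.1).E x.2)
      ji := ?_ }
  intro N _ _ n hn
  apply ji N n
  intro a
  apply (𝒟 a).ji (S a ⊗[R] N) ((1 : S a) ⊗ₜ[R] n)
  intro b
  have h1 := hn ⟨a, b⟩
  haveI : IsScalarTower R (S a) (S' ⟨a, b⟩) := tower ⟨a, b⟩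
  have h2 := congrArg (TensorProduct.AlgebraTensorModule.cancelBaseChange R (S a) (S' ⟨a, b⟩)
    (S' ⟨a, b⟩) N).symm h1
  rw [map_zero] at h2
  rw [← h2]
  symm
  rw [LinearEquiv.symm_apply_eq, TensorProduct.AlgebraTensorModule.cancelBaseChange_tmul, one_smul]

end Local

end Groth.Agent.Lib.helper15.MultKer
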