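import Mathlib
import Groth.Prelude.Def_SGA3b
import Groth.Agent.Lib.Helper15.MultKer2

/-!
# The kernel of a homomorphism between groups of multiplicative type (helper15; SGA3 IX 2.7)
-/

set_option autoImplicit false
set_option linter.style.haveILetI false
set_option linter.unusedSectionVars false
universe u
open TensorProduct SGA3b

namespace Groth.Agent.Lib.helper15.MultKer

open Groth.Agent.Lib.helper15.Rigid Groth.Agent.Lib.helper15.MultLocal
  Groth.Agent.Lib.helper15.MultType Groth.Agent.Lib.helper15.DiagSub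
  Groth.Agent.Lib.helper15.HensGL

section GroupAlg

variable {T : Type u} [CommRing T] {P Q : Type u} [CommGroup P] [CommGroup Q] (f : Q →* P)

/-- the ideal of `T[P]` generated by the `f q - 1`. -/
noncomputable def relIdeal : Ideal (MonoidAlgebra T P) :=
  Ideal.span (Set.range fun q : Q => MonoidAlgebra.single (f q) (1 : T) - 1)

/-- the projection `T[P] → T[P / f Q]`. -/
noncomputable def quotProj : MonoidAlgebra T P →ₐc[T] MonoidAlgebra T (P ⧸ f.range) :=
  MonoidAlgebra.mapDomainBialgHom T (QuotientGroup.mk' f.range)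

lemma quotProj_single (m : P) (r : T) :
    quotProj (T := T) f (MonoidAlgebra.single m r) =
      MonoidAlgebra.single (QuotientGroup.mk' f.range m) r :=
  MonoidAlgebra.mapDomainBialgHom_single _ _ _

theorem quotProj_surjective : Function.Surjective (quotProj (T := T) f) := by
  intro y
  induction y using MonoidAlgebra.induction_linear with
  | zero => exact ⟨0, map_zero _⟩
  | add x y hx hy =>
    obtain ⟨a, rfl⟩ := hx
    obtain ⟨b, rfl⟩ := hy
    exact ⟨a + b, map_add _ _ _⟩
  | single q r =>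
    induction q using QuotientGroup.induction_on with
    | H m => exact ⟨MonoidAlgebra.single m r, quotProj_single f m r⟩

lemma single_mul_sub_mem (q : Q) (m' : P) (r : T) :
    MonoidAlgebra.single (f q * m') r - MonoidAlgebra.single m' r ∈ relIdeal (T := T) f := by
  have h3 : MonoidAlgebra.single (f q * m') r - MonoidAlgebra.single m' r =
      (MonoidAlgebra.single (f q) (1 : T) - 1) * MonoidAlgebra.single m' r := by
    rw [sub_mul, MonoidAlgebra.single_mul_single, one_mul, one_mul]
  rw [h3]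
  exact Ideal.mul_mem_right _ _ (Ideal.subset_span ⟨q, rfl⟩)

lemma sub_section_mem (x : MonoidAlgebra T P) :
    x - MonoidAlgebra.mapDomain (fun c : P ⧸ f.range => c.out) (quotProj (T := T) f x) ∈
      relIdeal (T := T) f := by
  induction x using MonoidAlgebra.induction_linear with
  | zero => simp
  | add x y hx hy =>
    rw [map_add, MonoidAlgebra.mapDomain_add]
    have : x + y - (MonoidAlgebra.mapDomain (fun c : P ⧸ f.range => c.out) (quotProj (T := T) f x) +
        MonoidAlgebra.mapDomain (fun c : P ⧸ f.range => c.out) (quotProj (T := T) f y)) =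
        (x - MonoidAlgebra.mapDomain (fun c : P ⧸ f.range => c.out) (quotProj (T := T) f x)) +
        (y - MonoidAlgebra.mapDomain (fun c : P ⧸ f.range => c.out) (quotProj (T := T) f y)) := by
      ring
    rw [this]
    exact add_mem hx hy
  | single m r =>
    rw [quotProj_single, MonoidAlgebra.mapDomain_single]
    set m' : P := (QuotientGroup.mk' f.range m).out with hm'
    have h1 : (QuotientGroup.mk' f.range m') = QuotientGroup.mk' f.range m :=
      Quotient.out_eq' _
    have h2 : m * m'⁻¹ ∈ f.range := by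
      rw [← QuotientGroup.eq_one_iff, ← QuotientGroup.mk'_apply, map_mul, map_inv, h1,
        mul_inv_cancel]
    obtain ⟨q, hq⟩ := h2
    have h3 : m = f q * m' := by
      rw [hq, inv_mul_cancel_right]
    have h4 := single_mul_sub_mem (T := T) f q m' r
    rw [← h3] at h4
    exact h4

theorem ker_quotProj :
    RingHom.ker (quotProj (T := T) f : MonoidAlgebra T P →ₐ[T] MonoidAlgebra T (P ⧸ f.range)) =
      relIdeal (T := T) f := by
  apply le_antisymm
  · intro x hx
    rw [RingHom.mem_ker] at hx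
    have hx' : quotProj (T := T) f x = 0 := hx
    have h1 := sub_section_mem (T := T) f x
    rwa [hx', MonoidAlgebra.mapDomain_zero, sub_zero] at h1
  · rw [relIdeal, Ideal.span_le]
    rintro _ ⟨q, rfl⟩
    rw [SetLike.mem_coe, RingHom.mem_ker]
    change quotProj (T := T) f (MonoidAlgebra.single (f q) (1 : T) - 1) = 0
    rw [map_sub, map_one, quotProj_single]
    have : QuotientGroup.mk' f.range (f q) = 1 := by
      rw [QuotientGroup.mk'_apply, QuotientGroup.eq_one_iff]
      exact ⟨q, rfl⟩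
    rw [this, MonoidAlgebra.one_def, sub_self]

end GroupAlg

section Quot

open Groth.Agent.Lib.helper15.TorsQuot

variable {R : Type u} [CommRing R] {A C : Type u} [CommRing A] [CommRing C] [HopfAlgebra R A]
  [HopfAlgebra R C] (φ : C →ₐc[R] A) (J : Ideal A) [J.IsHopfIdeal R] (hJ : J = kerIdeal φ)
  {T : Type u} [CommRing T] [Algebra R T] {P Q : Type u} [CommGroup P] [CommGroup Q]
  (EA : T ⊗[R] A ≃ₐc[T] MonoidAlgebra T P) (EC : T ⊗[R] C ≃ₐc[T] MonoidAlgebra T Q) (f : Q →* P)

include hJ in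
lemma bc_mk_bc (y : T ⊗[R] C) :
    bc T (Bialgebra.Quotient.mkBialgHom (R := R) J) (bc T φ y) =
      algebraMap T (T ⊗[R] (A ⧸ J)) (Coalgebra.counit y) := by
  rw [← bc_triv (A := A ⧸ J) T y]
  induction y using TensorProduct.induction_on with
  | zero => simp
  | tmul t c =>
    rw [bc_tmul, bc_tmul, bc_tmul, triv_apply, Bialgebra.Quotient.mkBialgHom_apply]
    congr 1
    have h := map_sub_counit_mem φ c
    rw [← hJ, ← Ideal.Quotient.eq_zero_iff_mem, map_sub, sub_eq_zero] at h
    exact h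
  | add x y hx hy => rw [map_add, map_add, map_add, hx, hy]

include hJ in
/-- if the homomorphism is given by `f : Q → P` over `T`, the base change of the kernel is
diagonalisable of type `P / f Q`. -/
theorem nonempty_quot_equiv
    (hΦ : ∀ q, EA (bc T φ (EC.symm (MonoidAlgebra.single q 1))) = MonoidAlgebra.single (f q) 1) :
    Nonempty (T ⊗[R] (A ⧸ J) ≃ₐc[T] MonoidAlgebra T (P ⧸ f.range)) := by
  let π : A →ₐc[R] A ⧸ J := Bialgebra.Quotient.mkBialgHom (R := R) J
  have hπ : Function.Surjective π := Ideal.Quotient.mk_surjective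
  have hkπ : RingHom.ker (π : A →ₐ[R] A ⧸ J) = J := by
    ext x
    rw [RingHom.mem_ker]
    exact Ideal.Quotient.eq_zero_iff_mem
  let g₁ : T ⊗[R] A →ₐc[T] T ⊗[R] (A ⧸ J) := bc T π
  let g₂ : T ⊗[R] A →ₐc[T] MonoidAlgebra T (P ⧸ f.range) :=
    (quotProj (T := T) f).comp (EA : T ⊗[R] A →ₐc[T] MonoidAlgebra T P)
  have hg₁ : Function.Surjective g₁ := bc_surjective T π hπ
  have hg₂ : Function.Surjective g₂ := (quotProj_surjective (T := T) f).comp EA.surjective
  -- `EA ∘ bc φ` in terms of `f`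
  have hΦ' : ∀ w : MonoidAlgebra T Q, quotProj (T := T) f (EA (bc T φ (EC.symm w))) =
      algebraMap T _ (Coalgebra.counit w) := by
    intro w
    induction w using MonoidAlgebra.induction_linear with
    | zero => simp
    | add x y hx hy => simp only [map_add, hx, hy]
    | single q t =>
      have e1 : MonoidAlgebra.single q t = t • MonoidAlgebra.single q (1 : T) := by
        rw [MonoidAlgebra.smul_single, smul_eq_mul, mul_one]
      rw [e1, map_smul, map_smul, map_smul, hΦ, map_smul, quotProj_single, map_smul,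
        MonoidAlgebra.counit_single, CommSemiring.counit_apply]
      have : QuotientGroup.mk' f.range (f q) = 1 := by
        rw [QuotientGroup.mk'_apply, QuotientGroup.eq_one_iff]
        exact ⟨q, rfl⟩
      rw [this, Algebra.algebraMap_eq_smul_one, MonoidAlgebra.one_def, smul_eq_mul, mul_one]
  refine bialgEquiv_of_surjective_of_ker_eq g₁ g₂ hg₁ hg₂ ?_
  apply le_antisymm
  · have h1 : RingHom.ker (g₁ : T ⊗[R] A →ₐ[T] T ⊗[R] (A ⧸ J)) =
        Ideal.map (Algebra.TensorProduct.includeRight : A →ₐ[R] T ⊗[R] A) J :=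
      (ker_bc T π hπ).trans (by rw [hkπ])
    rw [h1, hJ, kerIdeal, Ideal.map_le_iff_le_comap, Ideal.map_le_iff_le_comap]
    intro c hc
    rw [RingHom.mem_ker, Bialgebra.counitAlgHom_apply] at hc
    rw [Ideal.mem_comap, Ideal.mem_comap, RingHom.mem_ker]
    change quotProj (T := T) f (EA ((1 : T) ⊗ₜ[R] φ c)) = 0
    have e1 : (1 : T) ⊗ₜ[R] φ c = bc T φ (EC.symm (EC ((1 : T) ⊗ₜ[R] c))) := by
      rw [BialgEquiv.symm_apply_apply, bc_tmul]
    rw [e1, hΦ', CoalgHomClass.counit_comp_apply, TensorProduct.counit_tmul, hc, zero_smul,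
      map_zero]
  · intro x hx
    rw [RingHom.mem_ker] at hx
    have hx' : quotProj (T := T) f (EA x) = 0 := hx
    have hx'' : EA x ∈ relIdeal (T := T) f := by
      rw [← ker_quotProj, RingHom.mem_ker]
      exact hx'
    have key : relIdeal (T := T) f ≤ RingHom.ker
        (((g₁ : T ⊗[R] A →ₐ[T] T ⊗[R] (A ⧸ J)).comp
          ((EA.symm : MonoidAlgebra T P →ₐc[T] T ⊗[R] A) : MonoidAlgebra T P →ₐ[T] T ⊗[R] A)) :
          MonoidAlgebra T P →ₐ[T] T ⊗[R] (A ⧸ J)) := by
      rw [relIdeal, Ideal.span_le]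
      rintro _ ⟨q, rfl⟩
      rw [SetLike.mem_coe, RingHom.mem_ker, map_sub, map_one, sub_eq_zero]
      change g₁ (EA.symm (MonoidAlgebra.single (f q) 1)) = 1
      rw [← hΦ q, BialgEquiv.symm_apply_apply]
      change bc T π (bc T φ (EC.symm (MonoidAlgebra.single q 1))) = 1
      rw [bc_mk_bc φ J hJ, CoalgHomClass.counit_comp_apply, MonoidAlgebra.counit_single,
        CommSemiring.counit_apply, map_one]
    have h2 := key hx''
    rw [RingHom.mem_ker] at h2 ⊢
    have h3 : g₁ (EA.symm (EA x)) = 0 := h2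
    rwa [BialgEquiv.symm_apply_apply] at h3

end Quot

section Partition

variable {T : Type u} [CommRing T] {P Q : Type u} [CommGroup P] [CommGroup Q]

/-- a bialgebra map `T[Q] → T[P]`, `Q` finitely generated, is given by homomorphisms `Q → P` on the
pieces of a finite partition of unity by idempotents. -/
theorem exists_partition [Group.FG Q] (Φ : MonoidAlgebra T Q →ₐc[T] MonoidAlgebra T P) :
    ∃ (Λ : Type u) (_ : Fintype Λ) (e : Λ → T) (f : Λ → (Q →* P)),
      (∀ l, IsIdempotentElem (e l)) ∧ (∑ l, e l = 1) ∧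
      ∀ l q, e l • Φ (MonoidAlgebra.single q 1) = e l • MonoidAlgebra.single (f l q) 1 := by
  classical
  obtain ⟨s, hs⟩ := Group.FG.out (G := Q)
  let g : Q → MonoidAlgebra T P := fun q => Φ (MonoidAlgebra.single q 1)
  have hg : ∀ q, IsGroupLikeElem T (g q) := fun q =>
    (MonoidAlgebra.isGroupLikeElem_single_one (R := T) (A := T) q).map Φ
  have hg1 : g 1 = 1 := by
    change Φ (MonoidAlgebra.single 1 1) = 1
    rw [← MonoidAlgebra.one_def, map_one]
  have hgmul : ∀ q q', g (q * q') = g q * g q' := by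
    intro q q'
    change Φ (MonoidAlgebra.single (q * q') 1) = Φ _ * Φ _
    rw [← map_mul, MonoidAlgebra.single_mul_single, one_mul]
  let Λ : Type u := (k : ↥s) → ↥((g k).coeff.support)
  let e : Λ → T := fun l => ∏ k : ↥s, (g (k : Q)).coeff ((l k : P))
  have hc : ∀ (q : Q) (p p' : P),
      (g q).coeff p * (g q).coeff p' = if p = p' then (g q).coeff p else 0 :=
    fun q => coeff_mul_coeff (hg q)
  have hidem : ∀ l, IsIdempotentElem (e l) := by
    intro l
    change e l * e l = e l
    rw [← Finset.prod_mul_distrib]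
    apply Finset.prod_congr rfl
    intro k _
    rw [hc, if_pos rfl]
  have hsum : ∑ l, e l = 1 := by
    have h0 := Fintype.prod_sum
      (fun (k : ↥s) (p : ↥((g k).coeff.support)) => (g k).coeff (p : P))
    rw [← h0]
    apply Finset.prod_eq_one
    intro k _
    have h1 := sum_coeff (hg k)
    rw [Finsupp.sum] at h1
    rw [← h1]
    exact Finset.sum_coe_sort ((g k).coeff.support) (fun p => (g k).coeff p)
  have hee : ∀ l : Λ, e l * e l = e l := fun l => (hidem l).eq
  have hgen : ∀ (l : Λ) (k : ↥s), e l • g k = e l • MonoidAlgebra.single ((l k : P)) 1 := by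
    intro l k
    apply MonoidAlgebra.coeff_injective
    ext p
    rw [MonoidAlgebra.coeff_smul, MonoidAlgebra.coeff_smul, Finsupp.smul_apply, Finsupp.smul_apply,
      smul_eq_mul, smul_eq_mul, MonoidAlgebra.coeff_single]
    have he : e l = (∏ k' ∈ Finset.univ.erase k, (g k').coeff (l k')) * (g k).coeff (l k) :=
      (Finset.prod_erase_mul _ _ (Finset.mem_univ k)).symm
    by_cases hp : (l k : P) = p
    · subst hp
      rw [Finsupp.single_eq_same, mul_one, he, mul_assoc, hc, if_pos rfl]
    · rw [Finsupp.single_eq_of_ne (Ne.symm hp), mul_zero, he, mul_assoc, hc, if_neg hp, mul_zero]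
  have hall : ∀ (l : Λ) (q : Q), ∃ p : P, e l • g q = e l • MonoidAlgebra.single p 1 := by
    intro l q
    have hq : q ∈ Subgroup.closure (s : Set Q) := by rw [hs]; trivial
    refine Subgroup.closure_induction
      (p := fun q _ => ∃ p : P, e l • g q = e l • MonoidAlgebra.single p 1) ?_ ?_ ?_ ?_ hq
    · intro x hx
      exact ⟨l ⟨x, hx⟩, hgen l ⟨x, hx⟩⟩
    · exact ⟨1, by rw [hg1, MonoidAlgebra.one_def]⟩
    · rintro x y _ _ ⟨p, hp⟩ ⟨p', hp'⟩
      refine ⟨p * p', ?_⟩
      calc e l • g (x * y) = (e l * e l) • (g x * g y) := by rw [hee, hgmul]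
        _ = (e l • g x) * (e l • g y) := (smul_mul_smul_comm _ _ _ _).symm
        _ = (e l • MonoidAlgebra.single p 1) * (e l • MonoidAlgebra.single p' 1) := by rw [hp, hp']
        _ = (e l * e l) • (MonoidAlgebra.single p 1 * MonoidAlgebra.single p' 1) :=
          smul_mul_smul_comm _ _ _ _
        _ = e l • MonoidAlgebra.single (p * p') 1 := by
          rw [hee, MonoidAlgebra.single_mul_single, one_mul]
    · rintro x _ ⟨p, hp⟩
      refine ⟨p⁻¹, ?_⟩
      have h1 : g x⁻¹ * g x = 1 := by rw [← hgmul, inv_mul_cancel, hg1]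
      have h2 : e l • (g x⁻¹ * MonoidAlgebra.single p 1) = e l • (1 : MonoidAlgebra T P) := by
        calc e l • (g x⁻¹ * MonoidAlgebra.single p 1)
            = (e l * e l) • (g x⁻¹ * MonoidAlgebra.single p 1) := by rw [hee]
          _ = (e l • g x⁻¹) * (e l • MonoidAlgebra.single p 1) :=
            (smul_mul_smul_comm _ _ _ _).symm
          _ = (e l • g x⁻¹) * (e l • g x) := by rw [hp]
          _ = (e l * e l) • (g x⁻¹ * g x) := smul_mul_smul_comm _ _ _ _
          _ = e l • 1 := by rw [hee, h1]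
      have h3 : MonoidAlgebra.single p (1 : T) * MonoidAlgebra.single p⁻¹ 1 = 1 := by
        rw [MonoidAlgebra.single_mul_single, mul_inv_cancel, one_mul, MonoidAlgebra.one_def]
      calc e l • g x⁻¹
          = e l • (g x⁻¹ * (MonoidAlgebra.single p 1 * MonoidAlgebra.single p⁻¹ 1)) := by
            rw [h3, mul_one]
        _ = (e l • (g x⁻¹ * MonoidAlgebra.single p 1)) * MonoidAlgebra.single p⁻¹ 1 := by
            rw [← mul_assoc, smul_mul_assoc]
        _ = (e l • 1) * MonoidAlgebra.single p⁻¹ 1 := by rw [h2]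
        _ = e l • MonoidAlgebra.single p⁻¹ 1 := by rw [smul_mul_assoc, one_mul]
  choose f₀ hf₀ using hall
  have hhom : ∀ l, ∃ f : Q →* P, ∀ q, e l • g q = e l • MonoidAlgebra.single (f q) 1 := by
    intro l
    by_cases he : e l = 0
    · exact ⟨1, fun q => by rw [he, zero_smul, zero_smul]⟩
    · have hinj : ∀ p p' : P, e l • MonoidAlgebra.single p (1 : T) =
          e l • MonoidAlgebra.single p' 1 → p = p' := by
        intro p p' h
        rw [MonoidAlgebra.smul_single, MonoidAlgebra.smul_single, smul_eq_mul, mul_one] at h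
        exact MonoidAlgebra.single_left_injective (R := T) (M := P) he h
      refine ⟨MonoidHom.mk' (f₀ l) ?_, hf₀ l⟩
      intro q q'
      apply hinj
      calc e l • MonoidAlgebra.single (f₀ l (q * q')) 1 = e l • g (q * q') := (hf₀ l _).symm
        _ = (e l * e l) • (g q * g q') := by rw [hee, hgmul]
        _ = (e l • g q) * (e l • g q') := (smul_mul_smul_comm _ _ _ _).symm
        _ = (e l • MonoidAlgebra.single (f₀ l q) 1) * (e l • MonoidAlgebra.single (f₀ l q') 1) := by
          rw [hf₀, hf₀]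
        _ = (e l * e l) • (MonoidAlgebra.single (f₀ l q) 1 * MonoidAlgebra.single (f₀ l q') 1) :=
          smul_mul_smul_comm _ _ _ _
        _ = e l • MonoidAlgebra.single (f₀ l q * f₀ l q') 1 := by
          rw [hee, MonoidAlgebra.single_mul_single, one_mul]
  choose f hf using hhom
  exact ⟨Λ, inferInstance, e, f, hidem, hsum, hf⟩

end Partition

section Pieces

variable {T : Type u} [CommRing T] {P : Type u} [CommMonoid P] {B : Type u} [CommRing B]
  [Bialgebra T B] (T' : Type u) [CommRing T'] [Algebra T T']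

lemma bcDiag_symm_single (E : B ≃ₐc[T] MonoidAlgebra T P) (p : P) :
    (bcDiag T' E).symm (MonoidAlgebra.single p 1) =
      (1 : T') ⊗ₜ[T] E.symm (MonoidAlgebra.single p 1) := by
  change bcDiagHom T' E (MonoidAlgebra.single p 1) = _
  rw [bcDiagHom, liftGL_single, one_smul]
  rfl

lemma bcDiag_one_tmul (E : B ≃ₐc[T] MonoidAlgebra T P) (p : P) :
    bcDiag T' E ((1 : T') ⊗ₜ[T] E.symm (MonoidAlgebra.single p 1)) = MonoidAlgebra.single p 1 := by
  rw [← bcDiag_symm_single, BialgEquiv.apply_symm_apply]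

end Pieces

section Global

variable {R : Type u} [CommRing R] {A C : Type u} [CommRing A] [CommRing C] [HopfAlgebra R A]
  [HopfAlgebra R C] (φ : C →ₐc[R] A) (J : Ideal A) [J.IsHopfIdeal R] (hJ : J = kerIdeal φ)

lemma isMultType_of_subsingleton (T : Type u) [CommRing T] [Subsingleton T] (B : Type u)
    [CommRing B] [HopfAlgebra T B] : IsMultType T B :=
  ⟨∅, Subsingleton.elim _ _, fun f hf => absurd hf (Set.notMem_empty f)⟩

include hJ in
/-- if both groups are diagonalisable over `T`, the base change of the kernel to `T` is of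
multiplicative type. -/
theorem isMultType_of_global_diag {T : Type u} [CommRing T] [Algebra R T] {P Q : Type u}
    [CommGroup P] [CommGroup Q] [Group.FG Q]
    (EA : T ⊗[R] A ≃ₐc[T] MonoidAlgebra T P) (EC : T ⊗[R] C ≃ₐc[T] MonoidAlgebra T Q) :
    IsMultType T (T ⊗[R] (A ⧸ J)) := by
  classical
  let Φ : MonoidAlgebra T Q →ₐc[T] MonoidAlgebra T P :=
    (EA : T ⊗[R] A →ₐc[T] MonoidAlgebra T P).comp
      ((bc T φ).comp (EC.symm : MonoidAlgebra T Q →ₐc[T] T ⊗[R] C))
  obtain ⟨Λ, _, e, f, hidem, hsum, hf⟩ := exists_partition Φ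
  refine ⟨Set.range e, ?_, ?_⟩
  · rw [Ideal.eq_top_iff_one, ← hsum]
    exact Ideal.sum_mem _ (fun l _ => Ideal.subset_span ⟨l, rfl⟩)
  · rintro _ ⟨l, rfl⟩
    set T' := Localization.Away (e l) with hT'
    let σ : T →ₐ[R] T' := IsScalarTower.toAlgHom R T T'
    have hσe : algebraMap T T' (e l) = 1 := by
      have hu : IsUnit (algebraMap T T' (e l)) := IsLocalization.Away.algebraMap_isUnit (e l)
      have h1 : algebraMap T T' (e l) * algebraMap T T' (e l) = algebraMap T T' (e l) * 1 := by
        rw [← map_mul, (hidem l).eq, mul_one]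
      exact hu.mul_left_cancel h1
    let EA' : T' ⊗[R] A ≃ₐc[T'] MonoidAlgebra T' P :=
      (cancelBialg R T T' A).symm.trans (bcDiag T' EA)
    let EC' : T' ⊗[R] C ≃ₐc[T'] MonoidAlgebra T' Q :=
      (cancelBialg R T T' C).symm.trans (bcDiag T' EC)
    have hΦ' : ∀ q, EA' (bc T' φ (EC'.symm (MonoidAlgebra.single q 1))) =
        MonoidAlgebra.single (f l q) 1 := by
      intro q
      set y := EC.symm (MonoidAlgebra.single q 1) with hy
      set z := bc T φ y with hz
      set xA := EA.symm (MonoidAlgebra.single (f l q) 1) with hxA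
      have h1 : e l • z = e l • xA := by
        have h := congrArg EA.symm (hf l q)
        rw [map_smul, map_smul] at h
        have e1 : EA.symm (Φ (MonoidAlgebra.single q 1)) = z := EA.symm_apply_apply _
        rw [e1] at h
        exact h
      have ha : EC'.symm (MonoidAlgebra.single q 1) = LinearMap.rTensor C σ.toLinearMap y := by
        change cancelBialg R T T' C ((bcDiag T' EC).symm (MonoidAlgebra.single q 1)) = _
        rw [bcDiag_symm_single, cancelBialg_one_tmul]
      have hb : bc T' φ (LinearMap.rTensor C σ.toLinearMap y) =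
          cancelBialg R T T' A ((1 : T') ⊗ₜ[T] z) := by
        rw [cancelBialg_one_tmul, hz]
        exact (rTensor_bc σ φ y).symm
      have he : (1 : T') ⊗ₜ[T] z = (1 : T') ⊗ₜ[T] xA := by
        have e1 : ∀ w : T ⊗[R] A, (1 : T') ⊗ₜ[T] w = (1 : T') ⊗ₜ[T] (e l • w) := by
          intro w
          rw [← TensorProduct.smul_tmul, Algebra.smul_def, hσe, mul_one]
        rw [e1 z, e1 xA, h1]
      rw [ha, hb]
      change bcDiag T' EA ((cancelBialg R T T' A).symm (cancelBialg R T T' A ((1 : T') ⊗ₜ[T] z))) = _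
      rw [BialgEquiv.symm_apply_apply, he, hxA, bcDiag_one_tmul]
    obtain ⟨E''⟩ := nonempty_quot_equiv φ J hJ EA' EC' (f l) hΦ'
    exact isMultTypeConst_of_equiv ((cancelBialg R T T' (A ⧸ J)).trans E'')

end Global

section Main

variable {R : Type u} [CommRing R] {A C : Type u} [CommRing A] [CommRing C] [HopfAlgebra R A]
  [HopfAlgebra R C]

theorem nonempty_diag_tensor_left {S₁ : Type u} [CommRing S₁] [Algebra R S₁] (S₂ : Type u)
    [CommRing S₂] [Algebra R S₂] {P : Type u} [CommGroup P]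
    (E : S₁ ⊗[R] A ≃ₐc[S₁] MonoidAlgebra S₁ P) :
    Nonempty ((S₁ ⊗[R] S₂) ⊗[R] A ≃ₐc[S₁ ⊗[R] S₂] MonoidAlgebra (S₁ ⊗[R] S₂) P) :=
  ⟨(cancelBialg R S₁ (S₁ ⊗[R] S₂) A).symm.trans (bcDiag (S₁ ⊗[R] S₂) E)⟩

theorem nonempty_diag_tensor_right (S₁ : Type u) [CommRing S₁] [Algebra R S₁] {S₂ : Type u}
    [CommRing S₂] [Algebra R S₂] {P : Type u} [CommGroup P]
    (E : S₂ ⊗[R] A ≃ₐc[S₂] MonoidAlgebra S₂ P) :
    Nonempty ((S₁ ⊗[R] S₂) ⊗[R] A ≃ₐc[S₁ ⊗[R] S₂] MonoidAlgebra (S₁ ⊗[R] S₂) P) := by
  letI : Algebra S₂ (S₁ ⊗[R] S₂) := Algebra.TensorProduct.rightAlgebra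
  haveI : IsScalarTower R S₂ (S₁ ⊗[R] S₂) := IsScalarTower.of_algebraMap_eq fun r => by
    change algebraMap R S₁ r ⊗ₜ[R] (1 : S₂) = (1 : S₁) ⊗ₜ[R] algebraMap R S₂ r
    rw [Algebra.algebraMap_eq_smul_one, Algebra.algebraMap_eq_smul_one, TensorProduct.smul_tmul]
  exact ⟨(cancelBialg R S₂ (S₁ ⊗[R] S₂) A).symm.trans (bcDiag (S₁ ⊗[R] S₂) E)⟩

/-- SGA3 IX 2.7: the kernel of a homomorphism from a group of multiplicative type to a group of
multiplicative type and of finite type is of multiplicative type. -/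
theorem kernel_isMultType (hA : IsMultType R A) (hC : IsMultType R C)
    (hCft : Algebra.FiniteType R C) (φ : C →ₐc[R] A) (J : Ideal A) [J.IsHopfIdeal R]
    (hJ : J = kerIdeal φ) : IsMultType R (A ⧸ J) := by
  classical
  obtain ⟨𝒜⟩ := nonempty_fcover hA
  obtain ⟨𝒞⟩ := nonempty_fcover hC
  have hji : JI (R := R) (fun x : 𝒜.ι × 𝒞.ι => 𝒜.S x.1 ⊗[R] 𝒞.S x.2) := by
    intro N _ _ n hn
    apply 𝒜.ji N n
    intro i
    apply 𝒞.ji (𝒜.S i ⊗[R] N) ((1 : 𝒜.S i) ⊗ₜ[R] n)
    intro j
    have h1 := hn (i, j)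
    have h2 := congrArg (fun w => TensorProduct.leftComm R (𝒜.S i) (𝒞.S j) N
      (TensorProduct.assoc R (𝒜.S i) (𝒞.S j) N w)) h1
    simp only [map_zero] at h2
    have e1 : (1 : 𝒜.S i ⊗[R] 𝒞.S j) = (1 : 𝒜.S i) ⊗ₜ[R] (1 : 𝒞.S j) := rfl
    rw [e1, TensorProduct.assoc_tmul, TensorProduct.leftComm_tmul] at h2
    exact h2
  refine isMultType_of_family (S := fun x : 𝒜.ι × 𝒞.ι => 𝒜.S x.1 ⊗[R] 𝒞.S x.2) hji ?_
  rintro ⟨i, j⟩
  change IsMultType (𝒜.S i ⊗[R] 𝒞.S j) ((𝒜.S i ⊗[R] 𝒞.S j) ⊗[R] (A ⧸ J))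
  by_cases hnt : Nontrivial (𝒞.S j)
  · haveI : Group.FG (𝒞.P j) := by
      have h1 : Algebra.FiniteType (𝒞.S j) (𝒞.S j ⊗[R] C) := inferInstance
      have h2 : Algebra.FiniteType (𝒞.S j) (MonoidAlgebra (𝒞.S j) (𝒞.P j)) :=
        Algebra.FiniteType.equiv h1 (𝒞.E j).toAlgEquiv
      exact MonoidAlgebra.finiteType_iff_group_fg.mp h2
    obtain ⟨EA⟩ := nonempty_diag_tensor_left (𝒞.S j) (𝒜.E i)
    obtain ⟨EC⟩ := nonempty_diag_tensor_right (𝒜.S i) (𝒞.E j)
    exact isMultType_of_global_diag φ J hJ EA EC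
  · rw [not_nontrivial_iff_subsingleton] at hnt
    haveI : Subsingleton (𝒜.S i ⊗[R] 𝒞.S j) := by
      refine ⟨fun a b => ?_⟩
      have h0 : ∀ w : 𝒜.S i ⊗[R] 𝒞.S j, w = 0 := by
        intro w
        induction w using TensorProduct.induction_on with
        | zero => rfl
        | tmul s t => rw [Subsingleton.elim t 0, TensorProduct.tmul_zero]
        | add x y hx hy => rw [hx, hy, add_zero]
      rw [h0 a, h0 b]
    exact isMultType_of_subsingleton _ _

end Main

end Groth.Agent.Lib.helper15.MultKer
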