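import Mathlib
import Groth.Prelude.Def_SGA3b
import Groth.Agent.Lib.Helper15.RigidDiag0
import Groth.Agent.Lib.Helper15.RigidDiag

/-!
# Lifting homomorphisms between groups of multiplicative type, part 0 (helper15)

* `exists_bialgHom_of_family`: a function `f : C → B` whose base changes to a jointly injective family
  of `R`-algebras `S k` are (restrictions of) bialgebra maps is a bialgebra map.
* `exists_lift_of_diag`: lifting a bialgebra map `C → B` modulo a nil ideal when the source is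
  diagonalisable and the group-like elements of `B` are rigid.
-/

set_option autoImplicit false
set_option linter.unusedSectionVars false
set_option linter.style.haveILetI false
universe u
open TensorProduct Coalgebra

namespace Groth.Agent.Lib.helper15.MultLift

section Glue

variable {R : Type*} [CommRing R] {B : Type*} [CommRing B] [Bialgebra R B]
  {C : Type*} [CommRing C] [Bialgebra R C]

lemma beta_map_of_compat {L : Type*} [CommRing L] [Algebra R L] (u : C →ₐ[R] B)
    (φ₀ : L ⊗[R] C →ₐc[L] L ⊗[R] B)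
    (hu : ∀ c, (1 : L) ⊗ₜ[R] u c = φ₀ ((1 : L) ⊗ₜ[R] c)) (z : C ⊗[R] C) :
    Rigid.beta R L B (TensorProduct.map u.toLinearMap u.toLinearMap z) =
      TensorProduct.map (φ₀ : L ⊗[R] C →ₗ[L] L ⊗[R] B) (φ₀ : L ⊗[R] C →ₗ[L] L ⊗[R] B)
        (Rigid.beta R L C z) := by
  induction z using TensorProduct.induction_on with
  | zero => simp
  | tmul a b =>
    rw [TensorProduct.map_tmul, Rigid.beta_tmul, Rigid.beta_tmul, TensorProduct.map_tmul]
    change ((1 : L) ⊗ₜ[R] u a) ⊗ₜ[L] ((1 : L) ⊗ₜ[R] u b) = _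
    rw [hu, hu]
    rfl
  | add x y hx hy => rw [map_add, map_add, hx, hy, map_add, map_add]

/-- gluing a bialgebra map from its base changes to a jointly injective family. -/
theorem exists_bialgHom_of_family {κ : Type*} (S : κ → Type*) [∀ k, CommRing (S k)]
    [∀ k, Algebra R (S k)]
    (hR : ∀ r : R, (∀ k, algebraMap R (S k) r = 0) → r = 0)
    (hB : ∀ b : B, (∀ k, (1 : S k) ⊗ₜ[R] b = 0) → b = 0)
    (hBB : ∀ z : B ⊗[R] B, (∀ k, (1 : S k) ⊗ₜ[R] z = 0) → z = 0)
    (Φ : ∀ k, S k ⊗[R] C →ₐc[S k] S k ⊗[R] B) (f : C → B)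
    (hf : ∀ k c, (1 : S k) ⊗ₜ[R] f c = Φ k ((1 : S k) ⊗ₜ[R] c)) :
    ∃ φ : C →ₐc[R] B, ∀ c, φ c = f c := by
  have heq : ∀ b b' : B, (∀ k, (1 : S k) ⊗ₜ[R] b = (1 : S k) ⊗ₜ[R] b') → b = b' := by
    intro b b' h
    rw [← sub_eq_zero]
    apply hB
    intro k
    rw [TensorProduct.tmul_sub, h k, sub_self]
  have hadd : ∀ x y, f (x + y) = f x + f y := by
    intro x y
    apply heq
    intro k
    rw [TensorProduct.tmul_add, hf, hf, hf, TensorProduct.tmul_add, map_add]
  have hsmul : ∀ (a : R) x, f (a • x) = a • f x := by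
    intro a x
    apply heq
    intro k
    rw [TensorProduct.tmul_smul, hf, hf, TensorProduct.tmul_smul, ← algebraMap_smul (S k) a,
      map_smul, algebraMap_smul]
  have hone : f 1 = 1 := by
    apply heq
    intro k
    rw [hf k 1, ← Algebra.TensorProduct.one_def, map_one, Algebra.TensorProduct.one_def]
  have hmul : ∀ x y, f (x * y) = f x * f y := by
    intro x y
    apply heq
    intro k
    have h1 : (1 : S k) ⊗ₜ[R] (x * y) = ((1 : S k) ⊗ₜ[R] x) * ((1 : S k) ⊗ₜ[R] y) := by
      rw [Algebra.TensorProduct.tmul_mul_tmul, one_mul]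
    have h2 : (1 : S k) ⊗ₜ[R] (f x * f y) = ((1 : S k) ⊗ₜ[R] f x) * ((1 : S k) ⊗ₜ[R] f y) := by
      rw [Algebra.TensorProduct.tmul_mul_tmul, one_mul]
    rw [hf k (x * y), h1, map_mul, h2, hf k x, hf k y]
  let φl : C →ₗ[R] B := { toFun := f, map_add' := hadd, map_smul' := hsmul }
  let φa : C →ₐ[R] B := AlgHom.ofLinearMap φl hone hmul
  have hφa : ∀ c, φa c = f c := fun c => rfl
  have hcounit : (Bialgebra.counitAlgHom R B).comp φa = Bialgebra.counitAlgHom R C := by
    apply AlgHom.ext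
    intro c
    change counit (R := R) (f c) = counit (R := R) c
    rw [← sub_eq_zero]
    apply hR
    intro k
    rw [map_sub, sub_eq_zero]
    have h1 := congrArg (counit (R := S k)) (hf k c)
    rw [CoalgHomClass.counit_comp_apply, TensorProduct.counit_tmul, TensorProduct.counit_tmul,
      CommSemiring.counit_apply] at h1
    simpa [Algebra.smul_def] using h1
  have hcomul : (Algebra.TensorProduct.map φa φa).comp (Bialgebra.comulAlgHom R C) =
      (Bialgebra.comulAlgHom R B).comp φa := by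
    apply AlgHom.ext
    intro c
    change TensorProduct.map φa.toLinearMap φa.toLinearMap (comul (R := R) c) =
      comul (R := R) (φa c)
    rw [← sub_eq_zero]
    apply hBB
    intro k
    apply Rigid.beta_eq_zero
    have hu : ∀ c, (1 : S k) ⊗ₜ[R] φa c = Φ k ((1 : S k) ⊗ₜ[R] c) := hf k
    have hb := beta_map_of_compat φa (Φ k) hu (comul (R := R) c)
    rw [map_sub, hb, Rigid.beta_comul, Rigid.beta_comul, hu c,
      CoalgHomClass.map_comp_comul_apply, sub_self]
  exact ⟨BialgHom.ofAlgHom φa hcounit hcomul, fun c => rfl⟩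

end Glue

section Diag

open Groth.Agent.Lib.helper15.Rigid Groth.Agent.Lib.helper15.MultType
  Groth.Agent.Lib.helper15.DiagSub

variable {T : Type u} [CommRing T] (K : Ideal T)
  {B' : Type u} [CommRing B'] [HopfAlgebra T B']
  {C' : Type u} [CommRing C'] [HopfAlgebra T C'] {N : Type u} [CommGroup N]

/-- lifting a bialgebra map modulo `K` when the source is diagonalisable and the group-like
elements of the target are rigid. -/
theorem exists_lift_of_diag (hinj : RigidInj T B' K) (hsurj : RigidSurj T B' K)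
    (E : C' ≃ₐc[T] MonoidAlgebra T N)
    (φ₀' : (T ⧸ K) ⊗[T] C' →ₐc[T ⧸ K] (T ⧸ K) ⊗[T] B') :
    ∃ Φ : C' →ₐc[T] B', ∀ x, φ₀' ((1 : T ⧸ K) ⊗ₜ[T] x) = (1 : T ⧸ K) ⊗ₜ[T] Φ x := by
  classical
  let cN : N → C' := fun n => E.symm (MonoidAlgebra.single n 1)
  have hcN : ∀ n, IsGroupLikeElem T (cN n) := fun n =>
    (MonoidAlgebra.isGroupLikeElem_single_one (R := T) (A := T) n).map E.symm
  let y : N → (T ⧸ K) ⊗[T] B' := fun n => φ₀' ((1 : T ⧸ K) ⊗ₜ[T] cN n)
  have hy : ∀ n, IsGroupLikeElem (T ⧸ K) (y n) := fun n =>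
    (isGroupLikeElem_tmul (S := T ⧸ K) (hcN n)).map φ₀'
  have hex : ∀ n, ∃ γ : B', IsGroupLikeElem T γ ∧ (1 : T ⧸ K) ⊗ₜ[T] γ = y n := by
    intro n
    obtain ⟨x, hx⟩ := TensorProduct.mk_surjective T B' (T ⧸ K) Ideal.Quotient.mk_surjective (y n)
    have hx' : (1 : T ⧸ K) ⊗ₜ[T] x = y n := hx
    have hgl : GLmod T B' K x := glmod_of_tmul_quot K (by rw [hx']; exact hy n)
    obtain ⟨γ, hγ, hγx⟩ := hsurj x hgl
    refine ⟨γ, hγ, ?_⟩
    rw [← hx', ← sub_eq_zero, ← TensorProduct.tmul_sub]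
    exact Rigid.tmul_eq_zero_of_mem K hγx
  choose γ hγ hγy using hex
  have hc1 : cN 1 = 1 := by
    have : (MonoidAlgebra.single (1 : N) (1 : T)) = 1 := rfl
    simp only [cN]
    rw [this, map_one]
  have hcmul : ∀ n n', cN (n * n') = cN n * cN n' := by
    intro n n'
    have : (MonoidAlgebra.single (n * n') (1 : T)) =
        MonoidAlgebra.single n 1 * MonoidAlgebra.single n' 1 := by
      rw [MonoidAlgebra.single_mul_single, one_mul]
    simp only [cN]
    rw [this, map_mul]
  have hy1 : y 1 = 1 := by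
    simp only [y]
    rw [hc1, ← Algebra.TensorProduct.one_def, map_one]
  have hymul : ∀ n n', y (n * n') = y n * y n' := by
    intro n n'
    change φ₀' ((1 : T ⧸ K) ⊗ₜ[T] cN (n * n')) =
      φ₀' ((1 : T ⧸ K) ⊗ₜ[T] cN n) * φ₀' ((1 : T ⧸ K) ⊗ₜ[T] cN n')
    rw [hcmul n n', ← map_mul φ₀', Algebra.TensorProduct.tmul_mul_tmul, one_mul]
  have hone : γ 1 = 1 := by
    apply hinj _ _ (hγ 1) (IsGroupLikeElem.one (R := T))
    apply sub_mem_of_tmul_eq K
    rw [hγy, hy1]
    rfl
  have hmul : ∀ n n', γ (n * n') = γ n * γ n' := by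
    intro n n'
    apply hinj _ _ (hγ _) ((hγ n).mul (hγ n'))
    apply sub_mem_of_tmul_eq K
    rw [hγy, hymul, ← hγy n, ← hγy n', Algebra.TensorProduct.tmul_mul_tmul, one_mul]
  let γh : N →* B' := { toFun := γ, map_one' := hone, map_mul' := hmul }
  let Ψ : MonoidAlgebra T N →ₐc[T] B' := liftGL γh hγ
  have hΨs : ∀ n r, Ψ (MonoidAlgebra.single n r) = r • γ n := fun n r => liftGL_single γh hγ n r
  have hsm : ∀ {W : Type u} [AddCommGroup W] [Module T W] (r : T) (w : W),
      (1 : T ⧸ K) ⊗ₜ[T] (r • w) = (Ideal.Quotient.mk K r) • ((1 : T ⧸ K) ⊗ₜ[T] w) := by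
    intro W _ _ r w
    rw [TensorProduct.tmul_smul, ← algebraMap_smul (T ⧸ K) r, Ideal.Quotient.algebraMap_eq]
  refine ⟨Ψ.comp (E : C' →ₐc[T] MonoidAlgebra T N), fun x => ?_⟩
  obtain ⟨z, rfl⟩ : ∃ z, E.symm z = x := ⟨E x, E.symm_apply_apply x⟩
  change _ = (1 : T ⧸ K) ⊗ₜ[T] Ψ (E (E.symm z))
  rw [BialgEquiv.apply_symm_apply]
  induction z using MonoidAlgebra.induction_linear with
  | zero => simp
  | add a b ha hb => rw [map_add, TensorProduct.tmul_add, map_add, ha, hb, map_add,
      TensorProduct.tmul_add]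
  | single n r =>
    have h1 : MonoidAlgebra.single n r = r • MonoidAlgebra.single n (1 : T) := by
      rw [MonoidAlgebra.smul_single, smul_eq_mul, mul_one]
    have h2 : E.symm (MonoidAlgebra.single n r) = r • cN n := by
      rw [h1, map_smul]
    rw [h2, hsm, map_smul, hΨs, hsm, hγy]

end Diag

end Groth.Agent.Lib.helper15.MultLift
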