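import Mathlib
import Groth.Prelude.Def_SGA3b
import Groth.Agent.Lib.Helper15.MultLift0
import Groth.Agent.Lib.Helper15.HensGL2
import Groth.Agent.Lib.Helper15.MultFinite
import Groth.Agent.S5241
import Groth.Agent.Lib.Helper15.MultKer0

/-!
# Lifting homomorphisms between groups of multiplicative type, part 1 (helper15; SGA3 IX 3.4bis-type)

`R` a ring, `I` a nilpotent ideal, `B` of multiplicative type (constant type), `C` with a finite
flat cover diagonalising it (`FCover`, e.g. `C` of multiplicative type).  Every bialgebra map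
`C/I → B/I` lifts to a bialgebra map `C → B` (`exists_lift_of_fcover`).

The proof is by descent: over each member `S i` of the cover the source is a group algebra and the
lifting exists by rigidity of group-like elements (`exists_lift_of_diag`); the local liftings agree
on the overlaps `S i ⊗ S j` by uniqueness (`S5241`), hence glue.
-/

set_option autoImplicit false
set_option linter.unusedSectionVars false
set_option linter.style.haveILetI false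
universe u
open TensorProduct Coalgebra SGA3b

namespace Groth.Agent.Lib.helper15.MultLift

open Groth.Agent.Lib.helper15.Rigid Groth.Agent.Lib.helper15.MultType
  Groth.Agent.Lib.helper15.MultLocal Groth.Agent.Lib.helper15.DiagSub

section BcQuot

variable {R : Type u} [CommRing R] (I : Ideal R)
  {B : Type u} [CommRing B] [HopfAlgebra R B]
  {C : Type u} [CommRing C] [HopfAlgebra R C]
  (φ₀ : (R ⧸ I) ⊗[R] C →ₐc[R ⧸ I] (R ⧸ I) ⊗[R] B)
  (T : Type u) [CommRing T] [Algebra R T]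

/-- the base change of `φ₀` to `T/IT`, as a map between the reductions of `T ⊗ C` and `T ⊗ B`. -/
noncomputable def bcQuot :
    (T ⧸ I.map (algebraMap R T)) ⊗[T] (T ⊗[R] C) →ₐc[T ⧸ I.map (algebraMap R T)]
      (T ⧸ I.map (algebraMap R T)) ⊗[T] (T ⊗[R] B) :=
  ((cancelBialg R T (T ⧸ I.map (algebraMap R T)) B).symm :
      (T ⧸ I.map (algebraMap R T)) ⊗[R] B →ₐc[T ⧸ I.map (algebraMap R T)] _).comp
    (((cancelBialg R (R ⧸ I) (T ⧸ I.map (algebraMap R T)) B) :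
      _ →ₐc[T ⧸ I.map (algebraMap R T)] (T ⧸ I.map (algebraMap R T)) ⊗[R] B).comp
      ((bc (T ⧸ I.map (algebraMap R T)) φ₀).comp
        (((cancelBialg R (R ⧸ I) (T ⧸ I.map (algebraMap R T)) C).symm :
          (T ⧸ I.map (algebraMap R T)) ⊗[R] C →ₐc[T ⧸ I.map (algebraMap R T)] _).comp
          ((cancelBialg R T (T ⧸ I.map (algebraMap R T)) C) :
            _ →ₐc[T ⧸ I.map (algebraMap R T)] (T ⧸ I.map (algebraMap R T)) ⊗[R] C))))

lemma bcQuot_one_tmul (c : C) (b : B)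
    (hb : (1 : R ⧸ I) ⊗ₜ[R] b = φ₀ ((1 : R ⧸ I) ⊗ₜ[R] c)) :
    bcQuot I φ₀ T ((1 : T ⧸ I.map (algebraMap R T)) ⊗ₜ[T] ((1 : T) ⊗ₜ[R] c)) =
      (1 : T ⧸ I.map (algebraMap R T)) ⊗ₜ[T] ((1 : T) ⊗ₜ[R] b) := by
  have h1 : cancelBialg R T (T ⧸ I.map (algebraMap R T)) C
      ((1 : T ⧸ I.map (algebraMap R T)) ⊗ₜ[T] ((1 : T) ⊗ₜ[R] c)) =
      (1 : T ⧸ I.map (algebraMap R T)) ⊗ₜ[R] c := by
    rw [cancelBialg_tmul, one_smul]
  have h2 : (cancelBialg R (R ⧸ I) (T ⧸ I.map (algebraMap R T)) C).symm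
      ((1 : T ⧸ I.map (algebraMap R T)) ⊗ₜ[R] c) =
      (1 : T ⧸ I.map (algebraMap R T)) ⊗ₜ[R ⧸ I] ((1 : R ⧸ I) ⊗ₜ[R] c) := by
    have : cancelBialg R (R ⧸ I) (T ⧸ I.map (algebraMap R T)) C
        ((1 : T ⧸ I.map (algebraMap R T)) ⊗ₜ[R ⧸ I] ((1 : R ⧸ I) ⊗ₜ[R] c)) =
        (1 : T ⧸ I.map (algebraMap R T)) ⊗ₜ[R] c := by
      rw [cancelBialg_tmul, one_smul]
    rw [← this, BialgEquiv.symm_apply_apply]
  have h3 : cancelBialg R (R ⧸ I) (T ⧸ I.map (algebraMap R T)) B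
      ((1 : T ⧸ I.map (algebraMap R T)) ⊗ₜ[R ⧸ I] ((1 : R ⧸ I) ⊗ₜ[R] b)) =
      (1 : T ⧸ I.map (algebraMap R T)) ⊗ₜ[R] b := by
    rw [cancelBialg_tmul, one_smul]
  have h4 : (cancelBialg R T (T ⧸ I.map (algebraMap R T)) B).symm
      ((1 : T ⧸ I.map (algebraMap R T)) ⊗ₜ[R] b) =
      (1 : T ⧸ I.map (algebraMap R T)) ⊗ₜ[T] ((1 : T) ⊗ₜ[R] b) := by
    have : cancelBialg R T (T ⧸ I.map (algebraMap R T)) B
        ((1 : T ⧸ I.map (algebraMap R T)) ⊗ₜ[T] ((1 : T) ⊗ₜ[R] b)) =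
        (1 : T ⧸ I.map (algebraMap R T)) ⊗ₜ[R] b := by
      rw [cancelBialg_tmul, one_smul]
    rw [← this, BialgEquiv.symm_apply_apply]
  change (cancelBialg R T (T ⧸ I.map (algebraMap R T)) B).symm
    (cancelBialg R (R ⧸ I) (T ⧸ I.map (algebraMap R T)) B
      (bc (T ⧸ I.map (algebraMap R T)) φ₀
        ((cancelBialg R (R ⧸ I) (T ⧸ I.map (algebraMap R T)) C).symm
          (cancelBialg R T (T ⧸ I.map (algebraMap R T)) C
            ((1 : T ⧸ I.map (algebraMap R T)) ⊗ₜ[T] ((1 : T) ⊗ₜ[R] c)))))) = _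
  rw [h1, h2, bc_tmul, ← hb, h3, h4]

/-- `Φ` lifts `φ₀` over `T`, in congruence form. -/
def IsLift (Φ : T ⊗[R] C →ₐc[T] T ⊗[R] B) : Prop :=
  ∀ c b, (1 : R ⧸ I) ⊗ₜ[R] b = φ₀ ((1 : R ⧸ I) ⊗ₜ[R] c) →
    Φ ((1 : T) ⊗ₜ[R] c) - (1 : T) ⊗ₜ[R] b ∈
      (I.map (algebraMap R T)) • (⊤ : Submodule T (T ⊗[R] B))

end BcQuot

section Local

variable {R : Type u} [CommRing R] (I : Ideal R)
  {B : Type u} [CommRing B] [HopfAlgebra R B]
  {C : Type u} [CommRing C] [HopfAlgebra R C]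
  (φ₀ : (R ⧸ I) ⊗[R] C →ₐc[R ⧸ I] (R ⧸ I) ⊗[R] B)

lemma nil_of_isNilpotent' {T : Type*} [CommRing T] {K : Ideal T} (hK : IsNilpotent K) :
    ∀ x ∈ K, IsNilpotent x := by
  obtain ⟨n, hn⟩ := hK
  intro x hx
  refine ⟨n, ?_⟩
  have h1 : x ^ n ∈ K ^ n := Ideal.pow_mem_pow hx n
  rw [hn, Ideal.zero_eq_bot] at h1
  exact (Submodule.mem_bot T).mp h1

lemma isMultType_tensor (hB : IsMultTypeConst R B) (T : Type u) [CommRing T] [Algebra R T] :
    IsMultType T (T ⊗[R] B) :=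
  HensGL.isMultType_of_const (HensGL.isMultTypeConst_baseChange T hB)

/-- local existence: over `T` with `T ⊗ C` diagonalisable. -/
theorem exists_isLift_of_diag (hI : IsNilpotent I) (hB : IsMultTypeConst R B)
    (T : Type u) [CommRing T] [Algebra R T] {N : Type u} [CommGroup N]
    (E : T ⊗[R] C ≃ₐc[T] MonoidAlgebra T N) :
    ∃ Φ : T ⊗[R] C →ₐc[T] T ⊗[R] B, IsLift I φ₀ T Φ := by
  have hK : ∀ x ∈ I.map (algebraMap R T), IsNilpotent x :=
    nil_of_isNilpotent' (isNilpotent_map hI)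
  obtain ⟨𝒟⟩ := nonempty_fcover (isMultType_tensor hB T)
  have hinj := rigidInj_of_fcover 𝒟 _ hK
  have hsurj := rigidSurj_of_fcover 𝒟 _ hK
  obtain ⟨Φ, hΦ⟩ := exists_lift_of_diag (I.map (algebraMap R T)) hinj hsurj E (bcQuot I φ₀ T)
  refine ⟨Φ, fun c b hb => ?_⟩
  apply sub_mem_of_tmul_eq (I.map (algebraMap R T))
  rw [← hΦ, bcQuot_one_tmul I φ₀ T c b hb]

/-- uniqueness of liftings. -/
theorem isLift_unique (hI : IsNilpotent I) (hB : IsMultTypeConst R B) [Coalgebra.IsCocomm R C]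
    (T : Type u) [CommRing T] [Algebra R T] (Φ Φ' : T ⊗[R] C →ₐc[T] T ⊗[R] B)
    (h : IsLift I φ₀ T Φ) (h' : IsLift I φ₀ T Φ') : Φ = Φ' := by
  apply Groth.Agent.S5241.result T (I.map (algebraMap R T)) (isNilpotent_map hI) (T ⊗[R] B)
    (isMultType_tensor hB T) (T ⊗[R] C) Φ Φ'
  intro x
  induction x using TensorProduct.induction_on with
  | zero => simp
  | add a b ha hb => rw [map_add, map_add, TensorProduct.tmul_add, TensorProduct.tmul_add, ha, hb]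
  | tmul t c =>
    have h1 : t ⊗ₜ[R] c = t • ((1 : T) ⊗ₜ[R] c) := by
      rw [TensorProduct.smul_tmul', smul_eq_mul, mul_one]
    rw [h1, map_smul, map_smul, TensorProduct.tmul_smul, TensorProduct.tmul_smul]
    congr 1
    obtain ⟨b, hb⟩ := TensorProduct.mk_surjective R B (R ⧸ I) Ideal.Quotient.mk_surjective
      (φ₀ ((1 : R ⧸ I) ⊗ₜ[R] c))
    have hb' : (1 : R ⧸ I) ⊗ₜ[R] b = φ₀ ((1 : R ⧸ I) ⊗ₜ[R] c) := hb
    rw [← sub_eq_zero, ← TensorProduct.tmul_sub]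
    apply Rigid.tmul_eq_zero_of_mem
    have h2 := sub_mem (h c b hb') (h' c b hb')
    rwa [sub_sub_sub_cancel_right] at h2

/-- base change of liftings. -/
theorem exists_isLift_baseChange {T T' : Type u} [CommRing T] [Algebra R T] [CommRing T']
    [Algebra R T'] (σ : T →ₐ[R] T') (Φ : T ⊗[R] C →ₐc[T] T ⊗[R] B) (h : IsLift I φ₀ T Φ) :
    ∃ Φ' : T' ⊗[R] C →ₐc[T'] T' ⊗[R] B, IsLift I φ₀ T' Φ' ∧
      ∀ c, Φ' ((1 : T') ⊗ₜ[R] c) = LinearMap.rTensor B σ.toLinearMap (Φ ((1 : T) ⊗ₜ[R] c)) := by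
  letI : Algebra T T' := σ.toRingHom.toAlgebra
  haveI : IsScalarTower R T T' := IsScalarTower.of_algebraMap_eq fun r => (σ.commutes r).symm
  let Φ' : T' ⊗[R] C →ₐc[T'] T' ⊗[R] B :=
    ((cancelBialg R T T' B) : _ →ₐc[T'] T' ⊗[R] B).comp
      ((bc T' Φ).comp ((cancelBialg R T T' C).symm : T' ⊗[R] C →ₐc[T'] _))
  have hσ : (IsScalarTower.toAlgHom R T T') = σ := by
    ext x
    rfl
  have h1 : ∀ c, Φ' ((1 : T') ⊗ₜ[R] c) =
      LinearMap.rTensor B σ.toLinearMap (Φ ((1 : T) ⊗ₜ[R] c)) := by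
    intro c
    have h2 : (cancelBialg R T T' C).symm ((1 : T') ⊗ₜ[R] c) =
        (1 : T') ⊗ₜ[T] ((1 : T) ⊗ₜ[R] c) := by
      have : cancelBialg R T T' C ((1 : T') ⊗ₜ[T] ((1 : T) ⊗ₜ[R] c)) = (1 : T') ⊗ₜ[R] c := by
        rw [cancelBialg_tmul, one_smul]
      rw [← this, BialgEquiv.symm_apply_apply]
    change cancelBialg R T T' B (bc T' Φ ((cancelBialg R T T' C).symm ((1 : T') ⊗ₜ[R] c))) = _
    rw [h2, bc_tmul, HensGL.cancelBialg_one_tmul, hσ]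
  refine ⟨Φ', fun c b hb => ?_, h1⟩
  rw [h1]
  have h3 : (1 : T') ⊗ₜ[R] b = LinearMap.rTensor B σ.toLinearMap ((1 : T) ⊗ₜ[R] b) := by
    rw [LinearMap.rTensor_tmul]
    simp
  rw [h3, ← map_sub]
  exact rTensor_mem_smul_top σ I (h c b hb)

end Local

section Descent

variable {R : Type u} [CommRing R] (I : Ideal R)
  {B : Type u} [CommRing B] [HopfAlgebra R B]
  {C : Type u} [CommRing C] [HopfAlgebra R C]

/-- **Lifting homomorphisms into a group of multiplicative type** along a nilpotent ideal: the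
source `Spec B` of multiplicative type (constant type), the target `Spec C` diagonalised by a
finite flat cover. -/
theorem exists_lift_of_fcover (hI : IsNilpotent I) (hB : IsMultTypeConst R B) (𝒞 : FCover R C)
    (φ₀ : (R ⧸ I) ⊗[R] C →ₐc[R ⧸ I] (R ⧸ I) ⊗[R] B) :
    ∃ φ : C →ₐc[R] B, ∀ c, φ₀ ((1 : R ⧸ I) ⊗ₜ[R] c) = (1 : R ⧸ I) ⊗ₜ[R] φ c := by
  classical
  haveI : Coalgebra.IsCocomm R C := MultFinite.isCocomm_of_fcover 𝒞
  choose Φ hΦ using fun i => exists_isLift_of_diag I φ₀ hI hB (𝒞.S i) (𝒞.E i)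
  -- the cocycle condition
  have hco : ∀ (c : C) (i j : 𝒞.ι), LinearMap.rTensor B
        (Algebra.TensorProduct.includeLeft : 𝒞.S i →ₐ[R] 𝒞.S i ⊗[R] 𝒞.S j).toLinearMap
        (Φ i ((1 : 𝒞.S i) ⊗ₜ[R] c)) =
      LinearMap.rTensor B
        (Algebra.TensorProduct.includeRight : 𝒞.S j →ₐ[R] 𝒞.S i ⊗[R] 𝒞.S j).toLinearMap
        (Φ j ((1 : 𝒞.S j) ⊗ₜ[R] c)) := by
    intro c i j
    obtain ⟨ΦL, hL, hL'⟩ := exists_isLift_baseChange I φ₀
      (Algebra.TensorProduct.includeLeft : 𝒞.S i →ₐ[R] 𝒞.S i ⊗[R] 𝒞.S j) (Φ i) (hΦ i)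
    obtain ⟨ΦR, hR, hR'⟩ := exists_isLift_baseChange I φ₀
      (Algebra.TensorProduct.includeRight : 𝒞.S j →ₐ[R] 𝒞.S i ⊗[R] 𝒞.S j) (Φ j) (hΦ j)
    rw [← hL' c, ← hR' c, isLift_unique I φ₀ hI hB (𝒞.S i ⊗[R] 𝒞.S j) ΦL ΦR hL hR]
  choose f hf using fun c => MultKer.exists_of_family_coface_eq 𝒞.ji (N := B)
    (fun i => Φ i ((1 : 𝒞.S i) ⊗ₜ[R] c)) (hco c)
  have hR : ∀ r : R, (∀ k, algebraMap R (𝒞.S k) r = 0) → r = 0 := by
    intro r hr
    apply 𝒞.ji R r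
    intro i
    have : (1 : 𝒞.S i) ⊗ₜ[R] r = (algebraMap R (𝒞.S i) r) ⊗ₜ[R] (1 : R) := by
      rw [Algebra.algebraMap_eq_smul_one, TensorProduct.smul_tmul, smul_eq_mul, mul_one]
    rw [this, hr i, TensorProduct.zero_tmul]
  obtain ⟨φ, hφ⟩ := exists_bialgHom_of_family 𝒞.S hR (𝒞.ji B) (𝒞.ji (B ⊗[R] B)) Φ f
    (fun k c => hf c k)
  refine ⟨φ, fun c => ?_⟩
  obtain ⟨b, hb⟩ := TensorProduct.mk_surjective R B (R ⧸ I) Ideal.Quotient.mk_surjective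
    (φ₀ ((1 : R ⧸ I) ⊗ₜ[R] c))
  have hb' : (1 : R ⧸ I) ⊗ₜ[R] b = φ₀ ((1 : R ⧸ I) ⊗ₜ[R] c) := hb
  rw [← hb', eq_comm, ← sub_eq_zero, ← TensorProduct.tmul_sub]
  apply Rigid.tmul_eq_zero_of_mem
  have := 𝒞.ji (B ⧸ (I • (⊤ : Submodule R B))) (Submodule.Quotient.mk (φ c - b)) (fun i => by
    have h := lTensor_mkQ_eq_zero I (hΦ i c b hb')
    rw [← hf c i, ← TensorProduct.tmul_sub, LinearMap.lTensor_tmul, ← hφ c] at h
    exact h)
  exact (Submodule.Quotient.mk_eq_zero _).mp this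

end Descent

end Groth.Agent.Lib.helper15.MultLift
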