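import Mathlib
import Groth.Prelude.Def_SGA3b
import Groth.Agent.Lib.Helper15.MultLift1
import Groth.Agent.Lib.Helper15.FormalHom0
import Groth.Agent.Lib.Helper15.FormalHom1

/-!
# Lifting homomorphisms between groups of multiplicative type, part 2: towers (helper15)

* `bcAlong`: base change of a bialgebra map `T ⊗ C → T ⊗ B` along `σ : T →ₐ[R] T'`.
* `exists_lift_of_fcover_of_surjective`: `exists_lift_of_fcover` for a surjective `R → L` with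
  nilpotent kernel.
* `exists_step_mult`, `exists_tower_mult`: the tower of liftings over `A/I^(n+1)`.
-/

set_option autoImplicit false
set_option linter.unusedSectionVars false
set_option linter.style.haveILetI false
universe u
open TensorProduct Coalgebra SGA3b

namespace Groth.Agent.Lib.helper15.MultLift

open Groth.Agent.Lib.helper15.Rigid Groth.Agent.Lib.helper15.MultType
  Groth.Agent.Lib.helper15.MultLocal Groth.Agent.Lib.helper15.FormalHom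

section BcAlong

variable {R : Type u} [CommRing R]
  {B : Type u} [CommRing B] [HopfAlgebra R B]
  {C : Type u} [CommRing C] [HopfAlgebra R C]

/-- base change of a bialgebra map along an algebra map. -/
theorem exists_bcAlong {T T' : Type u} [CommRing T] [Algebra R T] [CommRing T']
    [Algebra R T'] (σ : T →ₐ[R] T') (Φ : T ⊗[R] C →ₐc[T] T ⊗[R] B) :
    ∃ Φ' : T' ⊗[R] C →ₐc[T'] T' ⊗[R] B,
      ∀ c, Φ' ((1 : T') ⊗ₜ[R] c) = LinearMap.rTensor B σ.toLinearMap (Φ ((1 : T) ⊗ₜ[R] c)) := by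
  letI : Algebra T T' := σ.toRingHom.toAlgebra
  haveI : IsScalarTower R T T' := IsScalarTower.of_algebraMap_eq fun r => (σ.commutes r).symm
  let Φ' : T' ⊗[R] C →ₐc[T'] T' ⊗[R] B :=
    ((cancelBialg R T T' B) : _ →ₐc[T'] T' ⊗[R] B).comp
      ((bc T' Φ).comp ((cancelBialg R T T' C).symm : T' ⊗[R] C →ₐc[T'] _))
  have hσ : (IsScalarTower.toAlgHom R T T') = σ := by
    ext x
    rfl
  refine ⟨Φ', fun c => ?_⟩
  have h2 : (cancelBialg R T T' C).symm ((1 : T') ⊗ₜ[R] c) =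
      (1 : T') ⊗ₜ[T] ((1 : T) ⊗ₜ[R] c) := by
    have : cancelBialg R T T' C ((1 : T') ⊗ₜ[T] ((1 : T) ⊗ₜ[R] c)) = (1 : T') ⊗ₜ[R] c := by
      rw [cancelBialg_tmul, one_smul]
    rw [← this, BialgEquiv.symm_apply_apply]
  change cancelBialg R T T' B (bc T' Φ ((cancelBialg R T T' C).symm ((1 : T') ⊗ₜ[R] c))) = _
  rw [h2, bc_tmul, HensGL.cancelBialg_one_tmul, hσ]

/-- lifting along a surjection with nilpotent kernel. -/
theorem exists_lift_of_fcover_of_surjective {L : Type u} [CommRing L] [Algebra R L]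
    (hL : Function.Surjective (algebraMap R L))
    (hK : IsNilpotent (RingHom.ker (algebraMap R L)))
    (hB : IsMultTypeConst R B) (𝒞 : FCover R C)
    (φ₀ : L ⊗[R] C →ₐc[L] L ⊗[R] B) :
    ∃ φ : C →ₐc[R] B, ∀ c, φ₀ ((1 : L) ⊗ₜ[R] c) = (1 : L) ⊗ₜ[R] φ c := by
  set I : Ideal R := RingHom.ker (algebraMap R L) with hIdef
  let e : (R ⧸ RingHom.ker (Algebra.ofId R L)) ≃ₐ[R] L :=
    Ideal.quotientKerAlgEquivOfSurjective (f := Algebra.ofId R L) hL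
  obtain ⟨φq, hφq⟩ := exists_bcAlong (e.symm : L →ₐ[R] R ⧸ RingHom.ker (Algebra.ofId R L)) φ₀
  obtain ⟨φ, hφ⟩ := exists_lift_of_fcover (RingHom.ker (Algebra.ofId R L)) hK hB 𝒞 φq
  refine ⟨φ, fun c => ?_⟩
  have h1 := hφ c
  rw [hφq c] at h1
  have h2 : (1 : R ⧸ RingHom.ker (Algebra.ofId R L)) ⊗ₜ[R] φ c =
      LinearMap.rTensor B (e.symm : L →ₐ[R] R ⧸ RingHom.ker (Algebra.ofId R L)).toLinearMap
        ((1 : L) ⊗ₜ[R] φ c) := by
    rw [LinearMap.rTensor_tmul]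
    simp
  rw [h2] at h1
  have hinj : Function.Injective (LinearMap.rTensor B
      (e.symm : L →ₐ[R] R ⧸ RingHom.ker (Algebra.ofId R L)).toLinearMap) := by
    have : LinearMap.rTensor B
        (e.symm : L →ₐ[R] R ⧸ RingHom.ker (Algebra.ofId R L)).toLinearMap =
        (LinearEquiv.rTensor B e.symm.toLinearEquiv).toLinearMap := rfl
    rw [this]
    exact (LinearEquiv.rTensor B e.symm.toLinearEquiv).injective
  exact hinj h1

end BcAlong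

section Step

variable {A : Type u} [CommRing A] {B : Type u} [CommRing B] [HopfAlgebra A B]
  {C : Type u} [CommRing C] [HopfAlgebra A C]

lemma cancel_one_tmul_eq_red' {K J : Ideal A} (hKJ : K ≤ J)
    [Algebra (A ⧸ K) (A ⧸ J)] [IsScalarTower A (A ⧸ K) (A ⧸ J)]
    (hfac : ∀ x : A ⧸ K, algebraMap (A ⧸ K) (A ⧸ J) x = Ideal.Quotient.factor hKJ x)
    (y : (A ⧸ K) ⊗[A] B) :
    MultLocal.cancelBialg A (A ⧸ K) (A ⧸ J) B ((1 : A ⧸ J) ⊗ₜ[A ⧸ K] y) = red hKJ B y := by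
  induction y using TensorProduct.induction_on with
  | zero => simp
  | tmul r b =>
    rw [MultLocal.cancelBialg_tmul, red, LinearMap.rTensor_tmul, Algebra.smul_def, mul_one, hfac]
    rfl
  | add x y hx hy => rw [TensorProduct.tmul_add, map_add, map_add, hx, hy]

theorem exists_step_mult (hB : IsMultTypeConst A B) {K J : Ideal A} (hKJ : K ≤ J)
    (hJK : J * J ≤ K) (𝒞 : FCover (A ⧸ K) ((A ⧸ K) ⊗[A] C))
    (ψ : (A ⧸ J) ⊗[A] C →ₐc[A ⧸ J] (A ⧸ J) ⊗[A] B) :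
    ∃ ψ' : (A ⧸ K) ⊗[A] C →ₐc[A ⧸ K] (A ⧸ K) ⊗[A] B,
      ∀ c : C, red hKJ B (ψ' ((1 : A ⧸ K) ⊗ₜ[A] c)) = ψ ((1 : A ⧸ J) ⊗ₜ[A] c) := by
  let f : A ⧸ K →+* A ⧸ J := Ideal.Quotient.factor hKJ
  letI : Algebra (A ⧸ K) (A ⧸ J) := f.toAlgebra
  haveI : IsScalarTower A (A ⧸ K) (A ⧸ J) := IsScalarTower.of_algebraMap_eq (fun r => rfl)
  have hL : Function.Surjective (algebraMap (A ⧸ K) (A ⧸ J)) :=
    Ideal.Quotient.factor_surjective hKJ
  have hker : RingHom.ker (algebraMap (A ⧸ K) (A ⧸ J)) = J.map (Ideal.Quotient.mk K) := by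
    ext y
    obtain ⟨r, rfl⟩ := Ideal.Quotient.mk_surjective y
    rw [RingHom.mem_ker]
    constructor
    · intro h
      have h1 : Ideal.Quotient.mk J r = 0 := h
      exact Ideal.mem_map_of_mem _ (Ideal.Quotient.eq_zero_iff_mem.mp h1)
    · intro h
      rw [Ideal.mem_map_iff_of_surjective _ Ideal.Quotient.mk_surjective] at h
      obtain ⟨r', hr', hrr'⟩ := h
      have h3 : r' - r ∈ K := Ideal.Quotient.eq.mp hrr'
      have h4 : r ∈ J := by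
        have := J.sub_mem hr' (hKJ h3)
        rwa [sub_sub_cancel] at this
      change Ideal.Quotient.mk J r = 0
      exact Ideal.Quotient.eq_zero_iff_mem.mpr h4
  have hnil : IsNilpotent (RingHom.ker (algebraMap (A ⧸ K) (A ⧸ J))) := by
    refine ⟨2, ?_⟩
    rw [hker, pow_two, ← Ideal.map_mul, Ideal.zero_eq_bot, eq_bot_iff]
    calc (J * J).map (Ideal.Quotient.mk K) ≤ K.map (Ideal.Quotient.mk K) := Ideal.map_mono hJK
      _ = ⊥ := Ideal.map_quotient_self K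
  let EB := MultLocal.cancelBialg A (A ⧸ K) (A ⧸ J) B
  let EC := MultLocal.cancelBialg A (A ⧸ K) (A ⧸ J) C
  let φ₀' : (A ⧸ J) ⊗[A ⧸ K] ((A ⧸ K) ⊗[A] C) →ₐc[A ⧸ J] (A ⧸ J) ⊗[A ⧸ K] ((A ⧸ K) ⊗[A] B) :=
    (EB.symm : (A ⧸ J) ⊗[A] B →ₐc[A ⧸ J] (A ⧸ J) ⊗[A ⧸ K] ((A ⧸ K) ⊗[A] B)).comp
      (ψ.comp (EC : (A ⧸ J) ⊗[A ⧸ K] ((A ⧸ K) ⊗[A] C) →ₐc[A ⧸ J] (A ⧸ J) ⊗[A] C))
  obtain ⟨ψ', hψ'⟩ := exists_lift_of_fcover_of_surjective (R := A ⧸ K) (L := A ⧸ J) hL hnil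
    (HensGL.isMultTypeConst_baseChange (A ⧸ K) hB) 𝒞 φ₀'
  refine ⟨ψ', fun c => ?_⟩
  have h6 := hψ' ((1 : A ⧸ K) ⊗ₜ[A] c)
  have h7 : φ₀' ((1 : A ⧸ J) ⊗ₜ[A ⧸ K] ((1 : A ⧸ K) ⊗ₜ[A] c)) =
      EB.symm (ψ (EC ((1 : A ⧸ J) ⊗ₜ[A ⧸ K] ((1 : A ⧸ K) ⊗ₜ[A] c)))) := rfl
  have h8 : EC ((1 : A ⧸ J) ⊗ₜ[A ⧸ K] ((1 : A ⧸ K) ⊗ₜ[A] c)) = (1 : A ⧸ J) ⊗ₜ[A] c := by
    rw [MultLocal.cancelBialg_tmul, one_smul]
  rw [h7, h8] at h6
  rw [← cancel_one_tmul_eq_red' hKJ (fun x => rfl), ← h6]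
  exact BialgEquiv.apply_symm_apply EB _

/-- the tower of liftings, for homomorphisms into a group of multiplicative type. -/
theorem exists_tower_mult (hB : IsMultTypeConst A B) (I : Ideal A)
    (h𝒞 : ∀ n : ℕ, Nonempty (FCover (A ⧸ I ^ (n + 1)) ((A ⧸ I ^ (n + 1)) ⊗[A] C)))
    (φ₀ : (A ⧸ I) ⊗[A] C →ₐc[A ⧸ I] (A ⧸ I) ⊗[A] B) :
    ∃ ψ : ∀ n : ℕ, (A ⧸ I ^ (n + 1)) ⊗[A] C →ₐc[A ⧸ I ^ (n + 1)] (A ⧸ I ^ (n + 1)) ⊗[A] B,
      (∀ c : C, red (pow_zero_add_one_le I) B (ψ 0 ((1 : A ⧸ I ^ (0 + 1)) ⊗ₜ[A] c)) =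
        φ₀ ((1 : A ⧸ I) ⊗ₜ[A] c)) ∧
      ∀ (n : ℕ) (c : C), red (pow_succ_le I n) B (ψ (n + 1) ((1 : A ⧸ I ^ (n + 1 + 1)) ⊗ₜ[A] c)) =
        ψ n ((1 : A ⧸ I ^ (n + 1)) ⊗ₜ[A] c) := by
  classical
  have h02 : I * I ≤ I ^ (0 + 1) := by
    rw [zero_add, pow_one]
    exact Ideal.mul_le_left
  have hstep : ∀ n : ℕ, (I ^ (n + 1)) * (I ^ (n + 1)) ≤ I ^ (n + 1 + 1) := by
    intro n
    rw [← pow_add]
    exact Ideal.pow_le_pow_right (by omega)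
  let ψ : ∀ n : ℕ, ((A ⧸ I ^ (n + 1)) ⊗[A] C →ₐc[A ⧸ I ^ (n + 1)] (A ⧸ I ^ (n + 1)) ⊗[A] B) :=
    fun n => Nat.rec
      (motive := fun n => ((A ⧸ I ^ (n + 1)) ⊗[A] C →ₐc[A ⧸ I ^ (n + 1)] (A ⧸ I ^ (n + 1)) ⊗[A] B))
      (Classical.choose (exists_step_mult hB (pow_zero_add_one_le I) h02
        (Classical.choice (h𝒞 0)) φ₀))
      (fun n ψn => Classical.choose (exists_step_mult hB (pow_succ_le I n) (hstep n)
        (Classical.choice (h𝒞 (n + 1))) ψn)) n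
  refine ⟨ψ, ?_, ?_⟩
  · exact Classical.choose_spec (exists_step_mult hB (pow_zero_add_one_le I) h02
      (Classical.choice (h𝒞 0)) φ₀)
  · intro n
    exact Classical.choose_spec (exists_step_mult hB (pow_succ_le I n) (hstep n)
      (Classical.choice (h𝒞 (n + 1))) (ψ n))

end Step

end Groth.Agent.Lib.helper15.MultLift
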