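import Mathlib
import Groth.Prelude.Def_SGA3b
import Groth.Agent.Lib.Helper15.MultLocal
import Groth.Agent.Lib.Helper15.RigidDesc

/-!
# Base change and transport of quasi-isotrivial groups (helper15)

* `bcEquiv S e : S ⊗[R] C ≃ₐc[S] S ⊗[R] A` for `e : C ≃ₐc[R] A`.
* `isQuasiIsotrivial_of_equiv`, `isQuasiIsotrivial_baseChange`, `isMultType_of_isQuasiIsotrivial`.
-/

set_option autoImplicit false
set_option linter.style.haveILetI false
universe u
open TensorProduct SGA3b

namespace Groth.Agent.Lib.helper15.QIsoBC

open Groth.Agent.Lib.helper15.MultLocal Groth.Agent.Lib.helper15.MultType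
  Groth.Agent.Lib.helper15.Rigid

section Equiv

variable {R : Type*} [CommRing R] {A C : Type*} [CommRing A] [CommRing C] [Bialgebra R A]
  [Bialgebra R C]

/-- base change of a bialgebra isomorphism. -/
noncomputable def bcEquiv (S : Type*) [CommRing S] [Algebra R S] (e : C ≃ₐc[R] A) :
    S ⊗[R] C ≃ₐc[S] S ⊗[R] A :=
  BialgEquiv.ofBijective (bc S (e : C →ₐc[R] A)) (by
    have h : ⇑(bc S (e : C →ₐc[R] A)) =
        ⇑(TensorProduct.congr (LinearEquiv.refl R S) (e : C ≃ₗ[R] A)) := by
      funext z
      induction z using TensorProduct.induction_on with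
      | zero => simp
      | tmul s c => rfl
      | add x y hx hy => rw [map_add, map_add, hx, hy]
    rw [h]
    exact LinearEquiv.bijective _)

lemma bcEquiv_tmul (S : Type*) [CommRing S] [Algebra R S] (e : C ≃ₐc[R] A) (s : S) (c : C) :
    bcEquiv S e (s ⊗ₜ c) = s ⊗ₜ e c := rfl

end Equiv

variable {R : Type u} [CommRing R] {A : Type u} [CommRing A] [HopfAlgebra R A]

theorem isMultType_of_isQuasiIsotrivial (h : IsQuasiIsotrivial R A) : IsMultType R A := by
  obtain ⟨s, hs, hcov⟩ := h
  refine ⟨s, hs, fun f hf => ?_⟩
  obtain ⟨R₁, _, _, _, hff, hd⟩ := hcov f hf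
  exact ⟨R₁, inferInstance, inferInstance, hff, hd⟩

theorem isQuasiIsotrivial_of_equiv {A' : Type u} [CommRing A'] [HopfAlgebra R A']
    (e : A ≃ₐc[R] A') (h : IsQuasiIsotrivial R A) : IsQuasiIsotrivial R A' := by
  obtain ⟨s, hs, hcov⟩ := h
  refine ⟨s, hs, fun f hf => ?_⟩
  obtain ⟨R₁, _, _, het, hff, M, _, ⟨E⟩⟩ := hcov f hf
  letI : Algebra R R₁ :=
    ((algebraMap (Localization.Away f) R₁).comp (algebraMap R (Localization.Away f))).toAlgebra
  haveI : IsScalarTower R (Localization.Away f) R₁ := IsScalarTower.of_algebraMap_eq fun _ => rfl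
  refine ⟨R₁, inferInstance, inferInstance, het, hff, M, inferInstance, ⟨?_⟩⟩
  exact (((cancelBialg R (Localization.Away f) R₁ A').trans (bcEquiv R₁ e.symm)).trans
    (cancelBialg R (Localization.Away f) R₁ A).symm).trans E

theorem isQuasiIsotrivial_baseChange (S : Type u) [CommRing S] [Algebra R S]
    (h : IsQuasiIsotrivial R A) : IsQuasiIsotrivial S (S ⊗[R] A) := by
  obtain ⟨s, hs, hcov⟩ := h
  refine ⟨algebraMap R S '' s, ?_, ?_⟩
  · rw [← Ideal.map_span, hs, Ideal.map_top]
  · rintro _ ⟨f, hf, rfl⟩
    obtain ⟨R₁, _, _, het, hff, M, _, ⟨E⟩⟩ := hcov f hf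
    have hu : IsUnit (algebraMap R (Localization.Away (algebraMap R S f)) f) := by
      rw [IsScalarTower.algebraMap_apply R S (Localization.Away (algebraMap R S f))]
      exact IsLocalization.Away.algebraMap_isUnit _
    letI algRfSf : Algebra (Localization.Away f) (Localization.Away (algebraMap R S f)) :=
      (IsLocalization.Away.lift f hu).toAlgebra
    haveI : IsScalarTower R (Localization.Away f) (Localization.Away (algebraMap R S f)) :=
      IsScalarTower.of_algebraMap_eq fun r => (IsLocalization.Away.lift_eq f hu r).symm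
    letI : Algebra R₁ (Localization.Away (algebraMap R S f) ⊗[Localization.Away f] R₁) :=
      Algebra.TensorProduct.rightAlgebra
    haveI : IsScalarTower (Localization.Away f) R₁
        (Localization.Away (algebraMap R S f) ⊗[Localization.Away f] R₁) :=
      IsScalarTower.of_algebraMap_eq fun r => by
        change algebraMap (Localization.Away f) (Localization.Away (algebraMap R S f)) r
          ⊗ₜ[Localization.Away f] (1 : R₁) = (1 : Localization.Away (algebraMap R S f))
          ⊗ₜ[Localization.Away f] algebraMap (Localization.Away f) R₁ r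
        rw [Algebra.algebraMap_eq_smul_one (A := Localization.Away (algebraMap R S f)) r,
          Algebra.algebraMap_eq_smul_one (A := R₁) r, TensorProduct.smul_tmul]
    refine ⟨Localization.Away (algebraMap R S f) ⊗[Localization.Away f] R₁, inferInstance,
      inferInstance, inferInstance, inferInstance, M, inferInstance, ⟨?_⟩⟩
    exact ((((cancelBialg S (Localization.Away (algebraMap R S f))
      (Localization.Away (algebraMap R S f) ⊗[Localization.Away f] R₁) (S ⊗[R] A)).trans
      (cancelBialg R S
        (Localization.Away (algebraMap R S f) ⊗[Localization.Away f] R₁) A)).trans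
      (cancelBialg R (Localization.Away f)
        (Localization.Away (algebraMap R S f) ⊗[Localization.Away f] R₁) A).symm).trans
      (cancelBialg (Localization.Away f) R₁
        (Localization.Away (algebraMap R S f) ⊗[Localization.Away f] R₁)
        (Localization.Away f ⊗[R] A)).symm).trans
      (bcDiag (Localization.Away (algebraMap R S f) ⊗[Localization.Away f] R₁) E)

end Groth.Agent.Lib.helper15.QIsoBC
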