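import Mathlib
import Groth.Prelude.Def_SGA3b
import Groth.Agent.Lib.Helper15.FlatNil
import Groth.Agent.Lib.Helper15.QIsoBC
import Groth.Agent.Lib.Helper15.DefoDiag4
import Groth.Agent.Lib.Helper15.MultLift2
import Groth.Agent.Lib.Helper15.FormalHom3
import Groth.Agent.S5270

/-!
# The truncations of a group which is of multiplicative type modulo `I` (helper15)

`A` a ring, `I` an ideal, `C` a Hopf algebra over `A`, flat over `A` at the primes containing `I C`,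
with `(A/I) ⊗ C` quasi-isotrivial.  Then `(A/K) ⊗ C` is quasi-isotrivial (in particular of
multiplicative type) for every ideal `K` with `I ^ m ≤ K ≤ I` (`isQuasiIsotrivial_quot_tensor`).
-/

set_option autoImplicit false
set_option linter.unusedSectionVars false
set_option linter.style.haveILetI false
universe u
open TensorProduct SGA3b

namespace Groth.Agent.Lib.helper15.MultLift

open Groth.Agent.Lib.helper15.MultLocal Groth.Agent.Lib.helper15.QIsoBC
  Groth.Agent.Lib.helper15.FlatNil Groth.Agent.Lib.helper15.DefoDiag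

theorem isQuasiIsotrivial_quot_tensor {A : Type u} [CommRing A] (I K : Ideal A) (m : ℕ)
    (hK : I ^ m ≤ K) (hKI : K ≤ I) {C : Type u} [CommRing C] [HopfAlgebra A C]
    (hfl : ∀ (q : Ideal C) [q.IsPrime], Ideal.map (algebraMap A C) I ≤ q →
      Module.Flat A (Localization.AtPrime q))
    (h0 : IsQuasiIsotrivial (A ⧸ I) ((A ⧸ I) ⊗[A] C)) :
    IsQuasiIsotrivial (A ⧸ K) ((A ⧸ K) ⊗[A] C) := by
  haveI : Module.Flat (A ⧸ K) ((A ⧸ K) ⊗[A] C) := flat_quot_tensor I K m hK hfl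
  have hnil : IsNilpotent (I.map (Ideal.Quotient.mk K)) := by
    refine ⟨m, ?_⟩
    rw [← Ideal.map_pow, Ideal.zero_eq_bot, Ideal.map_eq_bot_iff_le_ker, Ideal.mk_ker]
    exact hK
  refine isQuasiIsotrivial_of_mod_nilpotent (I.map (Ideal.Quotient.mk K)) hnil ?_
  letI alg : Algebra (A ⧸ I) ((A ⧸ K) ⧸ I.map (Ideal.Quotient.mk K)) :=
    ((DoubleQuot.quotQuotEquivQuotOfLE hKI).symm : A ⧸ I →+* _).toAlgebra
  haveI : IsScalarTower A (A ⧸ I) ((A ⧸ K) ⧸ I.map (Ideal.Quotient.mk K)) :=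
    IsScalarTower.of_algebraMap_eq fun a => by
      change _ = (DoubleQuot.quotQuotEquivQuotOfLE hKI).symm (Ideal.Quotient.mk I a)
      rw [DoubleQuot.quotQuotEquivQuotOfLE_symm_mk]
      rfl
  have h1 := isQuasiIsotrivial_baseChange ((A ⧸ K) ⧸ I.map (Ideal.Quotient.mk K)) h0
  exact isQuasiIsotrivial_of_equiv
    ((cancelBialg A (A ⧸ I) ((A ⧸ K) ⧸ I.map (Ideal.Quotient.mk K)) C).trans
      (cancelBialg A (A ⧸ K) ((A ⧸ K) ⧸ I.map (Ideal.Quotient.mk K)) C).symm) h1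

/-- two homomorphisms into an isotrivial group over a complete Noetherian base, from a group whose
truncations are of multiplicative type, agree as soon as they agree modulo `I` (SGA3 IX 7.1 + 3.4). -/
theorem eq_of_reduction_eq {A : Type u} [CommRing A] [IsNoetherianRing A] (I : Ideal A)
    [IsAdicComplete I A] {B : Type u} [CommRing B] [HopfAlgebra A B] (hG : IsIsotrivial A B)
    {C : Type u} [CommRing C] [HopfAlgebra A C]
    (hmt : ∀ n : ℕ, IsMultType (A ⧸ I ^ (n + 1)) ((A ⧸ I ^ (n + 1)) ⊗[A] C))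
    (φ ψ : C →ₐc[A] B)
    (h : ∀ c : C, (1 : A ⧸ I) ⊗ₜ[A] (φ c) = (1 : A ⧸ I) ⊗ₜ[A] (ψ c)) : φ = ψ := by
  have hconst : IsMultTypeConst A B := by
    obtain ⟨R', _, _, _hEt, _hFin, hFF, M, _, ⟨e⟩⟩ := hG
    exact ⟨R', inferInstance, inferInstance, hFF, M, inferInstance, ⟨e⟩⟩
  apply Groth.Agent.S5270.result A I B hG C φ ψ
  intro n c
  obtain ⟨𝒞⟩ := Rigid.nonempty_fcover (hmt n)
  haveI := MultFinite.isCocomm_of_fcover 𝒞
  have hB : IsMultType (A ⧸ I ^ (n + 1)) ((A ⧸ I ^ (n + 1)) ⊗[A] B) :=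
    HensGL.isMultType_of_const (HensGL.isMultTypeConst_baseChange _ hconst)
  have hnil : IsNilpotent (I.map (algebraMap A (A ⧸ I ^ (n + 1)))) := by
    refine ⟨n + 1, ?_⟩
    rw [← Ideal.map_pow, Ideal.zero_eq_bot, Ideal.map_eq_bot_iff_le_ker, Ideal.Quotient.algebraMap_eq,
      Ideal.mk_ker]
  have key := Groth.Agent.S5241.result (A ⧸ I ^ (n + 1)) (I.map (algebraMap A (A ⧸ I ^ (n + 1)))) hnil
    ((A ⧸ I ^ (n + 1)) ⊗[A] B) hB ((A ⧸ I ^ (n + 1)) ⊗[A] C)
    (MultType.bc (A ⧸ I ^ (n + 1)) φ) (MultType.bc (A ⧸ I ^ (n + 1)) ψ) ?_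
  · exact DFunLike.congr_fun key ((1 : A ⧸ I ^ (n + 1)) ⊗ₜ[A] c)
  · intro c'
    rw [← sub_eq_zero, ← TensorProduct.tmul_sub]
    apply Rigid.tmul_eq_zero_of_mem
    exact MultType.bc_sub_mem (A ⧸ I ^ (n + 1)) I φ ψ
      (fun c => MultType.sub_mem_of_tmul_eq I (h c)) c'

/-- every homomorphism modulo `I` into an isotrivial group over a complete Noetherian base, from a
group whose truncations are of multiplicative type, lifts. -/
theorem exists_lift_of_adicComplete {A : Type u} [CommRing A] [IsNoetherianRing A] (I : Ideal A)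
    [IsAdicComplete I A] {B : Type u} [CommRing B] [HopfAlgebra A B] (hG : IsIsotrivial A B)
    {C : Type u} [CommRing C] [HopfAlgebra A C]
    (hmt : ∀ n : ℕ, IsMultType (A ⧸ I ^ (n + 1)) ((A ⧸ I ^ (n + 1)) ⊗[A] C))
    (φ₀ : ((A ⧸ I) ⊗[A] C) →ₐc[A ⧸ I] ((A ⧸ I) ⊗[A] B)) :
    ∃ φ : C →ₐc[A] B, ∀ c : C, φ₀ ((1 : A ⧸ I) ⊗ₜ[A] c) = (1 : A ⧸ I) ⊗ₜ[A] (φ c) := by
  classical
  obtain ⟨R', _, _, _hEt, hFin, hFF, M, _, ⟨e⟩⟩ := hG
  have hconst : IsMultTypeConst A B := ⟨R', inferInstance, inferInstance, hFF, M, inferInstance, ⟨e⟩⟩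
  obtain ⟨ψ, hψ0, hψ⟩ := exists_tower_mult hconst I (fun n => Rigid.nonempty_fcover (hmt n)) φ₀
  obtain ⟨φ, hφ⟩ := FormalHom.exists_bialgHom_of_tower e I ψ hψ
  refine ⟨φ, fun c => ?_⟩
  rw [← hψ0 c, ← hφ 0 c, FormalHom.red_one_tmul]

end Groth.Agent.Lib.helper15.MultLift
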