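import Mathlib
import Groth.Prelude.Def_SGA3b
import Groth.Agent.Lib.Helper15.MultLocal
import Groth.Agent.Lib.Helper15.TorsQuot

/-!
# Rigidity of homomorphisms from groups of multiplicative type over a Noetherian local ring
(helper15)

* `mem_smul_top_of_tmul_mem`: faithfully flat descent of membership in `I • ⊤`.
* `sub_mem_pow_of_components`: agreement modulo every power of the maximal ideal.
* `finite_quot_torsionIdeal`: `A ⧸ ₙA` is finite.
* `eq_trivial_of_noetherian`: Noetherian case of S5245.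
-/

set_option autoImplicit false
universe u
open TensorProduct SGA3b

namespace Groth.Agent.Lib.helper15.MultLocal

open Groth.Agent.Lib.helper15.MultType Groth.Agent.Lib.helper15.TorsIdeal
  Groth.Agent.Lib.helper15.TorsQuot WithConv

section DescentMem

variable {R : Type*} [CommRing R] {S : Type*} [CommRing S] [Algebra R S]
  [Module.FaithfullyFlat R S] {A : Type*} [AddCommGroup A] [Module R A]

/-- faithfully flat descent of membership in `I • ⊤`. -/
lemma mem_smul_top_of_tmul_mem (I : Ideal R) (x : A)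
    (h : (1 : S) ⊗ₜ[R] x ∈ (I.map (algebraMap R S)) • (⊤ : Submodule S (S ⊗[R] A))) :
    x ∈ I • (⊤ : Submodule R A) := by
  set π := (I • (⊤ : Submodule R A)).mkQ with hπ
  have hkill : ∀ j ∈ I.map (algebraMap R S), ∀ z : S ⊗[R] (A ⧸ I • (⊤ : Submodule R A)),
      j • z = 0 := by
    intro j hj
    refine Submodule.span_induction
      (p := fun j _ => ∀ z : S ⊗[R] (A ⧸ I • (⊤ : Submodule R A)), j • z = 0) ?_ ?_ ?_ ?_ hj
    · rintro _ ⟨i, hi, rfl⟩ z
      induction z using TensorProduct.induction_on with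
      | zero => rw [smul_zero]
      | add a b ha hb => rw [smul_add, ha, hb, add_zero]
      | tmul s q =>
        obtain ⟨a, rfl⟩ := Submodule.Quotient.mk_surjective _ q
        have h1 : i • (Submodule.Quotient.mk a : A ⧸ I • (⊤ : Submodule R A)) = 0 := by
          rw [← Submodule.Quotient.mk_smul, Submodule.Quotient.mk_eq_zero]
          exact Submodule.smul_mem_smul hi Submodule.mem_top
        change (algebraMap R S i) • (s ⊗ₜ[R] (Submodule.Quotient.mk a)) = 0
        rw [TensorProduct.smul_tmul', smul_eq_mul, ← Algebra.smul_def, TensorProduct.smul_tmul,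
          h1, TensorProduct.tmul_zero]
    · intro z
      rw [zero_smul]
    · intro a b _ _ ha hb z
      rw [add_smul, ha, hb, add_zero]
    · intro a b _ hb z
      rw [smul_eq_mul, mul_smul, hb, smul_zero]
  have hzero : ∀ y ∈ (I.map (algebraMap R S)) • (⊤ : Submodule S (S ⊗[R] A)),
      π.baseChange S y = 0 := by
    intro y hy
    refine Submodule.smul_induction_on (p := fun y => π.baseChange S y = 0) hy ?_ ?_
    · intro j hj y' _
      rw [map_smul]
      exact hkill j hj _
    · intro a b ha hb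
      rw [map_add, ha, hb, add_zero]
  have h1 := hzero _ h
  rw [LinearMap.baseChange_tmul] at h1
  have hinj := Module.FaithfullyFlat.tensorProduct_mk_injective (A := R) (B := S)
    (A ⧸ I • (⊤ : Submodule R A))
  have h2 : π x = 0 := hinj (by rw [TensorProduct.mk_apply, h1, map_zero])
  exact (Submodule.Quotient.mk_eq_zero _).mp h2

end DescentMem

section Pow

variable {R : Type u} [CommRing R] [IsLocalRing R] {A C : Type u} [CommRing A] [CommRing C]
  [HopfAlgebra R A] [HopfAlgebra R C]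

/-- two homomorphisms which agree modulo the maximal ideal and whose differences of components are
"idempotent-like" agree modulo every power of the maximal ideal. -/
theorem sub_mem_pow_of_components
    (S : Type u) [CommRing S] [Algebra R S] [Module.FaithfullyFlat R S] (M : Type u) [CommGroup M]
    (e : S ⊗[R] A ≃ₐc[S] MonoidAlgebra S M) (φ ψ : C →ₐc[R] A)
    (hs : ∀ c, φ c - ψ c ∈ (IsLocalRing.maximalIdeal R) • (⊤ : Submodule R A))
    (H : ∀ m : M, ∃ h : WithConv ((S ⊗[R] C) →ₗ[S] S),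
      comp ((e : _ →ₐc[S] MonoidAlgebra S M).comp (bc S φ)) m -
        comp ((e : _ →ₐc[S] MonoidAlgebra S M).comp (bc S ψ)) m =
      (comp ((e : _ →ₐc[S] MonoidAlgebra S M).comp (bc S φ)) m -
        comp ((e : _ →ₐc[S] MonoidAlgebra S M).comp (bc S ψ)) m) * h ∧
      ∀ c, h c ∈ coeffIdeal ((e : _ →ₐc[S] MonoidAlgebra S M).comp (bc S φ))
        ((e : _ →ₐc[S] MonoidAlgebra S M).comp (bc S ψ))) (k : ℕ) (c : C) :
    φ c - ψ c ∈ (IsLocalRing.maximalIdeal R ^ k) • (⊤ : Submodule R A) := by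
  classical
  set Φ := (e : _ →ₐc[S] MonoidAlgebra S M).comp (bc S φ) with hΦ
  set Ψ := (e : _ →ₐc[S] MonoidAlgebra S M).comp (bc S ψ) with hΨ
  set 𝔪 := IsLocalRing.maximalIdeal R with h𝔪
  have hJm : coeffIdeal Φ Ψ ≤ Ideal.map (algebraMap R S) 𝔪 := by
    apply Ideal.span_le.mpr
    rintro r ⟨m, c', rfl⟩
    have h1 := equiv_sub_mem e _ (bc_sub_mem S 𝔪 φ ψ hs c')
    rw [map_sub] at h1
    exact mem_coeff_of_mem_smul_top _ h1 m
  have hcoef : ∀ (m : M) (c' : S ⊗[R] C),
      (Φ c' - Ψ c').coeff m ∈ Ideal.map (algebraMap R S) (𝔪 ^ k) := by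
    intro m c'
    obtain ⟨h, h1, h2⟩ := H m
    have h3 := conv_mem_pow (comp Φ m - comp Ψ m) h h1 (Ideal.map (algebraMap R S) 𝔪)
      (fun c => hJm (h2 c)) k c'
    rw [Ideal.map_pow]
    have h4 : (comp Φ m - comp Ψ m) c' = (Φ c' - Ψ c').coeff m := by
      rw [MonoidAlgebra.coeff_sub, Finsupp.sub_apply]
      rfl
    rwa [h4] at h3
  have h5 : Φ ((1 : S) ⊗ₜ[R] c) - Ψ ((1 : S) ⊗ₜ[R] c) ∈
      (Ideal.map (algebraMap R S) (𝔪 ^ k)) • (⊤ : Submodule S (MonoidAlgebra S M)) :=
    mem_smul_top_of_coeff _ _ fun m => hcoef m _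
  have h6 := equiv_sub_mem e.symm _ h5
  have h7 : e.symm (Φ ((1 : S) ⊗ₜ[R] c) - Ψ ((1 : S) ⊗ₜ[R] c)) =
      (1 : S) ⊗ₜ[R] (φ c - ψ c) := by
    rw [TensorProduct.tmul_sub, map_sub]
    have h8 : Φ ((1 : S) ⊗ₜ[R] c) = e ((1 : S) ⊗ₜ[R] φ c) := rfl
    have h9 : Ψ ((1 : S) ⊗ₜ[R] c) = e ((1 : S) ⊗ₜ[R] ψ c) := rfl
    rw [h8, h9, e.symm_apply_apply, e.symm_apply_apply]
  rw [h7] at h6
  exact mem_smul_top_of_tmul_mem (S := S) _ _ h6

end Pow

section FiniteQuot

variable {R : Type u} [CommRing R] {A : Type u} [CommRing A] [HopfAlgebra R A]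

/-- the coordinate ring `A ⧸ ₙA` of the `n`-torsion of a group of multiplicative type (of constant
type, with finitely generated character group) is finite. -/
theorem finite_quot_torsionIdeal
    (S : Type u) [CommRing S] [Algebra R S] [Module.FaithfullyFlat R S] (M : Type u) [CommGroup M]
    [Group.FG M] (e : S ⊗[R] A ≃ₐc[S] MonoidAlgebra S M) (n : ℕ) (hn : 0 < n) :
    Module.Finite R (A ⧸ torsionIdeal R A n) := by
  classical
  set T := torsionIdeal R A n with hT
  let q : S ⊗[R] A →ₐ[S] S ⊗[R] (A ⧸ T) :=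
    Algebra.TensorProduct.map (AlgHom.id S S) (Ideal.Quotient.mkₐ R T)
  have hq_surj : Function.Surjective q := by
    intro z
    induction z using TensorProduct.induction_on with
    | zero => exact ⟨0, map_zero _⟩
    | add a b ha hb =>
      obtain ⟨a', rfl⟩ := ha
      obtain ⟨b', rfl⟩ := hb
      exact ⟨a' + b', map_add _ _ _⟩
    | tmul s y =>
      obtain ⟨a, rfl⟩ := Ideal.Quotient.mk_surjective y
      exact ⟨s ⊗ₜ a, rfl⟩
  have hq_kill : ∀ y ∈ torsionIdeal S (S ⊗[R] A) n, q y = 0 := by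
    intro y hy
    rw [torsionIdeal_baseChange_eq] at hy
    have hle : Ideal.map (Algebra.TensorProduct.includeRight : A →ₐ[R] S ⊗[R] A) T ≤
        RingHom.ker q := by
      rw [Ideal.map_le_iff_le_comap]
      intro t ht
      rw [Ideal.mem_comap, RingHom.mem_ker]
      change (1 : S) ⊗ₜ[R] (Ideal.Quotient.mk T t) = 0
      rw [Ideal.Quotient.eq_zero_iff_mem.mpr ht, TensorProduct.tmul_zero]
    exact hle hy
  haveI hfinM : Finite (M ⧸ powRange M n) := by
    apply CommGroup.finite_of_fg_isMulTorsion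
    intro y
    rw [isOfFinOrder_iff_pow_eq_one]
    refine ⟨n, hn, ?_⟩
    induction y using QuotientGroup.induction_on with
    | H m =>
      rw [← QuotientGroup.mk_pow, QuotientGroup.eq_one_iff]
      exact ⟨m, rfl⟩
  haveI : Module.Finite S (MonoidAlgebra S (M ⧸ powRange M n)) :=
    Module.Finite.of_basis (MonoidAlgebra.basis (M ⧸ powRange M n) S)
  let lam : MonoidAlgebra S (M ⧸ powRange M n) →ₗ[S] S ⊗[R] (A ⧸ T) :=
    (q : S ⊗[R] A →ₗ[S] S ⊗[R] (A ⧸ T)) ∘ₗ
      ((e.symm : MonoidAlgebra S M →ₐc[S] S ⊗[R] A) : MonoidAlgebra S M →ₗ[S] S ⊗[R] A) ∘ₗ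
      MonoidAlgebra.mapDomainLinearMap S S (fun y : M ⧸ powRange M n => y.out)
  have hlam : Function.Surjective lam := by
    intro z
    obtain ⟨y0, rfl⟩ := hq_surj z
    set x := e y0 with hx
    refine ⟨projPow S M n x, ?_⟩
    have h1 := sub_section_mem (R := S) n x
    have h2 := (mem_torsionIdeal_iff_of_equiv e n _).mpr h1
    have h3 := hq_kill _ h2
    rw [map_sub, map_sub, sub_eq_zero, hx, e.symm_apply_apply] at h3
    rw [h3]
    rfl
  haveI : Module.Finite S (S ⊗[R] (A ⧸ T)) := Module.Finite.of_surjective lam hlam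
  exact Module.Finite.of_finite_tensorProduct_of_faithfullyFlat S

end FiniteQuot

section Noeth

variable {R : Type u} [CommRing R] [IsLocalRing R] {A C : Type u} [CommRing A] [CommRing C]
  [HopfAlgebra R A] [HopfAlgebra R C]

/-- Noetherian case of S5245. -/
theorem eq_trivial_of_noetherian [IsNoetherianRing R] [Algebra.FiniteType R A]
    (hH : IsMultType R A) (φ : C →ₐc[R] A)
    (hs : ∀ c : C, φ c - algebraMap R A (Coalgebra.counit c) ∈
      Ideal.map (algebraMap R A) (IsLocalRing.maximalIdeal R)) (c : C) :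
    φ c = algebraMap R A (Coalgebra.counit c) := by
  classical
  obtain ⟨S, _, _, hff, M, _, ⟨e⟩⟩ := isMultTypeConst_of_isLocalRing R A hH
  haveI : Nontrivial S := (FaithfulSMul.algebraMap_injective R S).nontrivial
  haveI hft2 : Algebra.FiniteType S (MonoidAlgebra S M) :=
    Algebra.FiniteType.equiv inferInstance e.toAlgEquiv
  haveI hfg : Group.FG M := MonoidAlgebra.finiteType_iff_group_fg.mp hft2
  set 𝔪 := IsLocalRing.maximalIdeal R with h𝔪
  set x := φ c - (triv : C →ₐc[R] A) c with hx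
  have hpow : ∀ k : ℕ, x ∈ (𝔪 ^ k) • (⊤ : Submodule R A) := by
    intro k
    refine sub_mem_pow_of_components S M e φ triv ?_ ?_ k c
    · intro c
      rw [Ideal.smul_top_eq_map]
      exact hs c
    · intro m
      refine hyp_of_trivial _ _ ?_ m
      intro c'
      change e (bc S (triv : C →ₐc[R] A) c') = _
      rw [bc_triv, AlgHomClass.commutes]
  have hT : ∀ n : ℕ, 0 < n → x ∈ torsionIdeal R A n := by
    intro n hn
    haveI := finite_quot_torsionIdeal (R := R) (A := A) S M e n hn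
    have hkrull : (⨅ i : ℕ, 𝔪 ^ i • ⊤ : Submodule R (A ⧸ torsionIdeal R A n)) = ⊥ :=
      Ideal.iInf_pow_smul_eq_bot_of_isLocalRing 𝔪 (IsLocalRing.maximalIdeal.isMaximal R).ne_top
    let π : A →ₗ[R] A ⧸ torsionIdeal R A n := (Ideal.Quotient.mkₐ R (torsionIdeal R A n)).toLinearMap
    have hmem : π x ∈ (⨅ i : ℕ, 𝔪 ^ i • ⊤ : Submodule R (A ⧸ torsionIdeal R A n)) := by
      rw [Submodule.mem_iInf]
      intro k
      have := Submodule.mem_map_of_mem (f := π) (hpow k)
      rw [Submodule.map_smul''] at this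
      exact Submodule.smul_mono le_rfl le_top this
    rw [hkrull, Submodule.mem_bot] at hmem
    exact Ideal.Quotient.eq_zero_iff_mem.mp hmem
  have hy : e ((1 : S) ⊗ₜ[R] x) = 0 := by
    have hdense := iInf_torsionIdeal_groupAlg S M 0 (Or.inl rfl)
    rw [← Ideal.mem_bot, ← hdense, Ideal.mem_iInf]
    rintro ⟨n, hn0, _⟩
    have h1 : (1 : S) ⊗ₜ[R] x ∈ torsionIdeal S (S ⊗[R] A) n := by
      rw [torsionIdeal_baseChange_eq]
      exact Ideal.mem_map_of_mem _ (hT n hn0)
    have h2 := (mem_torsionIdeal_iff_of_equiv e n (e ((1 : S) ⊗ₜ[R] x))).mp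
      (by rw [e.symm_apply_apply]; exact h1)
    exact h2
  have h1 : (1 : S) ⊗ₜ[R] x = 0 := by
    apply EquivLike.injective e
    rw [hy, map_zero]
  have h2 : x = 0 :=
    Module.FaithfullyFlat.tensorProduct_mk_injective (A := R) (B := S) A
      (by rw [TensorProduct.mk_apply, h1, map_zero])
  rw [hx, sub_eq_zero] at h2
  rw [h2]
  rfl

end Noeth

end Groth.Agent.Lib.helper15.MultLocal
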