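import Mathlib

/-!
# A Nakayama-type bijectivity criterion over a nilpotent ideal (helper15)

* `mem_smul_ker_of_flat`: `f : M → M'` surjective with `M'` flat: `ker f ∩ I M ⊆ I · ker f`.
* `bijective_of_flat_of_nilpotent`: `I` nilpotent, `M'` flat, `f : M → M'` linear compatible with
  surjections `π : M → E`, `π' : M' → E` whose kernels lie in `I M`, `I M'`: then `f` is bijective.
-/

set_option autoImplicit false
open TensorProduct

namespace Groth.Agent.Lib.helper15.NilFlat

variable {A : Type*} [CommRing A] (I : Ideal A)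

/-- the multiplication map `I ⊗ N → N` -/
noncomputable def mu (N : Type*) [AddCommGroup N] [Module A N] : I ⊗[A] N →ₗ[A] N :=
  TensorProduct.lift ((LinearMap.lsmul A N).comp I.subtype)

@[simp] theorem mu_tmul (N : Type*) [AddCommGroup N] [Module A N] (a : I) (v : N) :
    mu I N (a ⊗ₜ v) = (a : A) • v := rfl

theorem exists_mu_eq {N : Type*} [AddCommGroup N] [Module A N] (x : N)
    (hx : x ∈ I • (⊤ : Submodule A N)) : ∃ t, mu I N t = x := by
  refine Submodule.smul_induction_on hx ?_ ?_
  · intro a ha v _
    exact ⟨(⟨a, ha⟩ : I) ⊗ₜ v, rfl⟩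
  · rintro x y ⟨t, rfl⟩ ⟨s, rfl⟩
    exact ⟨t + s, map_add _ _ _⟩

theorem mu_lTensor {N N' : Type*} [AddCommGroup N] [Module A N] [AddCommGroup N'] [Module A N']
    (g : N →ₗ[A] N') (t : I ⊗[A] N) : mu I N' (LinearMap.lTensor I g t) = g (mu I N t) := by
  induction t using TensorProduct.induction_on with
  | zero => simp
  | tmul a v => simp
  | add x y hx hy => simp only [map_add, hx, hy]

theorem mu_injective_of_flat (N : Type*) [AddCommGroup N] [Module A N] [Module.Flat A N] :
    Function.Injective (mu I N) := by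
  have h := (Module.Flat.iff_rTensor_injective' (R := A) (M := N)).mp inferInstance I
  have h2 : mu I N = (TensorProduct.lid A N).toLinearMap.comp (LinearMap.rTensor N I.subtype) := by
    apply TensorProduct.ext'
    intro a v
    simp
  rw [h2]
  exact (TensorProduct.lid A N).injective.comp h

theorem subtype_mu_mem {N : Type*} [AddCommGroup N] [Module A N] (K : Submodule A N)
    (s : I ⊗[A] K) : (mu I K s : N) ∈ I • K := by
  induction s using TensorProduct.induction_on with
  | zero => simp
  | tmul a v =>
    rw [mu_tmul, Submodule.coe_smul]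
    exact Submodule.smul_mem_smul a.2 v.2
  | add x y hx hy =>
    rw [map_add, Submodule.coe_add]
    exact Submodule.add_mem _ hx hy

theorem mem_smul_ker_of_flat {M M' : Type*} [AddCommGroup M] [Module A M]
    [AddCommGroup M'] [Module A M'] [Module.Flat A M'] (f : M →ₗ[A] M')
    (hf : Function.Surjective f) (x : M) (hx : f x = 0) (hxI : x ∈ I • (⊤ : Submodule A M)) :
    x ∈ I • LinearMap.ker f := by
  obtain ⟨t, rfl⟩ := exists_mu_eq I x hxI
  have h1 : mu I M' (LinearMap.lTensor I f t) = 0 := by rw [mu_lTensor, hx]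
  have h2 : LinearMap.lTensor I f t = 0 :=
    mu_injective_of_flat I M' (h1.trans (map_zero _).symm)
  have hex : Function.Exact (LinearMap.lTensor I (LinearMap.ker f).subtype)
      (LinearMap.lTensor I f) :=
    lTensor_exact I (LinearMap.exact_subtype_ker_map f) hf
  obtain ⟨s, rfl⟩ := (hex t).mp h2
  rw [mu_lTensor]
  exact subtype_mu_mem I (LinearMap.ker f) s

theorem bijective_of_flat_of_nilpotent (n : ℕ) (hn : I ^ n = ⊥)
    {M M' E : Type*} [AddCommGroup M] [Module A M]
    [AddCommGroup M'] [Module A M'] [Module.Flat A M'] [AddCommGroup E]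
    (f : M →ₗ[A] M') (π : M →+ E) (π' : M' →+ E) (hπ : ∀ v, π' (f v) = π v)
    (hsurj : Function.Surjective π)
    (hker : ∀ v, π v = 0 → v ∈ I • (⊤ : Submodule A M))
    (hker' : ∀ v, π' v = 0 → v ∈ I • (⊤ : Submodule A M')) : Function.Bijective f := by
  -- surjectivity
  have hstep : (⊤ : Submodule A M') ≤ LinearMap.range f ⊔ I • ⊤ := by
    intro v' _
    obtain ⟨v, hv⟩ := hsurj (π' v')
    have h1 : π' (v' - f v) = 0 := by rw [map_sub, hπ, hv, sub_self]
    have h2 : v' = f v + (v' - f v) := by abel
    rw [h2]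
    exact Submodule.add_mem_sup (LinearMap.mem_range_self f v) (hker' _ h1)
  have hind : ∀ j : ℕ, (⊤ : Submodule A M') ≤ LinearMap.range f ⊔ I ^ j • ⊤ := by
    intro j
    induction j with
    | zero => simp
    | succ j ih =>
      refine ih.trans (sup_le le_sup_left ?_)
      calc I ^ j • (⊤ : Submodule A M') ≤ I ^ j • (LinearMap.range f ⊔ I • ⊤) :=
            Submodule.smul_mono le_rfl hstep
        _ = I ^ j • LinearMap.range f ⊔ I ^ j • (I • ⊤) := Submodule.smul_sup _ _ _
        _ ≤ LinearMap.range f ⊔ I ^ (j + 1) • ⊤ := by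
            refine sup_le_sup Submodule.smul_le_right ?_
            rw [← Submodule.mul_smul, ← pow_succ]
  have hsurjf : Function.Surjective f := by
    have h := hind n
    rw [hn, Submodule.bot_smul, sup_bot_eq] at h
    exact LinearMap.range_eq_top.mp (top_le_iff.mp h)
  refine ⟨?_, hsurjf⟩
  -- injectivity
  have hK : LinearMap.ker f ≤ I • LinearMap.ker f := by
    intro x hx
    have hx0 : f x = 0 := hx
    have h1 : π x = 0 := by rw [← hπ, hx0, map_zero]
    exact mem_smul_ker_of_flat I f hsurjf x hx0 (hker x h1)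
  have hindK : ∀ j : ℕ, LinearMap.ker f ≤ I ^ j • LinearMap.ker f := by
    intro j
    induction j with
    | zero => simp
    | succ j ih =>
      calc LinearMap.ker f ≤ I ^ j • LinearMap.ker f := ih
        _ ≤ I ^ j • (I • LinearMap.ker f) := Submodule.smul_mono le_rfl hK
        _ = I ^ (j + 1) • LinearMap.ker f := by rw [← Submodule.mul_smul, ← pow_succ]
  have h := hindK n
  rw [hn, Submodule.bot_smul, le_bot_iff] at h
  exact LinearMap.ker_eq_bot.mp h

end Groth.Agent.Lib.helper15.NilFlat
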