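import Mathlib

/-!
# Lengths of localizations of tensor products of fields, part 1 (helper15)

General transfer lemmas:
* `length_self_ringEquiv` : `length_R R = length_S S` for `R ≃+* S`.
* `exists_prime_of_ringEquiv` : transport of a prime and of the length of its local ring along a ring iso.
* `exists_prime_of_isLocalization` : a prime `q` of `B` disjoint from `T` and its extension to `T⁻¹B`
  have isomorphic local rings.
* `exists_prime_tensor` : for `B₁ = B₀ ⊗[E] L`, `R₀ = M⁻¹ B₀`, a prime `q₁` of `B₁` disjoint from the
  image of `M` has the same local ring as some prime of `R₀ ⊗[E] L`.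
-/

set_option autoImplicit false
set_option linter.style.haveILetI false

open TensorProduct

namespace Groth.Agent.Lib.helper15.TensLen

universe u v w

theorem length_self_ringEquiv {R : Type u} {S : Type v} [CommRing R] [CommRing S] (e : R ≃+* S) :
    Module.length R R = Module.length S S := by
  have h1 : (Module.length R R : WithBot ℕ∞) = (Module.length S S : WithBot ℕ∞) := by
    rw [Module.coe_length, Module.coe_length]
    exact Order.krullDim_eq_of_orderIso (e.idealComapOrderIso).symm
  exact_mod_cast h1

/-- the self-length of the local ring at a prime. -/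
noncomputable def locLen {B : Type u} [CommRing B] (q : Ideal B) [q.IsPrime] : ℕ∞ :=
  Module.length (Localization.AtPrime q) (Localization.AtPrime q)

theorem exists_prime_of_ringEquiv {B : Type u} {B' : Type v} [CommRing B] [CommRing B']
    (e : B ≃+* B') (q : Ideal B) [q.IsPrime] :
    ∃ (q' : Ideal B') (_ : q'.IsPrime), q'.comap (e : B →+* B') = q ∧ locLen q = locLen q' := by
  have hq' : (q.comap (e.symm : B' →+* B)).IsPrime := Ideal.comap_isPrime _ _
  refine ⟨q.comap (e.symm : B' →+* B), hq', ?_, ?_⟩
  · ext x
    simp [Ideal.mem_comap]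
  · have H : (q.primeCompl).map e.toMonoidHom = (q.comap (e.symm : B' →+* B)).primeCompl := by
      ext y
      simp only [Submonoid.mem_map, Ideal.mem_primeCompl_iff, Ideal.mem_comap]
      constructor
      · rintro ⟨x, hx, rfl⟩
        simpa using hx
      · intro hy
        exact ⟨e.symm y, hy, by simp⟩
    exact length_self_ringEquiv
      (IsLocalization.ringEquivOfRingEquiv (Localization.AtPrime q)
        (Localization.AtPrime (q.comap (e.symm : B' →+* B))) e H)

theorem exists_prime_of_isLocalization {B : Type u} {B' : Type v} [CommRing B] [CommRing B']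
    [Algebra B B'] (T : Submonoid B) [IsLocalization T B'] (q : Ideal B) [hq : q.IsPrime]
    (hd : Disjoint (T : Set B) (q : Set B)) :
    ∃ (q' : Ideal B') (_ : q'.IsPrime), q'.comap (algebraMap B B') = q ∧ locLen q = locLen q' := by
  have hq' : (q.map (algebraMap B B')).IsPrime := IsLocalization.isPrime_of_isPrime_disjoint T B' q hq hd
  have hc : (q.map (algebraMap B B')).comap (algebraMap B B') = q :=
    IsLocalization.under_map_of_isPrime_disjoint T B' hq hd
  refine ⟨q.map (algebraMap B B'), hq', hc, ?_⟩
  have h1 : IsLocalization.AtPrime (Localization.AtPrime (q.map (algebraMap B B')))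
      ((q.map (algebraMap B B')).comap (algebraMap B B')) :=
    IsLocalization.isLocalization_isLocalization_atPrime_isLocalization T
      (Localization.AtPrime (q.map (algebraMap B B'))) (q.map (algebraMap B B'))
  have h2 : IsLocalization.AtPrime (Localization.AtPrime (q.map (algebraMap B B'))) q := by
    have : ∀ (I : Ideal B) (hI : I.IsPrime), I = q →
        @IsLocalization.AtPrime _ _ (Localization.AtPrime (q.map (algebraMap B B'))) _ _ I hI →
        IsLocalization.AtPrime (Localization.AtPrime (q.map (algebraMap B B'))) q := by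
      intro I hI hIq h
      subst hIq
      exact h
    exact this _ _ hc h1
  exact length_self_ringEquiv
    (IsLocalization.algEquiv q.primeCompl (Localization.AtPrime q)
      (Localization.AtPrime (q.map (algebraMap B B')))).toRingEquiv

/-- **Key transfer lemma.** `B₁ = B₀ ⊗[E] L`, `R₀ = M⁻¹B₀`: a prime of `B₁` disjoint from the image
of `M` has the same local ring as a prime of `R₀ ⊗[E] L`. -/
theorem exists_prime_tensor (E : Type u) [CommRing E] (L : Type u) [CommRing L] [Algebra E L]
    (B0 : Type u) [CommRing B0] [Algebra E B0] (M : Submonoid B0) (R0 : Type u) [CommRing R0]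
    [Algebra B0 R0] [Algebra E R0] [IsScalarTower E B0 R0] [IsLocalization M R0]
    (q1 : Ideal (B0 ⊗[E] L)) [q1.IsPrime]
    (hd : Disjoint ((Algebra.algebraMapSubmonoid (B0 ⊗[E] L) M : Submonoid (B0 ⊗[E] L)) :
      Set (B0 ⊗[E] L)) (q1 : Set (B0 ⊗[E] L))) :
    ∃ (q2 : Ideal (R0 ⊗[E] L)) (_ : q2.IsPrime), locLen q1 = locLen q2 := by
  have hloc : IsLocalization (Algebra.algebraMapSubmonoid (B0 ⊗[E] L) M)
      ((B0 ⊗[E] L) ⊗[B0] R0) := IsLocalization.tensor (S := B0 ⊗[E] L) (A := R0) M
  obtain ⟨q', hq', -, h1⟩ := exists_prime_of_isLocalization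
    (B' := (B0 ⊗[E] L) ⊗[B0] R0) (Algebra.algebraMapSubmonoid (B0 ⊗[E] L) M) q1 hd
  let e2 : ((B0 ⊗[E] L) ⊗[B0] R0) ≃+* (R0 ⊗[E] L) :=
    ((Algebra.TensorProduct.comm B0 (B0 ⊗[E] L) R0).trans
      (Algebra.TensorProduct.cancelBaseChange E B0 B0 R0 L)).toRingEquiv
  obtain ⟨q2, hq2, -, h2⟩ := exists_prime_of_ringEquiv e2 q'
  exact ⟨q2, hq2, h1.trans h2⟩

end Groth.Agent.Lib.helper15.TensLen
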