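import Mathlib
import Groth.Agent.Lib.Helper15.TensLen1

/-!
# Lengths of localizations of tensor products of fields, part 2 (helper15)

* `purelyInsep_locLen` : `K ⊗[k] k'` for `k'/k` finite purely inseparable: every local ring has length a
  power of `p`.
* `finite_case` : `K ⊗[k] L` for `L/k` finite: every local ring has length a power of `p`.
-/

set_option autoImplicit false
set_option linter.style.haveILetI false

open TensorProduct

namespace Groth.Agent.Lib.helper15.TensLen

universe u

theorem purelyInsep_locLen (k : Type u) [Field k] (p : ℕ) [ExpChar k p] (K : Type u) [Field K]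
    [Algebra k K] (k' : Type u) [Field k'] [Algebra k k'] [FiniteDimensional k k']
    [IsPurelyInseparable k k'] (P : Ideal (K ⊗[k] k')) [hP : P.IsPrime] :
    ∃ n : ℕ, locLen P = (p ^ n : ℕ) := by
  classical
  have hhomeo := PrimeSpectrum.isHomeomorph_comap_of_isPurelyInseparable k k' K
  have hnt : Nontrivial (K ⊗[k] k') := by
    obtain ⟨P, -⟩ := hhomeo.bijective.2 (⟨⊥, Ideal.isPrime_bot⟩ : PrimeSpectrum K)
    exact ⟨⟨0, 1, fun h => P.isPrime.ne_top ((Ideal.eq_top_iff_one _).mpr (h ▸ P.asIdeal.zero_mem))⟩⟩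
  have hsub : ∀ P Q : PrimeSpectrum (K ⊗[k] k'), P = Q := by
    intro P Q
    apply hhomeo.bijective.1
    apply PrimeSpectrum.ext
    rw [Ideal.eq_bot_of_prime (PrimeSpectrum.comap (algebraMap K (K ⊗[k] k')) P).asIdeal,
      Ideal.eq_bot_of_prime (PrimeSpectrum.comap (algebraMap K (K ⊗[k] k')) Q).asIdeal]
  have hloc : IsLocalRing (K ⊗[k] k') := by
    obtain ⟨m, hm⟩ := Ideal.exists_maximal (K ⊗[k] k')
    refine IsLocalRing.of_unique_max_ideal ⟨m, hm, fun m' hm' => ?_⟩
    have := hsub ⟨m', hm'.isPrime⟩ ⟨m, hm.isPrime⟩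
    exact congrArg PrimeSpectrum.asIdeal this
  -- the local ring at `P` is the ring itself
  have hunits : P.primeCompl ≤ IsUnit.submonoid (K ⊗[k] k') := by
    intro x hx
    by_contra hxu
    obtain ⟨m, hm, hxm⟩ := exists_max_ideal_of_mem_nonunits (show x ∈ nonunits _ from hxu)
    have := hsub ⟨m, hm.isPrime⟩ ⟨P, hP⟩
    have hmP : m = P := congrArg PrimeSpectrum.asIdeal this
    exact hx (hmP ▸ hxm)
  have hlocLen : locLen P = Module.length (K ⊗[k] k') (K ⊗[k] k') :=
    (length_self_ringEquiv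
      (IsLocalization.atUnits (K ⊗[k] k') P.primeCompl (S := Localization.AtPrime P)
        hunits).toRingEquiv).symm
  rw [hlocLen]
  have hlh : IsLocalHom (algebraMap K (K ⊗[k] k')) := by
    refine ⟨fun a ha => ?_⟩
    rw [isUnit_iff_ne_zero]
    rintro rfl
    rw [map_zero] at ha
    exact not_isUnit_zero ha
  have hlen := IsLocalRing.length_restrictScalars K (K ⊗[k] k') (K ⊗[k] k')
  rw [Module.length_eq_finrank, Module.finrank_baseChange] at hlen
  obtain ⟨m, hm⟩ := IsPurelyInseparable.finrank_eq_pow (F := k) (E := k') p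
  rw [hm] at hlen
  have hb0 : Module.length (IsLocalRing.ResidueField K) (IsLocalRing.ResidueField (K ⊗[k] k')) ≠ 0 := by
    simpa [pos_iff_ne_zero] using
      (Module.length_pos (R := IsLocalRing.ResidueField K)
        (M := IsLocalRing.ResidueField (K ⊗[k] k')))
  have ha0 : Module.length (K ⊗[k] k') (K ⊗[k] k') ≠ 0 := by
    simpa [pos_iff_ne_zero] using
      (Module.length_pos (R := K ⊗[k] k') (M := K ⊗[k] k'))
  have hatop : Module.length (K ⊗[k] k') (K ⊗[k] k') ≠ ⊤ := by
    intro h
    rw [h, ENat.top_mul hb0] at hlen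
    exact ENat.coe_ne_top _ hlen
  have hbtop : Module.length (IsLocalRing.ResidueField K)
      (IsLocalRing.ResidueField (K ⊗[k] k')) ≠ ⊤ := by
    intro h
    rw [h, ENat.mul_top ha0] at hlen
    exact ENat.coe_ne_top _ hlen
  obtain ⟨a, ha⟩ := ENat.ne_top_iff_exists.mp hatop
  obtain ⟨b, hb⟩ := ENat.ne_top_iff_exists.mp hbtop
  rw [← ha, ← hb] at hlen
  have hab : a * b = p ^ m := by
    have : ((a * b : ℕ) : ℕ∞) = ((p ^ m : ℕ) : ℕ∞) := by
      rw [Nat.cast_mul]
      exact hlen.symm
    exact_mod_cast this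
  rw [← ha]
  rcases ‹ExpChar k p› with _ | ⟨hp⟩
  · refine ⟨0, ?_⟩
    simp only [one_pow] at hab
    have : a = 1 := Nat.eq_one_of_mul_eq_one_right hab
    simp [this]
  · have hdvd : a ∣ p ^ m := ⟨b, hab.symm⟩
    obtain ⟨j, -, hj⟩ := (Nat.dvd_prime_pow hp).mp hdvd
    exact ⟨j, by rw [hj]⟩

/-- `K ⊗[k] L ≃ (E ⊗[k] K) ⊗[E] L` for a tower `k → E → L`. -/
noncomputable def swapEquiv (k E K L : Type u) [CommRing k] [CommRing E] [CommRing K] [CommRing L]
    [Algebra k E] [Algebra k K] [Algebra k L] [Algebra E L] [IsScalarTower k E L] :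
    K ⊗[k] L ≃+* (E ⊗[k] K) ⊗[E] L :=
  ((Algebra.TensorProduct.comm k K L).toRingEquiv.trans
    (Algebra.TensorProduct.cancelBaseChange k E E L K).symm.toRingEquiv).trans
    (Algebra.TensorProduct.comm E L (E ⊗[k] K)).toRingEquiv

/-- `E ⊗[k] K` is reduced of dimension zero for `E/k` finite separable. -/
theorem sep_tensor_props (k : Type u) [Field k] (K : Type u) [Field K] [Algebra k K]
    (E : Type u) [Field E] [Algebra k E] [FiniteDimensional k E] [Algebra.IsSeparable k E] :
    IsReduced (E ⊗[k] K) ∧ Ring.KrullDimLE 0 (E ⊗[k] K) := by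
  have hfu : Algebra.FormallyUnramified k E := Algebra.FormallyUnramified.of_isSeparable k E
  have h1 : IsReduced (K ⊗[k] E) := Algebra.FormallyUnramified.isReduced_of_field K (K ⊗[k] E)
  have h2 : IsArtinianRing (K ⊗[k] E) := IsArtinianRing.of_finite K (K ⊗[k] E)
  have h3 : Ring.KrullDimLE 0 (K ⊗[k] E) := inferInstance
  let e : E ⊗[k] K ≃+* K ⊗[k] E := (Algebra.TensorProduct.comm k E K).toRingEquiv
  refine ⟨isReduced_of_injective (e : E ⊗[k] K →+* K ⊗[k] E) e.injective, ?_⟩
  rw [Ring.krullDimLE_iff] at h3 ⊢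
  rwa [ringKrullDim_eq_of_ringEquiv e]

theorem finite_case_aux (k : Type u) [Field k] (p : ℕ) [ExpChar k p] (K : Type u) [Field K]
    [Algebra k K] (L : Type u) [Field L] [Algebra k L]
    (E : Type u) [Field E] [Algebra k E] [Algebra E L] [IsScalarTower k E L]
    [FiniteDimensional k E] [Algebra.IsSeparable k E] [FiniteDimensional E L]
    [IsPurelyInseparable E L]
    (q : Ideal (K ⊗[k] L)) [q.IsPrime] :
    ∃ n : ℕ, locLen q = (p ^ n : ℕ) := by
  classical
  haveI : ExpChar E p := expChar_of_injective_algebraMap (algebraMap k E).injective p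
  obtain ⟨hred, hdim⟩ := sep_tensor_props k K E
  obtain ⟨q1, hq1, -, h1⟩ := exists_prime_of_ringEquiv (swapEquiv k E K L) q
  -- the contraction to `B0 = E ⊗ K`
  let q0 : Ideal (E ⊗[k] K) := q1.comap (algebraMap (E ⊗[k] K) ((E ⊗[k] K) ⊗[E] L))
  haveI hq0 : q0.IsPrime := Ideal.comap_isPrime _ _
  have hq0min : q0 ∈ minimalPrimes (E ⊗[k] K) := Ideal.mem_minimalPrimes_iff_isPrime.mpr hq0
  haveI : Ring.KrullDimLE 0 (Localization.AtPrime q0) :=
    Ring.KrullDimLE.of_isLocalization q0 hq0min (Localization.AtPrime q0)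
  have hfield : IsField (Localization.AtPrime q0) := Ring.KrullDimLE.isField_of_isReduced
  -- the residue field is the localization
  have hbij : Function.Bijective (algebraMap (Localization.AtPrime q0) q0.ResidueField) := by
    refine ⟨?_, IsLocalRing.residue_surjective⟩
    rw [IsLocalRing.isField_iff_maximalIdeal_eq] at hfield
    rw [RingHom.injective_iff_ker_eq_bot]
    change RingHom.ker (IsLocalRing.residue (Localization.AtPrime q0)) = ⊥
    rw [IsLocalRing.ker_residue, hfield]
  haveI hloc0 : IsLocalization q0.primeCompl q0.ResidueField :=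
    IsLocalization.isLocalization_of_algEquiv q0.primeCompl
      (AlgEquiv.ofBijective (IsScalarTower.toAlgHom (E ⊗[k] K) (Localization.AtPrime q0)
        q0.ResidueField) hbij)
  letI : Algebra E q0.ResidueField :=
    ((algebraMap (E ⊗[k] K) q0.ResidueField).comp (algebraMap E (E ⊗[k] K))).toAlgebra
  haveI : IsScalarTower E (E ⊗[k] K) q0.ResidueField := IsScalarTower.of_algebraMap_eq fun _ => rfl
  have hd : Disjoint ((Algebra.algebraMapSubmonoid ((E ⊗[k] K) ⊗[E] L) q0.primeCompl :
      Submonoid ((E ⊗[k] K) ⊗[E] L)) : Set ((E ⊗[k] K) ⊗[E] L)) (q1 : Set _) := by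
    rw [Set.disjoint_left]
    rintro x ⟨b, hb, rfl⟩ hx
    exact hb hx
  obtain ⟨q2, hq2, h2⟩ := exists_prime_tensor E L (E ⊗[k] K) q0.primeCompl q0.ResidueField q1 hd
  obtain ⟨n, hn⟩ := purelyInsep_locLen E p q0.ResidueField L q2
  exact ⟨n, by rw [h1, h2, hn]⟩

theorem finite_case (k : Type u) [Field k] (p : ℕ) [ExpChar k p] (K : Type u) [Field K]
    [Algebra k K] (L : Type u) [Field L] [Algebra k L] [FiniteDimensional k L]
    (q : Ideal (K ⊗[k] L)) [q.IsPrime] :
    ∃ n : ℕ, locLen q = (p ^ n : ℕ) := by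
  haveI : IsPurelyInseparable (separableClosure k L) L := separableClosure.isPurelyInseparable k L
  haveI : Algebra.IsSeparable k (separableClosure k L) := separableClosure.isSeparable k L
  haveI : FiniteDimensional (separableClosure k L) L :=
    IntermediateField.finiteDimensional_right (separableClosure k L)
  haveI : FiniteDimensional k (separableClosure k L) :=
    IntermediateField.finiteDimensional_left (separableClosure k L)
  exact finite_case_aux k p K L (separableClosure k L) q

end Groth.Agent.Lib.helper15.TensLen
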