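import Mathlib
import Groth.Agent.Lib.Helper15.TensLen2

/-!
# Lengths of localizations of tensor products of fields, part 3 (helper15)

* `isDomain_fractionRing_tensor` : `k(t) ⊗[k] K` is a domain.
* `isDomain_adjoin_tensor` : `F ⊗[k] K` is a domain for `F = k(x)` purely transcendental.
* `main` : for `L/k` finitely generated and `q` a minimal prime of `K ⊗[k] L`, the length of the local
  ring at `q` is a power of the exponential characteristic.
-/

set_option autoImplicit false
set_option linter.style.haveILetI false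

open TensorProduct

namespace Groth.Agent.Lib.helper15.TensLen

universe u

theorem isDomain_fractionRing_tensor (k K : Type u) [Field k] [Field K] [Algebra k K]
    (ι : Type u) : IsDomain (FractionRing (MvPolynomial ι k) ⊗[k] K) := by
  -- `S = P ⊗ K ≃ K[ι]` is a domain
  let e : (MvPolynomial ι k) ⊗[k] K ≃+* MvPolynomial ι K :=
    ((Algebra.TensorProduct.comm k (MvPolynomial ι k) K).toRingEquiv).trans
      (MvPolynomial.algebraTensorAlgEquiv k K).toRingEquiv
  haveI hS : IsDomain ((MvPolynomial ι k) ⊗[k] K) := e.toMulEquiv.isDomain _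
  haveI hloc : IsLocalization
      (Algebra.algebraMapSubmonoid ((MvPolynomial ι k) ⊗[k] K) (nonZeroDivisors (MvPolynomial ι k)))
      (((MvPolynomial ι k) ⊗[k] K) ⊗[MvPolynomial ι k] (FractionRing (MvPolynomial ι k))) :=
    IsLocalization.tensor (S := (MvPolynomial ι k) ⊗[k] K)
      (A := FractionRing (MvPolynomial ι k)) (nonZeroDivisors (MvPolynomial ι k))
  have hinj : Function.Injective
      (algebraMap (MvPolynomial ι k) ((MvPolynomial ι k) ⊗[k] K)) :=
    Algebra.TensorProduct.includeLeft_injective (S := k) (algebraMap k K).injective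
  have hle : Algebra.algebraMapSubmonoid ((MvPolynomial ι k) ⊗[k] K)
      (nonZeroDivisors (MvPolynomial ι k)) ≤ nonZeroDivisors ((MvPolynomial ι k) ⊗[k] K) := by
    rintro x ⟨p, hp, rfl⟩
    apply mem_nonZeroDivisors_of_ne_zero
    intro h0
    have : p = 0 := hinj (by rw [h0, map_zero])
    exact (nonZeroDivisors.ne_zero hp) this
  haveI hD := IsLocalization.isDomain_of_le_nonZeroDivisors (((MvPolynomial ι k) ⊗[k] K) ⊗[MvPolynomial ι k]
      (FractionRing (MvPolynomial ι k))) hle
  let e2 : (((MvPolynomial ι k) ⊗[k] K) ⊗[MvPolynomial ι k]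
      (FractionRing (MvPolynomial ι k))) ≃+* (FractionRing (MvPolynomial ι k) ⊗[k] K) :=
    ((Algebra.TensorProduct.comm (MvPolynomial ι k) ((MvPolynomial ι k) ⊗[k] K)
      (FractionRing (MvPolynomial ι k))).trans
      (Algebra.TensorProduct.cancelBaseChange k (MvPolynomial ι k) (MvPolynomial ι k)
        (FractionRing (MvPolynomial ι k)) K)).toRingEquiv
  exact e2.symm.toMulEquiv.isDomain (((MvPolynomial ι k) ⊗[k] K) ⊗[MvPolynomial ι k]
      (FractionRing (MvPolynomial ι k)))

theorem isDomain_adjoin_tensor (k K L : Type u) [Field k] [Field K] [Field L] [Algebra k K]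
    [Algebra k L] {ι : Type u} (x : ι → L) (hx : AlgebraicIndependent k x) :
    IsDomain ((IntermediateField.adjoin k (Set.range x)) ⊗[k] K) := by
  haveI := isDomain_fractionRing_tensor k K ι
  let e : (FractionRing (MvPolynomial ι k) ⊗[k] K) ≃ₐ[k]
      ((IntermediateField.adjoin k (Set.range x)) ⊗[k] K) :=
    Algebra.TensorProduct.congr hx.aevalEquivField AlgEquiv.refl
  exact e.symm.toMulEquiv.isDomain _

/-- auxiliary form of `main` with an abstract intermediate field `F`. -/
theorem main_aux (k K L : Type u) [Field k] [Field K] [Field L] [Algebra k K] [Algebra k L]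
    (p : ℕ) [ExpChar k p]
    (F : Type u) [Field F] [Algebra k F] [Algebra F L] [IsScalarTower k F L] [Module.Finite F L]
    [IsDomain (F ⊗[k] K)]
    (q : Ideal (K ⊗[k] L)) [q.IsPrime] (hq : q ∈ minimalPrimes (K ⊗[k] L)) :
    ∃ n : ℕ, locLen q = (p ^ n : ℕ) := by
  classical
  haveI : ExpChar F p := expChar_of_injective_algebraMap (algebraMap k F).injective p
  obtain ⟨q1, hq1, hcomap, h1⟩ := exists_prime_of_ringEquiv (swapEquiv k F K L) q
  have hd : Disjoint ((Algebra.algebraMapSubmonoid ((F ⊗[k] K) ⊗[F] L)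
      (nonZeroDivisors (F ⊗[k] K)) : Submonoid ((F ⊗[k] K) ⊗[F] L)) :
      Set ((F ⊗[k] K) ⊗[F] L)) (q1 : Set _) := by
    rw [Set.disjoint_left]
    rintro x ⟨d, hd, rfl⟩ hx
    -- `d ⊗ 1` is a nonzerodivisor of `B1`
    have hnzd : algebraMap (F ⊗[k] K) ((F ⊗[k] K) ⊗[F] L) d ∈
        nonZeroDivisors ((F ⊗[k] K) ⊗[F] L) := by
      rw [mem_nonZeroDivisors_iff_right]
      intro z hz
      have hinj : Function.Injective
          (LinearMap.rTensor L (LinearMap.mulLeft F d : (F ⊗[k] K) →ₗ[F] (F ⊗[k] K))) := by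
        apply Module.Flat.rTensor_preserves_injective_linearMap
        intro a b hab
        simp only [LinearMap.mulLeft_apply] at hab
        exact mul_left_cancel₀ (nonZeroDivisors.ne_zero hd) hab
      have hmul : ∀ z : (F ⊗[k] K) ⊗[F] L,
          LinearMap.rTensor L (LinearMap.mulLeft F d : (F ⊗[k] K) →ₗ[F] (F ⊗[k] K)) z =
            z * algebraMap (F ⊗[k] K) ((F ⊗[k] K) ⊗[F] L) d := by
        intro z
        induction z using TensorProduct.induction_on with
        | zero => simp
        | tmul a b =>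
          simp [Algebra.TensorProduct.algebraMap_apply, mul_comm]
        | add a b ha hb =>
          rw [map_add, ha, hb, add_mul]
      apply hinj
      rw [map_zero, hmul, hz]
    -- transport to `K ⊗ L`
    have h2 : (swapEquiv k F K L).symm (algebraMap (F ⊗[k] K) ((F ⊗[k] K) ⊗[F] L) d) ∈
        nonZeroDivisors (K ⊗[k] L) := by
      rw [mem_nonZeroDivisors_iff_right] at hnzd ⊢
      intro z hz
      have := hnzd ((swapEquiv k F K L) z) (by
        have h3 := congrArg (swapEquiv k F K L) hz
        rwa [map_mul, RingEquiv.apply_symm_apply, map_zero] at h3)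
      exact (swapEquiv k F K L).injective (by rw [this, map_zero])
    have h3 : (swapEquiv k F K L).symm (algebraMap (F ⊗[k] K) ((F ⊗[k] K) ⊗[F] L) d) ∈ q := by
      rw [← hcomap, Ideal.mem_comap]
      simpa using hx
    exact Set.disjoint_left.mp (Ideal.disjoint_nonZeroDivisors_of_mem_minimalPrimes hq) h3 h2
  obtain ⟨q2, hq2, h2⟩ := exists_prime_tensor F L (F ⊗[k] K) (nonZeroDivisors (F ⊗[k] K))
    (FractionRing (F ⊗[k] K)) q1 hd
  obtain ⟨n, hn⟩ := finite_case F p (FractionRing (F ⊗[k] K)) L q2
  exact ⟨n, by rw [h1, h2, hn]⟩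

theorem main (k K L : Type u) [Field k] [Field K] [Field L] [Algebra k K] [Algebra k L]
    (hL : (⊤ : IntermediateField k L).FG) (p : ℕ) [ExpChar k p]
    (q : Ideal (K ⊗[k] L)) [q.IsPrime] (hq : q ∈ minimalPrimes (K ⊗[k] L)) :
    ∃ n : ℕ, locLen q = (p ^ n : ℕ) := by
  obtain ⟨s, hs⟩ := exists_isTranscendenceBasis k L
  haveI : Algebra.IsAlgebraic (IntermediateField.adjoin k (Set.range ((↑) : s → L))) L :=
    hs.isAlgebraic_field
  haveI : Algebra.EssFiniteType k L := IntermediateField.fg_top_iff.mp hL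
  haveI : Algebra.EssFiniteType (IntermediateField.adjoin k (Set.range ((↑) : s → L))) L :=
    Algebra.EssFiniteType.of_comp k _ L
  haveI : Module.Finite (IntermediateField.adjoin k (Set.range ((↑) : s → L))) L :=
    Algebra.finite_of_essFiniteType_of_isAlgebraic
  haveI : IsDomain ((IntermediateField.adjoin k (Set.range ((↑) : s → L))) ⊗[k] K) :=
    isDomain_adjoin_tensor k K L _ hs.1
  exact main_aux k K L p (IntermediateField.adjoin k (Set.range ((↑) : s → L))) q hq

end Groth.Agent.Lib.helper15.TensLen
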