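import Mathlib
import Groth.Agent.Lib.Helper15.TensLen3

/-!
# Base change to the perfect closure: the algebra (helper15)

* `trdeg_square`: in a commutative square of fields with two opposite sides purely inseparable the
  other two sides have the same transcendence degree.
* `isPurelyInseparable_perfectClosure`: `k → PerfectClosure k p` is purely inseparable.
* `length_tensor_algebraic`: for `L/k` finitely generated and `K'/k` algebraic every localization of
  `L ⊗[k] K'` at a prime has length a power of the exponential characteristic.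
-/

set_option autoImplicit false
set_option linter.style.haveILetI false
universe u
open TensorProduct

namespace Groth.Agent.Lib.helper15.PerfBC

open Groth.Agent.Lib.helper15.TensLen

theorem trdeg_square {A B C E : Type u} [Field A] [Field B] [Field C] [Field E]
    (a : A →+* B) (b : B →+* E) (c : A →+* C) (d : C →+* E) (h : b.comp a = d.comp c)
    (hb : b.IsPurelyInseparable) (hc : c.IsPurelyInseparable) :
    (letI := a.toAlgebra
     Algebra.trdeg A B) =
    (letI := d.toAlgebra
     Algebra.trdeg C E) := by
  letI := a.toAlgebra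
  letI := b.toAlgebra
  letI := c.toAlgebra
  letI := d.toAlgebra
  letI : Algebra A E := (b.comp a).toAlgebra
  haveI : IsScalarTower A B E := IsScalarTower.of_algebraMap_eq (fun x => rfl)
  haveI : IsScalarTower A C E := IsScalarTower.of_algebraMap_eq (fun x => by
    change (b.comp a) x = d (c x)
    rw [h]
    rfl)
  haveI : IsPurelyInseparable B E := hb
  haveI : IsPurelyInseparable A C := hc
  have h1 := trdeg_add_eq A B (A := E)
  have h2 := trdeg_add_eq A C (A := E)
  rw [trdeg_eq_zero (R := B) (A := E), add_zero] at h1
  rw [trdeg_eq_zero (R := A) (A := C), zero_add] at h2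
  change Algebra.trdeg A B = Algebra.trdeg C E
  rw [h1, h2]

theorem isPurelyInseparable_perfectClosure (k : Type u) [Field k] (p : ℕ) [Fact p.Prime]
    [CharP k p] : (PerfectClosure.of k p).IsPurelyInseparable := by
  letI := (PerfectClosure.of k p).toAlgebra
  change IsPurelyInseparable k (PerfectClosure k p)
  haveI : ExpChar k p := ExpChar.prime Fact.out
  rw [isPurelyInseparable_iff_pow_mem k p]
  intro x
  induction x using PerfectClosure.induction_on with
  | _ x =>
    obtain ⟨n, a⟩ := x
    refine ⟨n, a, ?_⟩
    rw [← iterate_frobenius, PerfectClosure.iterate_frobenius_mk]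
    rfl

theorem length_tensor_algebraic (k K' L : Type u) [Field k] [Field K'] [Field L] [Algebra k K']
    [Algebra k L] [Algebra.IsAlgebraic k K'] (hL : (⊤ : IntermediateField k L).FG) (p : ℕ)
    [ExpChar k p] (q : Ideal (L ⊗[k] K')) [q.IsPrime] : ∃ n : ℕ, locLen q = (p ^ n : ℕ) := by
  haveI : Algebra.IsIntegral k K' := Algebra.IsAlgebraic.isIntegral
  haveI : Algebra.IsIntegral L (L ⊗[k] K') := inferInstance
  have hdim : Ring.KrullDimLE 0 (L ⊗[k] K') := by
    rw [Ring.krullDimLE_zero_iff]
    intro I hI
    apply Ideal.isMaximal_of_isIntegral_of_isMaximal_comap (R := L) I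
    have : I.comap (algebraMap L (L ⊗[k] K')) = ⊥ :=
      Ideal.eq_bot_of_prime _
    rw [this]
    exact Ideal.bot_isMaximal
  let e : L ⊗[k] K' ≃+* K' ⊗[k] L := (Algebra.TensorProduct.comm k L K').toRingEquiv
  have hdim' : Ring.KrullDimLE 0 (K' ⊗[k] L) := by
    rw [Ring.krullDimLE_iff] at hdim ⊢
    rwa [← ringKrullDim_eq_of_ringEquiv e]
  obtain ⟨q', hq', -, hlen⟩ := exists_prime_of_ringEquiv e q
  have hmin : q' ∈ minimalPrimes (K' ⊗[k] L) := Ideal.mem_minimalPrimes_iff_isPrime.mpr hq'
  obtain ⟨n, hn⟩ := main k K' L hL p q' hmin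
  exact ⟨n, hlen.trans hn⟩

end Groth.Agent.Lib.helper15.PerfBC
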