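import Mathlib
import Groth.Agent.Lib.Helper15.PerfBC1
import Groth.Agent.Lib.Helper17.FieldBC

/-!
# Base change of a scheme of finite type over a field along a purely inseparable extension (helper15)

For a cartesian square `X' = X ×_{Spec k} Spec K'` with `K'/k` purely inseparable:
* `bijective_of_isPullback`: `X' ⟶ X` is bijective on points;
* `trdeg_eq_of_isPullback`: `trdeg κ(x')/K' = trdeg κ(x)/k`;
* `length_fibRing_eq_pow`: the closed fibre ring `O_{X',x'}/m_x O_{X',x'}` has length a power of `p`.
-/

set_option autoImplicit false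
set_option linter.style.haveILetI false
universe u
open CategoryTheory CategoryTheory.Limits AlgebraicGeometry IsLocalRing TensorProduct

namespace Groth.Agent.Lib.helper15.PerfBC

open Groth.Agent.Lib.helper15.TensLen Groth.Agent.Lib.helper17.FibreStalk
  Groth.Agent.Lib.helper17.FieldBC

theorem isPurelyInseparable_of_surjective {A A' : Type u} [Field A] [Field A'] (σ : A →+* A')
    (hσ : Function.Surjective σ) : σ.IsPurelyInseparable := by
  letI := σ.toAlgebra
  change IsPurelyInseparable A A'
  refine ⟨⟨fun x => ?_⟩, fun x _ => hσ x⟩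
  obtain ⟨y, rfl⟩ := hσ x
  exact isIntegral_algebraMap

theorem universallyInjective_specMap {k K' : Type u} [Field k] [Field K'] (φ : k →+* K')
    (hφ : φ.IsPurelyInseparable) : UniversallyInjective (Spec.map (CommRingCat.ofHom φ)) := by
  letI := φ.toAlgebra
  haveI : IsPurelyInseparable k K' := hφ
  refine ((tfae_universallyInjective _).out 0 1).mpr ?_
  intro L _ g₁ g₂ hg
  obtain ⟨φ₁, rfl⟩ := Spec.map_surjective g₁
  obtain ⟨φ₂, rfl⟩ := Spec.map_surjective g₂
  simp only [← Spec.map_comp] at hg
  have h := Spec.map_injective hg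
  congr 1
  ext : 1
  apply IsPurelyInseparable.injective_comp_algebraMap k K' L
  exact congrArg CommRingCat.Hom.hom h

theorem surjective_specMap {k K' : Type u} [Field k] [Field K'] (φ : k →+* K') :
    Surjective (Spec.map (CommRingCat.ofHom φ)) := by
  refine ⟨fun z => ?_⟩
  obtain ⟨w⟩ : Nonempty (Spec (CommRingCat.of K')) := inferInstance
  haveI : Subsingleton (PrimeSpectrum k) := inferInstance
  exact ⟨w, Subsingleton.elim (α := PrimeSpectrum k) _ _⟩

section

variable {k K' : Type u} [Field k] [Field K'] (φ : k →+* K') (hφ : φ.IsPurelyInseparable)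
  {X X' : Scheme.{u}} {f : X ⟶ Spec (CommRingCat.of k)} {f' : X' ⟶ Spec (CommRingCat.of K')}
  {g' : X' ⟶ X} (hc : IsPullback g' f' f (Spec.map (CommRingCat.ofHom φ)))

include hφ hc in
theorem universallyInjective_of_isPullback : UniversallyInjective g' :=
  MorphismProperty.of_isPullback hc.flip (universallyInjective_specMap φ hφ)

include hφ hc in
theorem bijective_of_isPullback : Function.Bijective g' := by
  haveI := universallyInjective_of_isPullback φ hφ hc
  haveI : Surjective g' :=
    MorphismProperty.of_isPullback (P := @Surjective) hc.flip (surjective_specMap φ)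
  exact ⟨g'.injective, g'.surjective⟩

include hφ hc in
theorem trdeg_eq_of_isPullback (x' : X') :
    (letI := (f.residueFieldMap (g' x')).hom.toAlgebra
     Algebra.trdeg ((Spec (CommRingCat.of k)).residueField (f (g' x'))) (X.residueField (g' x'))) =
    (letI := (f'.residueFieldMap x').hom.toAlgebra
     Algebra.trdeg ((Spec (CommRingCat.of K')).residueField (f' x')) (X'.residueField x')) := by
  set g := Spec.map (CommRingCat.ofHom φ) with hg
  haveI hgi : UniversallyInjective g := universallyInjective_specMap φ hφ
  haveI hg'i : UniversallyInjective g' := universallyInjective_of_isPullback φ hφ hc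
  have h1 := ((tfae_universallyInjective g').out 0 2).mp hg'i
  have h2 := ((tfae_universallyInjective g).out 0 2).mp hgi
  have e : g' ≫ f = f' ≫ g := hc.w
  have e1 := Scheme.residueFieldMap_comp g' f x'
  have e2 := Scheme.residueFieldMap_comp f' g x'
  have e3 := Scheme.Hom.residueFieldMap_congr e x'
  have hpt : (g' ≫ f) x' = (f' ≫ g) x' := by rw [e]
  set σ := ((Spec (CommRingCat.of k)).residueFieldCongr hpt).hom with hσ
  have hσsurj : Function.Surjective σ.hom := by
    have : IsIso σ := by rw [hσ]; infer_instance
    exact ((ConcreteCategory.isIso_iff_bijective σ).mp this).2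
  refine trdeg_square (f.residueFieldMap (g' x')).hom (g'.residueFieldMap x').hom
    ((g.residueFieldMap (f' x')).hom.comp σ.hom) (f'.residueFieldMap x').hom ?_ (h1.2 x') ?_
  · have h3 : f.residueFieldMap (g' x') ≫ g'.residueFieldMap x' =
        σ ≫ (g.residueFieldMap (f' x') ≫ f'.residueFieldMap x') :=
      e1.symm.trans (e3.trans (congrArg (fun t => σ ≫ t) e2))
    have h4 := congrArg CommRingCat.Hom.hom h3
    exact h4
  · exact RingHom.IsPurelyInseparable.comp (isPurelyInseparable_of_surjective _ hσsurj)
      (h2.2 (f' x'))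

include hφ hc in
theorem length_fibRing_eq_pow [LocallyOfFiniteType f] (p : ℕ) [ExpChar k p] (x' : X') :
    ∃ n : ℕ, Module.length (X'.presheaf.stalk x') (FibRing g' x') = (p ^ n : ℕ) := by
  let ψ : CommRingCat.of k ⟶ X.residueField (g' x') :=
    Spec.preimage (X.fromSpecResidueField (g' x') ≫ f)
  have hψ : X.fromSpecResidueField (g' x') ≫ f = Spec.map ψ := (Spec.map_preimage _).symm
  obtain ⟨q, hq, ⟨e⟩⟩ := exists_fibRing_equiv_localization
    (K := CommRingCat.of k) (K' := CommRingCat.of K') (φ := CommRingCat.ofHom φ) hc x' ψ hψ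
  letI := ψ.hom.toAlgebra
  letI := φ.toAlgebra
  haveI : IsPurelyInseparable k K' := hφ
  haveI : Algebra.IsAlgebraic k K' := IsPurelyInseparable.isAlgebraic k K'
  have hess : ψ.hom.EssFiniteType := essFiniteType_of_locallyOfFiniteType f (g' x') ψ hψ
  haveI : Algebra.EssFiniteType k (X.residueField (g' x')) := hess
  have hL : (⊤ : IntermediateField k (X.residueField (g' x'))).FG :=
    IntermediateField.fg_top k (X.residueField (g' x'))
  obtain ⟨n, hn⟩ := length_tensor_algebraic k K' (X.residueField (g' x')) hL p q
  refine ⟨n, ?_⟩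
  rw [Module.length_eq_of_surjective (S := X'.presheaf.stalk x') (R := FibRing g' x')
    (M := FibRing g' x') Ideal.Quotient.mk_surjective]
  rw [length_self_ringEquiv e]
  exact hn

end

end Groth.Agent.Lib.helper15.PerfBC
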