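import Mathlib
import Groth.Agent.Lib.Helper15.TensLen2

/-!
# Lengths of local rings of `K ⊗[k] L` divide the inseparable degree (helper15)

* `purelyInsep_locLen_dvd`: for `k'/k` finite purely inseparable and any field `K/k`, the length of
  the local ring `K ⊗[k] k'` divides `[k' : k]`.
* `finite_case_dvd`: for `L/k` finite and any field `K/k`, the length of the local ring of
  `K ⊗[k] L` at any prime divides the inseparable degree `[L : k]_i`.
-/

set_option autoImplicit false
set_option linter.style.haveILetI false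

open TensorProduct

namespace Groth.Agent.Lib.helper15.TensLen

universe u

theorem purelyInsep_locLen_dvd (k : Type u) [Field k] (K : Type u) [Field K]
    [Algebra k K] (k' : Type u) [Field k'] [Algebra k k'] [FiniteDimensional k k']
    [IsPurelyInseparable k k'] (P : Ideal (K ⊗[k] k')) [hP : P.IsPrime] :
    ∃ a : ℕ, locLen P = (a : ℕ∞) ∧ a ∣ Module.finrank k k' := by
  classical
  have hhomeo := PrimeSpectrum.isHomeomorph_comap_of_isPurelyInseparable k k' K
  have hnt : Nontrivial (K ⊗[k] k') := by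
    obtain ⟨P, -⟩ := hhomeo.bijective.2 (⟨⊥, Ideal.isPrime_bot⟩ : PrimeSpectrum K)
    exact ⟨⟨0, 1, fun h => P.isPrime.ne_top ((Ideal.eq_top_iff_one _).mpr (h ▸ P.asIdeal.zero_mem))⟩⟩
  have hsub : ∀ P Q : PrimeSpectrum (K ⊗[k] k'), P = Q := by
    intro P Q
    apply hhomeo.bijective.1
    apply PrimeSpectrum.ext
    rw [Ideal.eq_bot_of_prime (PrimeSpectrum.comap (algebraMap K (K ⊗[k] k')) P).asIdeal,
      Ideal.eq_bot_of_prime (PrimeSpectrum.comap (algebraMap K (K ⊗[k] k')) Q).asIdeal]
  have hloc : IsLocalRing (K ⊗[k] k') := by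
    obtain ⟨m, hm⟩ := Ideal.exists_maximal (K ⊗[k] k')
    refine IsLocalRing.of_unique_max_ideal ⟨m, hm, fun m' hm' => ?_⟩
    have := hsub ⟨m', hm'.isPrime⟩ ⟨m, hm.isPrime⟩
    exact congrArg PrimeSpectrum.asIdeal this
  have hunits : P.primeCompl ≤ IsUnit.submonoid (K ⊗[k] k') := by
    intro x hx
    by_contra hxu
    obtain ⟨m, hm, hxm⟩ := exists_max_ideal_of_mem_nonunits (show x ∈ nonunits _ from hxu)
    have := hsub ⟨m, hm.isPrime⟩ ⟨P, hP⟩
    have hmP : m = P := congrArg PrimeSpectrum.asIdeal this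
    exact hx (hmP ▸ hxm)
  have hlocLen : locLen P = Module.length (K ⊗[k] k') (K ⊗[k] k') :=
    (length_self_ringEquiv
      (IsLocalization.atUnits (K ⊗[k] k') P.primeCompl (S := Localization.AtPrime P)
        hunits).toRingEquiv).symm
  rw [hlocLen]
  have hlh : IsLocalHom (algebraMap K (K ⊗[k] k')) := by
    refine ⟨fun a ha => ?_⟩
    rw [isUnit_iff_ne_zero]
    rintro rfl
    rw [map_zero] at ha
    exact not_isUnit_zero ha
  have hlen := IsLocalRing.length_restrictScalars K (K ⊗[k] k') (K ⊗[k] k')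
  rw [Module.length_eq_finrank, Module.finrank_baseChange] at hlen
  have hb0 : Module.length (IsLocalRing.ResidueField K) (IsLocalRing.ResidueField (K ⊗[k] k')) ≠ 0 := by
    simpa [pos_iff_ne_zero] using
      (Module.length_pos (R := IsLocalRing.ResidueField K)
        (M := IsLocalRing.ResidueField (K ⊗[k] k')))
  have ha0 : Module.length (K ⊗[k] k') (K ⊗[k] k') ≠ 0 := by
    simpa [pos_iff_ne_zero] using
      (Module.length_pos (R := K ⊗[k] k') (M := K ⊗[k] k'))
  have hatop : Module.length (K ⊗[k] k') (K ⊗[k] k') ≠ ⊤ := by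
    intro h
    rw [h, ENat.top_mul hb0] at hlen
    exact ENat.natCast_ne_top _ hlen
  have hbtop : Module.length (IsLocalRing.ResidueField K)
      (IsLocalRing.ResidueField (K ⊗[k] k')) ≠ ⊤ := by
    intro h
    rw [h, ENat.mul_top ha0] at hlen
    exact ENat.natCast_ne_top _ hlen
  obtain ⟨a, ha⟩ := ENat.ne_top_iff_exists.mp hatop
  obtain ⟨b, hb⟩ := ENat.ne_top_iff_exists.mp hbtop
  rw [← ha, ← hb] at hlen
  have hab : a * b = Module.finrank k k' := by
    have : ((a * b : ℕ) : ℕ∞) = ((Module.finrank k k' : ℕ) : ℕ∞) := by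
      rw [Nat.cast_mul]
      exact hlen.symm
    exact_mod_cast this
  exact ⟨a, ha.symm, ⟨b, hab.symm⟩⟩

theorem finite_case_aux_dvd (k : Type u) [Field k] (K : Type u) [Field K]
    [Algebra k K] (L : Type u) [Field L] [Algebra k L]
    (E : Type u) [Field E] [Algebra k E] [Algebra E L] [IsScalarTower k E L]
    [FiniteDimensional k E] [Algebra.IsSeparable k E] [FiniteDimensional E L]
    [IsPurelyInseparable E L]
    (q : Ideal (K ⊗[k] L)) [q.IsPrime] :
    ∃ a : ℕ, locLen q = (a : ℕ∞) ∧ a ∣ Module.finrank E L := by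
  classical
  obtain ⟨hred, hdim⟩ := sep_tensor_props k K E
  obtain ⟨q1, hq1, -, h1⟩ := exists_prime_of_ringEquiv (swapEquiv k E K L) q
  let q0 : Ideal (E ⊗[k] K) := q1.comap (algebraMap (E ⊗[k] K) ((E ⊗[k] K) ⊗[E] L))
  haveI hq0 : q0.IsPrime := Ideal.comap_isPrime _ _
  have hq0min : q0 ∈ minimalPrimes (E ⊗[k] K) := Ideal.mem_minimalPrimes_iff_isPrime.mpr hq0
  haveI : Ring.KrullDimLE 0 (Localization.AtPrime q0) :=
    Ring.KrullDimLE.of_isLocalization q0 hq0min (Localization.AtPrime q0)
  have hfield : IsField (Localization.AtPrime q0) := Ring.KrullDimLE.isField_of_isReduced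
  have hbij : Function.Bijective (algebraMap (Localization.AtPrime q0) q0.ResidueField) := by
    refine ⟨?_, IsLocalRing.residue_surjective⟩
    rw [IsLocalRing.isField_iff_maximalIdeal_eq] at hfield
    rw [RingHom.injective_iff_ker_eq_bot]
    change RingHom.ker (IsLocalRing.residue (Localization.AtPrime q0)) = ⊥
    rw [IsLocalRing.ker_residue, hfield]
  haveI hloc0 : IsLocalization q0.primeCompl q0.ResidueField :=
    IsLocalization.isLocalization_of_algEquiv q0.primeCompl
      (AlgEquiv.ofBijective (IsScalarTower.toAlgHom (E ⊗[k] K) (Localization.AtPrime q0)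
        q0.ResidueField) hbij)
  letI : Algebra E q0.ResidueField :=
    ((algebraMap (E ⊗[k] K) q0.ResidueField).comp (algebraMap E (E ⊗[k] K))).toAlgebra
  haveI : IsScalarTower E (E ⊗[k] K) q0.ResidueField := IsScalarTower.of_algebraMap_eq fun _ => rfl
  have hd : Disjoint ((Algebra.algebraMapSubmonoid ((E ⊗[k] K) ⊗[E] L) q0.primeCompl :
      Submonoid ((E ⊗[k] K) ⊗[E] L)) : Set ((E ⊗[k] K) ⊗[E] L)) (q1 : Set _) := by
    rw [Set.disjoint_left]
    rintro x ⟨b, hb, rfl⟩ hx
    exact hb hx
  obtain ⟨q2, hq2, h2⟩ := exists_prime_tensor E L (E ⊗[k] K) q0.primeCompl q0.ResidueField q1 hd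
  obtain ⟨a, ha, hdvd⟩ := purelyInsep_locLen_dvd E q0.ResidueField L q2
  exact ⟨a, by rw [h1, h2, ha], hdvd⟩

theorem finite_case_dvd (k : Type u) [Field k] (K : Type u) [Field K]
    [Algebra k K] (L : Type u) [Field L] [Algebra k L] [FiniteDimensional k L]
    (q : Ideal (K ⊗[k] L)) [q.IsPrime] :
    ∃ a : ℕ, locLen q = (a : ℕ∞) ∧ a ∣ Field.finInsepDegree k L := by
  haveI : IsPurelyInseparable (separableClosure k L) L := separableClosure.isPurelyInseparable k L
  haveI : Algebra.IsSeparable k (separableClosure k L) := separableClosure.isSeparable k L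
  haveI : FiniteDimensional (separableClosure k L) L :=
    IntermediateField.finiteDimensional_right (separableClosure k L)
  haveI : FiniteDimensional k (separableClosure k L) :=
    IntermediateField.finiteDimensional_left (separableClosure k L)
  exact finite_case_aux_dvd k K L (separableClosure k L) q

end Groth.Agent.Lib.helper15.TensLen
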