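import Mathlib
import Groth.Agent.Lib.Helper15.TensLenDvd
import Groth.Agent.Lib.Helper15.PerfBC2

/-!
# Base change of a `k`-scheme along a finite normal extension `k'/k` (helper15)

`P = X ×_k Spec k'`, `pr : P ⟶ X` the first projection.
* `tAut f σ : P ⟶ P` the automorphism of `P` over `X` induced by `σ ∈ Aut(k'/k)`; `tAut_fst`,
  `tAut_snd`, `isIso_tAut`, `eq_tAut` (uniqueness).
* `exists_aut_of_fst_eq`: `Aut(k'/k)` acts transitively on the fibres of `pr` (for `k'/k` normal).
* `nonempty_fibRing_equiv_of_isIso`: closed fibre rings are invariant under isomorphisms over the base.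
* `length_fibRing_dvd`: the length of `O_{P,x'}/m_x O_{P,x'}` divides `[k':k]_i` (any cartesian square,
  `k'/k` finite).
* `surjective_fst`: `pr` is surjective.
-/

set_option autoImplicit false
set_option linter.style.haveILetI false
universe u
open CategoryTheory CategoryTheory.Limits AlgebraicGeometry IsLocalRing TensorProduct

namespace Groth.Agent.Lib.helper15.NormalBC

open Groth.Agent.Lib.helper15.TensLen Groth.Agent.Lib.helper17.FibreStalk
  Groth.Agent.Lib.helper17.FieldBC

/-- Closed fibre rings are invariant under isomorphisms over the base. -/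
theorem nonempty_fibRing_equiv_of_isIso {P Q X : Scheme.{u}} (t : P ⟶ Q) [IsIso t] (g : Q ⟶ X)
    (f : P ⟶ X) (h : t ≫ g = f) (x : P) : Nonempty (FibRing g (t x) ≃+* FibRing f x) := by
  subst h
  haveI : IsIso (t.stalkMap x) := inferInstance
  refine ⟨Ideal.quotientEquiv _ _ (asIso (t.stalkMap x)).commRingCatIsoToRingEquiv ?_⟩
  have h1 : (((t ≫ g).stalkMap x).hom : X.presheaf.stalk (g (t x)) →+* P.presheaf.stalk x) =
      (t.stalkMap x).hom.comp (g.stalkMap (t x)).hom := by
    rw [Scheme.Hom.stalkMap_comp]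
    rfl
  exact (congrArg (fun φ : (X.presheaf.stalk (g (t x))) →+* (P.presheaf.stalk x) =>
    Ideal.map φ (maximalIdeal _)) h1).trans (Ideal.map_map _ _).symm

section

variable {k k' : Type u} [Field k] [Field k'] [Algebra k k'] {X : Scheme.{u}}
  (f : X ⟶ Spec (CommRingCat.of k))

/-- The automorphism of `X ×_k k'` over `X` induced by `σ ∈ Aut(k'/k)`. -/
noncomputable def tAut (σ : k' ≃ₐ[k] k') :
    pullback f (Spec.map (CommRingCat.ofHom (algebraMap k k'))) ⟶
      pullback f (Spec.map (CommRingCat.ofHom (algebraMap k k'))) :=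
  pullback.lift (pullback.fst f _)
    (pullback.snd f _ ≫ Spec.map (CommRingCat.ofHom σ.toAlgHom.toRingHom)) (by
      rw [Category.assoc, ← Spec.map_comp, ← CommRingCat.ofHom_comp]
      have : σ.toAlgHom.toRingHom.comp (algebraMap k k') = algebraMap k k' := by
        ext a
        simp
      rw [this]
      exact pullback.condition)

@[reassoc (attr := simp)]
theorem tAut_fst (σ : k' ≃ₐ[k] k') : tAut f σ ≫ pullback.fst f _ = pullback.fst f _ :=
  pullback.lift_fst _ _ _

@[reassoc (attr := simp)]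
theorem tAut_snd (σ : k' ≃ₐ[k] k') : tAut f σ ≫ pullback.snd f _ =
    pullback.snd f _ ≫ Spec.map (CommRingCat.ofHom σ.toAlgHom.toRingHom) :=
  pullback.lift_snd _ _ _

theorem eq_tAut (σ : k' ≃ₐ[k] k')
    (t : pullback f (Spec.map (CommRingCat.ofHom (algebraMap k k'))) ⟶
      pullback f (Spec.map (CommRingCat.ofHom (algebraMap k k'))))
    (h1 : t ≫ pullback.fst f _ = pullback.fst f _)
    (h2 : t ≫ pullback.snd f _ =
      pullback.snd f _ ≫ Spec.map (CommRingCat.ofHom σ.toAlgHom.toRingHom)) : t = tAut f σ := by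
  apply pullback.hom_ext
  · rw [h1, tAut_fst]
  · rw [h2, tAut_snd]

theorem tAut_comp (σ τ : k' ≃ₐ[k] k') : tAut f σ ≫ tAut f τ = tAut f (τ.trans σ) := by
  apply eq_tAut
  · simp
  · rw [Category.assoc, tAut_snd, tAut_snd_assoc, ← Spec.map_comp,
      ← CommRingCat.ofHom_comp]
    rfl

theorem tAut_refl : tAut f (AlgEquiv.refl : k' ≃ₐ[k] k') = 𝟙 _ := by
  symm
  apply eq_tAut
  · simp
  · rw [Category.id_comp]
    have : (CommRingCat.ofHom (AlgEquiv.refl : k' ≃ₐ[k] k').toAlgHom.toRingHom) = 𝟙 _ := rfl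
    rw [this, Spec.map_id, Category.comp_id]

instance isIso_tAut (σ : k' ≃ₐ[k] k') : IsIso (tAut f σ) := by
  refine ⟨tAut f σ.symm, ?_, ?_⟩
  · rw [tAut_comp]
    have : σ.symm.trans σ = AlgEquiv.refl := by ext; simp
    rw [this, tAut_refl]
  · rw [tAut_comp]
    have : σ.trans σ.symm = AlgEquiv.refl := by ext; simp
    rw [this, tAut_refl]

/-- Two points with the same image are the images of two geometric points with the same image. -/
theorem exists_geometric_points {P X : Scheme.{u}} (pr : P ⟶ X) (x₁ x₂ : P) (h : pr x₁ = pr x₂) :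
    ∃ (Ω : Type u) (_ : Field Ω) (a1 a2 : Spec (CommRingCat.of Ω) ⟶ P), a1 ≫ pr = a2 ≫ pr ∧
      a1 (IsLocalRing.closedPoint Ω) = x₁ ∧ a2 (IsLocalRing.closedPoint Ω) = x₂ := by
  obtain ⟨z, hz1, hz2⟩ := Scheme.Pullback.exists_preimage_pullback (f := pr) (g := pr) x₁ x₂ h
  refine ⟨(pullback pr pr).residueField z, inferInstance,
    (pullback pr pr).fromSpecResidueField z ≫ pullback.fst pr pr,
    (pullback pr pr).fromSpecResidueField z ≫ pullback.snd pr pr, ?_, ?_, ?_⟩
  · simp only [Category.assoc, pullback.condition]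
  · exact (congrArg (fun w => (pullback.fst pr pr) w)
      (Scheme.fromSpecResidueField_apply z (IsLocalRing.closedPoint _))).trans hz1
  · exact (congrArg (fun w => (pullback.snd pr pr) w)
      (Scheme.fromSpecResidueField_apply z (IsLocalRing.closedPoint _))).trans hz2

/-- `Aut(k'/k)` acts transitively on the fibres of `X ×_k k' ⟶ X` when `k'/k` is normal. -/
theorem exists_aut_of_fst_eq [Normal k k']
    (x₁ x₂ : ↥(pullback f (Spec.map (CommRingCat.ofHom (algebraMap k k')))))
    (h : pullback.fst f (Spec.map (CommRingCat.ofHom (algebraMap k k'))) x₁ =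
      pullback.fst f (Spec.map (CommRingCat.ofHom (algebraMap k k'))) x₂) :
    ∃ σ : k' ≃ₐ[k] k', tAut f σ x₁ = x₂ := by
  obtain ⟨Ω, _, a1, a2, ha12, hpt1, hpt2⟩ := exists_geometric_points _ x₁ x₂ h
  have hc : pullback.fst f (Spec.map (CommRingCat.ofHom (algebraMap k k'))) ≫ f =
      pullback.snd f (Spec.map (CommRingCat.ofHom (algebraMap k k'))) ≫
        Spec.map (CommRingCat.ofHom (algebraMap k k')) := pullback.condition
  obtain ⟨τ1, hτ1⟩ : ∃ τ1 : CommRingCat.of k' ⟶ CommRingCat.of Ω, Spec.map τ1 =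
      a1 ≫ pullback.snd f (Spec.map (CommRingCat.ofHom (algebraMap k k'))) :=
    ⟨Spec.preimage _, Spec.map_preimage _⟩
  obtain ⟨τ2, hτ2⟩ : ∃ τ2 : CommRingCat.of k' ⟶ CommRingCat.of Ω, Spec.map τ2 =
      a2 ≫ pullback.snd f (Spec.map (CommRingCat.ofHom (algebraMap k k'))) :=
    ⟨Spec.preimage _, Spec.map_preimage _⟩
  have hcomp : CommRingCat.ofHom (algebraMap k k') ≫ τ1 =
      CommRingCat.ofHom (algebraMap k k') ≫ τ2 := by
    apply Spec.map_injective
    rw [Spec.map_comp, Spec.map_comp, hτ1, hτ2, Category.assoc, Category.assoc, ← hc,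
      ← Category.assoc, ← Category.assoc, ha12]
  letI : Algebra k' Ω := τ1.hom.toAlgebra
  letI : Algebra k Ω := (τ1.hom.comp (algebraMap k k')).toAlgebra
  haveI : IsScalarTower k k' Ω := IsScalarTower.of_algebraMap_eq fun _ => rfl
  let τ2' : k' →ₐ[k] Ω :=
    { τ2.hom with
      commutes' := fun r => by
        have := congrArg (fun φ => φ.hom r) hcomp
        exact this.symm }
  let σ : k' ≃ₐ[k] k' := Normal.algHomEquivAut k Ω k' τ2'
  have hσ : (IsScalarTower.toAlgHom k k' Ω).comp σ.toAlgHom = τ2' :=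
    (Normal.algHomEquivAut k Ω k').symm_apply_apply τ2'
  have hσ' : CommRingCat.ofHom σ.toAlgHom.toRingHom ≫ τ1 = τ2 := by
    ext b
    have := congrArg (fun φ => φ b) hσ
    exact this
  refine ⟨σ, ?_⟩
  have key : a1 ≫ tAut f σ = a2 := by
    apply pullback.hom_ext
    · rw [Category.assoc, tAut_fst]
      exact ha12
    · rw [Category.assoc, tAut_snd, ← Category.assoc, ← hτ1, ← hτ2, ← Spec.map_comp, hσ']
  rw [← hpt1, ← hpt2, ← key]
  rfl

end

/-- The length of the closed fibre ring of `X ×_k K' ⟶ X` at any point divides `[K':k]_i`. -/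
theorem length_fibRing_dvd {k K' : Type u} [Field k] [Field K'] (φ : k →+* K')
    (hfin : letI := φ.toAlgebra; FiniteDimensional k K')
    {X X' : Scheme.{u}} {f : X ⟶ Spec (CommRingCat.of k)} {f' : X' ⟶ Spec (CommRingCat.of K')}
    {g' : X' ⟶ X} (hc : IsPullback g' f' f (Spec.map (CommRingCat.ofHom φ))) (x' : X') :
    letI := φ.toAlgebra
    ∃ a : ℕ, Module.length (X'.presheaf.stalk x') (FibRing g' x') = (a : ℕ∞) ∧
      a ∣ Field.finInsepDegree k K' := by
  letI := φ.toAlgebra
  haveI : FiniteDimensional k K' := hfin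
  let ψ : CommRingCat.of k ⟶ X.residueField (g' x') :=
    Spec.preimage (X.fromSpecResidueField (g' x') ≫ f)
  have hψ : X.fromSpecResidueField (g' x') ≫ f = Spec.map ψ := (Spec.map_preimage _).symm
  obtain ⟨q, hq, ⟨e⟩⟩ := exists_fibRing_equiv_localization
    (K := CommRingCat.of k) (K' := CommRingCat.of K') (φ := CommRingCat.ofHom φ) hc x' ψ hψ
  letI := ψ.hom.toAlgebra
  obtain ⟨a, ha, hdvd⟩ := finite_case_dvd k (X.residueField (g' x')) K' q
  refine ⟨a, ?_, hdvd⟩
  rw [Module.length_eq_of_surjective (S := X'.presheaf.stalk x') (R := FibRing g' x')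
    (M := FibRing g' x') Ideal.Quotient.mk_surjective]
  rw [length_self_ringEquiv e]
  exact ha

/-- The projection `X ×_k K' ⟶ X` is surjective. -/
theorem surjective_of_isPullback {k K' : Type u} [Field k] [Field K'] (φ : k →+* K')
    {X X' : Scheme.{u}} {f : X ⟶ Spec (CommRingCat.of k)} {f' : X' ⟶ Spec (CommRingCat.of K')}
    {g' : X' ⟶ X} (hc : IsPullback g' f' f (Spec.map (CommRingCat.ofHom φ))) :
    Function.Surjective g' := by
  haveI : Surjective (Spec.map (CommRingCat.ofHom φ)) :=
    Groth.Agent.Lib.helper15.PerfBC.surjective_specMap φ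
  have : Surjective g' := MorphismProperty.of_isPullback (P := @Surjective) hc.flip inferInstance
  exact this.surj

end Groth.Agent.Lib.helper15.NormalBC
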