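import Mathlib
import Groth.Prelude.Def_CartDual
import Groth.Prelude.Def_CartDual2
import Groth.Agent.Lib.Helper15.ConstIso
import Groth.Agent.Lib.Helper22.CartDualConst
import Groth.Agent.Lib.Helper22.CartDualMon
import Groth.Agent.Lib.Helper22.CartDualAlphaP

/-!
# The dual algebra of a group scheme of prime order over an algebraically closed field is monogenic
(helper15)
-/

set_option autoImplicit false
set_option linter.style.haveILetI false
set_option linter.unusedSectionVars false
universe u v w
open scoped TensorProduct
open WithConv

namespace Groth.Agent.Lib.helper15.OTMonogenic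

open Groth.Agent.Lib.helper15.ConstIso

section Pow

variable {L : Type u} [Field L]

/-- powers of an injective function on a finite set are linearly independent -/
lemma li_pow_of_injective {G : Type v} [Fintype G] (c : G → L) (hc : Function.Injective c)
    (n : ℕ) (hn : n ≤ Fintype.card G) :
    LinearIndependent L (fun j : Fin n => c ^ (j : ℕ)) := by
  classical
  rw [Fintype.linearIndependent_iff]
  intro a ha j
  let P : Polynomial L := ∑ i : Fin n, Polynomial.C (a i) * Polynomial.X ^ (i : ℕ)
  have hdeg : P.degree < n := Polynomial.degree_sum_fin_lt a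
  have hP : P = 0 := by
    apply Polynomial.eq_zero_of_natDegree_lt_card_of_eval_eq_zero P hc
    · intro g
      have := congrFun ha g
      simp only [Finset.sum_apply, Pi.smul_apply, Pi.pow_apply, smul_eq_mul, Pi.zero_apply] at this
      simp only [P, Polynomial.eval_finsetSum, Polynomial.eval_mul, Polynomial.eval_C,
        Polynomial.eval_pow, Polynomial.eval_X]
      exact this
    · by_cases h0 : P = 0
      · rw [h0, Polynomial.natDegree_zero]
        rcases Nat.eq_zero_or_pos n with hn0 | hn0
        · subst hn0
          exact j.elim0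
        · omega
      · have := (Polynomial.natDegree_lt_iff_degree_lt h0).2 hdeg
        omega
  have hcoeff : P.coeff j = a j := by
    simp only [P, Polynomial.finsetSum_coeff, Polynomial.coeff_C_mul, Polynomial.coeff_X_pow]
    rw [Finset.sum_eq_single j]
    · simp
    · intro i _ hij
      rw [if_neg, mul_zero]
      intro h
      exact hij (Fin.ext h.symm)
    · intro h; exact absurd (Finset.mem_univ _) h
  rw [← hcoeff, hP, Polynomial.coeff_zero]

end Pow

section Transport

variable {L : Type u} [Field L] {B : Type v} [CommRing B] [Bialgebra L B]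
  [Module.Finite L B] {B' : Type w} [CommRing B'] [Bialgebra L B'] [Module.Finite L B']

/-- transport of a monogenic presentation of the dual algebra along a bialgebra isomorphism -/
lemma transport (e : B ≃ₐc[L] B') {C : Type*} [Ring C] [Algebra L C]
    (φ : C ≃ₐ[L] CartDual.D L B') {n : ℕ} (c : C)
    (hc : LinearIndependent L (fun j : Fin n => c ^ (j : ℕ))) :
    ∃ g : CartDual.D L B, LinearIndependent L (fun j : Fin n => g ^ (j : ℕ)) := by
  let tr : CartDual.D L B' →ₐc[L] CartDual.D L B := CartDual.transpose L (e : B →ₐc[L] B')
  have htr : Function.Injective tr := by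
    intro x y hxy
    apply WithConv.ofConv_injective
    apply LinearMap.ext
    intro b'
    obtain ⟨b, rfl⟩ := e.surjective b'
    have := congrArg (fun z : CartDual.D L B => z b) hxy
    exact this
  refine ⟨tr (φ c), ?_⟩
  have h1 : (fun j : Fin n => (tr (φ c)) ^ (j : ℕ)) =
      ((tr : CartDual.D L B' →ₐ[L] CartDual.D L B).toLinearMap.comp φ.toLinearMap) ∘
        (fun j : Fin n => c ^ (j : ℕ)) := by
    funext j
    simp only [Function.comp_apply, LinearMap.comp_apply, AlgEquiv.toLinearMap_apply,
      AlgHom.toLinearMap_apply, map_pow]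
    rfl
  rw [h1]
  apply hc.map'
  rw [LinearMap.ker_eq_bot]
  exact htr.comp φ.injective

end Transport

section Main

variable (L : Type u) [Field L] [IsAlgClosed L] (B : Type v) [CommRing B] [HopfAlgebra L B]
  (p : ℕ) [Fact p.Prime]

lemma li_T : LinearIndependent L (fun j : Fin p =>
    (MonoidAlgebra.single (Multiplicative.ofAdd (1 : ZMod p)) (1 : L) :
      MonoidAlgebra L (Multiplicative (ZMod p))) ^ (j : ℕ)) := by
  have h1 : (fun j : Fin p =>
      (MonoidAlgebra.single (Multiplicative.ofAdd (1 : ZMod p)) (1 : L) :
        MonoidAlgebra L (Multiplicative (ZMod p))) ^ (j : ℕ)) =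
      (MonoidAlgebra.basis (Multiplicative (ZMod p)) L) ∘
        (fun j : Fin p => Multiplicative.ofAdd (((j : ℕ) : ZMod p))) := by
    funext j
    rw [Function.comp_apply, MonoidAlgebra.basis_apply, MonoidAlgebra.single_pow, one_pow,
      ← ofAdd_nsmul, nsmul_eq_mul, mul_one]
  rw [h1]
  apply (MonoidAlgebra.basis (Multiplicative (ZMod p)) L).linearIndependent.comp
  intro i j hij
  have h2 : ((i : ℕ) : ZMod p) = ((j : ℕ) : ZMod p) := Multiplicative.ofAdd.injective hij
  rw [ZMod.natCast_eq_natCast_iff'] at h2
  rw [Nat.mod_eq_of_lt i.2, Nat.mod_eq_of_lt j.2] at h2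
  exact Fin.ext h2

theorem exists_monogenic (hB : Module.finrank L B = p) :
    ∃ g : CartDual.D L B, LinearIndependent L (fun j : Fin p => g ^ (j : ℕ)) := by
  classical
  have hpp : p.Prime := Fact.out
  haveI : Module.Finite L B := Module.finite_of_finrank_pos (by rw [hB]; exact hpp.pos)
  by_cases hred : IsReduced B
  · obtain ⟨e⟩ := nonempty_constEquiv_of_prime (k := L) (A := B) p hB
    exact transport e (Groth.Agent.Lib.helper22.CartDualConst.algEquiv L (Multiplicative (ZMod p)))
      _ (li_T L p)
  · have h0 : (p : L) = 0 := by
      by_contra h0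
      exact hred (isReduced_of_finrank_ne_zero (k := L) (A := B) (by rw [hB]; exact h0))
    haveI : CharP L p := by
      obtain ⟨q, hq⟩ := CharP.exists L
      have hdvd : q ∣ p := (CharP.cast_eq_zero_iff L q p).1 h0
      rcases (Nat.dvd_prime hpp).1 hdvd with h1 | h1
      · exact absurd h1 (CharP.char_ne_one L q)
      · rw [← h1]
        exact hq
    rcases nonempty_equiv_mu_or_alpha (k := L) (A := B) p hB hred with ⟨⟨e⟩⟩ | ⟨⟨e⟩⟩
    · -- `μ_p`: the dual algebra is the algebra of functions on `ℤ/p`
      let c : ConstGrp.F L (Multiplicative (ZMod p)) :=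
        fun g => (((Multiplicative.toAdd g).val : ℕ) : L)
      have hcinj : Function.Injective c := by
        intro g h hgh
        have h1 : (((Multiplicative.toAdd g).val : ℕ) : L) = ((Multiplicative.toAdd h).val : ℕ) :=
          hgh
        rw [CharP.natCast_eq_natCast L p] at h1
        have h2 := Nat.ModEq.eq_of_lt_of_lt h1 (ZMod.val_lt _) (ZMod.val_lt _)
        exact Multiplicative.toAdd.injective (ZMod.val_injective p h2)
      have hli : LinearIndependent L (fun j : Fin p => c ^ (j : ℕ)) := by
        apply li_pow_of_injective (G := Multiplicative (ZMod p)) c hcinj p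
        rw [Fintype.card_multiplicative, ZMod.card]
      exact transport e
        (Groth.Agent.Lib.helper22.CartDualMon.algEquiv L (Multiplicative (ZMod p))).symm c hli
    · -- `α_p`
      have hli : LinearIndependent L (fun j : Fin p => AlphaP.x p L ^ (j : ℕ)) := by
        have h1 : (fun j : Fin p => AlphaP.x p L ^ (j : ℕ)) = ⇑(AlphaP.basis p L) := by
          funext j
          rw [AlphaP.basis_apply]
        rw [h1]
        exact (AlphaP.basis p L).linearIndependent
      exact transport e (Groth.Agent.Lib.helper22.CartDualAlphaP.algEquiv p L) _ hli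

end Main

end Groth.Agent.Lib.helper15.OTMonogenic
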