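import Mathlib
import Groth.Agent.Lib.Helper15.CocommDescent
import Groth.Agent.Lib.Helper15.Gonflement
import Groth.Agent.Lib.Helper15.GenericGen
import Groth.Agent.Lib.Helper15.DualBC
import Groth.Agent.Lib.Helper15.OTMonogenic

/-!
# Finite locally free group schemes of prime order are commutative (helper15)

Oort–Tate, Theorem 1 (commutativity part): a commutative Hopf algebra which is finite projective of
constant prime rank `p` over any commutative ring is cocommutative.
-/

set_option autoImplicit false
set_option linter.style.haveILetI false
set_option linter.unusedSectionVars false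
universe u v
open scoped TensorProduct

namespace Groth.Agent.Lib.helper15.OTCocomm

open Groth.Agent.Lib.helper15.DualBC

/-- local base with infinite residue field -/
theorem isCocomm_of_infinite (R : Type u) [CommRing R] [IsLocalRing R]
    [Infinite (IsLocalRing.ResidueField R)] (p : ℕ) [Fact p.Prime] (A : Type v) [CommRing A]
    [HopfAlgebra R A] [Module.Finite R A] [Module.Projective R A]
    (hp : ∀ q : PrimeSpectrum R, Module.rankAtStalk A q = p) :
    Coalgebra.IsCocomm R A := by
  classical
  haveI : Module.Free R A := Module.free_of_flat_of_isLocalRing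
  have hfr : Module.finrank R A = p := by
    have h1 := hp (IsLocalRing.closedPoint R)
    rw [Module.rankAtStalk_eq_finrank_of_free] at h1
    exact h1
  let b : Module.Basis (Fin p) R A := Module.finBasisOfFinrankEq R A hfr
  have hL : ∀ r ∈ IsLocalRing.maximalIdeal R,
      algebraMap R (AlgebraicClosure (IsLocalRing.ResidueField R)) r = 0 := by
    intro r hr
    rw [IsScalarTower.algebraMap_apply R (IsLocalRing.ResidueField R)
      (AlgebraicClosure (IsLocalRing.ResidueField R)), IsLocalRing.ResidueField.algebraMap_eq,
      (IsLocalRing.residue_eq_zero_iff r).2 hr, map_zero]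
  have hB : Module.finrank (AlgebraicClosure (IsLocalRing.ResidueField R))
      (AlgebraicClosure (IsLocalRing.ResidueField R) ⊗[R] A) = p := by
    rw [Module.finrank_baseChange, hfr]
  obtain ⟨g', hg'⟩ := OTMonogenic.exists_monogenic
    (AlgebraicClosure (IsLocalRing.ResidueField R))
    (AlgebraicClosure (IsLocalRing.ResidueField R) ⊗[R] A) p hB
  obtain ⟨g, hg⟩ := GenericGen.exists_generator (dualB b) hL
    (dualB (Algebra.TensorProduct.basis (AlgebraicClosure (IsLocalRing.ResidueField R)) b))
    (beta R A (AlgebraicClosure (IsLocalRing.ResidueField R)))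
    (beta_smul R A (AlgebraicClosure (IsLocalRing.ResidueField R)))
    (beta_dualB b (AlgebraicClosure (IsLocalRing.ResidueField R))) g' hg'
  exact isCocomm_of_mul_comm b (GenericGen.mul_comm_of_span_pow g hg)

/-- local base -/
theorem isCocomm_of_local (R : Type u) [CommRing R] [IsLocalRing R]
    (p : ℕ) [Fact p.Prime] (A : Type v) [CommRing A]
    [HopfAlgebra R A] [Module.Finite R A] [Module.Projective R A]
    (hp : ∀ q : PrimeSpectrum R, Module.rankAtStalk A q = p) :
    Coalgebra.IsCocomm R A := by
  haveI := Gonflement.infinite_residueField R
  haveI : Coalgebra.IsCocomm (Gonflement.RX R) (Gonflement.RX R ⊗[R] A) :=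
    isCocomm_of_infinite (Gonflement.RX R) p (Gonflement.RX R ⊗[R] A) (fun q => by
      rw [Module.rankAtStalk_baseChange]
      exact hp _)
  exact CocommDescent.isCocomm_of_injective R A (Gonflement.RX R)
    (Gonflement.algebraMap_injective R)

/-- Oort–Tate: a finite locally free group scheme of prime order is commutative. -/
theorem isCocomm (R : Type u) [CommRing R]
    (p : ℕ) [Fact p.Prime] (A : Type v) [CommRing A]
    [HopfAlgebra R A] [Module.Finite R A] [Module.Projective R A]
    (hp : ∀ q : PrimeSpectrum R, Module.rankAtStalk A q = p) :
    Coalgebra.IsCocomm R A := by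
  apply CocommDescent.isCocomm_of_localization R A
  intro P hP
  exact isCocomm_of_local (Localization.AtPrime P) p (Localization.AtPrime P ⊗[R] A) (fun q => by
    rw [Module.rankAtStalk_baseChange]
    exact hp _)

end Groth.Agent.Lib.helper15.OTCocomm
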