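import Mathlib
import Groth.Prelude.Def_W4c5ffgsreadingcourseOT
import Groth.Agent.Lib.Helper15.TorsIdeal
import Groth.Agent.Lib.Helper15.VerschEtale

/-!
# Eigen-decomposition under an action of `(ZMod p)ˣ` (helper15)

`R` a commutative ring with `u * (p - 1) = 1`, `χ : (ZMod p)ˣ →* Rˣ` with `χ m - 1` a unit for `m ≠ 1`,
`ρ : (ZMod p)ˣ →* Module.End R M`.  The averaging operators `e i = u • ∑ m, χ(m⁻¹)^i • ρ m` are orthogonal
idempotents with sum `1` (for `i < p - 1`) projecting onto the `χ^i`-eigenspaces.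
-/

set_option autoImplicit false

namespace Groth.Agent.Lib.helper15.OTEigen

variable {p : ℕ} [Fact p.Prime] {R : Type*} [CommRing R]

section Char

variable (χ : (ZMod p)ˣ →* Rˣ) (hχ : ∀ m : (ZMod p)ˣ, m ≠ 1 → IsUnit ((χ m : R) - 1))

include hχ in
/-- orthogonality of the characters `χ^i`, `i < p - 1`. -/
lemma sum_char_eq_zero {i j : ℕ} (hi : i < p - 1) (hj : j < p - 1) (hij : i ≠ j) :
    ∑ m : (ZMod p)ˣ, ((χ m⁻¹ : Rˣ) : R) ^ j * ((χ m : Rˣ) : R) ^ i = 0 := by
  obtain ⟨g, hg⟩ := IsCyclic.exists_generator (α := (ZMod p)ˣ)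
  have hord : orderOf g = p - 1 := by
    rw [orderOf_eq_card_of_forall_mem_zpowers hg, Nat.card_eq_fintype_card, ZMod.card_units]
  obtain ⟨h, hh⟩ : ∃ h : (ZMod p)ˣ, h = g ^ i * (g ^ j)⁻¹ := ⟨_, rfl⟩
  have hne : h ≠ 1 := by
    intro h1
    have h2 : g ^ i = g ^ j := by
      rw [hh, mul_inv_eq_one] at h1
      exact h1
    have := pow_injOn_Iio_orderOf (x := g) (by rw [hord]; exact hi) (by rw [hord]; exact hj) h2
    exact hij this
  have hunit := hχ h hne
  set S : R := ∑ m : (ZMod p)ˣ, ((χ m⁻¹ : Rˣ) : R) ^ j * ((χ m : Rˣ) : R) ^ i with hS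
  have hc : ((χ h : Rˣ) : R) = ((χ g⁻¹ : Rˣ) : R) ^ j * ((χ g : Rˣ) : R) ^ i := by
    rw [hh, map_mul, map_inv, map_pow, map_pow, map_inv, Units.val_mul, mul_comm]
    push_cast
    rfl
  have key : ((χ h : Rˣ) : R) * S = S := by
    rw [hS, Finset.mul_sum, hc]
    refine Fintype.sum_equiv (Equiv.mulLeft g) _ _ fun m => ?_
    rw [Equiv.coe_mulLeft, mul_inv_rev, map_mul, map_mul, Units.val_mul, Units.val_mul]
    ring
  have h0 : (((χ h : Rˣ) : R) - 1) * S = 0 := by
    rw [sub_mul, key, one_mul, sub_self]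
  exact (hunit.mul_right_eq_zero).1 h0

include hχ in
/-- the geometric sum of `χ m⁻¹` vanishes for `m ≠ 1`. -/
lemma sum_pow_eq_zero (m : (ZMod p)ˣ) (hm : m ≠ 1) :
    ∑ i ∈ Finset.range (p - 1), ((χ m⁻¹ : Rˣ) : R) ^ i = 0 := by
  have hm' : m⁻¹ ≠ 1 := by
    intro h
    exact hm (inv_eq_one.1 h)
  have hunit := hχ m⁻¹ hm'
  have h1 : ((χ m⁻¹ : Rˣ) : R) ^ (p - 1) = 1 := by
    rw [← Units.val_pow_eq_pow_val, ← map_pow]
    have : (m⁻¹) ^ (p - 1) = 1 := by
      rw [← ZMod.card_units p]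
      exact pow_card_eq_one
    rw [this, map_one, Units.val_one]
  have h2 := mul_geom_sum (((χ m⁻¹ : Rˣ) : R)) (p - 1)
  rw [h1, sub_self] at h2
  exact (hunit.mul_right_eq_zero).1 h2

end Char

section Act

variable (u : R) (hu : u * ((p - 1 : ℕ) : R) = 1)
  (χ : (ZMod p)ˣ →* Rˣ) (hχ : ∀ m : (ZMod p)ˣ, m ≠ 1 → IsUnit ((χ m : R) - 1))
  {M : Type*} [AddCommGroup M] [Module R M] (ρ : (ZMod p)ˣ →* Module.End R M)

/-- the averaging operator. -/
noncomputable def e (i : ℕ) : Module.End R M :=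
  u • ∑ m : (ZMod p)ˣ, (((χ m⁻¹ : Rˣ) : R) ^ i) • ρ m

lemma e_apply (i : ℕ) (x : M) :
    e u χ ρ i x = u • ∑ m : (ZMod p)ˣ, (((χ m⁻¹ : Rˣ) : R) ^ i) • ρ m x := by
  simp [e, LinearMap.sum_apply]

lemma rho_e (k : (ZMod p)ˣ) (i : ℕ) (x : M) :
    ρ k (e u χ ρ i x) = (((χ k : Rˣ) : R) ^ i) • e u χ ρ i x := by
  rw [e_apply, map_smul, map_sum, smul_comm (((χ k : Rˣ) : R) ^ i) u]
  congr 1
  rw [Finset.smul_sum]
  refine Fintype.sum_equiv (Equiv.mulLeft k) _ _ fun m => ?_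
  rw [Equiv.coe_mulLeft, map_smul, smul_smul, map_mul ρ, Module.End.mul_apply]
  congr 1
  rw [mul_inv_rev, map_mul, Units.val_mul, mul_pow, mul_comm (((χ k : Rˣ) : R) ^ i), mul_assoc,
    ← mul_pow, ← Units.val_mul, ← map_mul, inv_mul_cancel, map_one, Units.val_one, one_pow, mul_one]

lemma e_rho (k : (ZMod p)ˣ) (i : ℕ) (x : M) :
    e u χ ρ i (ρ k x) = (((χ k : Rˣ) : R) ^ i) • e u χ ρ i x := by
  rw [← rho_e, e_apply, e_apply, map_smul, map_sum]
  congr 1
  refine Finset.sum_congr rfl fun m _ => ?_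
  rw [map_smul, ← Module.End.mul_apply, ← Module.End.mul_apply, ← map_mul, ← map_mul, mul_comm]

include hu in
lemma e_of_eigen {i : ℕ} {x : M} (hx : ∀ m, ρ m x = (((χ m : Rˣ) : R) ^ i) • x) :
    e u χ ρ i x = x := by
  rw [e_apply]
  have : ∀ m : (ZMod p)ˣ, (((χ m⁻¹ : Rˣ) : R) ^ i) • ρ m x = x := by
    intro m
    rw [hx, smul_smul, ← mul_pow, ← Units.val_mul, ← map_mul, inv_mul_cancel, map_one,
      Units.val_one, one_pow, one_smul]
  rw [Finset.sum_congr rfl fun m _ => this m, Finset.sum_const, Finset.card_univ, ZMod.card_units,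
    ← Nat.cast_smul_eq_nsmul R, smul_smul, hu, one_smul]

include hχ in
lemma e_of_eigen_ne {i j : ℕ} (hi : i < p - 1) (hj : j < p - 1) (hij : i ≠ j) {x : M}
    (hx : ∀ m, ρ m x = (((χ m : Rˣ) : R) ^ i) • x) :
    e u χ ρ j x = 0 := by
  rw [e_apply]
  have : ∀ m : (ZMod p)ˣ, (((χ m⁻¹ : Rˣ) : R) ^ j) • ρ m x =
      (((χ m⁻¹ : Rˣ) : R) ^ j * ((χ m : Rˣ) : R) ^ i) • x := by
    intro m
    rw [hx, smul_smul]
  rw [Finset.sum_congr rfl fun m _ => this m, ← Finset.sum_smul, sum_char_eq_zero χ hχ hi hj hij,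
    zero_smul, smul_zero]

include hu hχ in
lemma sum_e (x : M) : ∑ i ∈ Finset.range (p - 1), e u χ ρ i x = x := by
  simp_rw [e_apply]
  rw [← Finset.smul_sum, Finset.sum_comm]
  simp_rw [← Finset.sum_smul]
  rw [Finset.sum_eq_single (1 : (ZMod p)ˣ)]
  · rw [inv_one, map_one, Units.val_one, map_one]
    simp only [one_pow, Finset.sum_const, Finset.card_range, Module.End.one_apply]
    rw [nsmul_eq_mul, mul_one, smul_smul, hu, one_smul]
  · intro m _ hm
    rw [sum_pow_eq_zero χ hχ m hm, zero_smul]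
  · intro h
    exact absurd (Finset.mem_univ _) h

end Act

universe u

section Hopf

variable {R : Type u} [CommRing R] {A : Type u} [CommRing A] [HopfAlgebra R A]

lemma counit_powConv (n : ℕ) (a : A) :
    Coalgebra.counit (R := R) (SGA3b.powConv R A n a) = Coalgebra.counit (R := R) a := by
  induction n generalizing a with
  | zero =>
    rw [TorsIdeal.powConv_zero_apply]
    change Bialgebra.counitAlgHom R A (algebraMap R A _) = _
    rw [AlgHom.commutes]
    rfl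
  | succ n ih =>
    rw [TorsIdeal.powConv_succ_apply n a (Coalgebra.Repr.arbitrary R a)]
    change Bialgebra.counitAlgHom R A _ = _
    rw [map_sum]
    simp_rw [map_mul]
    change ∑ i ∈ _, Coalgebra.counit (R := R) (SGA3b.powConv R A n _) *
      Coalgebra.counit (R := R) _ = _
    simp_rw [ih]
    have h := Coalgebra.sum_counit_tmul_eq (R := R) (Coalgebra.Repr.arbitrary R a)
    have h2 := congrArg (LinearMap.mul' R R ∘ₗ
      (TensorProduct.map LinearMap.id (Coalgebra.counit (R := R) (A := A)))) h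
    simp only [map_sum, LinearMap.coe_comp, Function.comp_apply, TensorProduct.map_tmul,
      LinearMap.id_coe, id_eq, LinearMap.mul'_apply, one_mul] at h2
    exact h2

variable (p : ℕ) [Fact p.Prime] (hp : (WithConv.toConv (AlgHom.id R A)) ^ p = 1)

omit [Fact p.Prime] in
include hp in
lemma powConv_mod (n : ℕ) : SGA3b.powConv R A n = SGA3b.powConv R A (n % p) := by
  unfold SGA3b.powConv
  congr 1
  conv_lhs => rw [← Nat.div_add_mod n p, pow_add, pow_mul, hp, one_pow, one_mul]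

/-- the action of `(ZMod p)ˣ` on `A` by power maps, for `Spec A` killed by `p`. -/
noncomputable def rho : (ZMod p)ˣ →* Module.End R A where
  toFun m := (SGA3b.powConv R A (m : ZMod p).val).toLinearMap
  map_one' := by
    have h1 : ((1 : (ZMod p)ˣ) : ZMod p).val = 1 := by
      rw [Units.val_one]
      have : Fact (1 < p) := ⟨(Fact.out : p.Prime).one_lt⟩
      exact ZMod.val_one p
    rw [h1, VerschEtale.powConv_one]
    rfl
  map_mul' m k := by
    rw [Units.val_mul, ZMod.val_mul, ← powConv_mod p hp, ← VerschEtale.powConv_comp]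
    rfl

lemma rho_apply (m : (ZMod p)ˣ) (a : A) :
    rho p hp m a = SGA3b.powConv R A (m : ZMod p).val a := rfl

lemma proj_eq (u : R) (χ : (ZMod p)ˣ →* Rˣ) (i : ℕ) :
    OortTate.proj R A p u χ i = e u χ (rho p hp) i := rfl

lemma mem_eigenAug (χ : (ZMod p)ˣ →* Rˣ) (i : ℕ) (x : A) :
    x ∈ OortTate.eigenAug R A p χ i ↔ Coalgebra.counit (R := R) x = 0 ∧
      ∀ m : (ZMod p)ˣ, rho p hp m x = (((χ m : Rˣ) : R) ^ i) • x := by
  unfold OortTate.eigenAug
  rw [Submodule.mem_inf, Submodule.mem_iInf, LinearMap.mem_ker]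
  simp_rw [Module.End.mem_eigenspace_iff]
  rfl

lemma counit_e (u : R) (χ : (ZMod p)ˣ →* Rˣ) (i : ℕ) (x : A)
    (hx : Coalgebra.counit (R := R) x = 0) :
    Coalgebra.counit (R := R) (e u χ (rho p hp) i x) = 0 := by
  rw [e_apply, map_smul, map_sum]
  simp_rw [map_smul, rho_apply, counit_powConv, hx]
  simp

variable (u : R) (hu : u * ((p - 1 : ℕ) : R) = 1)
  (χ : (ZMod p)ˣ →* Rˣ) (hχ : ∀ m : (ZMod p)ˣ, m ≠ 1 → IsUnit ((χ m : R) - 1))

lemma e_mem_eigenAug (i : ℕ) (x : A) (hx : Coalgebra.counit (R := R) x = 0) :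
    e u χ (rho p hp) i x ∈ OortTate.eigenAug R A p χ i := by
  rw [mem_eigenAug p hp]
  exact ⟨counit_e p hp u χ i x hx, fun m => rho_e u χ (rho p hp) m i x⟩

include hu hp in
lemma eigenAug_eq_map (i : ℕ) :
    OortTate.eigenAug R A p χ i = Submodule.map (OortTate.proj R A p u χ i)
      (LinearMap.ker (Bialgebra.counitAlgHom R A).toLinearMap) := by
  apply le_antisymm
  · intro x hx
    rw [mem_eigenAug p hp] at hx
    refine ⟨x, hx.1, ?_⟩
    rw [proj_eq p hp]
    exact e_of_eigen u hu χ (rho p hp) hx.2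
  · rintro _ ⟨x, hx, rfl⟩
    rw [proj_eq p hp]
    exact e_mem_eigenAug p hp u χ i x hx

include hu hχ hp in
lemma iSup_eigenAug :
    (⨆ i : Fin (p - 1), OortTate.eigenAug R A p χ (i : ℕ)) =
      LinearMap.ker (Bialgebra.counitAlgHom R A).toLinearMap := by
  apply le_antisymm
  · refine iSup_le fun i x hx => ?_
    rw [mem_eigenAug p hp] at hx
    exact hx.1
  · intro x hx
    rw [← sum_e u hu χ hχ (rho p hp) x, Finset.sum_range]
    refine Submodule.sum_mem _ fun i _ => ?_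
    exact Submodule.mem_iSup_of_mem i (e_mem_eigenAug p hp u χ i x hx)

include hu hχ hp in
lemma iSupIndep_eigenAug :
    iSupIndep (fun i : Fin (p - 1) => OortTate.eigenAug R A p χ (i : ℕ)) := by
  intro i
  rw [Submodule.disjoint_def]
  intro x hx hx'
  have h1 : e u χ (rho p hp) i x = x := by
    rw [mem_eigenAug p hp] at hx
    exact e_of_eigen u hu χ (rho p hp) hx.2
  have h2 : (⨆ j, ⨆ (_ : j ≠ i), OortTate.eigenAug R A p χ (j : ℕ)) ≤
      LinearMap.ker (e u χ (rho p hp) (i : ℕ)) := by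
    refine iSup_le fun j => iSup_le fun hj y hy => ?_
    rw [mem_eigenAug p hp] at hy
    rw [LinearMap.mem_ker]
    exact e_of_eigen_ne u χ hχ (rho p hp) j.2 i.2 (fun h => hj (Fin.ext h)) hy.2
  rw [← h1]
  exact h2 hx'

end Hopf

end Groth.Agent.Lib.helper15.OTEigen
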