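import Mathlib
import Groth.Prelude.Def_W4c5ffgsreadingcourseOT
import Groth.Prelude.Def_CartDual2
import Groth.Agent.Lib.Helper15.OTEigen

/-!
# Power maps and eigenspaces on the Cartier dual (helper15)
-/

set_option autoImplicit false

universe u

namespace Groth.Agent.Lib.helper15.OTDual

open Groth.Agent.Lib.helper15.OTEigen TensorProduct

variable {R : Type u} [CommRing R] {A : Type u} [CommRing A] [HopfAlgebra R A]
  [Coalgebra.IsCocomm R A] [Module.Finite R A] [Module.Projective R A]

/-- the pairing of a comultiplied form with a pair of elements. -/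
lemma sum_repr_apply (f : CartDual.D R A) {ι : Type*} (𝓡 : Coalgebra.Repr R f ι) (b c : A) :
    ∑ i ∈ 𝓡.index, (𝓡.left i).ofConv b * (𝓡.right i).ofConv c = f.ofConv (b * c) := by
  have h1 := CartDual.ev₂_coalgebra_comul_tmul R A f b c
  rw [← 𝓡.eq, map_sum, LinearMap.sum_apply] at h1
  rw [← CartDual.coe_apply, ← h1]
  refine Finset.sum_congr rfl fun i _ => ?_
  rw [CartDual.ev₂_tmul]

/-- the power maps of the dual are the transposes of the power maps. -/
lemma powConv_dual (n : ℕ) (f : CartDual.D R A) (a : A) :
    (SGA3b.powConv R (CartDual.D R A) n f).ofConv a = f.ofConv (SGA3b.powConv R A n a) := by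
  induction n generalizing f a with
  | zero =>
    rw [TorsIdeal.powConv_zero_apply, TorsIdeal.powConv_zero_apply, Algebra.algebraMap_eq_smul_one,
      Algebra.algebraMap_eq_smul_one, map_smul, WithConv.ofConv_smul, LinearMap.smul_apply,
      CartDual.coalgebra_counit_apply]
    change f.ofConv 1 • (algebraMap R R (Coalgebra.counit (R := R) a)) = _
    rw [smul_eq_mul, smul_eq_mul, mul_comm]
    rfl
  | succ n ih =>
    rw [TorsIdeal.powConv_succ_apply n f (Coalgebra.Repr.arbitrary R f),
      TorsIdeal.powConv_succ_apply n a (Coalgebra.Repr.arbitrary R a), map_sum,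
      WithConv.ofConv_sum, LinearMap.sum_apply]
    have h1 : ∀ i ∈ (Coalgebra.Repr.arbitrary R f).index,
        (SGA3b.powConv R (CartDual.D R A) n ((Coalgebra.Repr.arbitrary R f).left i) *
          (Coalgebra.Repr.arbitrary R f).right i).ofConv a =
        ∑ j ∈ (Coalgebra.Repr.arbitrary R a).index,
          ((Coalgebra.Repr.arbitrary R f).left i).ofConv
            (SGA3b.powConv R A n ((Coalgebra.Repr.arbitrary R a).left j)) *
          ((Coalgebra.Repr.arbitrary R f).right i).ofConv ((Coalgebra.Repr.arbitrary R a).right j) := by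
      intro i _
      rw [← CartDual.coe_apply, LinearMap.convMul_apply, ← (Coalgebra.Repr.arbitrary R a).eq,
        map_sum, map_sum]
      refine Finset.sum_congr rfl fun j _ => ?_
      rw [TensorProduct.map_tmul, LinearMap.mul'_apply, ih]
    rw [Finset.sum_congr rfl h1, Finset.sum_comm]
    refine Finset.sum_congr rfl fun j _ => ?_
    exact sum_repr_apply f _ _ _

variable (p : ℕ) [Fact p.Prime] (hp : (WithConv.toConv (AlgHom.id R A)) ^ p = 1)

include hp in
lemma hp_dual : (WithConv.toConv (AlgHom.id R (CartDual.D R A))) ^ p = 1 := by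
  apply WithConv.ofConv_injective
  apply AlgHom.ext
  intro f
  apply WithConv.ext
  apply LinearMap.ext
  intro a
  change (SGA3b.powConv R (CartDual.D R A) p f).ofConv a =
    (algebraMap R (CartDual.D R A) (Coalgebra.counit (R := R) f)).ofConv a
  rw [powConv_dual]
  have h1 : SGA3b.powConv R A p a = algebraMap R A (Coalgebra.counit (R := R) a) := by
    unfold SGA3b.powConv
    rw [hp]
    rfl
  rw [h1, Algebra.algebraMap_eq_smul_one, Algebra.algebraMap_eq_smul_one, map_smul,
    WithConv.ofConv_smul, LinearMap.smul_apply, CartDual.coalgebra_counit_apply]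
  change _ = f.ofConv 1 • (algebraMap R R (Coalgebra.counit (R := R) a))
  rw [smul_eq_mul, smul_eq_mul, mul_comm]
  rfl

lemma rho_dual (m : (ZMod p)ˣ) (f : CartDual.D R A) (a : A) :
    (rho p (hp_dual p hp) m f).ofConv a = f.ofConv (rho p hp m a) := by
  rw [rho_apply, rho_apply, powConv_dual]

lemma e_dual (u : R) (χ : (ZMod p)ˣ →* Rˣ) (i : ℕ) (f : CartDual.D R A) (a : A) :
    (e u χ (rho p (hp_dual p hp)) i f).ofConv a = f.ofConv (e u χ (rho p hp) i a) := by
  rw [e_apply, e_apply, map_smul, map_sum, WithConv.ofConv_smul, WithConv.ofConv_sum,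
    LinearMap.smul_apply, LinearMap.sum_apply]
  congr 1
  refine Finset.sum_congr rfl fun m _ => ?_
  rw [map_smul, WithConv.ofConv_smul, LinearMap.smul_apply, rho_dual]

variable (u : R) (hu : u * ((p - 1 : ℕ) : R) = 1)
  (χ : (ZMod p)ˣ →* Rˣ) (hχ : ∀ m : (ZMod p)ˣ, m ≠ 1 → IsUnit ((χ m : R) - 1))

lemma rho_one_apply (m : (ZMod p)ˣ) : rho p hp m (1 : A) = 1 := by
  rw [rho_apply, map_one]

lemma counit_rho (m : (ZMod p)ˣ) (a : A) :
    Coalgebra.counit (R := R) (rho p hp m a) = Coalgebra.counit (R := R) a := by
  rw [rho_apply, counit_powConv]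

/-- `a ↦ e_i (a - ε(a))`, corestricted to the eigenspace. -/
noncomputable def piAug (i : ℕ) : A →ₗ[R] OortTate.eigenAug R A p χ i :=
  LinearMap.codRestrict _
    ((e u χ (rho p hp) i) ∘ₗ (LinearMap.id - (Algebra.linearMap R A) ∘ₗ (Coalgebra.counit (R := R))))
    (fun a => by
      refine e_mem_eigenAug p hp u χ i _ ?_
      change Coalgebra.counit (R := R) (a - algebraMap R A (Coalgebra.counit (R := R) a)) = 0
      rw [map_sub]
      change _ - Bialgebra.counitAlgHom R A (algebraMap R A _) = 0
      rw [AlgHom.commutes]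
      exact sub_self _)

lemma piAug_apply (i : ℕ) (a : A) :
    ((piAug p hp u χ i a : OortTate.eigenAug R A p χ i) : A) =
      e u χ (rho p hp) i (a - algebraMap R A (Coalgebra.counit (R := R) a)) := rfl

include hu hp in
lemma eq_zero_of_restrict (i : ℕ) (f : CartDual.D R A)
    (hf : f ∈ OortTate.eigenAug R (CartDual.D R A) p χ i)
    (h0 : ∀ x ∈ OortTate.eigenAug R A p χ i, f.ofConv x = 0) : f = 0 := by
  rw [mem_eigenAug p (hp_dual p hp)] at hf
  have h1 : e u χ (rho p (hp_dual p hp)) i f = f := e_of_eigen u hu χ _ hf.2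
  have h2 : f.ofConv 1 = 0 := hf.1
  apply WithConv.ext
  apply LinearMap.ext
  intro a
  have h3 : a = (a - algebraMap R A (Coalgebra.counit (R := R) a)) +
      (Coalgebra.counit (R := R) a) • (1 : A) := by
    rw [Algebra.algebraMap_eq_smul_one]
    abel
  change f.ofConv a = 0
  rw [← h1, e_dual p hp, h3, map_add, map_add, map_smul, map_smul,
    ← piAug_apply p hp u χ i a, h0 _ (piAug p hp u χ i a).2, ← e_dual p hp, h1, h2, smul_zero, add_zero]

include hu hp in
theorem restrict_bijective (i : ℕ) :
    Function.Bijective (fun f : OortTate.eigenAug R (CartDual.D R A) p χ i =>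
      ((CartDual.toDual R A) (f : CartDual.D R A)).comp (OortTate.eigenAug R A p χ i).subtype) := by
  constructor
  · -- injectivity
    intro f g hfg
    apply Subtype.ext
    rw [← sub_eq_zero]
    refine eq_zero_of_restrict p hp u hu χ i _ (Submodule.sub_mem _ f.2 g.2) ?_
    intro x hx
    have h1 := LinearMap.congr_fun hfg ⟨x, hx⟩
    change (f : CartDual.D R A).ofConv x = (g : CartDual.D R A).ofConv x at h1
    rw [WithConv.ofConv_sub, LinearMap.sub_apply, h1, sub_self]
  · -- surjectivity
    intro φ
    set g : CartDual.D R A := WithConv.toConv (φ ∘ₗ piAug p hp u χ i) with hg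
    have hgapp : ∀ a : A, g.ofConv a = φ (piAug p hp u χ i a) := fun a => rfl
    have hmem : g ∈ OortTate.eigenAug R (CartDual.D R A) p χ i := by
      rw [mem_eigenAug p (hp_dual p hp)]
      constructor
      · change g.ofConv 1 = 0
        rw [hgapp]
        have : piAug p hp u χ i (1 : A) = 0 := by
          apply Subtype.ext
          rw [piAug_apply]
          change e u χ (rho p hp) i (1 - algebraMap R A (Bialgebra.counitAlgHom R A 1)) = _
          rw [map_one, map_one, sub_self, map_zero]
          rfl
        rw [this, map_zero]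
      · intro m
        apply WithConv.ext
        apply LinearMap.ext
        intro a
        rw [rho_dual p hp, hgapp, WithConv.ofConv_smul, LinearMap.smul_apply, hgapp, ← map_smul]
        congr 1
        apply Subtype.ext
        have hk : rho p hp m a - algebraMap R A (Coalgebra.counit (R := R) (rho p hp m a)) =
            rho p hp m (a - algebraMap R A (Coalgebra.counit (R := R) a)) := by
          rw [counit_rho, map_sub, Algebra.algebraMap_eq_smul_one, map_smul, rho_one_apply]
        rw [Submodule.coe_smul, piAug_apply, piAug_apply, hk, e_rho]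
    refine ⟨⟨g, hmem⟩, ?_⟩
    apply LinearMap.ext
    intro x
    change g.ofConv (x : A) = φ x
    rw [hgapp]
    congr 1
    apply Subtype.ext
    have hx := x.2
    rw [mem_eigenAug p hp] at hx
    rw [piAug_apply, hx.1, map_zero, sub_zero]
    exact e_of_eigen u hu χ _ hx.2

end Groth.Agent.Lib.helper15.OTDual
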