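import Mathlib
import Groth.Prelude.Def_W4c5ffgsreadingcourseOT
import Groth.Agent.Lib.Helper15.OTEigen

/-!
# The Oort–Tate elements `y_i` in the group algebra of `ℤ/p` (helper15)
-/

set_option autoImplicit false

universe u

namespace Groth.Agent.Lib.helper15.OTMu

open Groth.Agent.Lib.helper15.OTEigen

variable (p : ℕ) [Fact p.Prime] (R : Type u) [CommRing R]

/-- `τ a = T ^ a`. -/
noncomputable def tau (a : ZMod p) : MonoidAlgebra R (Multiplicative (ZMod p)) :=
  MonoidAlgebra.single (Multiplicative.ofAdd a) 1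

omit [Fact p.Prime] in
lemma powConv_single' {M : Type} [CommGroup M] (n : ℕ) (m : M) (r : R) :
    SGA3b.powConv R (MonoidAlgebra R M) n (MonoidAlgebra.single m r) =
      MonoidAlgebra.single (m ^ n) r := by
  induction n generalizing r with
  | zero =>
    rw [TorsIdeal.powConv_zero_apply, MonoidAlgebra.counit_single, CommSemiring.counit_apply,
      pow_zero]
    rfl
  | succ n ih =>
    let 𝓡 : Coalgebra.Repr R (MonoidAlgebra.single m r) Unit :=
      ⟨{()}, fun _ => MonoidAlgebra.single m 1, fun _ => MonoidAlgebra.single m r, by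
        rw [MonoidAlgebra.comul_single, CommSemiring.comul_apply]
        simp⟩
    rw [TorsIdeal.powConv_succ_apply n _ 𝓡]
    change ∑ i ∈ ({()} : Finset Unit),
      SGA3b.powConv R (MonoidAlgebra R M) n (MonoidAlgebra.single m 1) *
        MonoidAlgebra.single m r = _
    rw [Finset.sum_singleton, ih, MonoidAlgebra.single_mul_single, one_mul, pow_succ]

lemma pow_p_eq_one (g : Multiplicative (ZMod p)) : g ^ p = 1 := by
  rw [← ofAdd_toAdd g, ← ofAdd_nsmul, nsmul_eq_mul, CharP.cast_eq_zero, zero_mul, ofAdd_zero]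

lemma hp_mu : (WithConv.toConv (AlgHom.id R (MonoidAlgebra R (Multiplicative (ZMod p))))) ^ p = 1 := by
  apply WithConv.ofConv_injective
  apply AlgHom.ext
  intro x
  induction x using MonoidAlgebra.induction_linear with
  | zero => rw [map_zero, map_zero]
  | add x y hx hy => rw [map_add, map_add, hx, hy]
  | single g r =>
    change SGA3b.powConv R _ p (MonoidAlgebra.single g r) =
      algebraMap R _ (Coalgebra.counit (R := R) (MonoidAlgebra.single g r))
    rw [powConv_single', pow_p_eq_one, MonoidAlgebra.counit_single,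
      CommSemiring.counit_apply]
    rfl

/-- the power-map action on the group algebra. -/
noncomputable abbrev rhoMu : (ZMod p)ˣ →* Module.End R (MonoidAlgebra R (Multiplicative (ZMod p))) :=
  rho p (hp_mu p R)

lemma tau_zero : tau p R 0 = 1 := rfl

lemma tau_add (a b : ZMod p) : tau p R (a + b) = tau p R a * tau p R b := by
  unfold tau
  rw [MonoidAlgebra.single_mul_single, one_mul, ofAdd_add]

lemma rho_tau (m : (ZMod p)ˣ) (a : ZMod p) : rhoMu p R m (tau p R a) = tau p R (m * a) := by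
  rw [rho_apply]
  unfold tau
  rw [powConv_single', ← ofAdd_nsmul, nsmul_eq_mul, ZMod.natCast_zmod_val]

lemma rho_mul (m : (ZMod p)ˣ) (x y : MonoidAlgebra R (Multiplicative (ZMod p))) :
    rhoMu p R m (x * y) = rhoMu p R m x * rhoMu p R m y := by
  rw [rho_apply, rho_apply, rho_apply, map_mul]

lemma rho_one' (m : (ZMod p)ˣ) : rhoMu p R m 1 = 1 := by
  rw [rho_apply, map_one]

lemma rho_pow (m : (ZMod p)ˣ) (x : MonoidAlgebra R (Multiplicative (ZMod p))) (n : ℕ) :
    rhoMu p R m (x ^ n) = rhoMu p R m x ^ n := by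
  rw [rho_apply, rho_apply, map_pow]

variable (u : R) (χ : (ZMod p)ˣ →* Rˣ)

lemma ygen_eq (i : ℕ) : OortTate.ygen R p u χ i = e u χ (rhoMu p R) i (tau p R 1 - 1) := rfl

lemma ygen_formula (i : ℕ) : OortTate.ygen R p u χ i =
    u • ∑ m : (ZMod p)ˣ, (((χ m⁻¹ : Rˣ) : R) ^ i) • (tau p R (m : ZMod p) - 1) := by
  rw [ygen_eq, e_apply]
  congr 1
  refine Finset.sum_congr rfl fun m _ => ?_
  rw [map_sub, rho_tau, rho_one', mul_one]

lemma rho_ygen (m : (ZMod p)ˣ) (i : ℕ) :
    rhoMu p R m (OortTate.ygen R p u χ i) = (((χ m : Rˣ) : R) ^ i) • OortTate.ygen R p u χ i := by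
  rw [ygen_eq]
  exact rho_e u χ (rhoMu p R) m i _

omit [Fact p.Prime] in
lemma counit_tau (a : ZMod p) : Coalgebra.counit (R := R) (tau p R a) = 1 := by
  unfold tau
  rw [MonoidAlgebra.counit_single, CommSemiring.counit_apply]

lemma counit_tau_sub_one (a : ZMod p) : Coalgebra.counit (R := R) (tau p R a - 1) = 0 := by
  rw [map_sub, counit_tau]
  change (1 : R) - Bialgebra.counitAlgHom R _ (1 : MonoidAlgebra R (Multiplicative (ZMod p))) = 0
  rw [map_one, sub_self]

lemma counit_ygen (i : ℕ) : Coalgebra.counit (R := R) (OortTate.ygen R p u χ i) = 0 := by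
  rw [ygen_eq]
  exact counit_e p (hp_mu p R) u χ i _ (counit_tau_sub_one p R 1)

lemma ygen_mem_eigenAug (i : ℕ) :
    OortTate.ygen R p u χ i ∈ OortTate.eigenAug R (MonoidAlgebra R (Multiplicative (ZMod p))) p χ i := by
  rw [mem_eigenAug p (hp_mu p R)]
  exact ⟨counit_ygen p R u χ i, fun m => rho_ygen p R u χ m i⟩

lemma coeff_ygen (i : ℕ) :
    (OortTate.ygen R p u χ i).coeff (Multiplicative.ofAdd (1 : ZMod p)) = u := by
  rw [ygen_formula, MonoidAlgebra.coeff_smul, Finsupp.smul_apply, MonoidAlgebra.coeff_sum,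
    Finsupp.finsetSum_apply]
  have h1 : (1 : ZMod p) ≠ 0 := by
    have : Fact (1 < p) := ⟨(Fact.out : p.Prime).one_lt⟩
    exact one_ne_zero
  rw [Finset.sum_eq_single (1 : (ZMod p)ˣ)]
  · rw [inv_one, map_one, Units.val_one, one_pow, one_smul, Units.val_one]
    unfold tau
    rw [MonoidAlgebra.one_def, MonoidAlgebra.coeff_sub, Finsupp.sub_apply,
      MonoidAlgebra.coeff_single, MonoidAlgebra.coeff_single, Finsupp.single_eq_same,
      Finsupp.single_eq_of_ne, sub_zero, smul_eq_mul, mul_one]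
    intro h
    exact h1 (Multiplicative.ofAdd.injective h)
  · intro m _ hm
    rw [MonoidAlgebra.coeff_smul, Finsupp.smul_apply]
    unfold tau
    rw [MonoidAlgebra.one_def, MonoidAlgebra.coeff_sub, Finsupp.sub_apply,
      MonoidAlgebra.coeff_single, MonoidAlgebra.coeff_single, Finsupp.single_eq_of_ne,
      Finsupp.single_eq_of_ne, sub_zero, smul_zero]
    · intro h
      exact h1 (Multiplicative.ofAdd.injective h)
    · intro h
      apply hm
      ext
      exact (Multiplicative.ofAdd.injective h).symm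
  · intro h
    exact absurd (Finset.mem_univ _) h

variable (hu : u * ((p - 1 : ℕ) : R) = 1)

include hu in
lemma smul_ygen_eq_zero (i : ℕ) (c : R) (h : c • OortTate.ygen R p u χ i = 0) : c = 0 := by
  have h1 := congrArg (fun x => x.coeff (Multiplicative.ofAdd (1 : ZMod p))) h
  simp only [MonoidAlgebra.coeff_smul, Finsupp.smul_apply, coeff_ygen, smul_eq_mul,
    MonoidAlgebra.coeff_zero, Finsupp.zero_apply] at h1
  calc c = c * (u * ((p - 1 : ℕ) : R)) := by rw [hu, mul_one]
    _ = (c * u) * ((p - 1 : ℕ) : R) := by ring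
    _ = 0 := by rw [h1, zero_mul]

/-- `e_i` maps the augmentation ideal into `R y_i`. -/
lemma e_mem_span (i : ℕ) (x : MonoidAlgebra R (Multiplicative (ZMod p))) :
    e u χ (rhoMu p R) i (x - algebraMap R _ (Coalgebra.counit (R := R) x)) ∈
      Submodule.span R {OortTate.ygen R p u χ i} := by
  induction x using MonoidAlgebra.induction_linear with
  | zero => simp
  | add x y hx hy =>
    have : x + y - algebraMap R _ (Coalgebra.counit (R := R) (x + y)) =
        (x - algebraMap R _ (Coalgebra.counit (R := R) x)) +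
          (y - algebraMap R _ (Coalgebra.counit (R := R) y)) := by
      rw [map_add, map_add]
      abel
    rw [this, map_add]
    exact Submodule.add_mem _ hx hy
  | single g r =>
    have h1 : MonoidAlgebra.single g r - algebraMap R _ (Coalgebra.counit (R := R)
        (MonoidAlgebra.single g r)) = r • (tau p R (Multiplicative.toAdd g) - 1) := by
      rw [MonoidAlgebra.counit_single, CommSemiring.counit_apply, smul_sub]
      unfold tau
      rw [MonoidAlgebra.smul_single', mul_one, ofAdd_toAdd, Algebra.algebraMap_eq_smul_one]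
    rw [h1, map_smul]
    refine Submodule.smul_mem _ _ ?_
    by_cases ha : Multiplicative.toAdd g = 0
    · rw [ha, tau_zero, sub_self, map_zero]
      exact Submodule.zero_mem _
    · have h2 : tau p R (Multiplicative.toAdd g) - 1 =
          rhoMu p R (Units.mk0 _ ha) (tau p R 1 - 1) := by
        rw [map_sub, rho_tau, rho_one', Units.val_mk0, mul_one]
      rw [h2, e_rho, ← ygen_eq]
      exact Submodule.smul_mem _ _ (Submodule.mem_span_singleton_self _)

include hu in
lemma eigenAug_eq_span (i : ℕ) :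
    OortTate.eigenAug R (MonoidAlgebra R (Multiplicative (ZMod p))) p χ i =
      Submodule.span R {OortTate.ygen R p u χ i} := by
  apply le_antisymm
  · intro x hx
    rw [mem_eigenAug p (hp_mu p R)] at hx
    have h1 := e_of_eigen u hu χ (rhoMu p R) hx.2
    have h2 := e_mem_span p R u χ i x
    rw [hx.1, map_zero, sub_zero, h1] at h2
    exact h2
  · rw [Submodule.span_le, Set.singleton_subset_iff]
    exact ygen_mem_eigenAug p R u χ i

variable (hχ : ∀ m : (ZMod p)ˣ, m ≠ 1 → IsUnit ((χ m : R) - 1))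

include hu hχ in
lemma span_ygen :
    Submodule.span R (Set.range (fun i : Fin (p - 1) => OortTate.ygen R p u χ (i : ℕ))) =
      LinearMap.ker (Bialgebra.counitAlgHom R (MonoidAlgebra R (Multiplicative (ZMod p)))).toLinearMap := by
  rw [← iSup_eigenAug p (hp_mu p R) u hu χ hχ, Submodule.span_range_eq_iSup]
  congr 1
  funext i
  rw [eigenAug_eq_span p R u χ hu]

include hu hχ in
lemma linearIndependent_ygen :
    LinearIndependent R (fun i : Fin (p - 1) => OortTate.ygen R p u χ (i : ℕ)) := by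
  rw [Fintype.linearIndependent_iff]
  intro c hc j
  have h1 := congrArg (e u χ (rhoMu p R) (j : ℕ)) hc
  rw [map_sum, map_zero, Finset.sum_eq_single j] at h1
  · rw [map_smul, e_of_eigen u hu χ (rhoMu p R) (fun m => rho_ygen p R u χ m j)] at h1
    exact smul_ygen_eq_zero p R u χ hu _ _ h1
  · intro i _ hij
    rw [map_smul, e_of_eigen_ne u χ hχ (rhoMu p R) i.2 j.2 (fun h => hij (Fin.ext h))
      (fun m => rho_ygen p R u χ m i), smul_zero]
  · intro h
    exact absurd (Finset.mem_univ _) h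

omit hu hχ

lemma chi_pow_card (m : (ZMod p)ˣ) : ((χ m : Rˣ) : R) ^ (p - 1) = 1 := by
  rw [← Units.val_pow_eq_pow_val, ← map_pow]
  have : m ^ (p - 1) = 1 := by
    rw [← ZMod.card_units p]
    exact pow_card_eq_one
  rw [this, map_one, Units.val_one]

lemma ygen_periodic (i : ℕ) :
    OortTate.ygen R p u χ (i + (p - 1)) = OortTate.ygen R p u χ i := by
  rw [ygen_formula, ygen_formula]
  congr 1
  refine Finset.sum_congr rfl fun m _ => ?_
  rw [pow_add, chi_pow_card, mul_one]

lemma ygen_pow_mem (j : ℕ) (hj : j ≠ 0) :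
    OortTate.ygen R p u χ 1 ^ j ∈
      OortTate.eigenAug R (MonoidAlgebra R (Multiplicative (ZMod p))) p χ j := by
  rw [mem_eigenAug p (hp_mu p R)]
  constructor
  · change Bialgebra.counitAlgHom R _ (OortTate.ygen R p u χ 1 ^ j) = 0
    rw [map_pow]
    change (Coalgebra.counit (R := R) (OortTate.ygen R p u χ 1)) ^ j = 0
    rw [counit_ygen, zero_pow hj]
  · intro m
    rw [rho_pow, rho_ygen, pow_one, smul_pow]

include hu in
lemma exists_w (j : ℕ) (hj : j ≠ 0) :
    ∃ w : R, w • OortTate.ygen R p u χ j = OortTate.ygen R p u χ 1 ^ j := by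
  have h := ygen_pow_mem p R u χ j hj
  rw [eigenAug_eq_span p R u χ hu, Submodule.mem_span_singleton] at h
  exact h

include hu in
lemma existsUnique_w :
    ∃! w : R, OortTate.ygen R p u χ 1 ^ p = w • OortTate.ygen R p u χ 1 := by
  have hp1 : 1 ≤ p := (Fact.out : p.Prime).one_le
  obtain ⟨w, hw⟩ := exists_w p R u χ hu p (Fact.out : p.Prime).ne_zero
  have hper : OortTate.ygen R p u χ p = OortTate.ygen R p u χ 1 := by
    have := ygen_periodic p R u χ 1
    rwa [Nat.add_sub_cancel' hp1] at this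
  rw [hper] at hw
  refine ⟨w, hw.symm, fun w' hw' => ?_⟩
  have h0 : (w' - w) • OortTate.ygen R p u χ 1 = 0 := by
    rw [sub_smul, ← hw', hw, sub_self]
  exact sub_eq_zero.1 (smul_ygen_eq_zero p R u χ hu 1 _ h0)

section BaseChange

variable {R} {S : Type u} [CommRing S] (φ : R →+* S)

/-- the pushed-forward character. -/
noncomputable def chiMap : (ZMod p)ˣ →* Sˣ := (Units.map φ.toMonoidHom).comp χ

lemma chiMap_apply (m : (ZMod p)ˣ) : ((chiMap p χ φ m : Sˣ) : S) = φ ((χ m : Rˣ) : R) := rfl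

lemma mapRingHom_smul (r : R) (x : MonoidAlgebra R (Multiplicative (ZMod p))) :
    MonoidAlgebra.mapRingHom (Multiplicative (ZMod p)) φ (r • x) =
      φ r • MonoidAlgebra.mapRingHom (Multiplicative (ZMod p)) φ x := by
  rw [Algebra.smul_def, map_mul, Algebra.smul_def]
  congr 1
  have := congrArg (fun f => f r)
    (MonoidAlgebra.mapRingHom_comp_algebraMap (M := Multiplicative (ZMod p)) φ)
  exact this

lemma mapRingHom_ygen (i : ℕ) :
    MonoidAlgebra.mapRingHom (Multiplicative (ZMod p)) φ (OortTate.ygen R p u χ i) =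
      OortTate.ygen S p (φ u) (chiMap p χ φ) i := by
  rw [ygen_formula, ygen_formula, mapRingHom_smul, map_sum]
  congr 1
  refine Finset.sum_congr rfl fun m _ => ?_
  rw [mapRingHom_smul, map_sub, map_one, map_pow, chiMap_apply]
  congr 2
  unfold tau
  rw [MonoidAlgebra.mapRingHom_single, map_one]

end BaseChange

section Field

variable (κ : Type u) [Field κ] (v : κ) (hv : v * ((p - 1 : ℕ) : κ) = 1)
  (ψ : (ZMod p)ˣ →* κˣ)
  (hψp : ∀ m : (ZMod p)ˣ,
    ((ψ m : κˣ) : κ) - (((m : ZMod p).val : ℕ) : κ) ∈ Ideal.span ({(p : κ)} : Set κ))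

lemma tau_natCast (n : ℕ) : tau p κ (n : ZMod p) = tau p κ 1 ^ n := by
  unfold tau
  rw [MonoidAlgebra.single_pow, one_pow, ← ofAdd_nsmul, nsmul_eq_mul, mul_one]

lemma tau_sub_one_expand (n : ℕ) :
    ∃ q, tau p κ (n : ZMod p) - 1 = (n : κ) • (tau p κ 1 - 1) + (tau p κ 1 - 1) ^ 2 * q := by
  induction n with
  | zero =>
    refine ⟨0, ?_⟩
    rw [Nat.cast_zero, Nat.cast_zero, tau_zero, sub_self, zero_smul, mul_zero, add_zero]
  | succ n ih =>
    obtain ⟨q, hq⟩ := ih
    set t := tau p κ 1 - 1 with ht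
    refine ⟨q + (n : κ) • 1 + t * q, ?_⟩
    have h1 : tau p κ ((n + 1 : ℕ) : ZMod p) - 1 =
        (tau p κ (n : ZMod p) - 1) + t + (tau p κ (n : ZMod p) - 1) * t := by
      rw [Nat.cast_succ, tau_add, ht]
      ring
    rw [h1, hq, Nat.cast_succ]
    simp only [Algebra.smul_def, map_add, map_one]
    ring

lemma pow_expand (t q : MonoidAlgebra κ (Multiplicative (ZMod p))) (n : ℕ) :
    ∃ q', (t + t ^ 2 * q) ^ n = t ^ n + t ^ (n + 1) * q' := by
  induction n with
  | zero => exact ⟨0, by simp⟩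
  | succ n ih =>
    obtain ⟨q', hq'⟩ := ih
    refine ⟨q + q' + t * q' * q, ?_⟩
    rw [pow_succ, hq']
    ring

include hv hψp in
lemma ygen_one_pow_ne_zero : OortTate.ygen κ p v ψ 1 ^ (p - 1) ≠ 0 := by
  have hp1 : 1 ≤ p := (Fact.out : p.Prime).one_le
  by_cases hp0 : (p : κ) = 0
  · -- characteristic `p`
    have hchar : CharP κ p := by
      obtain ⟨q, hq⟩ := CharP.exists κ
      have hdvd : q ∣ p := (CharP.cast_eq_zero_iff κ q p).1 hp0
      rcases (Nat.dvd_prime (Fact.out : p.Prime)).1 hdvd with h1 | h1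
      · exact absurd h1 (CharP.char_ne_one κ q)
      · rw [← h1]
        exact hq
    have hchar' : CharP (MonoidAlgebra κ (Multiplicative (ZMod p))) p :=
      charP_of_injective_algebraMap
        (algebraMap κ (MonoidAlgebra κ (Multiplicative (ZMod p)))).injective p
    have hψv : ∀ m : (ZMod p)ˣ, ((ψ m : κˣ) : κ) = (((m : ZMod p).val : ℕ) : κ) := by
      intro m
      have := hψp m
      rw [hp0, Ideal.span_singleton_eq_bot.2 rfl, Ideal.mem_bot, sub_eq_zero] at this
      exact this
    set t := tau p κ 1 - 1 with ht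
    -- y₁ = t + t² q
    have hq : ∀ m : (ZMod p)ˣ, ∃ q, tau p κ (m : ZMod p) - 1 =
        (((m : ZMod p).val : ℕ) : κ) • t + t ^ 2 * q := by
      intro m
      have := tau_sub_one_expand p κ (m : ZMod p).val
      rwa [ZMod.natCast_zmod_val] at this
    choose q hq using hq
    have hy : OortTate.ygen κ p v ψ 1 =
        t + t ^ 2 * (v • ∑ m : (ZMod p)ˣ, ((ψ m⁻¹ : κˣ) : κ) • q m) := by
      rw [ygen_formula]
      have h1 : ∀ m : (ZMod p)ˣ, (((ψ m⁻¹ : κˣ) : κ) ^ 1) • (tau p κ (m : ZMod p) - 1) =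
          t + t ^ 2 * (((ψ m⁻¹ : κˣ) : κ) • q m) := by
        intro m
        rw [hq m, pow_one, smul_add, smul_smul, ← hψv m, ← Units.val_mul, ← map_mul,
          inv_mul_cancel, map_one, Units.val_one, one_smul, mul_smul_comm]
      rw [Finset.sum_congr rfl fun m _ => h1 m, Finset.sum_add_distrib, Finset.sum_const,
        Finset.card_univ, ZMod.card_units, ← Finset.mul_sum, smul_add, ← Nat.cast_smul_eq_nsmul κ,
        smul_smul, hv, one_smul, mul_smul_comm]
    obtain ⟨q', hq'⟩ := pow_expand p κ t (v • ∑ m : (ZMod p)ˣ, ((ψ m⁻¹ : κˣ) : κ) • q m) (p - 1)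
    have htp : t ^ p = 0 := by
      rw [ht, sub_pow_char, one_pow, ← tau_natCast, CharP.cast_eq_zero, tau_zero, sub_self]
    rw [hy, hq', Nat.sub_add_cancel hp1, htp, zero_mul, add_zero]
    -- t^(p-1) = Σ T^k
    have hpoly : (Polynomial.X - 1 : Polynomial κ) ^ (p - 1) =
        ∑ k ∈ Finset.range p, (Polynomial.X : Polynomial κ) ^ k := by
      have hne : (Polynomial.X - 1 : Polynomial κ) ≠ 0 := by
        have := Polynomial.X_sub_C_ne_zero (1 : κ)
        rwa [map_one] at this
      have h1 : (Polynomial.X - 1 : Polynomial κ) * (Polynomial.X - 1) ^ (p - 1) =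
          (Polynomial.X - 1) * ∑ k ∈ Finset.range p, (Polynomial.X : Polynomial κ) ^ k := by
        rw [← pow_succ', Nat.sub_add_cancel hp1, sub_pow_char, one_pow, mul_comm, geom_sum_mul]
      exact mul_left_cancel₀ hne h1
    have h2 := congrArg (Polynomial.aeval (tau p κ 1)) hpoly
    simp only [map_pow, map_sub, Polynomial.aeval_X, map_one, map_sum] at h2
    rw [← ht] at h2
    rw [h2]
    intro h0
    have h3 := congrArg (fun x => x.coeff (1 : Multiplicative (ZMod p))) h0
    simp only [MonoidAlgebra.coeff_sum, Finsupp.finsetSum_apply, MonoidAlgebra.coeff_zero,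
      Finsupp.zero_apply] at h3
    rw [Finset.sum_eq_single 0] at h3
    · rw [pow_zero, MonoidAlgebra.one_def, MonoidAlgebra.coeff_single,
        Finsupp.single_eq_same] at h3
      exact one_ne_zero h3
    · intro k hk hk0
      rw [← tau_natCast]
      unfold tau
      rw [MonoidAlgebra.coeff_single, Finsupp.single_eq_of_ne]
      intro h
      have h4 : ((k : ZMod p)) = 0 :=
        Multiplicative.ofAdd.injective (h.symm.trans ofAdd_zero.symm)
      rw [ZMod.natCast_eq_zero_iff] at h4
      exact hk0 (Nat.eq_zero_of_dvd_of_lt h4 (Finset.mem_range.1 hk))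
    · intro h
      exact absurd (Finset.mem_range.2 (Fact.out : p.Prime).pos) h
  · -- `p` invertible: the group algebra is reduced
    have : NeZero (Nat.card (Multiplicative (ZMod p)) : κ) := by
      rw [Nat.card_eq_fintype_card, Fintype.card_multiplicative, ZMod.card]
      exact ⟨hp0⟩
    intro h0
    have h1 : OortTate.ygen κ p v ψ 1 = 0 := IsNilpotent.eq_zero ⟨_, h0⟩
    have h2 : (1 : κ) • OortTate.ygen κ p v ψ 1 = 0 := by rw [h1, smul_zero]
    exact one_ne_zero (smul_ygen_eq_zero p κ v ψ hv 1 1 h2)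

end Field

section Units

variable (hχp : ∀ m : (ZMod p)ˣ,
    ((χ m : Rˣ) : R) - (((m : ZMod p).val : ℕ) : R) ∈ Ideal.span ({(p : R)} : Set R))

include hu hχp in
lemma isUnit_w (j : ℕ) (hj : j ≠ 0) (hjp : j ≤ p - 1) (w : R)
    (hw : w • OortTate.ygen R p u χ j = OortTate.ygen R p u χ 1 ^ j) : IsUnit w := by
  by_contra hnu
  obtain ⟨𝔪, hmax, hmem⟩ := exists_max_ideal_of_mem_nonunits hnu
  let _ : Field (R ⧸ 𝔪) := Ideal.Quotient.field 𝔪
  set φ : R →+* R ⧸ 𝔪 := Ideal.Quotient.mk 𝔪 with hφ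
  have h1 := congrArg (MonoidAlgebra.mapRingHom (Multiplicative (ZMod p)) φ) hw
  rw [mapRingHom_smul, map_pow, mapRingHom_ygen, mapRingHom_ygen] at h1
  have hw0 : φ w = 0 := Ideal.Quotient.eq_zero_iff_mem.2 hmem
  rw [hw0, zero_smul] at h1
  have hu' : φ u * ((p - 1 : ℕ) : R ⧸ 𝔪) = 1 := by
    rw [← map_natCast φ, ← map_mul, hu, map_one]
  have hχp' : ∀ m : (ZMod p)ˣ, ((chiMap p χ φ m : (R ⧸ 𝔪)ˣ) : R ⧸ 𝔪) -
      (((m : ZMod p).val : ℕ) : R ⧸ 𝔪) ∈ Ideal.span ({(p : R ⧸ 𝔪)} : Set (R ⧸ 𝔪)) := by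
    intro m
    have h2 := Ideal.mem_map_of_mem φ (hχp m)
    rw [Ideal.map_span, Set.image_singleton, map_sub, map_natCast, map_natCast] at h2
    exact h2
  have h3 := ygen_one_pow_ne_zero p (R ⧸ 𝔪) (φ u) hu' (chiMap p χ φ) hχp'
  apply h3
  rw [← Nat.sub_add_cancel hjp, pow_add, ← h1, mul_zero]

include hu hχ hχp in
lemma adjoin_ygen_eq_top :
    Algebra.adjoin R ({OortTate.ygen R p u χ 1} : Set (MonoidAlgebra R (Multiplicative (ZMod p)))) =
      ⊤ := by
  have hp1 : 1 ≤ p - 1 := by
    have := (Fact.out : p.Prime).two_le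
    omega
  have hy1 : OortTate.ygen R p u χ 1 ∈ Algebra.adjoin R
      ({OortTate.ygen R p u χ 1} : Set (MonoidAlgebra R (Multiplicative (ZMod p)))) :=
    Algebra.subset_adjoin (Set.mem_singleton _)
  -- each `y_j`, `1 ≤ j ≤ p - 1`, is in the subalgebra
  have hmem : ∀ j : ℕ, j ≠ 0 → j ≤ p - 1 → OortTate.ygen R p u χ j ∈ Algebra.adjoin R
      ({OortTate.ygen R p u χ 1} : Set (MonoidAlgebra R (Multiplicative (ZMod p)))) := by
    intro j hj hjp
    obtain ⟨w, hw⟩ := exists_w p R u χ hu j hj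
    obtain ⟨v, hv⟩ := isUnit_w p R u χ hu hχp j hj hjp w hw
    have h1 : OortTate.ygen R p u χ j = ((v⁻¹ : Rˣ) : R) • OortTate.ygen R p u χ 1 ^ j := by
      rw [← hw, smul_smul, ← hv, Units.inv_mul, one_smul]
    rw [h1]
    exact Subalgebra.smul_mem _ (Subalgebra.pow_mem _ hy1 j) _
  have hmem' : ∀ i : Fin (p - 1), OortTate.ygen R p u χ (i : ℕ) ∈ Algebra.adjoin R
      ({OortTate.ygen R p u χ 1} : Set (MonoidAlgebra R (Multiplicative (ZMod p)))) := by
    intro i
    by_cases hi : (i : ℕ) = 0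
    · rw [hi, ← ygen_periodic p R u χ 0, zero_add]
      exact hmem (p - 1) (by omega) le_rfl
    · exact hmem i hi i.2.le
  rw [eq_top_iff]
  intro x _
  have hx : x - algebraMap R _ (Coalgebra.counit (R := R) x) ∈
      LinearMap.ker (Bialgebra.counitAlgHom R (MonoidAlgebra R (Multiplicative (ZMod p)))).toLinearMap := by
    rw [LinearMap.mem_ker]
    change Bialgebra.counitAlgHom R _ (x - algebraMap R _ (Coalgebra.counit (R := R) x)) = 0
    rw [map_sub, AlgHom.commutes]
    change Coalgebra.counit (R := R) x - Coalgebra.counit (R := R) x = 0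
    rw [sub_self]
  rw [← span_ygen p R u χ hu hχ] at hx
  have h2 : Submodule.span R (Set.range (fun i : Fin (p - 1) => OortTate.ygen R p u χ (i : ℕ))) ≤
      Subalgebra.toSubmodule (Algebra.adjoin R
        ({OortTate.ygen R p u χ 1} : Set (MonoidAlgebra R (Multiplicative (ZMod p))))) := by
    rw [Submodule.span_le]
    rintro _ ⟨i, rfl⟩
    exact hmem' i
  have h3 := h2 hx
  have h4 : x = (x - algebraMap R _ (Coalgebra.counit (R := R) x)) +
      algebraMap R _ (Coalgebra.counit (R := R) x) := by abel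
  rw [h4]
  exact Subalgebra.add_mem _ h3 (Subalgebra.algebraMap_mem _ _)

end Units

end Groth.Agent.Lib.helper15.OTMu
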