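import Mathlib
import Groth.Prelude.Def_W4c5ffgsreadingcourseOT
import Groth.Prelude.Def_ConstGrp
import Groth.Prelude.Def_AlphaP
import Groth.Agent.Lib.Helper15.OTMu
import Groth.Agent.Lib.Helper15.ConstIso

/-!
# Oort–Tate eigenspaces on the three group schemes of order `p` over an algebraically closed field
(helper15)
-/

set_option autoImplicit false
set_option linter.unusedSectionVars false

universe u

open TensorProduct

namespace Groth.Agent.Lib.helper15.OTFibre

open Groth.Agent.Lib.helper15.OTEigen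

section Raw

variable {R : Type u} [CommRing R] {A : Type u} [CommRing A] [HopfAlgebra R A]

/-- membership in the eigenspace, without reference to the action. -/
lemma mem_eigenAug' (p : ℕ) (χ : (ZMod p)ˣ →* Rˣ) (i : ℕ) (x : A) :
    x ∈ OortTate.eigenAug R A p χ i ↔ Coalgebra.counit (R := R) x = 0 ∧
      ∀ m : (ZMod p)ˣ, SGA3b.powConv R A (m : ZMod p).val x = (((χ m : Rˣ) : R) ^ i) • x := by
  unfold OortTate.eigenAug
  rw [Submodule.mem_inf, Submodule.mem_iInf, LinearMap.mem_ker]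
  simp_rw [Module.End.mem_eigenspace_iff]
  rfl

variable {B : Type u} [CommRing B] [HopfAlgebra R B]

lemma powConv_bialgHom (φ : A →ₐc[R] B) (n : ℕ) (a : A) :
    φ (SGA3b.powConv R A n a) = SGA3b.powConv R B n (φ a) := by
  refine TorsIdeal.powConv_semilinear (φ : A →ₐ[R] B) ?_ ?_ n a
  · intro a
    have h1 : Coalgebra.comul (R := R) (φ a) = TensorProduct.map (φ : A →ₗ[R] B) (φ : A →ₗ[R] B)
        (Coalgebra.comul (R := R) a) := (CoalgHomClass.map_comp_comul_apply φ a).symm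
    change Coalgebra.comul (R := R) (φ a) = _
    rw [h1, ← (Coalgebra.Repr.arbitrary R a).eq, map_sum]
    rfl
  · intro a
    exact CoalgHomClass.counit_comp_apply φ a

/-- a bialgebra map preserves the eigenspaces. -/
lemma map_mem_eigenAug (φ : A →ₐc[R] B) (p : ℕ) (χ : (ZMod p)ˣ →* Rˣ) (i : ℕ) (x : A)
    (hx : x ∈ OortTate.eigenAug R A p χ i) : φ x ∈ OortTate.eigenAug R B p χ i := by
  rw [mem_eigenAug'] at hx ⊢
  refine ⟨?_, fun m => ?_⟩
  · rw [CoalgHomClass.counit_comp_apply φ x, hx.1]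
  · rw [← powConv_bialgHom, hx.2 m, map_smul]

end Raw

section Const

variable (p : ℕ) [Fact p.Prime] (L : Type u) [Field L]

/-- power maps on functions. -/
lemma powConv_F {G : Type} [CommGroup G] [Fintype G] [DecidableEq G] (n : ℕ)
    (f : ConstGrp.F L G) (g : G) :
    SGA3b.powConv L (ConstGrp.F L G) n f g = f (g ^ n) := by
  induction n generalizing f with
  | zero =>
    rw [TorsIdeal.powConv_zero_apply, pow_zero]
    rfl
  | succ n ih =>
    rw [TorsIdeal.powConv_succ_apply n f (Coalgebra.Repr.arbitrary L f), ConstGrp.sum_apply]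
    have h1 := ConstGrp.pair_comul L G f (g ^ n) g
    rw [← (Coalgebra.Repr.arbitrary L f).eq, map_sum, ConstGrp.sum_apply] at h1
    rw [pow_succ, ← h1]
    refine Finset.sum_congr rfl fun k _ => ?_
    rw [ConstGrp.mul_apply, ih, ConstGrp.pair_tmul]

variable (u : L) (hu : u * ((p - 1 : ℕ) : L) = 1) (χ : (ZMod p)ˣ →* Lˣ)

/-- the function `a ↦ χ(a)^i` extended by zero. -/
noncomputable def fchi (i : ℕ) : ConstGrp.F L (Multiplicative (ZMod p)) :=
  fun g => if h : Multiplicative.toAdd g = 0 then 0 else ((χ (Units.mk0 _ h) : Lˣ) : L) ^ i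

lemma fchi_mem (i : ℕ) :
    fchi p L χ i ∈ OortTate.eigenAug L (ConstGrp.F L (Multiplicative (ZMod p))) p χ i := by
  rw [mem_eigenAug']
  constructor
  · rw [ConstGrp.counit_apply]
    unfold fchi
    rw [dif_pos]
    rfl
  · intro m
    apply ConstGrp.ext
    intro g
    rw [powConv_F, ConstGrp.smul_apply]
    unfold fchi
    have hpow : Multiplicative.toAdd (g ^ (m : ZMod p).val) = (m : ZMod p) * Multiplicative.toAdd g := by
      rw [toAdd_pow, nsmul_eq_mul, ZMod.natCast_zmod_val]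
    by_cases hg : Multiplicative.toAdd g = 0
    · have h2 : Multiplicative.toAdd (g ^ (m : ZMod p).val) = 0 := by rw [hpow, hg, mul_zero]
      rw [dif_pos hg, dif_pos h2, mul_zero]
    · have h2 : Multiplicative.toAdd (g ^ (m : ZMod p).val) ≠ 0 := by
        rw [hpow]
        exact mul_ne_zero (Units.ne_zero m) hg
      rw [dif_neg hg, dif_neg h2, ← mul_pow, ← Units.val_mul, ← map_mul]
      congr 4
      ext
      rw [Units.val_mk0, Units.val_mul, Units.val_mk0]
      exact hpow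

lemma fchi_one (i : ℕ) : fchi p L χ i (Multiplicative.ofAdd (1 : ZMod p)) = 1 := by
  have h1 : (1 : ZMod p) ≠ 0 := by
    have : Fact (1 < p) := ⟨(Fact.out : p.Prime).one_lt⟩
    exact one_ne_zero
  unfold fchi
  rw [dif_neg (by exact h1)]
  have : Units.mk0 (Multiplicative.toAdd (Multiplicative.ofAdd (1 : ZMod p))) h1 = 1 := by
    ext
    rfl
  rw [this, map_one, Units.val_one, one_pow]

lemma fchi_ne_zero (i : ℕ) : fchi p L χ i ≠ 0 := by
  intro h
  have := congrFun h (Multiplicative.ofAdd (1 : ZMod p))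
  rw [fchi_one] at this
  exact one_ne_zero this

lemma fchi_pow_ne_zero (n : ℕ) : fchi p L χ 1 ^ n ≠ 0 := by
  intro h
  have h1 : (fchi p L χ 1 ^ n) (Multiplicative.ofAdd (1 : ZMod p)) = 1 := by
    have : (fchi p L χ 1 ^ n) (Multiplicative.ofAdd (1 : ZMod p)) =
        (fchi p L χ 1 (Multiplicative.ofAdd (1 : ZMod p))) ^ n := rfl
    rw [this, fchi_one, one_pow]
  rw [h] at h1
  exact zero_ne_one h1

end Const

section Alpha

variable (p : ℕ) [Fact p.Prime] (L : Type u) [Field L] [CharP L p]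

lemma powConv_x (n : ℕ) :
    SGA3b.powConv L (AlphaP.A p L) n (AlphaP.x p L) = (n : L) • AlphaP.x p L := by
  induction n with
  | zero =>
    rw [TorsIdeal.powConv_zero_apply, AlphaP.counit_x, map_zero, Nat.cast_zero, zero_smul]
  | succ n ih =>
    let 𝓡 : Coalgebra.Repr L (AlphaP.x p L) (Fin 2) :=
      ⟨Finset.univ, ![AlphaP.x p L, 1], ![1, AlphaP.x p L], by
        rw [AlphaP.comul_x, Fin.sum_univ_two]
        rfl⟩
    rw [TorsIdeal.powConv_succ_apply n _ 𝓡]
    change ∑ i : Fin 2, SGA3b.powConv L (AlphaP.A p L) n (![AlphaP.x p L, 1] i) *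
      (![1, AlphaP.x p L] i) = _
    rw [Fin.sum_univ_two]
    simp only [Matrix.cons_val_zero, Matrix.cons_val_one]
    rw [ih, map_one, mul_one, one_mul, Nat.cast_succ, add_smul, one_smul]

lemma powConv_x_pow (n j : ℕ) :
    SGA3b.powConv L (AlphaP.A p L) n (AlphaP.x p L ^ j) = ((n : L) ^ j) • AlphaP.x p L ^ j := by
  rw [map_pow, powConv_x, smul_pow]

variable (χ : (ZMod p)ˣ →* Lˣ)
  (hχp : ∀ m : (ZMod p)ˣ,
    ((χ m : Lˣ) : L) - (((m : ZMod p).val : ℕ) : L) ∈ Ideal.span ({(p : L)} : Set L))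

include hχp in
lemma chi_eq_val (m : (ZMod p)ˣ) : ((χ m : Lˣ) : L) = (((m : ZMod p).val : ℕ) : L) := by
  have := hχp m
  rw [CharP.cast_eq_zero, Ideal.span_singleton_eq_bot.2 rfl, Ideal.mem_bot, sub_eq_zero] at this
  exact this

include hχp in
lemma x_pow_mem (j : ℕ) (hj : j ≠ 0) :
    AlphaP.x p L ^ j ∈ OortTate.eigenAug L (AlphaP.A p L) p χ j := by
  rw [mem_eigenAug']
  constructor
  · change Bialgebra.counitAlgHom L _ (AlphaP.x p L ^ j) = 0
    rw [map_pow]
    change (Coalgebra.counit (R := L) (AlphaP.x p L)) ^ j = 0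
    rw [AlphaP.counit_x, zero_pow hj]
  · intro m
    rw [powConv_x_pow, chi_eq_val p L χ hχp]

lemma x_pow_ne_zero (j : ℕ) (hj : j < p) : AlphaP.x p L ^ j ≠ 0 := by
  have := (AlphaP.basis p L).ne_zero ⟨j, hj⟩
  rwa [AlphaP.basis_apply] at this

end Alpha

section Periodic

variable {R : Type u} [CommRing R] {A : Type u} [CommRing A] [HopfAlgebra R A]
  (p : ℕ) [Fact p.Prime] (χ : (ZMod p)ˣ →* Rˣ)

lemma eigenAug_congr (i j : ℕ) (h : ∀ m : (ZMod p)ˣ, ((χ m : Rˣ) : R) ^ i = ((χ m : Rˣ) : R) ^ j) :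
    OortTate.eigenAug R A p χ i = OortTate.eigenAug R A p χ j := by
  ext x
  rw [mem_eigenAug', mem_eigenAug']
  simp_rw [h]

lemma eigenAug_add_card (i : ℕ) :
    OortTate.eigenAug R A p χ (i + (p - 1)) = OortTate.eigenAug R A p χ i := by
  apply eigenAug_congr
  intro m
  rw [pow_add, OTMu.chi_pow_card, mul_one]

lemma eigenAug_mod (i : ℕ) :
    OortTate.eigenAug R A p χ i = OortTate.eigenAug R A p χ (i % (p - 1)) := by
  apply eigenAug_congr
  intro m
  conv_lhs => rw [← Nat.div_add_mod i (p - 1), pow_add, pow_mul, OTMu.chi_pow_card, one_pow, one_mul]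

end Periodic

section Main

variable (p : ℕ) [Fact p.Prime] (L : Type u) [Field L] [IsAlgClosed L]
  (u : L) (hu : u * ((p - 1 : ℕ) : L) = 1) (χ : (ZMod p)ˣ →* Lˣ)
  (hχp : ∀ m : (ZMod p)ˣ,
    ((χ m : Lˣ) : L) - (((m : ZMod p).val : ℕ) : L) ∈ Ideal.span ({(p : L)} : Set L))
  (B : Type u) [CommRing B] [HopfAlgebra L B] [Module.Finite L B]

/-- the standard models. -/
lemma facts_const :
    (∀ i : ℕ, ∃ v ∈ OortTate.eigenAug L (ConstGrp.F L (Multiplicative (ZMod p))) p χ i, v ≠ 0) ∧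
      ∃ x ∈ OortTate.eigenAug L (ConstGrp.F L (Multiplicative (ZMod p))) p χ 1, x ^ (p - 1) ≠ 0 :=
  ⟨fun i => ⟨fchi p L χ i, fchi_mem p L χ i, fchi_ne_zero p L χ i⟩,
    ⟨fchi p L χ 1, fchi_mem p L χ 1, fchi_pow_ne_zero p L χ (p - 1)⟩⟩

include hu hχp in
lemma facts_mu :
    (∀ i : ℕ, ∃ v ∈ OortTate.eigenAug L (MonoidAlgebra L (Multiplicative (ZMod p))) p χ i, v ≠ 0) ∧
      ∃ x ∈ OortTate.eigenAug L (MonoidAlgebra L (Multiplicative (ZMod p))) p χ 1,
        x ^ (p - 1) ≠ 0 := by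
  refine ⟨fun i => ⟨OortTate.ygen L p u χ i, OTMu.ygen_mem_eigenAug p L u χ i, ?_⟩,
    ⟨OortTate.ygen L p u χ 1, OTMu.ygen_mem_eigenAug p L u χ 1,
      OTMu.ygen_one_pow_ne_zero p L u hu χ hχp⟩⟩
  intro h0
  have h2 : (1 : L) • OortTate.ygen L p u χ i = 0 := by rw [h0, smul_zero]
  exact one_ne_zero (OTMu.smul_ygen_eq_zero p L u χ hu i 1 h2)

include hχp in
lemma facts_alpha [CharP L p] :
    (∀ i : ℕ, ∃ v ∈ OortTate.eigenAug L (AlphaP.A p L) p χ i, v ≠ 0) ∧
      ∃ x ∈ OortTate.eigenAug L (AlphaP.A p L) p χ 1, x ^ (p - 1) ≠ 0 := by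
  have hp2 := (Fact.out : p.Prime).two_le
  constructor
  · intro i
    by_cases hi : i % (p - 1) = 0
    · refine ⟨AlphaP.x p L ^ (p - 1), ?_, x_pow_ne_zero p L _ (by omega)⟩
      rw [eigenAug_mod, hi, ← eigenAug_add_card, zero_add]
      exact x_pow_mem p L χ hχp _ (by omega)
    · refine ⟨AlphaP.x p L ^ (i % (p - 1)), ?_, x_pow_ne_zero p L _ ?_⟩
      · rw [eigenAug_mod p χ i]
        exact x_pow_mem p L χ hχp _ hi
      · have := Nat.mod_lt i (show 0 < p - 1 by omega)
        omega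
  · refine ⟨AlphaP.x p L, ?_, x_pow_ne_zero p L _ (by omega)⟩
    have := x_pow_mem p L χ hχp 1 one_ne_zero
    rwa [pow_one] at this

/-- transport of the facts along a bialgebra isomorphism. -/
lemma facts_of_equiv {B' : Type u} [CommRing B'] [HopfAlgebra L B'] (e : B ≃ₐc[L] B')
    (h : (∀ i : ℕ, ∃ v ∈ OortTate.eigenAug L B' p χ i, v ≠ 0) ∧
      ∃ x ∈ OortTate.eigenAug L B' p χ 1, x ^ (p - 1) ≠ 0) :
    (∀ i : ℕ, ∃ v ∈ OortTate.eigenAug L B p χ i, v ≠ 0) ∧
      ∃ x ∈ OortTate.eigenAug L B p χ 1, x ^ (p - 1) ≠ 0 := by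
  obtain ⟨h1, x, hx, hx'⟩ := h
  refine ⟨fun i => ?_, ?_⟩
  · obtain ⟨v, hv, hv'⟩ := h1 i
    refine ⟨e.symm v, map_mem_eigenAug (e.symm : B' →ₐc[L] B) p χ i v hv, ?_⟩
    intro h0
    apply hv'
    have := congrArg e h0
    rwa [BialgEquiv.apply_symm_apply, map_zero] at this
  · refine ⟨e.symm x, map_mem_eigenAug (e.symm : B' →ₐc[L] B) p χ 1 x hx, ?_⟩
    intro h0
    apply hx'
    have h2 : e (e.symm x ^ (p - 1)) = x ^ (p - 1) := by
      rw [map_pow, BialgEquiv.apply_symm_apply]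
    rw [← h2, h0, map_zero]

include hu hχp in
/-- the eigenspaces of a group scheme of order `p` over an algebraically closed field are nonzero, and
the `(p-1)`-st power of some element of `I_1` is nonzero. -/
theorem fibre_facts (hB : Module.finrank L B = p) :
    (∀ i : ℕ, ∃ v ∈ OortTate.eigenAug L B p χ i, v ≠ 0) ∧
      ∃ x ∈ OortTate.eigenAug L B p χ 1, x ^ (p - 1) ≠ 0 := by
  by_cases hred : IsReduced B
  · obtain ⟨e⟩ := ConstIso.nonempty_constEquiv_of_prime (k := L) (A := B) p hB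
    exact facts_of_equiv p L χ B e (facts_const p L χ)
  · have h0 : (p : L) = 0 := by
      by_contra h0
      exact hred (ConstIso.isReduced_of_finrank_ne_zero (k := L) (A := B) (by rw [hB]; exact h0))
    have : CharP L p := by
      obtain ⟨q, hq⟩ := CharP.exists L
      have hdvd : q ∣ p := (CharP.cast_eq_zero_iff L q p).1 h0
      rcases (Nat.dvd_prime (Fact.out : p.Prime)).1 hdvd with h1 | h1
      · exact absurd h1 (CharP.char_ne_one L q)
      · rw [← h1]
        exact hq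
    rcases ConstIso.nonempty_equiv_mu_or_alpha (k := L) (A := B) p hB hred with ⟨⟨e⟩⟩ | ⟨⟨e⟩⟩
    · exact facts_of_equiv p L χ B e (facts_mu p L u hu χ hχp)
    · exact facts_of_equiv p L χ B e (facts_alpha p L χ hχp)

end Main

end Groth.Agent.Lib.helper15.OTFibre
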