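import Mathlib
import Groth.Prelude.Def_W4c5ffgsreadingcourseOT
import Groth.Agent.Lib.Helper15.OTDual
import Groth.Agent.Lib.Helper15.OTFibre
import Groth.Agent.Lib.Helper15.Deligne

/-!
# Oort–Tate: the eigenspaces `I_i` are invertible and `I_1^t = I_t` (helper15)
-/

set_option autoImplicit false
set_option linter.unusedSectionVars false
set_option linter.style.haveILetI false

universe u

open TensorProduct WithConv

namespace Groth.Agent.Lib.helper15.OTCore

open Groth.Agent.Lib.helper15.OTEigen Groth.Agent.Lib.helper15.OTDual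
  Groth.Agent.Lib.helper15.OTFibre

section Summand

variable (p : ℕ) [Fact p.Prime] {R : Type u} [CommRing R] (u : R)
  (hu : u * ((p - 1 : ℕ) : R) = 1) (χ : (ZMod p)ˣ →* Rˣ)
  (hχ : ∀ m : (ZMod p)ˣ, m ≠ 1 → IsUnit ((χ m : R) - 1))
  {A : Type u} [CommRing A] [HopfAlgebra R A] [Coalgebra.IsCocomm R A] [Module.Finite R A]
  [Module.Projective R A]
  (hp : (toConv (AlgHom.id R A)) ^ p = 1)

include hu in
lemma piAug_subtype (i : ℕ) (x : OortTate.eigenAug R A p χ i) :
    piAug p hp u χ i (x : A) = x := by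
  apply Subtype.ext
  have hx := x.2
  rw [mem_eigenAug p hp] at hx
  rw [piAug_apply, hx.1, map_zero, sub_zero]
  exact e_of_eigen u hu χ _ hx.2

include hu hp in
lemma finite_eigenAug (i : ℕ) : Module.Finite R (OortTate.eigenAug R A p χ i) :=
  Module.Finite.of_surjective (piAug p hp u χ i) (fun x => ⟨x, piAug_subtype p u hu χ hp i x⟩)

include hu hp in
lemma projective_eigenAug (i : ℕ) :
    Module.Projective R (OortTate.eigenAug R A p χ i) :=
  Module.Projective.of_split (OortTate.eigenAug R A p χ i).subtype (piAug p hp u χ i)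
    (LinearMap.ext fun x => piAug_subtype p u hu χ hp i x)

include hχ in
lemma piAug_of_mem_ne {i j : ℕ} (hi : i < p - 1) (hj : j < p - 1) (hij : i ≠ j)
    (x : OortTate.eigenAug R A p χ i) : piAug p hp u χ j (x : A) = 0 := by
  apply Subtype.ext
  have hx := x.2
  rw [mem_eigenAug p hp] at hx
  rw [piAug_apply, hx.1, map_zero, sub_zero]
  exact e_of_eigen_ne u χ hχ _ hi hj hij hx.2

lemma piAug_one (j : ℕ) : piAug p hp u χ j (1 : A) = 0 := by
  apply Subtype.ext
  rw [piAug_apply]
  change e u χ (rho p hp) j (1 - algebraMap R A (Bialgebra.counitAlgHom R A 1)) = _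
  rw [map_one, map_one, sub_self, map_zero]
  rfl

include hu hχ in
/-- `A = R ⊕ I_0 ⊕ … ⊕ I_{p-2}`. -/
noncomputable def decomp :
    A ≃ₗ[R] R × (∀ i : Fin (p - 1), OortTate.eigenAug R A p χ (i : ℕ)) where
  toFun a := (Coalgebra.counit (R := R) a, fun i => piAug p hp u χ (i : ℕ) a)
  map_add' a b := by
    ext
    · simp
    · simp
  map_smul' r a := by
    ext
    · simp
    · simp
  invFun x := x.1 • (1 : A) + ∑ i : Fin (p - 1), (x.2 i : A)
  left_inv a := by
    simp only [piAug_apply]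
    have h := sum_e u hu χ hχ (rho p hp) (a - algebraMap R A (Coalgebra.counit (R := R) a))
    rw [Finset.sum_range] at h
    rw [h, Algebra.algebraMap_eq_smul_one]
    abel
  right_inv x := by
    obtain ⟨r, y⟩ := x
    have hc : ∀ i : Fin (p - 1), Coalgebra.counit (R := R) ((y i : OortTate.eigenAug R A p χ (i : ℕ)) : A) = 0 := by
      intro i
      have := (y i).2
      rw [mem_eigenAug p hp] at this
      exact this.1
    ext
    · change Coalgebra.counit (R := R) (r • (1 : A) + ∑ i : Fin (p - 1), (y i : A)) = r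
      rw [map_add, map_smul, map_sum, Finset.sum_congr rfl fun i _ => hc i, Finset.sum_const_zero,
        add_zero]
      change r • Bialgebra.counitAlgHom R A 1 = r
      rw [map_one, smul_eq_mul, mul_one]
    · rename_i j
      change ((piAug p hp u χ (j : ℕ)
        (r • (1 : A) + ∑ i : Fin (p - 1), (y i : A)) :
          OortTate.eigenAug R A p χ (j : ℕ)) : A) = y j
      rw [map_add, map_smul, piAug_one, smul_zero, zero_add, map_sum, Finset.sum_eq_single j]
      · rw [piAug_subtype p u hu χ hp]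
      · intro i _ hij
        exact piAug_of_mem_ne p u χ hχ hp i.2 j.2 (fun h => hij (Fin.ext h)) (y i)
      · intro h
        exact absurd (Finset.mem_univ _) h

end Summand

section BaseChange

variable (p : ℕ) [Fact p.Prime] {R : Type u} [CommRing R] (u : R)
  (hu : u * ((p - 1 : ℕ) : R) = 1) (χ : (ZMod p)ˣ →* Rˣ)
  (hχ : ∀ m : (ZMod p)ˣ, m ≠ 1 → IsUnit ((χ m : R) - 1))
  {A : Type u} [CommRing A] [HopfAlgebra R A] [Coalgebra.IsCocomm R A] [Module.Finite R A]
  [Module.Projective R A]
  (hp : (toConv (AlgHom.id R A)) ^ p = 1)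
  (L : Type u) [Field L] [Algebra R L]

local notation "ι" => (Algebra.TensorProduct.includeRight : A →ₐ[R] L ⊗[R] A)

lemma powConv_ι (n : ℕ) (a : A) :
    ι (SGA3b.powConv R A n a) = SGA3b.powConv L (L ⊗[R] A) n (ι a) :=
  TorsIdeal.powConv_semilinear ι (TorsIdeal.comul_includeRight A L)
    (TorsIdeal.counit_includeRight A L) n a

include hp in
lemma hp_bc : (toConv (AlgHom.id L (L ⊗[R] A))) ^ p = 1 := by
  apply WithConv.ofConv_injective
  apply AlgHom.ext
  intro z
  induction z using TensorProduct.induction_on with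
  | zero => rw [map_zero, map_zero]
  | add x y hx hy => rw [map_add, map_add, hx, hy]
  | tmul l a =>
    have h1 : l ⊗ₜ[R] a = l • ι a := by
      rw [Algebra.TensorProduct.includeRight_apply, TensorProduct.smul_tmul', smul_eq_mul, mul_one]
    rw [h1, map_smul, map_smul]
    congr 1
    change SGA3b.powConv L (L ⊗[R] A) p (ι a) =
      algebraMap L (L ⊗[R] A) (Coalgebra.counit (R := L) (ι a))
    rw [← powConv_ι]
    have h2 : SGA3b.powConv R A p a = algebraMap R A (Coalgebra.counit (R := R) a) := by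
      unfold SGA3b.powConv
      rw [hp]
      rfl
    rw [h2, Algebra.TensorProduct.includeRight_apply, Algebra.TensorProduct.includeRight_apply,
      TorsIdeal.counit_includeRight, Algebra.algebraMap_eq_smul_one, Algebra.algebraMap_eq_smul_one,
      Algebra.algebraMap_eq_smul_one, TensorProduct.tmul_smul, smul_assoc, one_smul,
      Algebra.TensorProduct.one_def]

lemma ι_rho (m : (ZMod p)ˣ) (a : A) :
    ι (rho p hp m a) = rho p (hp_bc p hp L) m (ι a) := by
  rw [rho_apply, rho_apply, powConv_ι]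

/-- the base-changed data. -/
noncomputable abbrev χL : (ZMod p)ˣ →* Lˣ := OTMu.chiMap p χ (algebraMap R L)

lemma ι_e (i : ℕ) (a : A) :
    ι (e u χ (rho p hp) i a) = e (algebraMap R L u) (χL p χ L) (rho p (hp_bc p hp L)) i (ι a) := by
  rw [e_apply, e_apply, map_smul, map_sum, algebraMap_smul]
  congr 1
  refine Finset.sum_congr rfl fun m _ => ?_
  rw [map_smul, ι_rho, OTMu.chiMap_apply, ← map_pow, algebraMap_smul]

include hp in
lemma ι_mem (i : ℕ) (a : A) (ha : a ∈ OortTate.eigenAug R A p χ i) :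
    ι a ∈ OortTate.eigenAug L (L ⊗[R] A) p (χL p χ L) i := by
  rw [mem_eigenAug p hp] at ha
  rw [mem_eigenAug p (hp_bc p hp L)]
  refine ⟨?_, fun m => ?_⟩
  · rw [Algebra.TensorProduct.includeRight_apply, TorsIdeal.counit_includeRight, ha.1, map_zero]
  · rw [← ι_rho p hp L, ha.2 m, map_smul, OTMu.chiMap_apply, ← map_pow, algebraMap_smul]

lemma e_bc (i : ℕ) (w : L ⊗[R] A) :
    e (algebraMap R L u) (χL p χ L) (rho p (hp_bc p hp L)) i
        (w - algebraMap L (L ⊗[R] A) (Coalgebra.counit (R := L) w)) =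
      LinearMap.baseChange L ((OortTate.eigenAug R A p χ i).subtype ∘ₗ piAug p hp u χ i) w := by
  induction w using TensorProduct.induction_on with
  | zero => simp
  | add x y hx hy =>
    have h0 : x + y - algebraMap L (L ⊗[R] A) (Coalgebra.counit (R := L) (x + y)) =
        (x - algebraMap L (L ⊗[R] A) (Coalgebra.counit (R := L) x)) +
          (y - algebraMap L (L ⊗[R] A) (Coalgebra.counit (R := L) y)) := by
      rw [map_add, map_add]
      abel
    rw [h0, map_add, map_add, hx, hy]
  | tmul l a =>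
    rw [LinearMap.baseChange_tmul, LinearMap.comp_apply, Submodule.subtype_apply, piAug_apply]
    have h1 : l ⊗ₜ[R] a - algebraMap L (L ⊗[R] A) (Coalgebra.counit (R := L) (l ⊗ₜ[R] a)) =
        l • ι (a - algebraMap R A (Coalgebra.counit (R := R) a)) := by
      rw [TensorProduct.counit_tmul, CommSemiring.counit_apply, map_sub, smul_sub,
        Algebra.TensorProduct.includeRight_apply, Algebra.TensorProduct.includeRight_apply,
        TensorProduct.smul_tmul', smul_eq_mul, mul_one, TensorProduct.smul_tmul', smul_eq_mul,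
        mul_one, Algebra.algebraMap_eq_smul_one, Algebra.algebraMap_eq_smul_one,
        TensorProduct.tmul_smul, Algebra.TensorProduct.one_def]
      congr 1
      rw [TensorProduct.smul_tmul', smul_eq_mul, mul_one, TensorProduct.smul_tmul']
    rw [h1, map_smul, ← ι_e, Algebra.TensorProduct.includeRight_apply, TensorProduct.smul_tmul',
      smul_eq_mul, mul_one]

include hu hp in
/-- if the fibre eigenspace is nonzero, some element of `I_i` has nonzero image. -/
lemma exists_ι_ne_zero (i : ℕ)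
    (h : ∃ v ∈ OortTate.eigenAug L (L ⊗[R] A) p (χL p χ L) i, v ≠ 0) :
    ∃ y ∈ OortTate.eigenAug R A p χ i, ι y ≠ 0 := by
  by_contra hcon
  push Not at hcon
  obtain ⟨v, hv, hv0⟩ := h
  apply hv0
  have hu' : algebraMap R L u * ((p - 1 : ℕ) : L) = 1 := by
    rw [← map_natCast (algebraMap R L), ← map_mul, hu, map_one]
  rw [mem_eigenAug p (hp_bc p hp L)] at hv
  have h1 := e_of_eigen (algebraMap R L u) hu' (χL p χ L) (rho p (hp_bc p hp L)) hv.2
  have h2 := e_bc p u χ hp L i v
  rw [hv.1, map_zero, sub_zero, h1] at h2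
  rw [h2]
  have h3 : LinearMap.baseChange L ((OortTate.eigenAug R A p χ i).subtype ∘ₗ piAug p hp u χ i) = 0 := by
    apply TensorProduct.AlgebraTensorModule.ext
    intro l a
    rw [LinearMap.baseChange_tmul, LinearMap.zero_apply]
    have h4 := hcon _ (piAug p hp u χ i a).2
    rw [Algebra.TensorProduct.includeRight_apply] at h4
    change l ⊗ₜ[R] ((piAug p hp u χ i a : OortTate.eigenAug R A p χ i) : A) = 0
    rw [← mul_one l, ← smul_eq_mul, ← TensorProduct.smul_tmul', h4, smul_zero]
  rw [h3, LinearMap.zero_apply]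

end BaseChange

section Global

variable (p : ℕ) [Fact p.Prime] {R : Type u} [CommRing R] (u : R)
  (hu : u * ((p - 1 : ℕ) : R) = 1) (χ : (ZMod p)ˣ →* Rˣ)
  (hχ : ∀ m : (ZMod p)ˣ, m ≠ 1 → IsUnit ((χ m : R) - 1))
  (hχp : ∀ m : (ZMod p)ˣ,
    ((χ m : Rˣ) : R) - (((m : ZMod p).val : ℕ) : R) ∈ Ideal.span ({(p : R)} : Set R))
  {A : Type u} [CommRing A] [HopfAlgebra R A] [Coalgebra.IsCocomm R A] [Module.Finite R A]
  [Module.Projective R A]
  (hrk : ∀ q : PrimeSpectrum R, Module.rankAtStalk A q = p)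

include hrk in
lemma hp_of_rank : (toConv (AlgHom.id R A)) ^ p = 1 := Deligne.pow_rank_eq_one p hrk

section Prime

variable (q : PrimeSpectrum R)

local notation "κ" => q.asIdeal.ResidueField
local notation "L" => AlgebraicClosure q.asIdeal.ResidueField
local notation "ι" => (Algebra.TensorProduct.includeRight : A →ₐ[R] L ⊗[R] A)

include hrk in
lemma finrank_bc : Module.finrank L (L ⊗[R] A) = p := by
  let b : PrimeSpectrum L := ⟨⊥, Ideal.isPrime_bot⟩
  have h1 := Module.rankAtStalk_baseChange (R := R) (M := A) (S := L) b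
  rw [hrk] at h1
  have h2 := congrFun (Module.rankAtStalk_eq_finrank_of_free (R := L) (M := L ⊗[R] A)) b
  rw [h1] at h2
  exact h2.symm

include hu hχp hrk in
lemma fibre_facts_q :
    (∀ i : ℕ, ∃ v ∈ OortTate.eigenAug L (L ⊗[R] A) p (χL p χ L) i, v ≠ 0) ∧
      ∃ x ∈ OortTate.eigenAug L (L ⊗[R] A) p (χL p χ L) 1, x ^ (p - 1) ≠ 0 := by
  have hu' : algebraMap R L u * ((p - 1 : ℕ) : L) = 1 := by
    rw [← map_natCast (algebraMap R L), ← map_mul, hu, map_one]
  have hχp' : ∀ m : (ZMod p)ˣ, ((χL p χ L m : Lˣ) : L) -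
      (((m : ZMod p).val : ℕ) : L) ∈ Ideal.span ({(p : L)} : Set L) := by
    intro m
    have h2 := Ideal.mem_map_of_mem (algebraMap R L) (hχp m)
    rw [Ideal.map_span, Set.image_singleton, map_sub, map_natCast, map_natCast] at h2
    exact h2
  exact fibre_facts p L (algebraMap R L u) hu' (χL p χ L) hχp' (L ⊗[R] A) (finrank_bc p hrk q)

/-- the comparison map from the fibre of a submodule to the geometric fibre of `A`. -/
noncomputable def fibMap (N : Submodule R A) : κ ⊗[R] N →ₗ[R] L ⊗[R] A :=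
  TensorProduct.map (IsScalarTower.toAlgHom R κ L).toLinearMap N.subtype

lemma fibMap_one_tmul (N : Submodule R A) (y : N) :
    fibMap q N ((1 : κ) ⊗ₜ[R] y) = ι (y : A) := by
  simp [fibMap]

include hu hχp hrk in
lemma rank_pos (i : ℕ) :
    haveI := finite_eigenAug p u hu χ (hp_of_rank p hrk) i
    haveI := projective_eigenAug p u hu χ (hp_of_rank p hrk) i
    0 < Module.rankAtStalk (OortTate.eigenAug R A p χ i) q := by
  haveI := finite_eigenAug p u hu χ (hp_of_rank p hrk) i
  haveI := projective_eigenAug p u hu χ (hp_of_rank p hrk) i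
  obtain ⟨y, hy, hy0⟩ := exists_ι_ne_zero p u hu χ (hp_of_rank p hrk) L i
    ((fibre_facts_q p u hu χ hχp hrk q).1 i)
  rw [Module.rankAtStalk_eq, Module.finrank_pos_iff_exists_ne_zero]
  refine ⟨(1 : κ) ⊗ₜ[R] (⟨y, hy⟩ : OortTate.eigenAug R A p χ i), ?_⟩
  intro h0
  apply hy0
  have := fibMap_one_tmul q (OortTate.eigenAug R A p χ i) ⟨y, hy⟩
  rw [h0, map_zero] at this
  exact this.symm

include hu hχ hχp hrk in
lemma rank_eq_one_of_lt (i : Fin (p - 1)) :
    haveI := finite_eigenAug p u hu χ (hp_of_rank p hrk) (i : ℕ)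
    haveI := projective_eigenAug p u hu χ (hp_of_rank p hrk) (i : ℕ)
    Module.rankAtStalk (OortTate.eigenAug R A p χ (i : ℕ)) q = 1 := by
  haveI := fun j : Fin (p - 1) => finite_eigenAug p u hu χ (hp_of_rank p hrk) (j : ℕ)
  haveI := fun j : Fin (p - 1) => projective_eigenAug p u hu χ (hp_of_rank p hrk) (j : ℕ)
  haveI : Module.Flat R (∀ j : Fin (p - 1), OortTate.eigenAug R A p χ (j : ℕ)) :=
    Module.Flat.of_linearEquiv (DFinsupp.linearEquivFunOnFintype (R := R)
      (M := fun j : Fin (p - 1) => OortTate.eigenAug R A p χ (j : ℕ))).symm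
  have h1 := congrFun (Module.rankAtStalk_eq_of_equiv
    (decomp p u hu χ hχ (hp_of_rank p hrk))) q
  haveI : Nontrivial R := q.nontrivial
  rw [Module.rankAtStalk_prod, Pi.add_apply, Module.rankAtStalk_self, Pi.one_apply,
    Module.rankAtStalk_pi, finsum_eq_sum_of_fintype, hrk] at h1
  have h2 : ∑ j : Fin (p - 1), (1 : ℕ) = ∑ j : Fin (p - 1),
      Module.rankAtStalk (OortTate.eigenAug R A p χ (j : ℕ)) q := by
    rw [Finset.sum_const, Finset.card_univ, Fintype.card_fin, smul_eq_mul, mul_one]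
    have := (Fact.out : p.Prime).one_le
    omega
  have hle : ∀ j ∈ (Finset.univ : Finset (Fin (p - 1))), (fun _ => (1 : ℕ)) j ≤
      (fun j : Fin (p - 1) => Module.rankAtStalk (OortTate.eigenAug R A p χ (j : ℕ)) q) j :=
    fun j _ => rank_pos p u hu χ hχp hrk q (j : ℕ)
  have h3 := (Finset.sum_eq_sum_iff_of_le hle).1 h2
  exact (h3 i (Finset.mem_univ _)).symm

include hu hχ hχp hrk in
lemma rank_eq_one (i : ℕ) :
    haveI := finite_eigenAug p u hu χ (hp_of_rank p hrk) i
    haveI := projective_eigenAug p u hu χ (hp_of_rank p hrk) i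
    Module.rankAtStalk (OortTate.eigenAug R A p χ i) q = 1 := by
  have hp2 := (Fact.out : p.Prime).two_le
  have hlt : i % (p - 1) < p - 1 := Nat.mod_lt _ (by omega)
  have h1 := rank_eq_one_of_lt p u hu χ hχ hχp hrk q ⟨i % (p - 1), hlt⟩
  rw [← h1]
  exact congrFun (Module.rankAtStalk_eq_of_equiv
    (LinearEquiv.ofEq _ _ (eigenAug_mod (A := A) p χ i))) q

include hu hχ hχp hrk in
/-- an element of `I_1` whose image in the geometric fibre has nonzero `(p-1)`-st power. -/
lemma exists_gen : ∃ y ∈ OortTate.eigenAug R A p χ 1, (ι y) ^ (p - 1) ≠ 0 := by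
  haveI := finite_eigenAug p u hu χ (hp_of_rank p hrk) 1
  haveI := projective_eigenAug p u hu χ (hp_of_rank p hrk) 1
  obtain ⟨hA1, x, hx, hx'⟩ := fibre_facts_q p u hu χ hχp hrk q
  obtain ⟨y, hy, hy0⟩ := exists_ι_ne_zero p u hu χ (hp_of_rank p hrk) L 1 (hA1 1)
  refine ⟨y, hy, ?_⟩
  -- the fibre of `I_1` is spanned by `1 ⊗ y`
  have hne : (1 : κ) ⊗ₜ[R] (⟨y, hy⟩ : OortTate.eigenAug R A p χ 1) ≠ 0 := by
    intro h0
    apply hy0
    have := fibMap_one_tmul q (OortTate.eigenAug R A p χ 1) ⟨y, hy⟩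
    rw [h0, map_zero] at this
    exact this.symm
  have hfr : Module.finrank κ (κ ⊗[R] (OortTate.eigenAug R A p χ 1)) = 1 := by
    have := rank_eq_one p u hu χ hχ hχp hrk q 1
    rwa [Module.rankAtStalk_eq] at this
  have hspan := (finrank_eq_one_iff_of_nonzero' _ hne).1 hfr
  -- `ι` of any element of `I_1` is a multiple of `ι y`
  have h1 : ∀ a : OortTate.eigenAug R A p χ 1, ι (a : A) ∈ Submodule.span L {ι y} := by
    intro a
    obtain ⟨c, hc⟩ := hspan ((1 : κ) ⊗ₜ[R] a)
    have h2 := congrArg (fibMap q (OortTate.eigenAug R A p χ 1)) hc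
    rw [fibMap_one_tmul, TensorProduct.smul_tmul', smul_eq_mul, mul_one] at h2
    rw [← h2, Submodule.mem_span_singleton]
    refine ⟨algebraMap κ L c, ?_⟩
    simp [fibMap, TensorProduct.smul_tmul']
    rw [Algebra.algebraMap_eq_smul_one]
  -- hence all of the fibre eigenspace is
  have hu' : algebraMap R L u * ((p - 1 : ℕ) : L) = 1 := by
    rw [← map_natCast (algebraMap R L), ← map_mul, hu, map_one]
  have hx2 := hx
  rw [mem_eigenAug p (hp_bc p (hp_of_rank p hrk) L)] at hx2
  have h3 := e_of_eigen (algebraMap R L u) hu' (χL p χ L) (rho p (hp_bc p (hp_of_rank p hrk) L)) hx2.2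
  have h4 := e_bc p u χ (hp_of_rank p hrk) L 1 x
  rw [hx2.1, map_zero, sub_zero, h3] at h4
  have h5 : ∀ w : L ⊗[R] A, LinearMap.baseChange L ((OortTate.eigenAug R A p χ 1).subtype ∘ₗ
      piAug p (hp_of_rank p hrk) u χ 1) w ∈ Submodule.span L {ι y} := by
    intro w
    induction w using TensorProduct.induction_on with
    | zero => simp
    | add a b ha hb =>
      rw [map_add]
      exact Submodule.add_mem _ ha hb
    | tmul l a =>
      rw [LinearMap.baseChange_tmul]
      have h6 := h1 (piAug p (hp_of_rank p hrk) u χ 1 a)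
      have h7 : l ⊗ₜ[R] ((OortTate.eigenAug R A p χ 1).subtype ∘ₗ
          piAug p (hp_of_rank p hrk) u χ 1) a =
          l • ι ((piAug p (hp_of_rank p hrk) u χ 1 a : OortTate.eigenAug R A p χ 1) : A) := by
        rw [Algebra.TensorProduct.includeRight_apply, TensorProduct.smul_tmul', smul_eq_mul, mul_one]
        rfl
      rw [h7]
      exact Submodule.smul_mem _ _ h6
  have h8 := h5 x
  rw [← h4, Submodule.mem_span_singleton] at h8
  obtain ⟨l, hl⟩ := h8
  intro h0
  apply hx'
  rw [← hl, smul_pow, h0, smul_zero]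

end Prime

section Pow

lemma mul_mem_eigenAug (a b : ℕ) (x y : A) (hx : x ∈ OortTate.eigenAug R A p χ a)
    (hy : y ∈ OortTate.eigenAug R A p χ b) : x * y ∈ OortTate.eigenAug R A p χ (a + b) := by
  rw [mem_eigenAug'] at hx hy ⊢
  refine ⟨?_, fun m => ?_⟩
  · change Bialgebra.counitAlgHom R A (x * y) = 0
    rw [map_mul]
    change Coalgebra.counit (R := R) x * _ = 0
    rw [hx.1, zero_mul]
  · rw [map_mul, hx.2 m, hy.2 m, smul_mul_smul_comm, pow_add]

lemma pow_succ_le (t : ℕ) :
    (OortTate.eigenAug R A p χ 1) ^ (t + 1) ≤ OortTate.eigenAug R A p χ (t + 1) := by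
  induction t with
  | zero => rw [zero_add, pow_one]
  | succ t ih =>
    rw [pow_succ, Submodule.mul_le]
    intro m hm n hn
    exact mul_mem_eigenAug p χ (t + 1) 1 m n (ih hm) hn

include hu hχ hχp hrk in
/-- `I_1^t = I_t` for `1 ≤ t ≤ p - 1`. -/
theorem pow_eq (t : ℕ) (ht1 : 1 ≤ t) (ht : t ≤ p - 1) :
    (OortTate.eigenAug R A p χ 1) ^ t = OortTate.eigenAug R A p χ t := by
  obtain ⟨s, rfl⟩ : ∃ s, t = s + 1 := ⟨t - 1, by omega⟩
  apply le_antisymm (pow_succ_le p χ s)
  haveI := finite_eigenAug p u hu χ (hp_of_rank p hrk) (s + 1)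
  haveI := projective_eigenAug p u hu χ (hp_of_rank p hrk) (s + 1)
  set M := OortTate.eigenAug R A p χ (s + 1) with hM
  set N : Submodule R M := Submodule.comap M.subtype ((OortTate.eigenAug R A p χ 1) ^ (s + 1)) with hN
  suffices hNtop : N = ⊤ by
    intro x hx
    have : (⟨x, hx⟩ : M) ∈ N := by rw [hNtop]; trivial
    exact this
  rw [← Submodule.Quotient.subsingleton_iff, ← Module.support_eq_empty_iff (R := R)]
  ext q
  simp only [Set.mem_empty_iff_false, iff_false]
  rw [Module.mem_support_iff_nontrivial_residueField_tensorProduct, not_nontrivial_iff_subsingleton]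
  constructor
  intro w w'
  suffices h : ∀ w : q.asIdeal.ResidueField ⊗[R] (M ⧸ N), w = 0 by rw [h w, h w']
  intro w
  obtain ⟨v, rfl⟩ := LinearMap.lTensor_surjective q.asIdeal.ResidueField
    (Submodule.mkQ_surjective N) w
  obtain ⟨y, hy, hy0⟩ := exists_gen p u hu χ hχ hχp hrk q
  have hz1 : y ^ (s + 1) ∈ (OortTate.eigenAug R A p χ 1) ^ (s + 1) :=
    Submodule.pow_mem_pow _ hy _
  have hz2 : y ^ (s + 1) ∈ M := pow_succ_le p χ s hz1
  have hzN : (⟨y ^ (s + 1), hz2⟩ : M) ∈ N := hz1
  have hne : (1 : q.asIdeal.ResidueField) ⊗ₜ[R] (⟨y ^ (s + 1), hz2⟩ : M) ≠ 0 := by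
    intro h0
    apply hy0
    have h1 := fibMap_one_tmul q M ⟨y ^ (s + 1), hz2⟩
    rw [h0, map_zero, map_pow] at h1
    have h2 : (Algebra.TensorProduct.includeRight (R := R)
        (A := AlgebraicClosure q.asIdeal.ResidueField) (B := A) y) ^ (p - 1) =
        (Algebra.TensorProduct.includeRight y) ^ (s + 1) *
          (Algebra.TensorProduct.includeRight y) ^ (p - 1 - (s + 1)) := by
      rw [← pow_add]
      congr 1
      omega
    rw [h2, ← h1, zero_mul]
  have hfr : Module.finrank q.asIdeal.ResidueField (q.asIdeal.ResidueField ⊗[R] M) = 1 := by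
    have := rank_eq_one p u hu χ hχ hχp hrk q (s + 1)
    rwa [Module.rankAtStalk_eq] at this
  obtain ⟨c, hc⟩ := (finrank_eq_one_iff_of_nonzero' _ hne).1 hfr v
  rw [← hc, ← LinearMap.baseChange_eq_ltensor, map_smul, LinearMap.baseChange_tmul]
  have : N.mkQ ⟨y ^ (s + 1), hz2⟩ = 0 := (Submodule.Quotient.mk_eq_zero N).2 hzN
  rw [this, TensorProduct.tmul_zero, smul_zero]

end Pow

end Global

end Groth.Agent.Lib.helper15.OTCore
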