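import Mathlib
import Groth.Prelude.Def_CartDual
import Groth.Prelude.Def_CartDual2
import Groth.Prelude.Def_W4c5ffgsreadingcourseOT
import Groth.Agent.Lib.Helper15.OTDual
import Groth.Agent.Lib.Helper15.OTMu
import Groth.Agent.Lib.Helper15.OTCore

/-!
# Oort–Tate: the Cartier pairing `ϕ : R[μ_p] → A ⊗ A^D` (helper15)

* `Theta : A ⊗ D ≃ₗ WithConv (A →ₗ A)`, `a ⊗ f ↦ (x ↦ f x • a)`, is multiplicative for the
  convolution product, and sends a canonical element `δ` to the identity;
* hence `ϕ(T^n) ↦ [n]` and `ϕ(y_1) ↦` the projection of `A` onto `I_1(A)`.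
-/

set_option autoImplicit false
set_option linter.unusedSectionVars false
set_option linter.style.haveILetI false

universe u

open TensorProduct WithConv

namespace Groth.Agent.Lib.helper15.OTPair

open Groth.Agent.Lib.helper15.OTEigen Groth.Agent.Lib.helper15.OTDual
  Groth.Agent.Lib.helper15.OTMu

section Theta

variable {R : Type u} [CommRing R] {A : Type u} [CommRing A] [HopfAlgebra R A]
  [Coalgebra.IsCocomm R A] [Module.Finite R A] [Module.Projective R A]

instance instRightDistribClassTensor : RightDistribClass (A ⊗[R] CartDual.D R A) := by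
  let _ : Semiring (A ⊗[R] CartDual.D R A) := inferInstance
  infer_instance

instance instLeftDistribClassTensor : LeftDistribClass (A ⊗[R] CartDual.D R A) := by
  let _ : Semiring (A ⊗[R] CartDual.D R A) := inferInstance
  infer_instance

noncomputable instance instMulZeroClassTensor : MulZeroClass (A ⊗[R] CartDual.D R A) := by
  let _ : Semiring (A ⊗[R] CartDual.D R A) := inferInstance
  infer_instance

/-- `A ⊗ D ≃ End(A)`, `a ⊗ f ↦ (x ↦ f x • a)` -/
noncomputable def Theta : A ⊗[R] CartDual.D R A ≃ₗ[R] WithConv (A →ₗ[R] A) :=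
  (TensorProduct.congr (LinearEquiv.refl R A) (CartDual.toDual R A)) ≪≫ₗ
    TensorProduct.comm R A (Module.Dual R A) ≪≫ₗ dualTensorHomEquiv R A A ≪≫ₗ
    (WithConv.linearEquiv R (A →ₗ[R] A)).symm

lemma Theta_tmul (a : A) (f : CartDual.D R A) (x : A) :
    (Theta (a ⊗ₜ[R] f)).ofConv x = f.ofConv x • a := by
  simp [Theta]

lemma mul_aux (a b : A) (f g : CartDual.D R A) (t : A ⊗[R] A) :
    LinearMap.mul' R A (TensorProduct.map (Theta (a ⊗ₜ[R] f)).ofConv (Theta (b ⊗ₜ[R] g)).ofConv t) =
      (LinearMap.mul' R R (TensorProduct.map f.ofConv g.ofConv t)) • (a * b) := by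
  induction t using TensorProduct.induction_on with
  | zero => simp
  | tmul x y =>
    rw [TensorProduct.map_tmul, LinearMap.mul'_apply, Theta_tmul, Theta_tmul,
      TensorProduct.map_tmul, LinearMap.mul'_apply, smul_mul_smul_comm]
  | add s t hs ht => rw [map_add, map_add, hs, ht, map_add, map_add, add_smul]

lemma Theta_mul (s t : A ⊗[R] CartDual.D R A) : Theta (s * t) = Theta s * Theta t := by
  induction s using TensorProduct.induction_on with
  | zero => rw [zero_mul, map_zero, zero_mul]
  | add s s' hs hs' => rw [add_mul, map_add, hs, hs', map_add, add_mul]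
  | tmul a f =>
    induction t using TensorProduct.induction_on with
    | zero => rw [mul_zero, map_zero, mul_zero]
    | add t t' ht ht' => rw [mul_add, map_add, ht, ht', map_add, mul_add]
    | tmul b g =>
      rw [Algebra.TensorProduct.tmul_mul_tmul]
      apply WithConv.ext
      apply LinearMap.ext
      intro x
      rw [Theta_tmul]
      have h1 : (Theta (a ⊗ₜ[R] f) * Theta (b ⊗ₜ[R] g)).ofConv x =
          LinearMap.mul' R A (TensorProduct.map (Theta (a ⊗ₜ[R] f)).ofConv
            (Theta (b ⊗ₜ[R] g)).ofConv (Coalgebra.comul (R := R) x)) :=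
        LinearMap.convMul_apply _ _ _
      have h2 : (f * g).ofConv x = LinearMap.mul' R R (TensorProduct.map f.ofConv g.ofConv
          (Coalgebra.comul (R := R) x)) := LinearMap.convMul_apply _ _ _
      rw [h1, mul_aux, h2]

lemma Theta_one : Theta (1 : A ⊗[R] CartDual.D R A) = 1 := by
  rw [Algebra.TensorProduct.one_def]
  apply WithConv.ext
  apply LinearMap.ext
  intro x
  rw [Theta_tmul, LinearMap.convOne_apply, LinearMap.convOne_apply,
    Algebra.algebraMap_eq_smul_one, Algebra.algebraMap_eq_smul_one, smul_eq_mul, mul_one]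

lemma Theta_pow (s : A ⊗[R] CartDual.D R A) (n : ℕ) : Theta (s ^ n) = Theta s ^ n := by
  induction n with
  | zero => rw [pow_zero, pow_zero, Theta_one]
  | succ n ih => rw [pow_succ, pow_succ, Theta_mul, ih]

lemma Theta_apply_eq (s : A ⊗[R] CartDual.D R A) (a : A) :
    (Theta s).ofConv a = TensorProduct.rid R A
      (LinearMap.lTensor A ((Module.Dual.eval R A a) ∘ₗ (CartDual.toDual R A).toLinearMap) s) := by
  induction s using TensorProduct.induction_on with
  | zero => simp
  | add s s' hs hs' =>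
    rw [map_add, WithConv.ofConv_add, LinearMap.add_apply, hs, hs', map_add, map_add]
  | tmul b f =>
    rw [Theta_tmul, LinearMap.lTensor_tmul, TensorProduct.rid_tmul]
    rfl

/-- a canonical element corresponds to the identity -/
lemma Theta_delta (δ : A ⊗[R] CartDual.D R A)
    (hδ : ∀ a : A, TensorProduct.rid R A
      (LinearMap.lTensor A ((Module.Dual.eval R A a) ∘ₗ (CartDual.toDual R A).toLinearMap) δ) = a) :
    Theta δ = toConv (AlgHom.id R A).toLinearMap := by
  apply WithConv.ext
  apply LinearMap.ext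
  intro a
  rw [Theta_apply_eq, hδ]
  rfl

end Theta

section Phi

variable (p : ℕ) [Fact p.Prime] {R : Type u} [CommRing R] (u : R)
  (hu : u * ((p - 1 : ℕ) : R) = 1) (χ : (ZMod p)ˣ →* Rˣ)
  {A : Type u} [CommRing A] [HopfAlgebra R A] [Coalgebra.IsCocomm R A] [Module.Finite R A]
  [Module.Projective R A]
  (hp : (toConv (AlgHom.id R A)) ^ p = 1)
  (δ : A ⊗[R] CartDual.D R A)
  (hδ : ∀ a : A, TensorProduct.rid R A
      (LinearMap.lTensor A ((Module.Dual.eval R A a) ∘ₗ (CartDual.toDual R A).toLinearMap) δ) = a)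
  (ϕ : MonoidAlgebra R (Multiplicative (ZMod p)) →ₐ[R] A ⊗[R] CartDual.D R A)
  (hϕ : ϕ (OortTate.muT R p) = δ)

lemma tau_eq (m : ZMod p) : tau p R m = OortTate.muT R p ^ m.val := by
  unfold tau OortTate.muT
  rw [MonoidAlgebra.of_apply, MonoidAlgebra.single_pow, one_pow, ← ofAdd_nsmul, nsmul_eq_mul,
    mul_one, ZMod.natCast_zmod_val]

lemma phi_pow (x : MonoidAlgebra R (Multiplicative (ZMod p))) (n : ℕ) : ϕ (x ^ n) = ϕ x ^ n := by
  induction n with
  | zero =>
    rw [pow_zero, pow_zero]
    exact ϕ.map_one'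
  | succ n ih =>
    rw [pow_succ, pow_succ, ← ih]
    exact ϕ.map_mul' _ _

lemma phi_one : ϕ 1 = 1 := ϕ.map_one'

include hδ hϕ in
lemma Theta_phi_tau (m : ZMod p) :
    Theta (ϕ (tau p R m)) = toConv (SGA3b.powConv R A m.val).toLinearMap := by
  rw [tau_eq, phi_pow, hϕ, Theta_pow, Theta_delta δ hδ]
  exact (AlgHom.toLinearMap_convPow (toConv (AlgHom.id R A)) m.val).symm

include hδ hϕ in
/-- `ϕ(y_1)` corresponds to the projection of `A` onto `I_1(A)` -/
lemma Theta_phi_ygen (x : A) :
    (Theta (ϕ (OortTate.ygen R p u χ 1))).ofConv x = (piAug p hp u χ 1 x : A) := by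
  rw [piAug_apply, e_apply, ygen_formula, map_smul, map_smul, map_sum, map_sum,
    WithConv.ofConv_smul, LinearMap.smul_apply, WithConv.ofConv_sum, LinearMap.sum_apply]
  congr 1
  refine Finset.sum_congr rfl fun m _ => ?_
  rw [map_smul, map_smul, WithConv.ofConv_smul, LinearMap.smul_apply, map_sub, map_sub,
    phi_one, Theta_phi_tau p δ hδ ϕ hϕ, Theta_one, WithConv.ofConv_sub, LinearMap.sub_apply,
    LinearMap.convOne_apply, rho_apply, map_sub, AlgHom.commutes]
  rfl

end Phi

section RankOne

variable {R : Type u} [CommRing R] {M : Type u} [AddCommGroup M] [Module R M]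
  [Module.Finite R M] [Module.Projective R M]
  (hM : ∀ q : PrimeSpectrum R, Module.rankAtStalk M q = 1)

include hM in
/-- after localizing at a maximal ideal a rank one projective module is free on one generator -/
lemma exists_gen_localization (P : Ideal R) [P.IsMaximal] :
    ∃ e : Localization.AtPrime P ⊗[R] M,
      (∀ z, ∃ c : Localization.AtPrime P, z = c • e) ∧
        ∀ c : Localization.AtPrime P, c • e = 0 → c = 0 := by
  haveI : Module.Free (Localization.AtPrime P) (Localization.AtPrime P ⊗[R] M) :=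
    Module.free_of_flat_of_isLocalRing
  have hfr : Module.finrank (Localization.AtPrime P) (Localization.AtPrime P ⊗[R] M) = 1 := by
    have h1 := Module.rankAtStalk_baseChange (R := R) (M := M) (S := Localization.AtPrime P)
      (IsLocalRing.closedPoint (Localization.AtPrime P))
    rw [hM, Module.rankAtStalk_eq_finrank_of_free] at h1
    exact h1
  let b : Module.Basis (Fin 1) (Localization.AtPrime P) (Localization.AtPrime P ⊗[R] M) :=
    Module.finBasisOfFinrankEq _ _ hfr
  refine ⟨b 0, fun z => ⟨b.repr z 0, ?_⟩, fun c hc => ?_⟩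
  · conv_lhs => rw [← b.sum_repr z]
    rw [Fin.sum_univ_one]
  · have h2 := congrArg (fun w => b.repr w 0) hc
    simp only [map_smul, Module.Basis.repr_self, Finsupp.smul_apply, Finsupp.single_eq_same,
      smul_eq_mul, mul_one, map_zero, Finsupp.zero_apply] at h2
    exact h2

include hM in
/-- the rank one identity `f(x) a = f(a) x` -/
lemma swap (f : M →ₗ[R] R) (a x : M) : f x • a = f a • x := by
  refine Module.eq_of_localization_maximal
    (fun P _ => Localization.AtPrime P ⊗[R] M)
    (fun P _ => TensorProduct.mk R (Localization.AtPrime P) M 1) _ _ ?_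
  intro P hP
  obtain ⟨e, he, -⟩ := exists_gen_localization hM P
  obtain ⟨α, hα⟩ := he ((1 : Localization.AtPrime P) ⊗ₜ[R] a)
  obtain ⟨β, hβ⟩ := he ((1 : Localization.AtPrime P) ⊗ₜ[R] x)
  have hg : ∀ y : M, Module.Dual.baseChange (Localization.AtPrime P) f
      ((1 : Localization.AtPrime P) ⊗ₜ[R] y) = algebraMap R (Localization.AtPrime P) (f y) := by
    intro y
    rw [Module.Dual.baseChange_apply_tmul, Algebra.algebraMap_eq_smul_one]
  change (1 : Localization.AtPrime P) ⊗ₜ[R] (f x • a) = (1 : Localization.AtPrime P) ⊗ₜ[R] (f a • x)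
  rw [TensorProduct.tmul_smul, TensorProduct.tmul_smul, ← algebraMap_smul (Localization.AtPrime P)
    (f x), ← algebraMap_smul (Localization.AtPrime P) (f a), ← hg, ← hg, hα, hβ, map_smul, map_smul,
    smul_smul, smul_smul, smul_eq_mul, smul_eq_mul]
  congr 1
  ring

include hM in
/-- a rank one projective module is faithful -/
lemma faithful (r : R) (h : ∀ y : M, r • y = 0) : r = 0 := by
  apply eq_zero_of_localization
  intro P hP
  obtain ⟨e, -, he0⟩ := exists_gen_localization hM P
  apply he0
  rw [algebraMap_smul]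
  have hall : ∀ z : Localization.AtPrime P ⊗[R] M, r • z = 0 := by
    intro z
    induction z using TensorProduct.induction_on with
    | zero => rw [smul_zero]
    | add z w hz hw => rw [smul_add, hz, hw, add_zero]
    | tmul s y => rw [TensorProduct.smul_tmul', TensorProduct.smul_tmul, h, TensorProduct.tmul_zero]
  exact hall e

end RankOne

section Main

variable (p : ℕ) [Fact p.Prime] {R : Type u} [CommRing R] (u : R)
  (hu : u * ((p - 1 : ℕ) : R) = 1) (χ : (ZMod p)ˣ →* Rˣ)
  (hχ : ∀ m : (ZMod p)ˣ, m ≠ 1 → IsUnit ((χ m : R) - 1))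
  (hχp : ∀ m : (ZMod p)ˣ,
    ((χ m : Rˣ) : R) - (((m : ZMod p).val : ℕ) : R) ∈ Ideal.span ({(p : R)} : Set R))
  {A : Type u} [CommRing A] [HopfAlgebra R A] [Coalgebra.IsCocomm R A] [Module.Finite R A]
  [Module.Projective R A]
  (hp : (toConv (AlgHom.id R A)) ^ p = 1)

/-- the projection onto `I_1(A)` as an endomorphism of `A` -/
noncomputable def Pl : A →ₗ[R] A :=
  (OortTate.eigenAug R A p χ 1).subtype ∘ₗ piAug p hp u χ 1

lemma Pl_apply (x : A) : Pl p u χ hp x = (piAug p hp u χ 1 x : A) := rfl

include hu in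
lemma Pl_of_mem (y : A) (hy : y ∈ OortTate.eigenAug R A p χ 1) : Pl p u χ hp y = y := by
  rw [Pl_apply]
  exact congrArg Subtype.val (OTCore.piAug_subtype p u hu χ hp 1 ⟨y, hy⟩)

lemma Pl_mem (x : A) : Pl p u χ hp x ∈ OortTate.eigenAug R A p χ 1 :=
  (piAug p hp u χ 1 x).2

include hu in
lemma Pl_Pl (x : A) : Pl p u χ hp (Pl p u χ hp x) = Pl p u χ hp x :=
  Pl_of_mem p u hu χ hp _ (Pl_mem p u χ hp x)

include hu in
/-- elements of `I_1(D)` factor through the projection -/
lemma apply_Pl (f : CartDual.D R A) (hf : f ∈ OortTate.eigenAug R (CartDual.D R A) p χ 1)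
    (x : A) : f.ofConv (Pl p u χ hp x) = f.ofConv x := by
  rw [mem_eigenAug p (hp_dual p hp)] at hf
  have h1 : e u χ (rho p (hp_dual p hp)) 1 f = f := e_of_eigen u hu χ _ hf.2
  have h2 : f.ofConv 1 = 0 := hf.1
  rw [Pl_apply, piAug_apply, ← e_dual p hp, h1, map_sub, Algebra.algebraMap_eq_smul_one, map_smul,
    h2, smul_zero, sub_zero]

include hu in
/-- `g ∘ P ∈ I_1(D)` for every linear form `g` -/
lemma transpose_Pl_mem (g : CartDual.D R A) :
    CartDual.transposeLin R (Pl p u χ hp) g ∈ OortTate.eigenAug R (CartDual.D R A) p χ 1 := by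
  obtain ⟨f, hf⟩ := (restrict_bijective p hp u hu χ 1).2
    (g.ofConv.comp (OortTate.eigenAug R A p χ 1).subtype)
  have h1 : CartDual.transposeLin R (Pl p u χ hp) g = (f : CartDual.D R A) := by
    apply WithConv.ext
    apply LinearMap.ext
    intro x
    change g.ofConv (Pl p u χ hp x) = (f : CartDual.D R A).ofConv x
    rw [← apply_Pl p u hu χ hp _ f.2 x]
    exact (LinearMap.congr_fun hf ⟨Pl p u χ hp x, Pl_mem p u χ hp x⟩).symm
  rw [h1]
  exact f.2

/-- the projection `D → I_1(D)` -/
noncomputable def PD : CartDual.D R A →ₗ[R] OortTate.eigenAug R (CartDual.D R A) p χ 1 :=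
  LinearMap.codRestrict _ (CartDual.transposeLin R (Pl p u χ hp))
    (fun g => transpose_Pl_mem p u hu χ hp g)

lemma Theta_map (s : A ⊗[R] CartDual.D R A) :
    (Theta (TensorProduct.map (Pl p u χ hp) (CartDual.transposeLin R (Pl p u χ hp)) s)).ofConv =
      (Pl p u χ hp) ∘ₗ (Theta s).ofConv ∘ₗ (Pl p u χ hp) := by
  induction s using TensorProduct.induction_on with
  | zero => simp
  | add s s' hs hs' =>
    rw [map_add, map_add, WithConv.ofConv_add, hs, hs', map_add, WithConv.ofConv_add,
      LinearMap.add_comp, LinearMap.comp_add]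
  | tmul a g =>
    apply LinearMap.ext
    intro x
    rw [TensorProduct.map_tmul, Theta_tmul, LinearMap.comp_apply, LinearMap.comp_apply, Theta_tmul,
      map_smul]
    rfl

variable (hrk : ∀ q : PrimeSpectrum R, Module.rankAtStalk A q = p)
  (δ : A ⊗[R] CartDual.D R A)
  (hδ : ∀ a : A, TensorProduct.rid R A
      (LinearMap.lTensor A ((Module.Dual.eval R A a) ∘ₗ (CartDual.toDual R A).toLinearMap) δ) = a)
  (ϕ : MonoidAlgebra R (Multiplicative (ZMod p)) →ₐ[R] A ⊗[R] CartDual.D R A)
  (hϕ : ϕ (OortTate.muT R p) = δ)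

include hδ hϕ in
lemma Theta_phi_ygen' :
    (Theta (ϕ (OortTate.ygen R p u χ 1))).ofConv = Pl p u χ hp :=
  LinearMap.ext fun x => Theta_phi_ygen p u χ hp δ hδ ϕ hϕ x

include hu hp hδ hϕ in
lemma phi_ygen_mem_range :
    ϕ (OortTate.ygen R p u χ 1) ∈
      LinearMap.range (TensorProduct.map (OortTate.eigenAug R A p χ 1).subtype
        (OortTate.eigenAug R (CartDual.D R A) p χ 1).subtype) := by
  have h1 : TensorProduct.map (Pl p u χ hp) (CartDual.transposeLin R (Pl p u χ hp))
      (ϕ (OortTate.ygen R p u χ 1)) = ϕ (OortTate.ygen R p u χ 1) := by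
    apply Theta.injective
    apply WithConv.ext
    rw [Theta_map, Theta_phi_ygen' p u χ hp δ hδ ϕ hϕ]
    apply LinearMap.ext
    intro x
    rw [LinearMap.comp_apply, LinearMap.comp_apply, Pl_Pl p u hu χ hp, Pl_Pl p u hu χ hp]
  have h2 : TensorProduct.map (Pl p u χ hp) (CartDual.transposeLin R (Pl p u χ hp)) =
      (TensorProduct.map (OortTate.eigenAug R A p χ 1).subtype
        (OortTate.eigenAug R (CartDual.D R A) p χ 1).subtype) ∘ₗ
      (TensorProduct.map (piAug p hp u χ 1) (PD p u hu χ hp)) := by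
    rw [← TensorProduct.map_comp]
    rfl
  rw [← h1, h2]
  exact ⟨_, rfl⟩

include hu hχ hχp hrk hδ hϕ in
lemma tmul_eq_smul (a : A) (ha : a ∈ OortTate.eigenAug R A p χ 1) (f : CartDual.D R A)
    (hf : f ∈ OortTate.eigenAug R (CartDual.D R A) p χ 1) :
    a ⊗ₜ[R] f = f.ofConv a • ϕ (OortTate.ygen R p u χ 1) := by
  have hp' := OTCore.hp_of_rank p hrk
  haveI := OTCore.finite_eigenAug p u hu χ hp' 1
  haveI := OTCore.projective_eigenAug p u hu χ hp' 1
  have hM : ∀ q : PrimeSpectrum R,
      Module.rankAtStalk (OortTate.eigenAug R A p χ 1) q = 1 :=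
    fun q => OTCore.rank_eq_one p u hu χ hχ hχp hrk q 1
  apply Theta.injective
  apply WithConv.ext
  apply LinearMap.ext
  intro x
  rw [Theta_tmul, map_smul, WithConv.ofConv_smul, LinearMap.smul_apply,
    Theta_phi_ygen' p u χ hp' δ hδ ϕ hϕ, ← apply_Pl p u hu χ hp' f hf x]
  have := swap hM (f.ofConv.comp (OortTate.eigenAug R A p χ 1).subtype) ⟨a, ha⟩
    ⟨Pl p u χ hp' x, Pl_mem p u χ hp' x⟩
  exact congrArg Subtype.val this

include hu hχ hχp hrk hδ hϕ in
theorem span_eq_range :
    Submodule.span R {ϕ (OortTate.ygen R p u χ 1)} =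
      LinearMap.range (TensorProduct.map (OortTate.eigenAug R A p χ 1).subtype
        (OortTate.eigenAug R (CartDual.D R A) p χ 1).subtype) := by
  have hp' := OTCore.hp_of_rank p hrk
  apply le_antisymm
  · rw [Submodule.span_le, Set.singleton_subset_iff]
    exact phi_ygen_mem_range p u hu χ hp' δ hδ ϕ hϕ
  · rintro _ ⟨w, rfl⟩
    induction w using TensorProduct.induction_on with
    | zero => rw [map_zero]; exact Submodule.zero_mem _
    | add w w' hw hw' => rw [map_add]; exact Submodule.add_mem _ hw hw'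
    | tmul a f =>
      rw [TensorProduct.map_tmul, Submodule.subtype_apply, Submodule.subtype_apply,
        tmul_eq_smul p u hu χ hχ hχp hrk δ hδ ϕ hϕ a.1 a.2 f.1 f.2]
      exact Submodule.smul_mem _ _ (Submodule.mem_span_singleton_self _)

include hu hχ hχp hrk hδ hϕ in
theorem smul_phi_ygen_eq_zero (r : R) (h : r • ϕ (OortTate.ygen R p u χ 1) = 0) : r = 0 := by
  have hp' := OTCore.hp_of_rank p hrk
  haveI := OTCore.finite_eigenAug p u hu χ hp' 1
  haveI := OTCore.projective_eigenAug p u hu χ hp' 1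
  have hM : ∀ q : PrimeSpectrum R,
      Module.rankAtStalk (OortTate.eigenAug R A p χ 1) q = 1 :=
    fun q => OTCore.rank_eq_one p u hu χ hχ hχp hrk q 1
  apply faithful hM
  intro y
  apply Subtype.ext
  have h1 := congrArg (fun s => (Theta s).ofConv (y : A)) h
  simp only [map_smul, WithConv.ofConv_smul, LinearMap.smul_apply, map_zero, WithConv.ofConv_zero,
    LinearMap.zero_apply] at h1
  rw [Theta_phi_ygen' p u χ hp' δ hδ ϕ hϕ, Pl_of_mem p u hu χ hp' _ y.2] at h1
  exact h1

end Main

end Groth.Agent.Lib.helper15.OTPair
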