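import Mathlib
import Groth.Prelude.Def_CartDual
import Groth.Prelude.Def_CartDual2
import Groth.Prelude.Def_W4c5ffgsreadingcourseOT
import Groth.Agent.Lib.Helper15.OTPair

/-!
# Oort–Tate: framed group schemes of order `p` (helper15)

`A` a commutative cocommutative Hopf algebra, finite projective of rank `p`, with `I_1(A) = R x`,
`I_1(A^D) = R ξ`, `ξ(x) = 1`.  Then `1, x, …, x^(p-1)` is a basis of `A`, the pairing matrix
`ξ^i(x^k)` is diagonal with the universal unit entries `W i`, and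
`Δ x = x ⊗ 1 + 1 ⊗ x + β Σ_{i+j=p} (W i W j)⁻¹ x^i ⊗ x^j` where `ξ^p = β ξ`.
-/

set_option autoImplicit false
set_option linter.unusedSectionVars false
set_option linter.style.haveILetI false

universe u

open TensorProduct WithConv

namespace Groth.Agent.Lib.helper15.OTFrame

open Groth.Agent.Lib.helper15.OTEigen Groth.Agent.Lib.helper15.OTDual
  Groth.Agent.Lib.helper15.OTMu Groth.Agent.Lib.helper15.OTPair

section W

variable (p : ℕ) [Fact p.Prime] (R : Type u) [CommRing R] (u : R)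
  (hu : u * ((p - 1 : ℕ) : R) = 1) (χ : (ZMod p)ˣ →* Rˣ)

/-- the universal constants `w_j`, with `y_1^j = w_j y_j` -/
noncomputable def W (j : ℕ) : R :=
  if hj : j = 0 then 1 else (exists_w p R u χ hu j hj).choose

lemma W_zero : W p R u hu χ 0 = 1 := dif_pos rfl

lemma W_spec (j : ℕ) (hj : j ≠ 0) :
    W p R u hu χ j • OortTate.ygen R p u χ j = OortTate.ygen R p u χ 1 ^ j := by
  unfold W
  rw [dif_neg hj]
  exact (exists_w p R u χ hu j hj).choose_spec

lemma isUnit_W
    (hχp : ∀ m : (ZMod p)ˣ,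
      ((χ m : Rˣ) : R) - (((m : ZMod p).val : ℕ) : R) ∈ Ideal.span ({(p : R)} : Set R))
    (j : ℕ) (hjp : j ≤ p - 1) : IsUnit (W p R u hu χ j) := by
  by_cases hj : j = 0
  · subst hj
    rw [W_zero]
    exact isUnit_one
  · exact isUnit_w p R u χ hu hχp j hj hjp _ (W_spec p R u hu χ j hj)

end W

section Ortho

variable (p : ℕ) [Fact p.Prime] {R : Type u} [CommRing R] (u : R)
  (hu : u * ((p - 1 : ℕ) : R) = 1) (χ : (ZMod p)ˣ →* Rˣ)
  (hχ : ∀ m : (ZMod p)ˣ, m ≠ 1 → IsUnit ((χ m : R) - 1))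
  {A : Type u} [CommRing A] [HopfAlgebra R A] [Coalgebra.IsCocomm R A] [Module.Finite R A]
  [Module.Projective R A]
  (hp : (toConv (AlgHom.id R A)) ^ p = 1)

include hu hχ hp in
/-- `I_i(A^D)` and `I_k(A)` are orthogonal for `i ≢ k` modulo `p - 1` -/
lemma ortho (i k : ℕ) (hik : i % (p - 1) ≠ k % (p - 1)) (f : CartDual.D R A)
    (hf : f ∈ OortTate.eigenAug R (CartDual.D R A) p χ i) (a : A)
    (ha : a ∈ OortTate.eigenAug R A p χ k) : f.ofConv a = 0 := by
  have hp2 := (Fact.out : p.Prime).two_le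
  have hi : i % (p - 1) < p - 1 := Nat.mod_lt _ (by omega)
  have hk : k % (p - 1) < p - 1 := Nat.mod_lt _ (by omega)
  rw [OTFibre.eigenAug_mod p χ i, mem_eigenAug p (hp_dual p hp)] at hf
  rw [OTFibre.eigenAug_mod p χ k, mem_eigenAug p hp] at ha
  have h1 : e u χ (rho p hp) (k % (p - 1)) a = a := e_of_eigen u hu χ _ ha.2
  have h2 : e u χ (rho p (hp_dual p hp)) (k % (p - 1)) f = 0 :=
    e_of_eigen_ne u χ hχ _ hi hk hik hf.2
  rw [← h1, ← e_dual p hp, h2]
  rfl

end Ortho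

section Psi

variable (p : ℕ) [Fact p.Prime] {R : Type u} [CommRing R] (u : R)
  (hu : u * ((p - 1 : ℕ) : R) = 1) (χ : (ZMod p)ˣ →* Rˣ)
  {A : Type u} [CommRing A] [HopfAlgebra R A] [Coalgebra.IsCocomm R A] [Module.Finite R A]
  [Module.Projective R A]
  (hp : (toConv (AlgHom.id R A)) ^ p = 1)

lemma toConv_powConv (n : ℕ) :
    toConv (SGA3b.powConv R A n).toLinearMap = (toConv (AlgHom.id R A).toLinearMap) ^ n :=
  AlgHom.toLinearMap_convPow (toConv (AlgHom.id R A)) n

/-- `g ↦ [g]`, as a monoid map `ℤ/p → (End A, *)` -/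
noncomputable def powHom : Multiplicative (ZMod p) →* WithConv (A →ₗ[R] A) where
  toFun g := toConv (SGA3b.powConv R A (Multiplicative.toAdd g).val).toLinearMap
  map_one' := by
    rw [toAdd_one, ZMod.val_zero, toConv_powConv, pow_zero]
  map_mul' g h := by
    rw [toAdd_mul, ZMod.val_add, ← powConv_mod p hp, toConv_powConv, toConv_powConv,
      toConv_powConv, pow_add]

/-- the comorphism of the Cartier pairing, with values in the convolution algebra `End(A)` -/
noncomputable def psi : MonoidAlgebra R (Multiplicative (ZMod p)) →ₐ[R] WithConv (A →ₗ[R] A) :=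
  MonoidAlgebra.lift R (WithConv (A →ₗ[R] A)) (Multiplicative (ZMod p)) (powHom p hp)

lemma psi_tau (m : ZMod p) :
    psi p hp (tau p R m) = toConv (SGA3b.powConv R A m.val).toLinearMap := by
  unfold psi tau
  rw [MonoidAlgebra.lift_single, one_smul]
  rfl

lemma psi_ygen (i : ℕ) (a : A) :
    (psi p hp (OortTate.ygen R p u χ i)).ofConv a = (piAug p hp u χ i a : A) := by
  rw [piAug_apply, e_apply, ygen_formula, map_smul, map_sum,
    WithConv.ofConv_smul, LinearMap.smul_apply, WithConv.ofConv_sum, LinearMap.sum_apply]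
  congr 1
  refine Finset.sum_congr rfl fun m _ => ?_
  rw [map_smul, WithConv.ofConv_smul, LinearMap.smul_apply, map_sub,
    map_one, psi_tau, WithConv.ofConv_sub, LinearMap.sub_apply,
    LinearMap.convOne_apply, rho_apply, map_sub, AlgHom.commutes]
  rfl

include hu in
/-- the convolution powers of the projection onto `I_1`: `P_1^{*j} = w_j P_j` -/
lemma psi_pow (j : ℕ) (hj : j ≠ 0) (a : A) :
    ((psi p hp (OortTate.ygen R p u χ 1)) ^ j).ofConv a =
      W p R u hu χ j • (piAug p hp u χ j a : A) := by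
  rw [← map_pow, ← W_spec p R u hu χ j hj, map_smul, WithConv.ofConv_smul, LinearMap.smul_apply,
    psi_ygen]

end Psi

section Framed

variable (p : ℕ) [Fact p.Prime] {R : Type u} [CommRing R] (u : R)
  (hu : u * ((p - 1 : ℕ) : R) = 1) (χ : (ZMod p)ˣ →* Rˣ)
  (hχ : ∀ m : (ZMod p)ˣ, m ≠ 1 → IsUnit ((χ m : R) - 1))
  (hχp : ∀ m : (ZMod p)ˣ,
    ((χ m : Rˣ) : R) - (((m : ZMod p).val : ℕ) : R) ∈ Ideal.span ({(p : R)} : Set R))
  {A : Type u} [CommRing A] [HopfAlgebra R A] [Coalgebra.IsCocomm R A] [Module.Finite R A]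
  [Module.Projective R A]
  (hrk : ∀ q : PrimeSpectrum R, Module.rankAtStalk A q = p)
  (x : A) (hx : Submodule.span R {x} = OortTate.eigenAug R A p χ 1)
  (ξ : CartDual.D R A) (hξ : Submodule.span R {ξ} = OortTate.eigenAug R (CartDual.D R A) p χ 1)
  (hxξ : ξ.ofConv x = 1)

include hx in
lemma x_mem : x ∈ OortTate.eigenAug R A p χ 1 := by
  rw [← hx]
  exact Submodule.mem_span_singleton_self x

include hξ in
lemma xi_mem : ξ ∈ OortTate.eigenAug R (CartDual.D R A) p χ 1 := by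
  rw [← hξ]
  exact Submodule.mem_span_singleton_self ξ

include hx in
lemma x_pow_mem (t : ℕ) : x ^ (t + 1) ∈ OortTate.eigenAug R A p χ (t + 1) :=
  OTCore.pow_succ_le p χ t (Submodule.pow_mem_pow _ (x_mem p χ x hx) _)

include hξ in
lemma xi_pow_mem (t : ℕ) : ξ ^ (t + 1) ∈ OortTate.eigenAug R (CartDual.D R A) p χ (t + 1) :=
  OTCore.pow_succ_le p χ t (Submodule.pow_mem_pow _ (xi_mem p χ ξ hξ) _)

include hu hχ hχp hrk hx in
lemma span_x_pow (t : ℕ) (ht1 : 1 ≤ t) (ht : t ≤ p - 1) :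
    Submodule.span R {x ^ t} = OortTate.eigenAug R A p χ t := by
  rw [← OTCore.pow_eq p u hu χ hχ hχp hrk t ht1 ht, ← hx, Submodule.span_pow, Set.singleton_pow]

include hu hχ hχp hrk hx in
lemma smul_x_pow_eq_zero (t : ℕ) (ht1 : 1 ≤ t) (ht : t ≤ p - 1) (r : R) (h : r • x ^ t = 0) :
    r = 0 := by
  have hp' := OTCore.hp_of_rank p hrk
  haveI := OTCore.finite_eigenAug p u hu χ hp' t
  haveI := OTCore.projective_eigenAug p u hu χ hp' t
  have hM : ∀ q : PrimeSpectrum R,
      Module.rankAtStalk (OortTate.eigenAug R A p χ t) q = 1 :=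
    fun q => OTCore.rank_eq_one p u hu χ hχ hχp hrk q t
  apply faithful hM
  intro y
  apply Subtype.ext
  have hy : (y : A) ∈ Submodule.span R {x ^ t} := by
    rw [span_x_pow p u hu χ hχ hχp hrk x hx t ht1 ht]
    exact y.2
  rw [Submodule.mem_span_singleton] at hy
  obtain ⟨c, hc⟩ := hy
  change r • (y : A) = 0
  rw [← hc, smul_comm, h, smul_zero]

include hu hxξ hx hξ in
/-- the projection onto `I_1(A)` is `a ↦ ξ(a) x` -/
lemma Pl_eq (hp : (toConv (AlgHom.id R A)) ^ p = 1) (a : A) :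
    Pl p u χ hp a = ξ.ofConv a • x := by
  have h1 := Pl_mem p u χ hp a
  rw [← hx, Submodule.mem_span_singleton] at h1
  obtain ⟨c, hc⟩ := h1
  have h2 := apply_Pl p u hu χ hp ξ (xi_mem p χ ξ hξ) a
  rw [← hc, map_smul, hxξ, smul_eq_mul, mul_one] at h2
  rw [← hc, h2]

include hu hxξ hx hξ in
lemma psi_ygen_one_eq (hp : (toConv (AlgHom.id R A)) ^ p = 1) :
    psi p hp (OortTate.ygen R p u χ 1) = Theta (x ⊗ₜ[R] ξ) := by
  apply WithConv.ext
  apply LinearMap.ext
  intro a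
  rw [psi_ygen, Theta_tmul, ← Pl_apply, Pl_eq p u hu χ x hx ξ hξ hxξ hp]

include hu hχ hχp hrk hxξ hx hξ in
/-- the diagonal of the pairing matrix -/
lemma pairing_diag (i : ℕ) (hi1 : 1 ≤ i) (hi : i ≤ p - 1) :
    (ξ ^ i).ofConv (x ^ i) = W p R u hu χ i := by
  have hp' := OTCore.hp_of_rank p hrk
  obtain ⟨t, rfl⟩ : ∃ t, i = t + 1 := ⟨i - 1, by omega⟩
  have h1 := psi_pow p u hu χ hp' (t + 1) (Nat.succ_ne_zero t) (x ^ (t + 1))
  rw [psi_ygen_one_eq p u hu χ x hx ξ hξ hxξ hp', ← Theta_pow, Algebra.TensorProduct.tmul_pow,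
    Theta_tmul] at h1
  have h2 : ((piAug p hp' u χ (t + 1) (x ^ (t + 1)) : OortTate.eigenAug R A p χ (t + 1)) : A) =
      x ^ (t + 1) :=
    congrArg Subtype.val (OTCore.piAug_subtype p u hu χ hp' (t + 1)
      ⟨x ^ (t + 1), x_pow_mem p χ x hx t⟩)
  rw [h2] at h1
  have h3 : ((ξ ^ (t + 1)).ofConv (x ^ (t + 1)) - W p R u hu χ (t + 1)) • x ^ (t + 1) = 0 := by
    rw [sub_smul, h1, sub_self]
  exact sub_eq_zero.1
    (smul_x_pow_eq_zero p u hu χ hχ hχp hrk x hx (t + 1) hi1 hi _ h3)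

include hx in
lemma counit_x_pow (t : ℕ) : Coalgebra.counit (R := R) (x ^ (t + 1)) = 0 :=
  ((OTFibre.mem_eigenAug' p χ (t + 1) _).1 (x_pow_mem p χ x hx t)).1

include hξ in
lemma xi_pow_one (t : ℕ) : (ξ ^ (t + 1)).ofConv 1 = 0 :=
  ((OTFibre.mem_eigenAug' p χ (t + 1) _).1 (xi_pow_mem p χ ξ hξ t)).1

omit [Fact p.Prime] in
lemma mod_ne (_hp2 : 2 ≤ p) (i k : ℕ) (hi1 : 1 ≤ i) (hi : i ≤ p - 1) (hk1 : 1 ≤ k) (hk : k ≤ p - 1)
    (hik : i ≠ k) : i % (p - 1) ≠ k % (p - 1) := by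
  rcases Nat.lt_or_ge i (p - 1) with h1 | h1
  · rcases Nat.lt_or_ge k (p - 1) with h2 | h2
    · rw [Nat.mod_eq_of_lt h1, Nat.mod_eq_of_lt h2]
      exact hik
    · have : k = p - 1 := le_antisymm hk h2
      rw [Nat.mod_eq_of_lt h1, this, Nat.mod_self]
      omega
  · have hi' : i = p - 1 := le_antisymm hi h1
    rcases Nat.lt_or_ge k (p - 1) with h2 | h2
    · rw [Nat.mod_eq_of_lt h2, hi', Nat.mod_self]
      omega
    · have : k = p - 1 := le_antisymm hk h2
      omega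

include hu hχ hχp hrk hxξ hx hξ in
/-- the pairing matrix between powers of `ξ` and powers of `x` -/
lemma pairing (i k : ℕ) (hi : i ≤ p - 1) (hk : k ≤ p - 1) :
    (ξ ^ i).ofConv (x ^ k) = if i = k then W p R u hu χ i else 0 := by
  have hp' := OTCore.hp_of_rank p hrk
  have hp2 := (Fact.out : p.Prime).two_le
  rcases Nat.eq_zero_or_pos i with hi0 | hi0
  · subst hi0
    rw [pow_zero, LinearMap.convOne_apply]
    rcases Nat.eq_zero_or_pos k with hk0 | hk0
    · subst hk0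
      rw [if_pos rfl, W_zero, pow_zero]
      change algebraMap R R (Bialgebra.counitAlgHom R A 1) = 1
      rw [map_one, map_one]
    · obtain ⟨t, rfl⟩ : ∃ t, k = t + 1 := ⟨k - 1, by omega⟩
      rw [if_neg (by omega), counit_x_pow p χ x hx t, map_zero]
  · obtain ⟨s, rfl⟩ : ∃ s, i = s + 1 := ⟨i - 1, by omega⟩
    rcases Nat.eq_zero_or_pos k with hk0 | hk0
    · subst hk0
      rw [if_neg (by omega), pow_zero, xi_pow_one p χ ξ hξ s]
    · obtain ⟨t, rfl⟩ : ∃ t, k = t + 1 := ⟨k - 1, by omega⟩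
      by_cases hst : s + 1 = t + 1
      · rw [if_pos hst, ← hst]
        exact pairing_diag p u hu χ hχ hχp hrk x hx ξ hξ hxξ (s + 1) (by omega) hi
      · rw [if_neg hst]
        exact ortho p u hu χ hχ hp' (s + 1) (t + 1)
          (mod_ne p hp2 _ _ (by omega) hi (by omega) hk hst) _ (xi_pow_mem p χ ξ hξ s) _
          (x_pow_mem p χ x hx t)

include hu hχ hχp hrk hxξ hx hξ in
lemma li_x_pow : LinearIndependent R (fun k : Fin p => x ^ (k : ℕ)) := by
  rw [Fintype.linearIndependent_iff]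
  intro c hc i
  have h1 := congrArg (fun a => (ξ ^ (i : ℕ)).ofConv a) hc
  simp only [map_sum, map_smul, map_zero] at h1
  have hi : (i : ℕ) ≤ p - 1 := by have := i.2; omega
  rw [Finset.sum_eq_single i] at h1
  · rw [pairing p u hu χ hχ hχp hrk x hx ξ hξ hxξ i i hi hi, if_pos rfl, smul_eq_mul] at h1
    exact (isUnit_W p R u hu χ hχp i hi).mul_left_eq_zero.1 h1
  · intro k _ hki
    have hk : (k : ℕ) ≤ p - 1 := by have := k.2; omega
    rw [pairing p u hu χ hχ hχp hrk x hx ξ hξ hxξ i k hi hk, if_neg, smul_zero]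
    intro h
    exact hki (Fin.ext h.symm)
  · intro h
    exact absurd (Finset.mem_univ _) h

include hu hχ hχp hrk hx in
lemma span_x_pow_top : ⊤ ≤ Submodule.span R (Set.range (fun k : Fin p => x ^ (k : ℕ))) := by
  have hp' := OTCore.hp_of_rank p hrk
  have hp2 := (Fact.out : p.Prime).two_le
  intro a _
  have h1 := (OTCore.decomp p u hu χ hχ hp').symm_apply_apply a
  rw [← h1]
  change _ • (1 : A) + ∑ i : Fin (p - 1), _ ∈ _
  apply Submodule.add_mem
  · apply Submodule.smul_mem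
    apply Submodule.subset_span
    exact ⟨⟨0, by omega⟩, pow_zero x⟩
  · apply Submodule.sum_mem
    intro i _
    obtain ⟨y, hy⟩ := (OTCore.decomp p u hu χ hχ hp' a).2 i
    change y ∈ _
    by_cases hi0 : (i : ℕ) = 0
    · have h2 : OortTate.eigenAug R A p χ (i : ℕ) = OortTate.eigenAug R A p χ (p - 1) := by
        rw [hi0, OTFibre.eigenAug_mod p χ (p - 1), Nat.mod_self]
      rw [h2, ← span_x_pow p u hu χ hχ hχp hrk x hx (p - 1) (by omega) le_rfl,
        Submodule.mem_span_singleton] at hy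
      obtain ⟨c, hc⟩ := hy
      rw [← hc]
      apply Submodule.smul_mem
      apply Submodule.subset_span
      exact ⟨⟨p - 1, by omega⟩, rfl⟩
    · rw [← span_x_pow p u hu χ hχ hχp hrk x hx i (by omega) (by have := i.2; omega),
        Submodule.mem_span_singleton] at hy
      obtain ⟨c, hc⟩ := hy
      rw [← hc]
      apply Submodule.smul_mem
      apply Submodule.subset_span
      exact ⟨⟨i, by have := i.2; omega⟩, rfl⟩

/-- the basis `1, x, …, x^(p-1)` -/
noncomputable def xb : Module.Basis (Fin p) R A :=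
  Module.Basis.mk (li_x_pow p u hu χ hχ hχp hrk x hx ξ hξ hxξ)
    (span_x_pow_top p u hu χ hχ hχp hrk x hx)

lemma xb_apply (k : Fin p) : xb p u hu χ hχ hχp hrk x hx ξ hξ hxξ k = x ^ (k : ℕ) := by
  unfold xb
  rw [Module.Basis.mk_apply]

/-- pairing of `A ⊗ A` with `ξ^i ⊗ ξ^j` -/
noncomputable def pairF (i j : ℕ) : A ⊗[R] A →ₗ[R] R :=
  LinearMap.mul' R R ∘ₗ TensorProduct.map (ξ ^ i).ofConv (ξ ^ j).ofConv

omit [Fact p.Prime] [Coalgebra.IsCocomm R A] [Module.Finite R A] [Module.Projective R A] in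
lemma pairF_tmul (i j : ℕ) (a b : A) :
    pairF ξ i j (a ⊗ₜ[R] b) = (ξ ^ i).ofConv a * (ξ ^ j).ofConv b := rfl

omit [Fact p.Prime] [Coalgebra.IsCocomm R A] [Module.Finite R A] [Module.Projective R A] in
lemma pairF_comul (i j : ℕ) (a : A) :
    pairF ξ i j (Coalgebra.comul (R := R) a) = (ξ ^ (i + j)).ofConv a := by
  rw [pow_add]
  exact (LinearMap.convMul_apply (ξ ^ i) (ξ ^ j) a).symm

include hu hχ hχp hrk hxξ hx hξ in
lemma pairF_repr (t : A ⊗[R] A) (i j : Fin p) :
    pairF ξ i j t =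
      ((xb p u hu χ hχ hχp hrk x hx ξ hξ hxξ).tensorProduct
        (xb p u hu χ hχ hχp hrk x hx ξ hξ hxξ)).repr t (i, j) *
        (W p R u hu χ i * W p R u hu χ j) := by
  set b := xb p u hu χ hχ hχp hrk x hx ξ hξ hxξ with hb
  conv_lhs => rw [← (b.tensorProduct b).sum_repr t]
  rw [map_sum, Finset.sum_eq_single (i, j)]
  · rw [map_smul, Module.Basis.tensorProduct_apply, hb, xb_apply, xb_apply, pairF_tmul,
      pairing p u hu χ hχ hχp hrk x hx ξ hξ hxξ i i (by have := i.2; omega) (by have := i.2; omega),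
      pairing p u hu χ hχ hχp hrk x hx ξ hξ hxξ j j (by have := j.2; omega) (by have := j.2; omega),
      if_pos rfl, if_pos rfl, smul_eq_mul]
  · rintro ⟨k, l⟩ _ hkl
    rw [map_smul, Module.Basis.tensorProduct_apply, hb, xb_apply, xb_apply, pairF_tmul,
      pairing p u hu χ hχ hχp hrk x hx ξ hξ hxξ i k (by have := i.2; omega) (by have := k.2; omega),
      pairing p u hu χ hχ hχp hrk x hx ξ hξ hxξ j l (by have := j.2; omega) (by have := l.2; omega)]
    by_cases hik : (i : ℕ) = k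
    · by_cases hjl : (j : ℕ) = l
      · exact absurd (Prod.ext (Fin.ext hik.symm) (Fin.ext hjl.symm)) hkl
      · rw [if_neg hjl, mul_zero, smul_zero]
    · rw [if_neg hik, zero_mul, smul_zero]
  · intro h
    exact absurd (Finset.mem_univ _) h

include hu hχ hχp hrk hxξ hx hξ in
/-- the pairings with `ξ^i ⊗ ξ^j`, `i, j < p`, separate the points of `A ⊗ A` -/
lemma ext_pair (t t' : A ⊗[R] A) (h : ∀ i j : Fin p, pairF ξ i j t = pairF ξ i j t') : t = t' := by
  set b := xb p u hu χ hχ hχp hrk x hx ξ hξ hxξ with hb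
  apply (b.tensorProduct b).repr.injective
  ext ⟨i, j⟩
  have h1 := h i j
  rw [pairF_repr p u hu χ hχ hχp hrk x hx ξ hξ hxξ, pairF_repr p u hu χ hχ hχp hrk x hx ξ hξ hxξ]
    at h1
  have hu1 : IsUnit (W p R u hu χ i * W p R u hu χ j) :=
    (isUnit_W p R u hu χ hχp i (by have := i.2; omega)).mul
      (isUnit_W p R u hu χ hχp j (by have := j.2; omega))
  exact hu1.mul_left_injective h1

include hu hχ hχp hrk hxξ hx hξ in
lemma W_one : W p R u hu χ 1 = 1 := by
  have hp2 := (Fact.out : p.Prime).two_le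
  have h := pairing_diag p u hu χ hχ hχp hrk x hx ξ hξ hxξ 1 le_rfl (by omega)
  rw [pow_one, pow_one, hxξ] at h
  exact h.symm

include hu hχ hχp hrk hxξ hx hξ in
/-- the values `ξ^n(x)` -/
lemma xi_pow_x (β : R) (hβ : ξ ^ p = β • ξ) (n : ℕ) (hn : n ≤ 2 * p - 2) :
    (ξ ^ n).ofConv x = (if n = 1 then 1 else 0) + β * (if n = p then 1 else 0) := by
  have hp2 := (Fact.out : p.Prime).two_le
  rcases Nat.lt_or_ge n p with hlt | hge
  · have h := pairing p u hu χ hχ hχp hrk x hx ξ hξ hxξ n 1 (by omega) (by omega)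
    rw [pow_one] at h
    rw [h, if_neg (by omega : ¬ n = p), mul_zero, add_zero]
    by_cases h1 : n = 1
    · rw [if_pos h1, if_pos h1, h1, W_one p u hu χ hχ hχp hrk x hx ξ hξ hxξ]
    · rw [if_neg h1, if_neg h1]
  · have h1 : ξ ^ n = β • ξ ^ (n - p + 1) := by
      have : n = (n - p) + p := by omega
      conv_lhs => rw [this, pow_add, hβ, mul_smul_comm, ← pow_succ]
    have h := pairing p u hu χ hχ hχp hrk x hx ξ hξ hxξ (n - p + 1) 1 (by omega) (by omega)
    rw [pow_one] at h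
    rw [h1, WithConv.ofConv_smul, LinearMap.smul_apply, h, if_neg (by omega : ¬ n = 1), zero_add,
      smul_eq_mul]
    by_cases h2 : n = p
    · rw [if_pos h2, if_pos (by omega), show n - p + 1 = 1 by omega,
        W_one p u hu χ hχ hχp hrk x hx ξ hξ hxξ]
    · rw [if_neg h2, if_neg (by omega)]

section Univ

variable {B : Type u} [CommRing B] [Algebra R B]

include hu hχ hχp hrk hxξ hx hξ in
/-- algebra maps out of `A` are determined by the image of `x` -/
lemma alg_ext (F G : A →ₐ[R] B) (h : F x = G x) : F = G := by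
  apply AlgHom.toLinearMap_injective
  apply (xb p u hu χ hχ hχp hrk x hx ξ hξ hxξ).ext
  intro k
  rw [xb_apply, AlgHom.toLinearMap_apply, AlgHom.toLinearMap_apply, map_pow, map_pow, h]

include hu hχ hχp hrk hxξ hx hξ in
/-- the universal property of `A = R[x]/(x^p - α x)` -/
lemma exists_algHom (α : R) (hα : x ^ p = α • x) (z : B) (hz : z ^ p = α • z) :
    ∃ F : A →ₐ[R] B, F x = z := by
  have hp2 := (Fact.out : p.Prime).two_le
  set b := xb p u hu χ hχ hχp hrk x hx ξ hξ hxξ with hb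
  set F : A →ₗ[R] B := b.constr R (fun k : Fin p => z ^ (k : ℕ)) with hF
  have hFb : ∀ k : Fin p, F (x ^ (k : ℕ)) = z ^ (k : ℕ) := by
    intro k
    rw [← xb_apply p u hu χ hχ hχp hrk x hx ξ hξ hxξ k, ← hb, hF, Module.Basis.constr_basis]
  have hFpow : ∀ n : ℕ, F (x ^ n) = z ^ n := by
    intro n
    induction n using Nat.strong_induction_on with
    | _ n ih =>
      rcases Nat.lt_or_ge n p with hlt | hge
      · exact hFb ⟨n, hlt⟩
      · have h1 : x ^ n = α • x ^ (n - p + 1) := by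
          have : n = (n - p) + p := by omega
          conv_lhs => rw [this, pow_add, hα, mul_smul_comm, ← pow_succ]
        have h2 : z ^ n = α • z ^ (n - p + 1) := by
          have : n = (n - p) + p := by omega
          conv_lhs => rw [this, pow_add, hz, mul_smul_comm, ← pow_succ]
        rw [h1, h2, map_smul, ih (n - p + 1) (by omega)]
  have hmul : ∀ a a' : A, F (a * a') = F a * F a' := by
    have h3 : (LinearMap.mul R A).compr₂ F = (LinearMap.mul R B).compl₁₂ F F := by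
      apply b.ext
      intro i
      apply b.ext
      intro j
      rw [LinearMap.compr₂_apply, LinearMap.compl₁₂_apply, LinearMap.mul_apply', LinearMap.mul_apply',
        hb, xb_apply, xb_apply, ← pow_add, hFpow, hFpow, hFpow, pow_add]
    intro a a'
    exact LinearMap.congr_fun (LinearMap.congr_fun h3 a) a'
  have hone : F 1 = 1 := by
    have := hFpow 0
    rwa [pow_zero, pow_zero] at this
  refine ⟨AlgHom.ofLinearMap F hone hmul, ?_⟩
  have := hFpow 1
  rwa [pow_one, pow_one] at this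

end Univ

end Framed

section Iso

variable (p : ℕ) [Fact p.Prime] {R : Type u} [CommRing R] (u : R)
  (hu : u * ((p - 1 : ℕ) : R) = 1) (χ : (ZMod p)ˣ →* Rˣ)
  (hχ : ∀ m : (ZMod p)ˣ, m ≠ 1 → IsUnit ((χ m : R) - 1))
  (hχp : ∀ m : (ZMod p)ˣ,
    ((χ m : Rˣ) : R) - (((m : ZMod p).val : ℕ) : R) ∈ Ideal.span ({(p : R)} : Set R))
  {A : Type u} [CommRing A] [HopfAlgebra R A] [Coalgebra.IsCocomm R A] [Module.Finite R A]
  [Module.Projective R A]
  (hrk : ∀ q : PrimeSpectrum R, Module.rankAtStalk A q = p)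
  {A' : Type u} [CommRing A'] [HopfAlgebra R A'] [Coalgebra.IsCocomm R A'] [Module.Finite R A']
  [Module.Projective R A']
  (hrk' : ∀ q : PrimeSpectrum R, Module.rankAtStalk A' q = p)
  (x : A) (hx : Submodule.span R {x} = OortTate.eigenAug R A p χ 1)
  (ξ : CartDual.D R A) (hξ : Submodule.span R {ξ} = OortTate.eigenAug R (CartDual.D R A) p χ 1)
  (hxξ : ξ.ofConv x = 1)
  (x' : A') (hx' : Submodule.span R {x'} = OortTate.eigenAug R A' p χ 1)
  (ξ' : CartDual.D R A')
  (hξ' : Submodule.span R {ξ'} = OortTate.eigenAug R (CartDual.D R A') p χ 1)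
  (hxξ' : ξ'.ofConv x' = 1)

include hu hχ hχp hrk hrk' hx hξ hxξ hx' hξ' hxξ' in
/-- transfer of the pairing along an algebra map `x ↦ c x'` -/
lemma pair_transfer (c : R) (F : A →ₐ[R] A') (hF : F x = c • x') (i : Fin p) (a : A) :
    (ξ' ^ (i : ℕ)).ofConv (F a) = c ^ (i : ℕ) * (ξ ^ (i : ℕ)).ofConv a := by
  have h1 : (ξ' ^ (i : ℕ)).ofConv ∘ₗ F.toLinearMap = (c ^ (i : ℕ)) • (ξ ^ (i : ℕ)).ofConv := by
    apply (xb p u hu χ hχ hχp hrk x hx ξ hξ hxξ).ext
    intro k
    have hi : (i : ℕ) ≤ p - 1 := by have := i.2; omega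
    have hk : (k : ℕ) ≤ p - 1 := by have := k.2; omega
    rw [xb_apply, LinearMap.comp_apply, AlgHom.toLinearMap_apply, map_pow, hF, smul_pow, map_smul,
      LinearMap.smul_apply, pairing p u hu χ hχ hχp hrk' x' hx' ξ' hξ' hxξ' i k hi hk,
      pairing p u hu χ hχ hχp hrk x hx ξ hξ hxξ i k hi hk]
    by_cases hik : (i : ℕ) = k
    · rw [if_pos hik, hik]
    · rw [if_neg hik, smul_zero, smul_zero]
  have := LinearMap.congr_fun h1 a
  rwa [LinearMap.comp_apply, AlgHom.toLinearMap_apply, LinearMap.smul_apply, smul_eq_mul] at this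

include hu hχ hχp hrk hrk' hx hξ hxξ hx' hξ' hxξ' in
lemma pairF_transfer (c : R) (F : A →ₐ[R] A') (hF : F x = c • x') (i j : Fin p)
    (t : A ⊗[R] A) :
    pairF ξ' i j (Algebra.TensorProduct.map F F t) = c ^ ((i : ℕ) + j) * pairF ξ i j t := by
  induction t using TensorProduct.induction_on with
  | zero => rw [map_zero, map_zero, map_zero, mul_zero]
  | add t t' ht ht' => rw [map_add, map_add, ht, ht', map_add, mul_add]
  | tmul a a' =>
    rw [Algebra.TensorProduct.map_tmul, pairF_tmul, pairF_tmul,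
      pair_transfer p u hu χ hχ hχp hrk hrk' x hx ξ hξ hxξ x' hx' ξ' hξ' hxξ' c F hF,
      pair_transfer p u hu χ hχ hχp hrk hrk' x hx ξ hξ hxξ x' hx' ξ' hξ' hxξ' c F hF, pow_add]
    ring

include hu hχ hχp hrk hrk' hx hξ hxξ hx' hξ' hxξ' in
/-- framed group schemes of order `p` with matching parameters are isomorphic -/
theorem nonempty_bialgEquiv (α β α' β' : R) (hα : x ^ p = α • x) (hβ : ξ ^ p = β • ξ)
    (hα' : x' ^ p = α' • x') (hβ' : ξ' ^ p = β' • ξ')
    (c : Rˣ) (hαc : α = ((c ^ (p - 1) : Rˣ) : R) * α') (hβc : β' = ((c ^ (p - 1) : Rˣ) : R) * β) :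
    Nonempty (A ≃ₐc[R] A') := by
  have hp2 := (Fact.out : p.Prime).two_le
  have hpp : p = (p - 1) + 1 := by omega
  -- the two algebra maps
  have hz : ((c : R) • x') ^ p = α • ((c : R) • x') := by
    rw [smul_pow, hα', hαc, smul_smul, smul_smul, Units.val_pow_eq_pow_val]
    congr 1
    conv_lhs => rw [hpp, pow_succ]
    ring
  have hz' : (((c⁻¹ : Rˣ) : R) • x) ^ p = α' • (((c⁻¹ : Rˣ) : R) • x) := by
    rw [smul_pow, hα, hαc, smul_smul, smul_smul, Units.val_pow_eq_pow_val]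
    congr 1
    conv_lhs => rw [hpp, pow_succ]
    have h1 : ((c⁻¹ : Rˣ) : R) ^ (p - 1) * (c : R) ^ (p - 1) = 1 := by
      rw [← mul_pow, Units.inv_mul, one_pow]
    calc ((c⁻¹ : Rˣ) : R) ^ (p - 1) * ((c⁻¹ : Rˣ) : R) * ((c : R) ^ (p - 1) * α')
        = (((c⁻¹ : Rˣ) : R) ^ (p - 1) * (c : R) ^ (p - 1)) * (α' * ((c⁻¹ : Rˣ) : R)) := by ring
      _ = α' * ((c⁻¹ : Rˣ) : R) := by rw [h1, one_mul]
  obtain ⟨F, hF⟩ := exists_algHom p u hu χ hχ hχp hrk x hx ξ hξ hxξ α hα ((c : R) • x') hz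
  obtain ⟨G, hG⟩ := exists_algHom p u hu χ hχ hχp hrk' x' hx' ξ' hξ' hxξ' α' hα'
    (((c⁻¹ : Rˣ) : R) • x) hz'
  have hGF : G.comp F = AlgHom.id R A := by
    apply alg_ext p u hu χ hχ hχp hrk x hx ξ hξ hxξ
    rw [AlgHom.comp_apply, hF, map_smul, hG, smul_smul, Units.mul_inv, one_smul]
    rfl
  have hFG : F.comp G = AlgHom.id R A' := by
    apply alg_ext p u hu χ hχ hχp hrk' x' hx' ξ' hξ' hxξ'
    rw [AlgHom.comp_apply, hG, map_smul, hF, smul_smul, Units.inv_mul, one_smul]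
    rfl
  let e : A ≃ₐ[R] A' := AlgEquiv.ofAlgHom F G hFG hGF
  have he : ∀ a, e a = F a := fun a => rfl
  refine ⟨BialgEquiv.ofAlgEquiv e ?_ ?_⟩
  · apply alg_ext p u hu χ hχ hχp hrk x hx ξ hξ hxξ
    rw [AlgHom.comp_apply]
    change Coalgebra.counit (R := R) (e x) = Coalgebra.counit (R := R) x
    rw [he, hF, map_smul]
    have h1 : Coalgebra.counit (R := R) x = 0 :=
      ((OTFibre.mem_eigenAug' p χ 1 _).1 (x_mem p χ x hx)).1
    have h2 : Coalgebra.counit (R := R) x' = 0 :=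
      ((OTFibre.mem_eigenAug' p χ 1 _).1 (x_mem p χ x' hx')).1
    rw [h1, h2, smul_zero]
  · apply alg_ext p u hu χ hχ hχp hrk x hx ξ hξ hxξ
    rw [AlgHom.comp_apply, AlgHom.comp_apply]
    change Algebra.TensorProduct.map (e : A →ₐ[R] A') (e : A →ₐ[R] A') (Coalgebra.comul (R := R) x) =
      Coalgebra.comul (R := R) (e x)
    have he' : (e : A →ₐ[R] A') = F := AlgHom.ext he
    rw [he', he, hF, map_smul]
    apply ext_pair p u hu χ hχ hχp hrk' x' hx' ξ' hξ' hxξ'
    intro i j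
    have hij : (i : ℕ) + j ≤ 2 * p - 2 := by have := i.2; have := j.2; omega
    rw [pairF_transfer p u hu χ hχ hχp hrk hrk' x hx ξ hξ hxξ x' hx' ξ' hξ' hxξ' c F hF,
      pairF_comul, map_smul, pairF_comul,
      xi_pow_x p u hu χ hχ hχp hrk x hx ξ hξ hxξ β hβ _ hij,
      xi_pow_x p u hu χ hχ hχp hrk' x' hx' ξ' hξ' hxξ' β' hβ' _ hij, smul_eq_mul]
    have hcp : (c : R) ^ p = (c : R) ^ (p - 1) * c := by
      conv_lhs => rw [hpp, pow_succ]
    by_cases h1 : (i : ℕ) + j = 1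
    · rw [if_pos h1, if_neg (by omega), h1, pow_one, mul_zero, mul_zero]
    · rw [if_neg h1]
      by_cases h2 : (i : ℕ) + j = p
      · rw [if_pos h2, h2, hβc, Units.val_pow_eq_pow_val, hcp]
        ring
      · rw [if_neg h2]
        ring

end Iso

end Groth.Agent.Lib.helper15.OTFrame
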