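import Mathlib
import Groth.Prelude.Def_W4c5ffgsreadingcourseOT
import Groth.Agent.Lib.Helper15.OTCore
import Groth.Agent.Lib.Helper15.OTFrame

/-!
# Oort–Tate: `A` as a quotient of the tensor algebra of `I_1` (helper15)

For a commutative cocommutative Hopf algebra `A`, finite projective of rank `p`, the algebra map
`T(I_1) → A` is surjective and its kernel is the left ideal generated by the elements
`ι x_1 ⋯ ι x_p - ι g` with `g = x_1 ⋯ x_p`.
-/

set_option autoImplicit false
set_option linter.unusedSectionVars false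
set_option linter.style.haveILetI false

universe u

open TensorProduct WithConv

namespace Groth.Agent.Lib.helper15.OTTensor

open Groth.Agent.Lib.helper15.OTEigen Groth.Agent.Lib.helper15.OTDual

section Main

variable (p : ℕ) [Fact p.Prime] {R : Type u} [CommRing R] (u : R)
  (hu : u * ((p - 1 : ℕ) : R) = 1) (χ : (ZMod p)ˣ →* Rˣ)
  (hχ : ∀ m : (ZMod p)ˣ, m ≠ 1 → IsUnit ((χ m : R) - 1))
  (hχp : ∀ m : (ZMod p)ˣ,
    ((χ m : Rˣ) : R) - (((m : ZMod p).val : ℕ) : R) ∈ Ideal.span ({(p : R)} : Set R))
  {A : Type u} [CommRing A] [HopfAlgebra R A] [Coalgebra.IsCocomm R A] [Module.Finite R A]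
  [Module.Projective R A]
  (hrk : ∀ q : PrimeSpectrum R, Module.rankAtStalk A q = p)

local notation "I₁" => OortTate.eigenAug R A p χ 1
local notation "T" => TensorAlgebra R (OortTate.eigenAug R A p χ 1)

/-- the canonical algebra map `T(I_1) → A` -/
noncomputable abbrev piT : T →ₐ[R] A := TensorAlgebra.lift R (OortTate.eigenAug R A p χ 1).subtype

/-- the degree `n` part of the tensor algebra (as a span of products) -/
noncomputable def S (n : ℕ) : Submodule R T :=
  (LinearMap.range (TensorAlgebra.ι R : (OortTate.eigenAug R A p χ 1) →ₗ[R] T)) ^ n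

lemma map_S (n : ℕ) :
    (S p χ (A := A) n).map (piT p χ (A := A)).toLinearMap = (OortTate.eigenAug R A p χ 1) ^ n := by
  unfold S
  rw [Submodule.map_pow]
  congr 1
  rw [← LinearMap.range_comp]
  have : (piT p χ (A := A)).toLinearMap ∘ₗ (TensorAlgebra.ι R) =
      (OortTate.eigenAug R A p χ 1).subtype := TensorAlgebra.ι_comp_lift _
  rw [this, Submodule.range_subtype]

lemma S_mul (n m : ℕ) : S p χ (A := A) n * S p χ m = S p χ (n + m) := by
  unfold S
  rw [pow_add]

lemma iSup_S : (⨆ n, S p χ (A := A) n) = ⊤ := by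
  rw [eq_top_iff]
  intro z _
  induction z using TensorAlgebra.induction with
  | algebraMap r =>
    apply Submodule.mem_iSup_of_mem 0
    unfold S
    rw [pow_zero]
    exact Submodule.algebraMap_mem r
  | ι x =>
    apply Submodule.mem_iSup_of_mem 1
    unfold S
    rw [pow_one]
    exact ⟨x, rfl⟩
  | mul a b ha hb =>
    have h1 := Submodule.mul_mem_mul (ha trivial) (hb trivial)
    rw [Submodule.iSup_mul] at h1
    refine (iSup_le fun n => ?_ : (⨆ n, S p χ (A := A) n * ⨆ m, S p χ (A := A) m) ≤ _) h1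
    rw [Submodule.mul_iSup]
    refine iSup_le fun m => ?_
    rw [S_mul]
    exact le_iSup (fun k => S p χ (A := A) k) (n + m)
  | add a b ha hb => exact Submodule.add_mem _ (ha trivial) (hb trivial)

include hu hχ hχp hrk in
/-- `π(S_t) = I_t` for `1 ≤ t ≤ p - 1` -/
lemma map_S_eq (t : ℕ) (ht1 : 1 ≤ t) (ht : t ≤ p - 1) :
    (S p χ (A := A) t).map (piT p χ (A := A)).toLinearMap = OortTate.eigenAug R A p χ t := by
  rw [map_S, OTCore.pow_eq p u hu χ hχ hχp hrk t ht1 ht]

include hu hχ hχp hrk in
theorem piT_surjective : Function.Surjective (piT p χ (A := A)) := by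
  have hp' := OTCore.hp_of_rank p hrk
  have hp2 := (Fact.out : p.Prime).two_le
  intro a
  have h1 := (OTCore.decomp p u hu χ hχ hp').symm_apply_apply a
  rw [← h1]
  change ∃ z, piT p χ (A := A) z = _ • (1 : A) + ∑ i : Fin (p - 1), _
  have hrange : ∀ y : A, y ∈ LinearMap.range (piT p χ (A := A)).toLinearMap →
      ∃ z, piT p χ (A := A) z = y := fun y hy => hy
  apply hrange
  apply Submodule.add_mem
  · apply Submodule.smul_mem
    exact ⟨1, by rw [AlgHom.toLinearMap_apply, map_one]⟩
  · apply Submodule.sum_mem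
    intro i _
    obtain ⟨y, hy⟩ := (OTCore.decomp p u hu χ hχ hp' a).2 i
    change y ∈ _
    have key : ∀ t : ℕ, 1 ≤ t → t ≤ p - 1 → y ∈ OortTate.eigenAug R A p χ t →
        y ∈ LinearMap.range (piT p χ (A := A)).toLinearMap := by
      intro t ht1 ht hyt
      rw [← map_S_eq p u hu χ hχ hχp hrk t ht1 ht] at hyt
      obtain ⟨z, -, hz⟩ := hyt
      exact ⟨z, hz⟩
    by_cases hi0 : (i : ℕ) = 0
    · have h2 : OortTate.eigenAug R A p χ (i : ℕ) = OortTate.eigenAug R A p χ (p - 1) := by
        rw [hi0, OTFibre.eigenAug_mod p χ (p - 1), Nat.mod_self]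
      rw [h2] at hy
      exact key (p - 1) (by omega) le_rfl hy
    · exact key i (by omega) (by have := i.2; omega) hy

/-- the generators of the relation ideal -/
def relSet : Set T :=
  {x | ∃ (f : Fin p → OortTate.eigenAug R A p χ 1) (g : OortTate.eigenAug R A p χ 1),
      (g : A) = ∏ i, (f i : A) ∧
      x = (List.ofFn fun i => TensorAlgebra.ι R (f i)).prod - TensorAlgebra.ι R g}

lemma relSet_le_ker : Ideal.span (relSet p χ (A := A)) ≤ RingHom.ker (piT p χ (A := A)) := by
  rw [Ideal.span_le]
  rintro x ⟨f, g, hg, rfl⟩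
  rw [SetLike.mem_coe, RingHom.mem_ker, map_sub, TensorAlgebra.lift_ι_apply, map_list_prod,
    List.map_ofFn, List.prod_ofFn]
  simp only [Function.comp_apply, TensorAlgebra.lift_ι_apply, Submodule.subtype_apply]
  rw [hg, sub_self]

/-- `T = J + S_0 + ⋯ + S_{p-1}` -/
lemma S_le (n : ℕ) :
    S p χ (A := A) n ≤ (Ideal.span (relSet p χ (A := A))).restrictScalars R ⊔
      ⨆ t : Fin p, S p χ (A := A) (t : ℕ) := by
  have hp2 := (Fact.out : p.Prime).two_le
  induction n using Nat.strong_induction_on with
  | _ n ih =>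
    rcases Nat.lt_or_ge n p with hlt | hge
    · exact le_trans (le_iSup (fun t : Fin p => S p χ (A := A) (t : ℕ)) ⟨n, hlt⟩) le_sup_right
    · have hn : n = (n - p) + p := by omega
      rw [hn, ← S_mul, Submodule.mul_le]
      intro z' hz' w hw
      -- reduce to pure products `w`
      have hcomap : S p χ (A := A) p ≤
          ((Ideal.span (relSet p χ (A := A))).restrictScalars R ⊔
            ⨆ t : Fin p, S p χ (A := A) (t : ℕ)).comap (LinearMap.mulLeft R z') := by
        unfold S
        rw [Submodule.pow_eq_span_pow_set, Submodule.span_le]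
        intro w hw
        rw [Set.mem_pow] at hw
        obtain ⟨f, rfl⟩ := hw
        choose b hb using fun i => (f i).2
        have hw' : (List.ofFn fun i => ((f i : T))).prod =
            (List.ofFn fun i => TensorAlgebra.ι R (b i)).prod := by
          have : (fun i => ((f i : T))) = fun i => TensorAlgebra.ι R (b i) :=
            funext fun i => (hb i).symm
          rw [this]
        rw [hw']
        have hgmem : (∏ i, (b i : A)) ∈ OortTate.eigenAug R A p χ 1 := by
          have h1 : (∏ i, (b i : A)) ∈ (OortTate.eigenAug R A p χ 1) ^ p := by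
            rw [← map_S]
            refine ⟨(List.ofFn fun i => TensorAlgebra.ι R (b i)).prod, ?_, ?_⟩
            · unfold S
              rw [Submodule.pow_eq_span_pow_set]
              apply Submodule.subset_span
              rw [Set.mem_pow]
              exact ⟨fun i => ⟨TensorAlgebra.ι R (b i), ⟨b i, rfl⟩⟩, rfl⟩
            · rw [AlgHom.toLinearMap_apply, map_list_prod, List.map_ofFn, List.prod_ofFn]
              simp only [Function.comp_apply, TensorAlgebra.lift_ι_apply, Submodule.subtype_apply]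
          have h2 : (OortTate.eigenAug R A p χ 1) ^ p ≤ OortTate.eigenAug R A p χ p := by
            have := OTCore.pow_succ_le p χ (A := A) (p - 1)
            rwa [Nat.sub_add_cancel (by omega : 1 ≤ p)] at this
          have h3 : OortTate.eigenAug R A p χ p = OortTate.eigenAug R A p χ 1 := by
            have := OTFibre.eigenAug_add_card p χ (A := A) 1
            rwa [Nat.add_sub_cancel' (by omega : 1 ≤ p)] at this
          have h4 := h2 h1
          rw [h3] at h4
          exact h4
        rw [SetLike.mem_coe, Submodule.mem_comap, LinearMap.mulLeft_apply]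
        have hsplit : z' * (List.ofFn fun i => TensorAlgebra.ι R (b i)).prod =
            z' * ((List.ofFn fun i => TensorAlgebra.ι R (b i)).prod -
              TensorAlgebra.ι R (⟨∏ i, (b i : A), hgmem⟩ : OortTate.eigenAug R A p χ 1)) +
            z' * TensorAlgebra.ι R (⟨∏ i, (b i : A), hgmem⟩ : OortTate.eigenAug R A p χ 1) := by
          rw [mul_sub, sub_add_cancel]
        rw [hsplit]
        apply Submodule.add_mem
        · apply Submodule.mem_sup_left
          rw [Submodule.restrictScalars_mem]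
          apply Ideal.mul_mem_left
          apply Ideal.subset_span
          exact ⟨b, ⟨∏ i, (b i : A), hgmem⟩, rfl, rfl⟩
        · apply ih (n - p + 1) (by omega)
          rw [← S_mul]
          apply Submodule.mul_mem_mul hz'
          unfold S
          rw [pow_one]
          exact ⟨_, rfl⟩
      exact hcomap hw

lemma sup_eq_top :
    (Ideal.span (relSet p χ (A := A))).restrictScalars R ⊔
      ⨆ t : Fin p, S p χ (A := A) (t : ℕ) = ⊤ := by
  rw [eq_top_iff, ← iSup_S p χ]
  exact iSup_le fun n => S_le p χ n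

/-- multiplication `I_t ⊗ I_1 → I_{t+1}` -/
noncomputable def mT (t : ℕ) :
    (OortTate.eigenAug R A p χ t) ⊗[R] (OortTate.eigenAug R A p χ 1) →ₗ[R]
      OortTate.eigenAug R A p χ (t + 1) :=
  LinearMap.codRestrict _
    (LinearMap.mul' R A ∘ₗ TensorProduct.map (OortTate.eigenAug R A p χ t).subtype
      (OortTate.eigenAug R A p χ 1).subtype)
    (fun z => by
      induction z using TensorProduct.induction_on with
      | zero =>
        rw [map_zero]
        exact Submodule.zero_mem _
      | tmul y c =>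
        change (y : A) * (c : A) ∈ _
        exact OTCore.mul_mem_eigenAug p χ t 1 (y : A) (c : A) y.2 c.2
      | add z w hz hw =>
        rw [map_add]
        exact Submodule.add_mem _ hz hw)

lemma mT_tmul (t : ℕ) (y : OortTate.eigenAug R A p χ t) (c : OortTate.eigenAug R A p χ 1) :
    ((mT p χ t (y ⊗ₜ[R] c) : OortTate.eigenAug R A p χ (t + 1)) : A) = (y : A) * (c : A) := rfl

include hu hχ hχp hrk in
lemma mT_surjective (t : ℕ) (ht1 : 1 ≤ t) (ht : t + 1 ≤ p - 1) :
    Function.Surjective (mT p χ (A := A) t) := by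
  have h : OortTate.eigenAug R A p χ t * OortTate.eigenAug R A p χ 1 =
      OortTate.eigenAug R A p χ (t + 1) := by
    calc OortTate.eigenAug R A p χ t * OortTate.eigenAug R A p χ 1
        = (OortTate.eigenAug R A p χ 1) ^ t * OortTate.eigenAug R A p χ 1 := by
          rw [OTCore.pow_eq p u hu χ hχ hχp hrk t ht1 (by omega)]
      _ = (OortTate.eigenAug R A p χ 1) ^ (t + 1) := (pow_succ _ _).symm
      _ = OortTate.eigenAug R A p χ (t + 1) :=
          OTCore.pow_eq p u hu χ hχ hχp hrk (t + 1) (by omega) ht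
  rintro ⟨w, hw⟩
  have hw' : w ∈ OortTate.eigenAug R A p χ t * OortTate.eigenAug R A p χ 1 := by
    rw [h]
    exact hw
  suffices hs : ∃ z, ((mT p χ (A := A) t z : OortTate.eigenAug R A p χ (t + 1)) : A) = w by
    obtain ⟨z, hz⟩ := hs
    exact ⟨z, Subtype.ext hz⟩
  refine Submodule.mul_induction_on hw' ?_ ?_
  · intro y hy c hc
    exact ⟨(⟨y, hy⟩ : OortTate.eigenAug R A p χ t) ⊗ₜ[R] ⟨c, hc⟩, rfl⟩
  · intro x y hx hy
    obtain ⟨z1, h1⟩ := hx
    obtain ⟨z2, h2⟩ := hy
    exact ⟨z1 + z2, by rw [map_add, Submodule.coe_add, h1, h2]⟩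

include hu hχ hχp hrk in
lemma mT_bijective (t : ℕ) (ht1 : 1 ≤ t) (ht : t + 1 ≤ p - 1) :
    Function.Bijective (mT p χ (A := A) t) := by
  have hp' := OTCore.hp_of_rank p hrk
  haveI := OTCore.finite_eigenAug p u hu χ hp' t
  haveI := OTCore.projective_eigenAug p u hu χ hp' t
  haveI := OTCore.finite_eigenAug p u hu χ hp' 1
  haveI := OTCore.projective_eigenAug p u hu χ hp' 1
  haveI := OTCore.finite_eigenAug p u hu χ hp' (t + 1)
  haveI := OTCore.projective_eigenAug p u hu χ hp' (t + 1)
  haveI : Module.Finite R ((OortTate.eigenAug R A p χ t) ⊗[R] (OortTate.eigenAug R A p χ 1)) :=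
    inferInstance
  haveI : Module.Flat R ((OortTate.eigenAug R A p χ t) ⊗[R] (OortTate.eigenAug R A p χ 1)) :=
    inferInstance
  haveI : Module.Flat R (OortTate.eigenAug R A p χ (t + 1)) := inferInstance
  refine Module.bijective_of_surjective_of_rankAtStalk_eq (R := R)
    (M := (OortTate.eigenAug R A p χ t) ⊗[R] (OortTate.eigenAug R A p χ 1))
    (N := OortTate.eigenAug R A p χ (t + 1)) (φ := mT p χ (A := A) t)
    (mT_surjective p u hu χ hχ hχp hrk t ht1 ht) ?_
  intro m _
  rw [Module.rankAtStalk_tensorProduct, Pi.mul_apply,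
    OTCore.rank_eq_one p u hu χ hχ hχp hrk _ t, OTCore.rank_eq_one p u hu χ hχ hχp hrk _ 1,
    OTCore.rank_eq_one p u hu χ hχ hχp hrk _ (t + 1)]

/-- `π` maps `S_{t+1}` into `I_{t+1}` -/
lemma piT_mem (t : ℕ) (z : T) (hz : z ∈ S p χ (A := A) (t + 1)) :
    piT p χ (A := A) z ∈ OortTate.eigenAug R A p χ (t + 1) := by
  apply OTCore.pow_succ_le p χ t
  rw [← map_S]
  exact ⟨z, hz, rfl⟩

include hu hχ hχp hrk in
/-- left inverses of `π` on the low degree parts -/
lemma exists_Lam (t : ℕ) (ht : t + 1 ≤ p - 1) :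
    ∃ Λ : OortTate.eigenAug R A p χ (t + 1) →ₗ[R] T,
      ∀ z (hz : z ∈ S p χ (A := A) (t + 1)), Λ ⟨piT p χ (A := A) z, piT_mem p χ t z hz⟩ = z := by
  induction t with
  | zero =>
    refine ⟨TensorAlgebra.ι R, ?_⟩
    intro z hz
    have hz' : z ∈ LinearMap.range
        (TensorAlgebra.ι R : (OortTate.eigenAug R A p χ 1) →ₗ[R] T) := by
      have := hz
      unfold S at this
      rwa [pow_one] at this
    obtain ⟨b, rfl⟩ := hz'
    congr 1
    apply Subtype.ext
    exact TensorAlgebra.lift_ι_apply _ _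
  | succ t ih =>
    obtain ⟨Λ, hΛ⟩ := ih (by omega)
    let e := LinearEquiv.ofBijective (mT p χ (A := A) (t + 1))
      (mT_bijective p u hu χ hχ hχp hrk (t + 1) (by omega) ht)
    refine ⟨(LinearMap.mul' R T) ∘ₗ (TensorProduct.map Λ (TensorAlgebra.ι R)) ∘ₗ
      e.symm.toLinearMap, ?_⟩
    intro z hz
    have hz' : z ∈ S p χ (A := A) (t + 1) * S p χ (A := A) 1 := by
      rw [S_mul]
      exact hz
    induction hz' using Submodule.mul_induction_on' with
    | mem_mul_mem z' hz' w hw =>
      have hw' : w ∈ LinearMap.range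
          (TensorAlgebra.ι R : (OortTate.eigenAug R A p χ 1) →ₗ[R] T) := by
        have := hw
        unfold S at this
        rwa [pow_one] at this
      obtain ⟨c, rfl⟩ := hw'
      have h1 : (⟨piT p χ (A := A) (z' * TensorAlgebra.ι R c),
          piT_mem p χ (t + 1) _ hz⟩ : OortTate.eigenAug R A p χ (t + 1 + 1)) =
          e ((⟨piT p χ (A := A) z', piT_mem p χ t z' hz'⟩ :
            OortTate.eigenAug R A p χ (t + 1)) ⊗ₜ[R] c) := by
        apply Subtype.ext
        show (piT p χ (A := A)) (z' * TensorAlgebra.ι R c) = (piT p χ (A := A) z') * (c : A)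
        rw [map_mul, TensorAlgebra.lift_ι_apply]
        rfl
      rw [h1, LinearMap.comp_apply, LinearMap.comp_apply, LinearEquiv.coe_coe,
        LinearEquiv.symm_apply_apply, TensorProduct.map_tmul, LinearMap.mul'_apply, hΛ z' hz']
    | add x hx y hy ihx ihy =>
      have hx' : x ∈ S p χ (A := A) (t + 1 + 1) := by
        rw [← S_mul]; exact hx
      have hy' : y ∈ S p χ (A := A) (t + 1 + 1) := by
        rw [← S_mul]; exact hy
      have h2 : (⟨piT p χ (A := A) (x + y), piT_mem p χ (t + 1) _ hz⟩ :
          OortTate.eigenAug R A p χ (t + 1 + 1)) =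
          ⟨piT p χ (A := A) x, piT_mem p χ (t + 1) _ hx'⟩ +
            ⟨piT p χ (A := A) y, piT_mem p χ (t + 1) _ hy'⟩ := by
        apply Subtype.ext
        show (piT p χ (A := A)) (x + y) = (piT p χ (A := A)) x + (piT p χ (A := A)) y
        rw [map_add]
      rw [h2, map_add, ihx hx', ihy hy']

include hχ in
/-- the projections onto the eigenspaces annihilate the other eigenspaces -/
lemma piAug_ne (hp' : (toConv (AlgHom.id R A)) ^ p = 1) (k t : ℕ)
    (hkt : t % (p - 1) ≠ k % (p - 1)) (y : A) (hy : y ∈ OortTate.eigenAug R A p χ t) :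
    piAug p hp' u χ k y = 0 := by
  have hp2 := (Fact.out : p.Prime).two_le
  have hk : k % (p - 1) < p - 1 := Nat.mod_lt _ (by omega)
  have ht : t % (p - 1) < p - 1 := Nat.mod_lt _ (by omega)
  apply Subtype.ext
  rw [OTFibre.eigenAug_mod p χ t, mem_eigenAug p hp'] at hy
  rw [piAug_apply, hy.1, map_zero, sub_zero]
  have h1 : e u χ (rho p hp') k y = e u χ (rho p hp') (k % (p - 1)) y := by
    rw [e_apply, e_apply]
    congr 1
    refine Finset.sum_congr rfl fun m _ => ?_
    congr 1
    conv_lhs => rw [← Nat.div_add_mod k (p - 1), pow_add, pow_mul, OTMu.chi_pow_card, one_pow,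
      one_mul]
  rw [h1]
  exact e_of_eigen_ne u χ hχ _ ht hk hkt hy.2

/-- chosen left inverses of `π` on `S_{t+1}` -/
noncomputable def Lam (t : ℕ) : OortTate.eigenAug R A p χ (t + 1) →ₗ[R] T :=
  if h : t + 1 ≤ p - 1 then (exists_Lam p u hu χ hχ hχp hrk t h).choose else 0

lemma Lam_spec (t : ℕ) (h : t + 1 ≤ p - 1) (z : T) (hz : z ∈ S p χ (A := A) (t + 1)) :
    Lam p u hu χ hχ hχp hrk t ⟨piT p χ (A := A) z, piT_mem p χ t z hz⟩ = z := by
  unfold Lam
  rw [dif_pos h]
  exact (exists_Lam p u hu χ hχ hχp hrk t h).choose_spec z hz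

/-- a section of `π` on the low degree part -/
noncomputable def Psi : A →ₗ[R] T :=
  (Algebra.linearMap R T) ∘ₗ (Coalgebra.counit (R := R) (A := A)) +
    ∑ t ∈ Finset.range (p - 1),
      (Lam p u hu χ hχ hχp hrk t) ∘ₗ (piAug p (OTCore.hp_of_rank p hrk) u χ (t + 1))

lemma Psi_piT (s : T) (hs : s ∈ ⨆ t : Fin p, S p χ (A := A) (t : ℕ)) :
    Psi p u hu χ hχ hχp hrk (piT p χ (A := A) s) = s := by
  have hp' := OTCore.hp_of_rank p hrk
  have hp2 := (Fact.out : p.Prime).two_le
  refine Submodule.iSup_induction (fun t : Fin p => S p χ (A := A) (t : ℕ))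
    (motive := fun s => Psi p u hu χ hχ hχp hrk (piT p χ (A := A) s) = s) hs ?_ ?_ ?_
  · rintro ⟨i, hi⟩ s hs
    rcases Nat.eq_zero_or_pos i with hi0 | hi0
    · subst hi0
      have hs' : s ∈ (1 : Submodule R T) := by
        have := hs
        unfold S at this
        rwa [pow_zero] at this
      rw [Submodule.mem_one] at hs'
      obtain ⟨r, rfl⟩ := hs'
      rw [AlgHom.commutes]
      unfold Psi
      rw [LinearMap.add_apply, LinearMap.comp_apply, LinearMap.sum_apply]
      have h1 : Coalgebra.counit (R := R) (algebraMap R A r) = r := by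
        change Bialgebra.counitAlgHom R A (algebraMap R A r) = r
        rw [AlgHom.commutes]
        rfl
      rw [h1, Finset.sum_eq_zero, add_zero]
      · rfl
      · intro t _
        rw [LinearMap.comp_apply, Algebra.algebraMap_eq_smul_one, map_smul, OTCore.piAug_one,
          smul_zero, map_zero]
    · obtain ⟨t, rfl⟩ : ∃ t, i = t + 1 := ⟨i - 1, by omega⟩
      have hmem := piT_mem p χ t s hs
      unfold Psi
      rw [LinearMap.add_apply, LinearMap.comp_apply, LinearMap.sum_apply]
      have h1 : Coalgebra.counit (R := R) (piT p χ (A := A) s) = 0 :=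
        ((OTFibre.mem_eigenAug' p χ (t + 1) _).1 hmem).1
      rw [h1, map_zero, zero_add, Finset.sum_eq_single t]
      · rw [LinearMap.comp_apply]
        have h2 : piAug p (OTCore.hp_of_rank p hrk) u χ (t + 1) (piT p χ (A := A) s) =
            ⟨piT p χ (A := A) s, hmem⟩ :=
          OTCore.piAug_subtype p u hu χ _ (t + 1) ⟨piT p χ (A := A) s, hmem⟩
        rw [h2]
        exact Lam_spec p u hu χ hχ hχp hrk t (by omega) s hs
      · intro t' ht' htt
        rw [Finset.mem_range] at ht'
        rw [LinearMap.comp_apply, piAug_ne p u χ hχ _ (t' + 1) (t + 1)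
          (OTFrame.mod_ne p hp2 _ _ (by omega) (by omega) (by omega) (by omega)
            (by omega)) _ hmem, map_zero]
      · intro h
        exact absurd (Finset.mem_range.2 (by omega)) h
  · rw [map_zero, map_zero]
  · intro x y hx hy
    rw [map_add, map_add, hx, hy]

include hu hχ hχp hrk in
theorem ker_piT : RingHom.ker (piT p χ (A := A)) = Ideal.span (relSet p χ (A := A)) := by
  apply le_antisymm _ (relSet_le_ker p χ)
  intro z hz
  rw [RingHom.mem_ker] at hz
  have hz' : z ∈ (Ideal.span (relSet p χ (A := A))).restrictScalars R ⊔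
      ⨆ t : Fin p, S p χ (A := A) (t : ℕ) := by
    rw [sup_eq_top]
    trivial
  obtain ⟨j, hj, s, hs, rfl⟩ := Submodule.mem_sup.1 hz'
  rw [Submodule.restrictScalars_mem] at hj
  have hj0 : piT p χ (A := A) j = 0 := (RingHom.mem_ker).1 (relSet_le_ker p χ hj)
  rw [map_add, hj0, zero_add] at hz
  have h1 := Psi_piT p u hu χ hχ hχp hrk s hs
  rw [hz, map_zero] at h1
  rw [← h1, add_zero]
  exact hj

end Main

end Groth.Agent.Lib.helper15.OTTensor
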