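import Mathlib
import Groth.Prelude.Def_CartDual
import Groth.Prelude.Def_CartDual2
import Groth.Prelude.Def_W4c5ffgsreadingcourseOT
import Groth.Agent.Lib.Helper15.OTFrame
import Groth.Agent.Lib.Helper15.OTTensor

/-!
# Oort–Tate: the classification map is injective (global, frame-free version) (helper15)
-/

set_option autoImplicit false
set_option linter.unusedSectionVars false
set_option linter.style.haveILetI false

universe u

open TensorProduct WithConv

namespace Groth.Agent.Lib.helper15.OTGlobal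

open Groth.Agent.Lib.helper15.OTEigen Groth.Agent.Lib.helper15.OTDual
  Groth.Agent.Lib.helper15.OTMu Groth.Agent.Lib.helper15.OTPair
  Groth.Agent.Lib.helper15.OTFrame

section Single

variable (p : ℕ) [Fact p.Prime] {R : Type u} [CommRing R] (u : R)
  (hu : u * ((p - 1 : ℕ) : R) = 1) (χ : (ZMod p)ˣ →* Rˣ)
  (hχ : ∀ m : (ZMod p)ˣ, m ≠ 1 → IsUnit ((χ m : R) - 1))
  (hχp : ∀ m : (ZMod p)ˣ,
    ((χ m : Rˣ) : R) - (((m : ZMod p).val : ℕ) : R) ∈ Ideal.span ({(p : R)} : Set R))
  {A : Type u} [CommRing A] [HopfAlgebra R A] [Coalgebra.IsCocomm R A] [Module.Finite R A]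
  [Module.Projective R A]
  (hrk : ∀ q : PrimeSpectrum R, Module.rankAtStalk A q = p)

local notation "I₁" => OortTate.eigenAug R A p χ 1
local notation "D₁" => OortTate.eigenAug R (CartDual.D R A) p χ 1

include hu in
/-- elements of `I_i(D)` factor through the projection onto `I_i(A)` -/
lemma apply_piAug (hp : (toConv (AlgHom.id R A)) ^ p = 1) (i : ℕ) (f : CartDual.D R A)
    (hf : f ∈ OortTate.eigenAug R (CartDual.D R A) p χ i) (x : A) :
    f.ofConv (piAug p hp u χ i x : A) = f.ofConv x := by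
  rw [mem_eigenAug p (hp_dual p hp)] at hf
  have h1 : e u χ (rho p (hp_dual p hp)) i f = f := e_of_eigen u hu χ _ hf.2
  have h2 : f.ofConv 1 = 0 := hf.1
  rw [piAug_apply, ← e_dual p hp, h1, map_sub, Algebra.algebraMap_eq_smul_one, map_smul,
    h2, smul_zero, sub_zero]

/-- the contraction `I_1(A) ⊗ I_1(D) → R` -/
noncomputable def tau : (OortTate.eigenAug R A p χ 1) ⊗[R]
    (OortTate.eigenAug R (CartDual.D R A) p χ 1) →ₗ[R] R :=
  TensorProduct.lift
    ((LinearMap.flip
      ((LinearMap.applyₗ (R := R) (M := A) (M₂ := R)).comp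
        (OortTate.eigenAug R A p χ 1).subtype)).comp
      ((CartDual.toDual R A).toLinearMap.comp
        (OortTate.eigenAug R (CartDual.D R A) p χ 1).subtype)).flip

lemma tau_tmul (a : OortTate.eigenAug R A p χ 1)
    (f : OortTate.eigenAug R (CartDual.D R A) p χ 1) :
    tau p χ (a ⊗ₜ[R] f) = (f : CartDual.D R A).ofConv (a : A) := rfl

include hu hχ hχp hrk in
/-- `a ⊗ f ↦ f(a) P_1` -/
lemma Theta_tmul_eq (a : A) (ha : a ∈ OortTate.eigenAug R A p χ 1) (f : CartDual.D R A)
    (hf : f ∈ OortTate.eigenAug R (CartDual.D R A) p χ 1) :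
    Theta (a ⊗ₜ[R] f) = f.ofConv a • toConv (Pl p u χ (OTCore.hp_of_rank p hrk)) := by
  have hp' := OTCore.hp_of_rank p hrk
  haveI := OTCore.finite_eigenAug p u hu χ hp' 1
  haveI := OTCore.projective_eigenAug p u hu χ hp' 1
  have hM : ∀ q : PrimeSpectrum R,
      Module.rankAtStalk (OortTate.eigenAug R A p χ 1) q = 1 :=
    fun q => OTCore.rank_eq_one p u hu χ hχ hχp hrk q 1
  apply WithConv.ext
  apply LinearMap.ext
  intro x
  rw [Theta_tmul, WithConv.ofConv_smul, LinearMap.smul_apply, ← apply_Pl p u hu χ hp' f hf x]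
  have := swap hM (f.ofConv.comp (OortTate.eigenAug R A p χ 1).subtype) ⟨a, ha⟩
    ⟨Pl p u χ hp' x, Pl_mem p u χ hp' x⟩
  exact congrArg Subtype.val this

include hu hχ hχp hrk in
lemma Theta_map_eq (w : (OortTate.eigenAug R A p χ 1) ⊗[R]
    (OortTate.eigenAug R (CartDual.D R A) p χ 1)) :
    Theta (TensorProduct.map (OortTate.eigenAug R A p χ 1).subtype
      (OortTate.eigenAug R (CartDual.D R A) p χ 1).subtype w) =
      tau p χ w • toConv (Pl p u χ (OTCore.hp_of_rank p hrk)) := by
  induction w using TensorProduct.induction_on with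
  | zero => rw [map_zero, map_zero, map_zero, zero_smul]
  | add w w' hw hw' => rw [map_add, map_add, hw, hw', map_add, add_smul]
  | tmul a f =>
    rw [TensorProduct.map_tmul, tau_tmul]
    exact Theta_tmul_eq p u hu χ hχ hχp hrk a.1 a.2 f.1 f.2

include hu hχ hχp hrk in
/-- the trace ideal of `I_1(A)` is the unit ideal -/
lemma exists_tau_eq_one : ∃ w, tau p χ (A := A) w = 1 := by
  have hp' := OTCore.hp_of_rank p hrk
  haveI := OTCore.finite_eigenAug p u hu χ hp' 1
  haveI := OTCore.projective_eigenAug p u hu χ hp' 1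
  have hM : ∀ q : PrimeSpectrum R,
      Module.rankAtStalk (OortTate.eigenAug R A p χ 1) q = 1 :=
    fun q => OTCore.rank_eq_one p u hu χ hχ hχp hrk q 1
  set s0 : A ⊗[R] CartDual.D R A := Theta.symm (toConv (Pl p u χ hp')) with hs0
  have h1 : TensorProduct.map (Pl p u χ hp') (CartDual.transposeLin R (Pl p u χ hp')) s0 = s0 := by
    apply Theta.injective
    apply WithConv.ext
    rw [Theta_map, hs0, LinearEquiv.apply_symm_apply]
    apply LinearMap.ext
    intro x
    change Pl p u χ hp' (Pl p u χ hp' (Pl p u χ hp' x)) = Pl p u χ hp' x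
    rw [Pl_Pl p u hu χ hp', Pl_Pl p u hu χ hp']
  have h2 : TensorProduct.map (Pl p u χ hp') (CartDual.transposeLin R (Pl p u χ hp')) =
      (TensorProduct.map (OortTate.eigenAug R A p χ 1).subtype
        (OortTate.eigenAug R (CartDual.D R A) p χ 1).subtype) ∘ₗ
      (TensorProduct.map (piAug p hp' u χ 1) (PD p u hu χ hp')) := by
    rw [← TensorProduct.map_comp]
    rfl
  set w0 := TensorProduct.map (piAug p hp' u χ 1) (PD p u hu χ hp') s0 with hw0
  refine ⟨w0, ?_⟩
  have h3 : Theta s0 = tau p χ w0 • toConv (Pl p u χ hp') := by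
    conv_lhs => rw [← h1, h2, LinearMap.comp_apply]
    exact Theta_map_eq p u hu χ hχ hχp hrk w0
  rw [hs0, LinearEquiv.apply_symm_apply] at h3
  have h4 : ∀ y : OortTate.eigenAug R A p χ 1, (1 - tau p χ w0) • y = 0 := by
    intro y
    apply Subtype.ext
    have h5 := congrArg (fun g : WithConv (A →ₗ[R] A) => g.ofConv (y : A)) h3
    simp only [WithConv.ofConv_smul, LinearMap.smul_apply] at h5
    rw [Pl_of_mem p u hu χ hp' _ y.2] at h5
    change (1 - tau p χ w0) • (y : A) = 0
    rw [sub_smul, one_smul, ← h5, sub_self]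
  have := faithful hM _ h4
  exact (sub_eq_zero.1 this).symm

lemma prod_Theta {ι : Type} (s : Finset ι) (a : ι → A) (f : ι → CartDual.D R A) :
    ∏ k ∈ s, Theta (a k ⊗ₜ[R] f k) = Theta ((∏ k ∈ s, a k) ⊗ₜ[R] (∏ k ∈ s, f k)) := by
  classical
  induction s using Finset.induction_on with
  | empty =>
    rw [Finset.prod_empty, Finset.prod_empty, Finset.prod_empty, ← Algebra.TensorProduct.one_def,
      Theta_one]
  | insert k s hk ih =>
    rw [Finset.prod_insert hk, Finset.prod_insert hk, Finset.prod_insert hk, ih, ← Theta_mul,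
      Algebra.TensorProduct.tmul_mul_tmul]

include hu hχ hχp hrk in
/-- an element killing all products of `i` elements of `I_1` is zero -/
lemma eq_zero_of_smul_prod (i : ℕ) (hi1 : 1 ≤ i) (hi : i ≤ p - 1) (r : R)
    (h : ∀ a : Fin i → OortTate.eigenAug R A p χ 1, r • ∏ k, (a k : A) = 0) : r = 0 := by
  have hp' := OTCore.hp_of_rank p hrk
  haveI := OTCore.finite_eigenAug p u hu χ hp' i
  haveI := OTCore.projective_eigenAug p u hu χ hp' i
  have hM : ∀ q : PrimeSpectrum R,
      Module.rankAtStalk (OortTate.eigenAug R A p χ i) q = 1 :=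
    fun q => OTCore.rank_eq_one p u hu χ hχ hχp hrk q i
  apply faithful hM
  intro y
  apply Subtype.ext
  change r • (y : A) = 0
  have hy : (y : A) ∈ (OortTate.eigenAug R A p χ 1) ^ i := by
    rw [OTCore.pow_eq p u hu χ hχ hχp hrk i hi1 hi]
    exact y.2
  rw [Submodule.pow_eq_span_pow_set] at hy
  refine Submodule.span_induction (p := fun z _ => r • z = 0) ?_ ?_ ?_ ?_ hy
  · intro z hz
    rw [Set.mem_pow] at hz
    obtain ⟨g, rfl⟩ := hz
    rw [List.prod_ofFn]
    exact h (fun k => ⟨(g k : A), (g k).2⟩)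
  · rw [smul_zero]
  · intro z w _ _ hz hw
    rw [smul_add, hz, hw, add_zero]
  · intro c z _ hz
    rw [smul_comm, hz, smul_zero]

include hu hχ hχp hrk in
/-- the pairing between products: `⟨f_1 ⋯ f_i, b_1 ⋯ b_i⟩ = w_i ∏ f_k(b_k)` -/
lemma pair_formula (i : ℕ) (hi1 : 1 ≤ i) (hi : i ≤ p - 1)
    (f : Fin i → OortTate.eigenAug R (CartDual.D R A) p χ 1)
    (b : Fin i → OortTate.eigenAug R A p χ 1) :
    (∏ k, (f k : CartDual.D R A)).ofConv (∏ k, (b k : A)) =
      W p R u hu χ i * ∏ k, (f k : CartDual.D R A).ofConv (b k : A) := by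
  have hp' := OTCore.hp_of_rank p hrk
  haveI := OTCore.finite_eigenAug p u hu χ hp' 1
  haveI := OTCore.projective_eigenAug p u hu χ hp' 1
  have hM : ∀ q : PrimeSpectrum R,
      Module.rankAtStalk (OortTate.eigenAug R A p χ 1) q = 1 :=
    fun q => OTCore.rank_eq_one p u hu χ hχ hχp hrk q 1
  have hi0 : i ≠ 0 := by omega
  have hPsi : toConv (Pl p u χ hp') = psi p hp' (OortTate.ygen R p u χ 1) := by
    apply WithConv.ext
    apply LinearMap.ext
    intro x
    rw [psi_ygen]
    rfl
  have hbmem : (∏ k, (b k : A)) ∈ OortTate.eigenAug R A p χ i := by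
    rw [← OTCore.pow_eq p u hu χ hχ hχp hrk i hi1 hi, Submodule.pow_eq_span_pow_set]
    apply Submodule.subset_span
    rw [Set.mem_pow]
    exact ⟨fun k => ⟨(b k : A), (b k).2⟩, List.prod_ofFn⟩
  rw [← sub_eq_zero]
  apply eq_zero_of_smul_prod p u hu χ hχ hχp hrk i hi1 hi
  intro a
  -- the identity in the convolution algebra
  have h1 : Theta ((∏ k, (a k : A)) ⊗ₜ[R] (∏ k, (f k : CartDual.D R A))) =
      (∏ k, (f k : CartDual.D R A).ofConv (a k : A)) • (toConv (Pl p u χ hp')) ^ i := by
    rw [← prod_Theta]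
    have h2 : ∀ k ∈ (Finset.univ : Finset (Fin i)),
        Theta ((a k : A) ⊗ₜ[R] (f k : CartDual.D R A)) =
          (f k : CartDual.D R A).ofConv (a k : A) • toConv (Pl p u χ hp') :=
      fun k _ => Theta_tmul_eq p u hu χ hχ hχp hrk _ (a k).2 _ (f k).2
    rw [Finset.prod_congr rfl h2, Finset.prod_smul, Finset.prod_const, Finset.card_univ,
      Fintype.card_fin]
  have h3 := congrArg (fun g : WithConv (A →ₗ[R] A) => g.ofConv (∏ k, (b k : A))) h1
  simp only [WithConv.ofConv_smul, LinearMap.smul_apply] at h3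
  rw [Theta_tmul, hPsi, psi_pow p u hu χ hp' i hi0] at h3
  have h4 : ((piAug p hp' u χ i (∏ k, (b k : A)) : OortTate.eigenAug R A p χ i) : A) =
      ∏ k, (b k : A) :=
    congrArg Subtype.val (OTCore.piAug_subtype p u hu χ hp' i ⟨_, hbmem⟩)
  rw [h4] at h3
  -- the rank one swap
  have h5 : (∏ k, (f k : CartDual.D R A).ofConv (a k : A)) • ∏ k, (b k : A) =
      (∏ k, (f k : CartDual.D R A).ofConv (b k : A)) • ∏ k, (a k : A) := by
    rw [← Finset.prod_smul, ← Finset.prod_smul]
    refine Finset.prod_congr rfl fun k _ => ?_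
    have := swap hM ((f k : CartDual.D R A).ofConv.comp (OortTate.eigenAug R A p χ 1).subtype)
      (b k) (a k)
    exact congrArg Subtype.val this
  rw [sub_smul, h3, smul_comm, h5, mul_smul, sub_self]

/-- products of `t + 1` elements of `I_1(D)` lie in `I_{t+1}(D)` -/
lemma prod_mem (t : ℕ) (f : Fin (t + 1) → OortTate.eigenAug R (CartDual.D R A) p χ 1) :
    (∏ k, (f k : CartDual.D R A)) ∈ OortTate.eigenAug R (CartDual.D R A) p χ (t + 1) := by
  apply OTCore.pow_succ_le p χ t
  rw [Submodule.pow_eq_span_pow_set]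
  apply Submodule.subset_span
  rw [Set.mem_pow]
  exact ⟨fun k => ⟨(f k : CartDual.D R A), (f k).2⟩, List.prod_ofFn⟩

include hu hχ hχp hrk in
lemma smul_eq_zero_of_pair (i : ℕ) (hi1 : 1 ≤ i) (hi : i ≤ p - 1) (y : A)
    (hy : y ∈ OortTate.eigenAug R A p χ i)
    (h : ∀ f : Fin i → OortTate.eigenAug R (CartDual.D R A) p χ 1,
      (∏ k, (f k : CartDual.D R A)).ofConv y = 0)
    (f : Fin i → OortTate.eigenAug R (CartDual.D R A) p χ 1)
    (c : Fin i → OortTate.eigenAug R A p χ 1) :
    (∏ k, (f k : CartDual.D R A).ofConv (c k : A)) • y = 0 := by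
  have hp' := OTCore.hp_of_rank p hrk
  haveI := OTCore.finite_eigenAug p u hu χ hp' 1
  haveI := OTCore.projective_eigenAug p u hu χ hp' 1
  have hM : ∀ q : PrimeSpectrum R,
      Module.rankAtStalk (OortTate.eigenAug R A p χ 1) q = 1 :=
    fun q => OTCore.rank_eq_one p u hu χ hχ hχp hrk q 1
  have key : ∀ z ∈ (OortTate.eigenAug R A p χ 1) ^ i,
      W p R u hu χ i • (∏ k, (f k : CartDual.D R A).ofConv (c k : A)) • z =
        (∏ k, (f k : CartDual.D R A)).ofConv z • ∏ k, (c k : A) := by
    intro z hz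
    rw [Submodule.pow_eq_span_pow_set] at hz
    refine Submodule.span_induction
      (p := fun z _ => W p R u hu χ i • (∏ k, (f k : CartDual.D R A).ofConv (c k : A)) • z =
        (∏ k, (f k : CartDual.D R A)).ofConv z • ∏ k, (c k : A)) ?_ ?_ ?_ ?_ hz
    · intro z hz
      rw [Set.mem_pow] at hz
      obtain ⟨g, rfl⟩ := hz
      rw [List.prod_ofFn]
      have h1 := pair_formula p u hu χ hχ hχp hrk i hi1 hi f (fun k => ⟨(g k : A), (g k).2⟩)
      simp only at h1
      rw [h1, mul_smul]
      congr 1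
      rw [← Finset.prod_smul, ← Finset.prod_smul]
      refine Finset.prod_congr rfl fun k _ => ?_
      have := swap hM ((f k : CartDual.D R A).ofConv.comp (OortTate.eigenAug R A p χ 1).subtype)
        ⟨(g k : A), (g k).2⟩ (c k)
      exact congrArg Subtype.val this
    · rw [smul_zero, smul_zero, map_zero, zero_smul]
    · intro z w _ _ hz hw
      rw [smul_add, smul_add, hz, hw, map_add, add_smul]
    · intro r z _ hz
      rw [smul_comm _ r z, smul_comm _ r _, hz, map_smul, smul_assoc]
  have hy' : y ∈ (OortTate.eigenAug R A p χ 1) ^ i := by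
    rw [OTCore.pow_eq p u hu χ hχ hχp hrk i hi1 hi]
    exact hy
  have h2 := key y hy'
  rw [h f, zero_smul] at h2
  obtain ⟨v, hv⟩ := isUnit_W p R u hu χ hχp i hi
  rw [← hv] at h2
  have h3 := congrArg (fun z => ((v⁻¹ : Rˣ) : R) • z) h2
  simp only [smul_zero] at h3
  rwa [smul_smul, Units.inv_mul, one_smul] at h3

include hu hχ hχp hrk in
/-- products of `i` elements of `I_1(D)` separate the points of `I_i(A)` -/
lemma sepI (i : ℕ) (hi1 : 1 ≤ i) (hi : i ≤ p - 1) (y : A)
    (hy : y ∈ OortTate.eigenAug R A p χ i)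
    (h : ∀ f : Fin i → OortTate.eigenAug R (CartDual.D R A) p χ 1,
      (∏ k, (f k : CartDual.D R A)).ofConv y = 0) : y = 0 := by
  obtain ⟨w0, hw0⟩ := exists_tau_eq_one p u hu χ hχ hχp hrk
  -- descending induction on the number of factors
  have key : ∀ d m : ℕ, m + d = i →
      ∀ (f : Fin m → OortTate.eigenAug R (CartDual.D R A) p χ 1)
      (c : Fin m → OortTate.eigenAug R A p χ 1),
      (∏ k, (f k : CartDual.D R A).ofConv (c k : A)) • y = 0 := by
    intro d
    induction d with
    | zero =>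
      intro m hm f c
      have hmi : m = i := by omega
      subst hmi
      exact smul_eq_zero_of_pair p u hu χ hχ hχp hrk m hi1 hi y hy h f c
    | succ d ih =>
      intro m hm f c
      have h1 : ∀ w : (OortTate.eigenAug R A p χ 1) ⊗[R]
          (OortTate.eigenAug R (CartDual.D R A) p χ 1),
          (tau p χ w * ∏ k, (f k : CartDual.D R A).ofConv (c k : A)) • y = 0 := by
        intro w
        induction w using TensorProduct.induction_on with
        | zero => rw [map_zero, zero_mul, zero_smul]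
        | add w w' hw hw' => rw [map_add, add_mul, add_smul, hw, hw', add_zero]
        | tmul a g =>
          rw [tau_tmul]
          have h2 := ih (m + 1) (by omega) (Fin.cons g f) (Fin.cons a c)
          rw [Fin.prod_univ_succ] at h2
          simpa using h2
      have h3 := h1 w0
      rwa [hw0, one_mul] at h3
  have h0 := key i 0 (by omega) Fin.elim0 Fin.elim0
  rwa [Finset.univ_eq_empty, Finset.prod_empty, one_smul] at h0

include hu hχ hχp hrk in
/-- products of at most `p - 1` elements of `I_1(D)` separate the points of `A` -/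
lemma sepA (a : A)
    (h : ∀ i : ℕ, i ≤ p - 1 → ∀ f : Fin i → OortTate.eigenAug R (CartDual.D R A) p χ 1,
      (∏ k, (f k : CartDual.D R A)).ofConv a = 0) : a = 0 := by
  have hp' := OTCore.hp_of_rank p hrk
  have hp2 := (Fact.out : p.Prime).two_le
  apply (OTCore.decomp p u hu χ hχ hp').injective
  rw [map_zero]
  refine Prod.ext ?_ ?_
  · have h0 := h 0 (by omega) Fin.elim0
    rw [Finset.univ_eq_empty, Finset.prod_empty, LinearMap.convOne_apply] at h0
    exact h0
  · funext k
    apply Subtype.ext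
    change ((piAug p hp' u χ (k : ℕ) a : OortTate.eigenAug R A p χ (k : ℕ)) : A) = 0
    by_cases hk0 : (k : ℕ) = 0
    · have h2 : OortTate.eigenAug R A p χ (k : ℕ) = OortTate.eigenAug R A p χ (p - 1) := by
        rw [hk0, OTFibre.eigenAug_mod p χ (p - 1), Nat.mod_self]
      have h2' : OortTate.eigenAug R (CartDual.D R A) p χ (p - 1) =
          OortTate.eigenAug R (CartDual.D R A) p χ (k : ℕ) := by
        rw [hk0, OTFibre.eigenAug_mod p χ (p - 1), Nat.mod_self]
      apply sepI p u hu χ hχ hχp hrk (p - 1) (by omega) le_rfl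
      · rw [← h2]
        exact (piAug p hp' u χ (k : ℕ) a).2
      · intro f
        obtain ⟨t, ht⟩ : ∃ t, p - 1 = t + 1 := ⟨p - 2, by omega⟩
        have hmem : (∏ j, (f j : CartDual.D R A)) ∈
            OortTate.eigenAug R (CartDual.D R A) p χ (p - 1) := by
          revert f
          rw [ht]
          intro f
          exact prod_mem p χ t f
        rw [h2'] at hmem
        rw [apply_piAug p u hu χ hp' k _ hmem]
        exact h (p - 1) le_rfl f
    · apply sepI p u hu χ hχ hχp hrk k (by omega) (by have := k.2; omega)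
      · exact (piAug p hp' u χ (k : ℕ) a).2
      · intro f
        obtain ⟨t, ht⟩ : ∃ t, (k : ℕ) = t + 1 := ⟨k - 1, by omega⟩
        have hmem : (∏ j, (f j : CartDual.D R A)) ∈
            OortTate.eigenAug R (CartDual.D R A) p χ (k : ℕ) := by
          revert f
          rw [ht]
          intro f
          exact prod_mem p χ t f
        rw [apply_piAug p u hu χ hp' k _ hmem]
        exact h k (by have := k.2; omega) f

end Single

section TensorSep

variable {R : Type u} [CommRing R] {M N : Type u} [AddCommGroup M] [Module R M]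
  [AddCommGroup N] [Module R N] [Module.Finite R M] [Module.Projective R M]

/-- linear forms on a finite projective module `M` separate the points of `M ⊗ N` -/
lemma tensor_sep (t : M ⊗[R] N)
    (h : ∀ g : Module.Dual R M, TensorProduct.lid R N (LinearMap.rTensor N g t) = 0) : t = 0 := by
  classical
  obtain ⟨n, f, g, -, -, hfg⟩ := Module.Finite.exists_comp_eq_id_of_projective R M
  have h1 : (LinearMap.id : M →ₗ[R] M) =
      ∑ k : Fin n, (LinearMap.toSpanSingleton R M (f (Pi.single k 1))) ∘ₗ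
        ((LinearMap.proj k : (Fin n → R) →ₗ[R] R) ∘ₗ g) := by
    apply LinearMap.ext
    intro m
    have hm : f (g m) = m := by
      have := congrArg (fun φ : M →ₗ[R] M => φ m) hfg
      simpa using this
    rw [LinearMap.id_apply, LinearMap.sum_apply]
    conv_lhs => rw [← hm, LinearMap.pi_apply_eq_sum_univ f (g m)]
    refine Finset.sum_congr rfl fun k _ => ?_
    rw [LinearMap.comp_apply, LinearMap.comp_apply, LinearMap.proj_apply,
      LinearMap.toSpanSingleton_apply]
    congr 2
    funext j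
    rw [Pi.single_apply]
    simp [eq_comm]
  have h2 : ∀ (a : M) (γ : Module.Dual R M) (s : M ⊗[R] N),
      LinearMap.rTensor N ((LinearMap.toSpanSingleton R M a) ∘ₗ γ) s =
        a ⊗ₜ[R] TensorProduct.lid R N (LinearMap.rTensor N γ s) := by
    intro a γ s
    induction s using TensorProduct.induction_on with
    | zero => simp
    | add s s' hs hs' => rw [map_add, hs, hs', map_add, map_add, TensorProduct.tmul_add]
    | tmul x y =>
      rw [LinearMap.rTensor_tmul, LinearMap.rTensor_tmul, LinearMap.comp_apply,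
        LinearMap.toSpanSingleton_apply, TensorProduct.lid_tmul, TensorProduct.smul_tmul]
  have h4 : ∀ (s : Finset (Fin n)) (φ : Fin n → (M →ₗ[R] M)),
      LinearMap.rTensor N (∑ k ∈ s, φ k) t = ∑ k ∈ s, LinearMap.rTensor N (φ k) t := by
    intro s φ
    induction s using Finset.induction_on with
    | empty => rw [Finset.sum_empty, Finset.sum_empty, LinearMap.rTensor_zero, LinearMap.zero_apply]
    | insert k s hk ih =>
      rw [Finset.sum_insert hk, Finset.sum_insert hk, LinearMap.rTensor_add, LinearMap.add_apply, ih]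
  have h3 : t = LinearMap.rTensor N (LinearMap.id : M →ₗ[R] M) t := by
    rw [LinearMap.rTensor_id, LinearMap.id_apply]
  rw [h3, h1, h4]
  apply Finset.sum_eq_zero
  intro k _
  rw [h2, h, TensorProduct.tmul_zero]

end TensorSep

section Rank

/-- the dual of a finite projective module has the same rank at every prime -/
lemma rankAtStalk_dual {R : Type u} [CommRing R] (M : Type u) [AddCommGroup M] [Module R M]
    [Module.Finite R M] [Module.Projective R M] (q : PrimeSpectrum R) :
    Module.rankAtStalk (Module.Dual R M) q = Module.rankAtStalk M q := by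
  have h1 : Module.rankAtStalk (R := R) R q = 1 := by
    have : Nontrivial R := q.nontrivial
    rw [Module.rankAtStalk_self]; rfl
  unfold Module.rankAtStalk at h1 ⊢
  have : Module.FinitePresentation R M := Module.finitePresentation_of_projective R M
  let e0 := Module.FinitePresentation.linearEquivMapExtendScalars q.asIdeal.primeCompl
    (M := M) (N := R)
  let e1 := e0.extendScalarsOfIsLocalization q.asIdeal.primeCompl (Localization.AtPrime q.asIdeal)
  have : Module.Free (Localization.AtPrime q.asIdeal) (LocalizedModule q.asIdeal.primeCompl M) :=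
    Module.free_of_flat_of_isLocalRing
  have : Module.Free (Localization.AtPrime q.asIdeal) (LocalizedModule q.asIdeal.primeCompl R) :=
    Module.free_of_flat_of_isLocalRing
  rw [e1.finrank_eq, Module.finrank_linearMap, h1, mul_one]

lemma rank_D {R : Type u} [CommRing R] (A : Type u) [AddCommGroup A] [Module R A]
    [Module.Finite R A] [Module.Projective R A] (q : PrimeSpectrum R) :
    Module.rankAtStalk (CartDual.D R A) q = Module.rankAtStalk A q := by
  rw [← rankAtStalk_dual A q]
  exact congrFun (Module.rankAtStalk_eq_of_equiv (CartDual.toDual R A)) q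

end Rank

section Gen

variable (p : ℕ) [Fact p.Prime] {R : Type u} [CommRing R] (u : R)
  (hu : u * ((p - 1 : ℕ) : R) = 1) (χ : (ZMod p)ˣ →* Rˣ)
  (hχ : ∀ m : (ZMod p)ˣ, m ≠ 1 → IsUnit ((χ m : R) - 1))
  (hχp : ∀ m : (ZMod p)ˣ,
    ((χ m : Rˣ) : R) - (((m : ZMod p).val : ℕ) : R) ∈ Ideal.span ({(p : R)} : Set R))
  {A : Type u} [CommRing A] [HopfAlgebra R A] [Coalgebra.IsCocomm R A] [Module.Finite R A]
  [Module.Projective R A]
  (hrk : ∀ q : PrimeSpectrum R, Module.rankAtStalk A q = p)

include hu hχ hχp hrk in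
/-- algebra maps out of `A` are determined by their values on `I_1` -/
lemma algHom_ext {B : Type u} [Semiring B] [Algebra R B] (F G : A →ₐ[R] B)
    (h : ∀ y : OortTate.eigenAug R A p χ 1, F (y : A) = G (y : A)) : F = G := by
  have hs := OTTensor.piT_surjective p u hu χ hχ hχp hrk
  have h1 : F.comp (OTTensor.piT p χ) = G.comp (OTTensor.piT p χ) := by
    apply TensorAlgebra.hom_ext
    apply LinearMap.ext
    intro y
    simp only [LinearMap.comp_apply, AlgHom.toLinearMap_apply, AlgHom.comp_apply,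
      TensorAlgebra.lift_ι_apply, Submodule.subtype_apply]
    exact h y
  apply AlgHom.ext
  intro a
  obtain ⟨z, rfl⟩ := hs a
  exact DFunLike.congr_fun h1 z

include hu hχ hχp hrk in
/-- a linear map on `I_1` compatible with `p`-fold products extends to an algebra map -/
lemma exists_algHom {B : Type u} [CommRing B] [Algebra R B]
    (θ : OortTate.eigenAug R A p χ 1 →ₗ[R] B)
    (hθ : ∀ (f : Fin p → OortTate.eigenAug R A p χ 1) (g : OortTate.eigenAug R A p χ 1),
      (g : A) = ∏ i, (f i : A) → θ g = ∏ i, θ (f i)) :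
    ∃ F : A →ₐ[R] B, ∀ y : OortTate.eigenAug R A p χ 1, F (y : A) = θ y := by
  have hs := OTTensor.piT_surjective p u hu χ hχ hχp hrk
  set φ : TensorAlgebra R (OortTate.eigenAug R A p χ 1) →ₐ[R] B := TensorAlgebra.lift R θ with hφ
  have hker : RingHom.ker (OTTensor.piT p χ (A := A)) ≤ RingHom.ker φ := by
    rw [OTTensor.ker_piT p u hu χ hχ hχp hrk, Ideal.span_le]
    rintro x ⟨f, g, hg, rfl⟩
    rw [SetLike.mem_coe, RingHom.mem_ker, map_sub, hφ, TensorAlgebra.lift_ι_apply, map_list_prod,
      List.map_ofFn, List.prod_ofFn]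
    simp only [Function.comp_apply, TensorAlgebra.lift_ι_apply]
    rw [hθ f g hg, sub_self]
  have key : ∀ z, φ (Function.surjInv hs (OTTensor.piT p χ z)) = φ z := by
    intro z
    have h1 : Function.surjInv hs (OTTensor.piT p χ z) - z ∈
        RingHom.ker (OTTensor.piT p χ (A := A)) := by
      rw [RingHom.mem_ker, map_sub, Function.surjInv_eq hs, sub_self]
    have h2 := hker h1
    rwa [RingHom.mem_ker, map_sub, sub_eq_zero] at h2
  refine ⟨{ toFun := fun a => φ (Function.surjInv hs a)
            map_one' := ?_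
            map_mul' := ?_
            map_zero' := ?_
            map_add' := ?_
            commutes' := ?_ }, ?_⟩
  · rw [← map_one (OTTensor.piT p χ (A := A)), key, map_one]
  · intro a b
    obtain ⟨z, rfl⟩ := hs a
    obtain ⟨w, rfl⟩ := hs b
    rw [← map_mul, key, key, key, map_mul]
  · rw [← map_zero (OTTensor.piT p χ (A := A)), key, map_zero]
  · intro a b
    obtain ⟨z, rfl⟩ := hs a
    obtain ⟨w, rfl⟩ := hs b
    rw [← map_add, key, key, key, map_add]
  · intro r
    rw [← AlgHom.commutes (OTTensor.piT p χ (A := A)), key, AlgHom.commutes]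
  · intro y
    change φ (Function.surjInv hs (y : A)) = θ y
    have h1 : OTTensor.piT p χ (A := A) (TensorAlgebra.ι R y) = (y : A) := by
      rw [TensorAlgebra.lift_ι_apply]
      rfl
    rw [← h1, key, hφ, TensorAlgebra.lift_ι_apply]

/-- products of `t + 1` elements of `I_1` lie in `I_{t+1}` -/
lemma prod_mem' (t : ℕ) (f : Fin (t + 1) → OortTate.eigenAug R A p χ 1) :
    (∏ k, (f k : A)) ∈ OortTate.eigenAug R A p χ (t + 1) := by
  apply OTCore.pow_succ_le p χ t
  rw [Submodule.pow_eq_span_pow_set]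
  apply Submodule.subset_span
  rw [Set.mem_pow]
  exact ⟨fun k => ⟨(f k : A), (f k).2⟩, List.prod_ofFn⟩

/-- products of `p` elements of `I_1` lie in `I_1` -/
lemma prod_p_mem (f : Fin p → OortTate.eigenAug R A p χ 1) :
    (∏ k, (f k : A)) ∈ OortTate.eigenAug R A p χ 1 := by
  have hp2 := (Fact.out : p.Prime).two_le
  have hmod : p % (p - 1) = 1 % (p - 1) := by
    have := Nat.add_mod_left (p - 1) 1
    rwa [show p - 1 + 1 = p by omega] at this
  have h1 : OortTate.eigenAug R A p χ p ≤ OortTate.eigenAug R A p χ 1 := by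
    rw [OTFibre.eigenAug_mod p χ 1, OTFibre.eigenAug_mod p χ p, hmod]
  apply h1
  obtain ⟨t, ht⟩ : ∃ t, p = t + 1 := ⟨p - 1, by omega⟩
  have key : ∀ n : ℕ, n = t + 1 → ∀ f : Fin n → OortTate.eigenAug R A p χ 1,
      (∏ k, (f k : A)) ∈ OortTate.eigenAug R A p χ n := by
    intro n hn
    subst hn
    exact prod_mem' p χ t
  exact key p ht f

include hu hχ hχp hrk in
/-- `A` is spanned by the products of at most `p - 1` elements of `I_1` -/
lemma prod_induction (P : A → Prop) (hadd : ∀ a b, P a → P b → P (a + b))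
    (hsmul : ∀ (r : R) a, P a → P (r • a))
    (hprod : ∀ t, t ≤ p - 1 → ∀ b : Fin t → OortTate.eigenAug R A p χ 1, P (∏ k, (b k : A)))
    (a : A) : P a := by
  have hp' := OTCore.hp_of_rank p hrk
  have hp2 := (Fact.out : p.Prime).two_le
  have h1 : P 1 := by
    have := hprod 0 (by omega) Fin.elim0
    rwa [Finset.univ_eq_empty, Finset.prod_empty] at this
  have h0 : P 0 := by
    have := hsmul 0 1 h1
    rwa [zero_smul] at this
  have hpow : ∀ t, t ≤ p - 1 → ∀ z ∈ (OortTate.eigenAug R A p χ 1) ^ t, P z := by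
    intro t ht z hz
    rw [Submodule.pow_eq_span_pow_set] at hz
    refine Submodule.span_induction (p := fun z _ => P z) ?_ h0 ?_ ?_ hz
    · intro z hz
      rw [Set.mem_pow] at hz
      obtain ⟨g, rfl⟩ := hz
      rw [List.prod_ofFn]
      exact hprod t ht (fun k => ⟨(g k : A), (g k).2⟩)
    · intro z w _ _ hz hw
      exact hadd z w hz hw
    · intro r z _ hz
      exact hsmul r z hz
  have h2 : a = (OTCore.decomp p u hu χ hχ hp').symm (OTCore.decomp p u hu χ hχ hp' a) :=
    ((OTCore.decomp p u hu χ hχ hp').symm_apply_apply a).symm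
  rw [h2]
  change P ((OTCore.decomp p u hu χ hχ hp' a).1 • (1 : A) +
    ∑ i : Fin (p - 1), ((OTCore.decomp p u hu χ hχ hp' a).2 i : A))
  apply hadd
  · exact hsmul _ _ h1
  · apply Finset.sum_induction _ P hadd h0
    intro i _
    set y := (OTCore.decomp p u hu χ hχ hp' a).2 i with hy
    by_cases hi0 : (i : ℕ) = 0
    · apply hpow (p - 1) le_rfl
      rw [OTCore.pow_eq p u hu χ hχ hχp hrk (p - 1) (by omega) le_rfl,
        OTFibre.eigenAug_mod p χ (p - 1), Nat.mod_self, ← hi0]
      exact y.2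
    · apply hpow i (by have := i.2; omega)
      rw [OTCore.pow_eq p u hu χ hχ hχp hrk i (by omega) (by have := i.2; omega)]
      exact y.2

include hrk in
lemma rank_D' (q : PrimeSpectrum R) : Module.rankAtStalk (CartDual.D R A) q = p := by
  rw [rank_D A q, hrk q]

/-- restriction of linear forms `I_1(A^D) → I_1(A)^∨` -/
noncomputable def rest (hp : (toConv (AlgHom.id R A)) ^ p = 1) :
    OortTate.eigenAug R (CartDual.D R A) p χ 1 ≃ₗ[R]
      Module.Dual R (OortTate.eigenAug R A p χ 1) :=
  LinearEquiv.ofBijective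
    ((LinearMap.lcomp R R (OortTate.eigenAug R A p χ 1).subtype) ∘ₗ
      (CartDual.toDual R A).toLinearMap ∘ₗ
      (OortTate.eigenAug R (CartDual.D R A) p χ 1).subtype)
    (restrict_bijective p hp u hu χ 1)

lemma rest_apply (hp : (toConv (AlgHom.id R A)) ^ p = 1)
    (f : OortTate.eigenAug R (CartDual.D R A) p χ 1) (x : OortTate.eigenAug R A p χ 1) :
    rest p u hu χ hp f x = (f : CartDual.D R A).ofConv (x : A) := rfl

end Gen

section Two

variable (p : ℕ) [Fact p.Prime] {R : Type u} [CommRing R] (u : R)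
  (hu : u * ((p - 1 : ℕ) : R) = 1) (χ : (ZMod p)ˣ →* Rˣ)
  (hχ : ∀ m : (ZMod p)ˣ, m ≠ 1 → IsUnit ((χ m : R) - 1))
  (hχp : ∀ m : (ZMod p)ˣ,
    ((χ m : Rˣ) : R) - (((m : ZMod p).val : ℕ) : R) ∈ Ideal.span ({(p : R)} : Set R))
  {A : Type u} [CommRing A] [HopfAlgebra R A] [Coalgebra.IsCocomm R A] [Module.Finite R A]
  [Module.Projective R A]
  (hrk : ∀ q : PrimeSpectrum R, Module.rankAtStalk A q = p)
  {A' : Type u} [CommRing A'] [HopfAlgebra R A'] [Coalgebra.IsCocomm R A'] [Module.Finite R A']
  [Module.Projective R A']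
  (hrk' : ∀ q : PrimeSpectrum R, Module.rankAtStalk A' q = p)

include hu hχ hχp hrk in
/-- an algebra map sending `I_1(A)` into the augmentation ideal is compatible with counits -/
lemma counit_compat (F : A →ₐ[R] A')
    (hF : ∀ y : OortTate.eigenAug R A p χ 1, Coalgebra.counit (R := R) (F (y : A)) = 0) (a : A) :
    Coalgebra.counit (R := R) (F a) = Coalgebra.counit (R := R) a := by
  have h1 : (Bialgebra.counitAlgHom R A').comp F = Bialgebra.counitAlgHom R A := by
    apply algHom_ext p u hu χ hχ hχp hrk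
    intro y
    rw [AlgHom.comp_apply]
    change Coalgebra.counit (R := R) (F (y : A)) = Coalgebra.counit (R := R) (y : A)
    rw [hF y, ((OTFibre.mem_eigenAug' p χ 1 _).1 y.2).1]
  exact DFunLike.congr_fun h1 a

include hu hχ hχp hrk hrk' in
/-- an algebra map `H : A'^D → A^D` which is transposed to `F : A → A'` on the `I_1`s is the
transpose of `F` -/
lemma pairing_transfer (F : A →ₐ[R] A') (H : CartDual.D R A' →ₐ[R] CartDual.D R A)
    (hF : ∀ y : OortTate.eigenAug R A p χ 1, F (y : A) ∈ OortTate.eigenAug R A' p χ 1)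
    (hH : ∀ f : OortTate.eigenAug R (CartDual.D R A') p χ 1,
      H (f : CartDual.D R A') ∈ OortTate.eigenAug R (CartDual.D R A) p χ 1)
    (hFH : ∀ (y : OortTate.eigenAug R A p χ 1)
      (f : OortTate.eigenAug R (CartDual.D R A') p χ 1),
      (H (f : CartDual.D R A')).ofConv (y : A) = (f : CartDual.D R A').ofConv (F (y : A)))
    (φ' : CartDual.D R A') (a : A) : (H φ').ofConv a = φ'.ofConv (F a) := by
  have hp' := OTCore.hp_of_rank p hrk
  have hp'' := OTCore.hp_of_rank p hrk'
  have hp2 := (Fact.out : p.Prime).two_le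
  have hε : ∀ a : A, Coalgebra.counit (R := R) (F a) = Coalgebra.counit (R := R) a :=
    counit_compat p u hu χ hχ hχp hrk F
      (fun y => ((OTFibre.mem_eigenAug' p χ 1 _).1 (hF y)).1)
  revert φ'
  refine prod_induction p u hu χ hχ hχp hrk (fun a => ∀ φ' : CartDual.D R A',
    (H φ').ofConv a = φ'.ofConv (F a)) ?_ ?_ ?_ a
  · intro a b ha hb φ'
    rw [map_add, map_add, map_add, ha, hb]
  · intro r a ha φ'
    rw [map_smul, map_smul, map_smul, ha]
  intro t ht b
  refine prod_induction p u hu χ hχ hχp (A := CartDual.D R A') (rank_D' p hrk')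
    (fun φ' : CartDual.D R A' => (H φ').ofConv (∏ k, (b k : A)) =
      φ'.ofConv (F (∏ k, (b k : A)))) ?_ ?_ ?_
  · intro φ ψ hφ hψ
    rw [map_add, WithConv.ofConv_add, LinearMap.add_apply, hφ, hψ, WithConv.ofConv_add,
      LinearMap.add_apply]
  · intro r φ hφ
    rw [map_smul, WithConv.ofConv_smul, LinearMap.smul_apply, hφ, WithConv.ofConv_smul,
      LinearMap.smul_apply]
  intro i hi f
  rcases Nat.eq_zero_or_pos i with hi0 | hi0
  · subst hi0
    rw [Finset.univ_eq_empty (α := Fin 0), Finset.prod_empty, map_one]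
    change algebraMap R R (Coalgebra.counit (R := R) (∏ k, (b k : A))) =
      algebraMap R R (Coalgebra.counit (R := R) (F (∏ k, (b k : A))))
    rw [hε]
  rw [map_prod H, map_prod F]
  rcases Nat.eq_zero_or_pos t with ht0 | ht0
  · subst ht0
    obtain ⟨j, rfl⟩ : ∃ j, i = j + 1 := ⟨i - 1, by omega⟩
    rw [Finset.univ_eq_empty (α := Fin 0), Finset.prod_empty, Finset.prod_empty]
    have h1 := prod_mem' p χ (A := CartDual.D R A) j (fun k => ⟨H (f k), hH (f k)⟩)
    have h2 := prod_mem' p χ (A := CartDual.D R A') j f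
    have h3 := ((OTFibre.mem_eigenAug' p χ _ _).1 h1).1
    have h4 := ((OTFibre.mem_eigenAug' p χ _ _).1 h2).1
    exact h3.trans h4.symm
  by_cases hit : i = t
  · subst hit
    have h1 := pair_formula p u hu χ hχ hχp hrk i hi0 hi (fun k => ⟨H (f k), hH (f k)⟩) b
    have h2 := pair_formula p u hu χ hχ hχp hrk' i hi0 hi f (fun k => ⟨F (b k), hF (b k)⟩)
    simp only at h1 h2
    rw [h1, h2]
    congr 1
    exact Finset.prod_congr rfl fun k _ => hFH (b k) (f k)
  · obtain ⟨j, rfl⟩ : ∃ j, i = j + 1 := ⟨i - 1, by omega⟩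
    obtain ⟨s, rfl⟩ : ∃ s, t = s + 1 := ⟨t - 1, by omega⟩
    have hne := mod_ne p hp2 (j + 1) (s + 1) hi0 hi ht0 ht hit
    have h1 := prod_mem' p χ (A := CartDual.D R A) j (fun k => ⟨H (f k), hH (f k)⟩)
    have h2 := prod_mem' p χ (A := CartDual.D R A') j f
    have h3 := prod_mem' p χ (A := A) s b
    have h4 := prod_mem' p χ (A := A') s (fun k => ⟨F (b k), hF (b k)⟩)
    rw [ortho p u hu χ hχ hp' (j + 1) (s + 1) hne _ h1 _ h3,
      ortho p u hu χ hχ hp'' (j + 1) (s + 1) hne _ h2 _ h4]

/-- an algebra map whose transpose is an algebra map is compatible with comultiplication -/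
lemma comul_compat (F : A →ₐ[R] A') (H : CartDual.D R A' →ₐ[R] CartDual.D R A)
    (hFH : ∀ (φ' : CartDual.D R A') (a : A), (H φ').ofConv a = φ'.ofConv (F a)) (a : A) :
    Algebra.TensorProduct.map F F (Coalgebra.comul (R := R) a) =
      Coalgebra.comul (R := R) (F a) := by
  rw [← sub_eq_zero, ← Module.forall_dual_apply_eq_zero_iff R]
  intro ξ
  obtain ⟨s, rfl⟩ := (CartDual.ev₂ R A').surjective ξ
  rw [map_sub, sub_eq_zero]
  induction s using TensorProduct.induction_on with
  | zero => rw [map_zero, LinearMap.zero_apply, LinearMap.zero_apply]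
  | add s s' hs hs' => rw [map_add, LinearMap.add_apply, LinearMap.add_apply, hs, hs']
  | tmul φ' ψ' =>
    have 𝓡 := Coalgebra.Repr.arbitrary R a
    have 𝓡' := Coalgebra.Repr.arbitrary R (F a)
    rw [← 𝓡.eq, ← 𝓡'.eq, map_sum, map_sum, map_sum]
    simp only [Algebra.TensorProduct.map_tmul, CartDual.ev₂_tmul]
    have h1 := 𝓡'.convMul_apply φ' ψ'
    have h2 := 𝓡.convMul_apply (H φ') (H ψ')
    rw [← map_mul] at h2
    change ((H (φ' * ψ')).ofConv a) = _ at h2
    change ((φ' * ψ').ofConv (F a)) = _ at h1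
    rw [hFH] at h2
    rw [← h1, h2]
    refine Finset.sum_congr rfl fun k _ => ?_
    change _ = (H φ').ofConv _ * (H ψ').ofConv _
    rw [hFH, hFH]

end Two

section Main

variable (p : ℕ) [Fact p.Prime] {R : Type u} [CommRing R] (u : R)
  (hu : u * ((p - 1 : ℕ) : R) = 1) (χ : (ZMod p)ˣ →* Rˣ)
  (hχ : ∀ m : (ZMod p)ˣ, m ≠ 1 → IsUnit ((χ m : R) - 1))
  (hχp : ∀ m : (ZMod p)ˣ,
    ((χ m : Rˣ) : R) - (((m : ZMod p).val : ℕ) : R) ∈ Ideal.span ({(p : R)} : Set R))
  {A : Type u} [CommRing A] [HopfAlgebra R A] [Coalgebra.IsCocomm R A] [Module.Finite R A]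
  [Module.Projective R A]
  (hrk : ∀ q : PrimeSpectrum R, Module.rankAtStalk A q = p)
  {A' : Type u} [CommRing A'] [HopfAlgebra R A'] [Coalgebra.IsCocomm R A'] [Module.Finite R A']
  [Module.Projective R A']
  (hrk' : ∀ q : PrimeSpectrum R, Module.rankAtStalk A' q = p)
  (θ : OortTate.eigenAug R A p χ 1 ≃ₗ[R] OortTate.eigenAug R A' p χ 1)

/-- the transposed isomorphism `I_1(A'^D) ≃ I_1(A^D)` -/
noncomputable def thetaD (hp : (toConv (AlgHom.id R A)) ^ p = 1)
    (hp' : (toConv (AlgHom.id R A')) ^ p = 1) :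
    OortTate.eigenAug R (CartDual.D R A') p χ 1 ≃ₗ[R]
      OortTate.eigenAug R (CartDual.D R A) p χ 1 :=
  (rest p u hu χ hp' (A := A')) ≪≫ₗ θ.dualMap ≪≫ₗ (rest p u hu χ hp).symm

lemma thetaD_spec (hp : (toConv (AlgHom.id R A)) ^ p = 1)
    (hp' : (toConv (AlgHom.id R A')) ^ p = 1)
    (f' : OortTate.eigenAug R (CartDual.D R A') p χ 1) (x : OortTate.eigenAug R A p χ 1) :
    ((thetaD p u hu χ θ hp hp' f' : OortTate.eigenAug R (CartDual.D R A) p χ 1) :
      CartDual.D R A).ofConv (x : A) =
      (f' : CartDual.D R A').ofConv ((θ x : OortTate.eigenAug R A' p χ 1) : A') := by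
  have h : rest p u hu χ hp (thetaD p u hu χ θ hp hp' f') =
      θ.dualMap (rest p u hu χ hp' f') := by
    unfold thetaD
    simp only [LinearEquiv.trans_apply, LinearEquiv.apply_symm_apply]
  have h1 := LinearMap.congr_fun h x
  rwa [rest_apply, LinearEquiv.dualMap_apply, rest_apply] at h1

include hu hχ hχp hrk hrk' in
/-- **Oort–Tate**: the classification map is injective on isomorphism classes -/
theorem nonempty_bialgEquiv
    (hθ : ∀ (f : Fin p → OortTate.eigenAug R A p χ 1) (g : OortTate.eigenAug R A p χ 1),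
      (g : A) = ∏ i, (f i : A) →
        ((θ g : OortTate.eigenAug R A' p χ 1) : A') = ∏ i, ((θ (f i)) : A'))
    (hθD : ∀ (φ : Fin p → OortTate.eigenAug R (CartDual.D R A) p χ 1)
      (φ' : Fin p → OortTate.eigenAug R (CartDual.D R A') p χ 1)
      (ψ : OortTate.eigenAug R (CartDual.D R A) p χ 1)
      (ψ' : OortTate.eigenAug R (CartDual.D R A') p χ 1),
      (∀ i, ∀ x : OortTate.eigenAug R A p χ 1,
        CartDual.toDual R A (φ i : CartDual.D R A) (x : A) =
          CartDual.toDual R A' (φ' i : CartDual.D R A')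
            ((θ x : OortTate.eigenAug R A' p χ 1) : A')) →
      (ψ : CartDual.D R A) = ∏ i, (φ i : CartDual.D R A) →
      (ψ' : CartDual.D R A') = ∏ i, (φ' i : CartDual.D R A') →
      ∀ x : OortTate.eigenAug R A p χ 1,
        CartDual.toDual R A (ψ : CartDual.D R A) (x : A) =
          CartDual.toDual R A' (ψ' : CartDual.D R A')
            ((θ x : OortTate.eigenAug R A' p χ 1) : A')) :
    Nonempty (A ≃ₐc[R] A') := by
  have hp := OTCore.hp_of_rank p hrk
  have hp' := OTCore.hp_of_rank p hrk'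
  -- compatibility of the inverse
  have hθs : ∀ (f' : Fin p → OortTate.eigenAug R A' p χ 1) (g' : OortTate.eigenAug R A' p χ 1),
      (g' : A') = ∏ i, (f' i : A') →
        ((θ.symm g' : OortTate.eigenAug R A p χ 1) : A) = ∏ i, ((θ.symm (f' i)) : A) := by
    intro f' g' hg
    have hmem := prod_p_mem p χ (fun i => θ.symm (f' i))
    have h1 := hθ (fun i => θ.symm (f' i)) ⟨_, hmem⟩ rfl
    simp only [LinearEquiv.apply_symm_apply] at h1
    have h2 : θ ⟨_, hmem⟩ = g' := Subtype.ext (h1.trans hg.symm)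
    rw [← h2, LinearEquiv.symm_apply_apply]
  -- compatibility of the transpose
  have hLp : ∀ (f' : Fin p → OortTate.eigenAug R (CartDual.D R A') p χ 1)
      (g' : OortTate.eigenAug R (CartDual.D R A') p χ 1),
      (g' : CartDual.D R A') = ∏ i, (f' i : CartDual.D R A') →
        ((thetaD p u hu χ θ hp hp' g' : OortTate.eigenAug R (CartDual.D R A) p χ 1) :
          CartDual.D R A) = ∏ i, ((thetaD p u hu χ θ hp hp' (f' i)) : CartDual.D R A) := by
    intro f' g' hg
    have hmem := prod_p_mem p χ (A := CartDual.D R A)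
      (fun i => thetaD p u hu χ θ hp hp' (f' i))
    have h1 := hθD (fun i => thetaD p u hu χ θ hp hp' (f' i)) f' ⟨_, hmem⟩ g'
      (fun i x => thetaD_spec p u hu χ θ hp hp' (f' i) x) rfl hg
    have h2 : (⟨_, hmem⟩ : OortTate.eigenAug R (CartDual.D R A) p χ 1) =
        thetaD p u hu χ θ hp hp' g' := by
      apply (rest p u hu χ hp).injective
      apply LinearMap.ext
      intro x
      rw [rest_apply, rest_apply, thetaD_spec]
      exact h1 x
    exact (congrArg Subtype.val h2).symm
  obtain ⟨F, hF⟩ := exists_algHom p u hu χ hχ hχp hrk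
    ((OortTate.eigenAug R A' p χ 1).subtype ∘ₗ θ.toLinearMap) (fun f g hg => hθ f g hg)
  obtain ⟨G, hG⟩ := exists_algHom p u hu χ hχ hχp hrk'
    ((OortTate.eigenAug R A p χ 1).subtype ∘ₗ θ.symm.toLinearMap) (fun f g hg => hθs f g hg)
  obtain ⟨H, hH⟩ := exists_algHom p u hu χ hχ hχp (A := CartDual.D R A') (rank_D' p hrk')
    ((OortTate.eigenAug R (CartDual.D R A) p χ 1).subtype ∘ₗ
      (thetaD p u hu χ θ hp hp').toLinearMap) (fun f g hg => hLp f g hg)
  have hF' : ∀ y : OortTate.eigenAug R A p χ 1,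
      F (y : A) = ((θ y : OortTate.eigenAug R A' p χ 1) : A') := hF
  have hG' : ∀ y : OortTate.eigenAug R A' p χ 1,
      G (y : A') = ((θ.symm y : OortTate.eigenAug R A p χ 1) : A) := hG
  have hH' : ∀ f : OortTate.eigenAug R (CartDual.D R A') p χ 1,
      H (f : CartDual.D R A') = ((thetaD p u hu χ θ hp hp' f :
        OortTate.eigenAug R (CartDual.D R A) p χ 1) : CartDual.D R A) := hH
  have hGF : G.comp F = AlgHom.id R A := by
    apply algHom_ext p u hu χ hχ hχp hrk
    intro y
    rw [AlgHom.comp_apply, hF' y, hG' (θ y), LinearEquiv.symm_apply_apply]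
    rfl
  have hFG : F.comp G = AlgHom.id R A' := by
    apply algHom_ext p u hu χ hχ hχp hrk'
    intro y
    rw [AlgHom.comp_apply, hG' y, hF' (θ.symm y), LinearEquiv.apply_symm_apply]
    rfl
  have hFmem : ∀ y : OortTate.eigenAug R A p χ 1, F (y : A) ∈ OortTate.eigenAug R A' p χ 1 := by
    intro y
    rw [hF' y]
    exact (θ y).2
  have hpair := pairing_transfer p u hu χ hχ hχp hrk hrk' F H hFmem
    (fun f => by rw [hH' f]; exact (thetaD p u hu χ θ hp hp' f).2)
    (fun y f => by rw [hH' f, hF' y]; exact thetaD_spec p u hu χ θ hp hp' f y)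
  let e : A ≃ₐ[R] A' := AlgEquiv.ofAlgHom F G hFG hGF
  refine ⟨BialgEquiv.ofAlgEquiv e ?_ ?_⟩
  · apply AlgHom.ext
    intro a
    exact counit_compat p u hu χ hχ hχp hrk F
      (fun y => ((OTFibre.mem_eigenAug' p χ 1 _).1 (hFmem y)).1) a
  · apply AlgHom.ext
    intro a
    exact comul_compat F H hpair a

end Main

end Groth.Agent.Lib.helper15.OTGlobal
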