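import Mathlib
import Groth.Agent.Lib.Helper15.PSCan1
import Groth.Agent.Lib.Helper27.PSLattice

/-!
# A Nakayama argument for submodules of `k[[t]]` (helper15)

`A ⊆ k[[t]]` a `k`-subalgebra over which `k[[t]]` is a finite module, `N` an `A`-submodule of
`k[[t]]`.  If every `n ≥ c` is the order of an element of `N` then `N ⊇ t^c k[[t]]`
(`mem_of_forall_vals`).  No closedness hypothesis is needed.
-/

set_option autoImplicit false
set_option linter.style.haveILetI false

universe u

namespace Groth.Agent.Lib.helper15.PSNak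

open PowerSeries Groth.Agent.Lib.helper27.PSLattice Groth.Agent.Lib.helper15.PSCan

variable {k : Type u} [Field k] (A : Subalgebra k (PowerSeries k))

/-- `t^c k[[t]]` as an `A`-submodule -/
def E (c : ℕ) : Submodule ↥A (PowerSeries k) where
  carrier := {f | (c : ℕ∞) ≤ order f}
  zero_mem' := by
    change (c : ℕ∞) ≤ order (0 : PowerSeries k)
    rw [order_zero]
    exact le_top
  add_mem' := by
    intro f g hf hg
    exact le_trans (le_min hf hg) (min_order_le_order_add f g)
  smul_mem' := by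
    intro a f hf
    change (c : ℕ∞) ≤ order ((a : PowerSeries k) * f)
    rw [order_mul]
    exact le_trans hf le_add_self

theorem mem_E {c : ℕ} {f : PowerSeries k} : f ∈ E A c ↔ (c : ℕ∞) ≤ order f := Iff.rfl

theorem exists_eq_X_pow_mul (j : ℕ) (h : PowerSeries k) (hh : (j : ℕ∞) ≤ order h) :
    ∃ g, h = X ^ j * g := by
  have : (X : PowerSeries k) ^ j ∣ h := by
    rw [X_pow_dvd_iff]
    intro m hm
    exact coeff_of_lt_order m (lt_of_lt_of_le (by exact_mod_cast hm) hh)
  exact this

theorem E_fg [Module.Finite ↥A (PowerSeries k)] (c : ℕ) : (E A c).FG := by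
  have h1 : E A c = (⊤ : Submodule ↥A (PowerSeries k)).map
      (LinearMap.mulLeft ↥A ((X : PowerSeries k) ^ c)) := by
    ext f
    constructor
    · intro hf
      obtain ⟨g, rfl⟩ := exists_eq_X_pow_mul c f hf
      exact ⟨g, Submodule.mem_top, rfl⟩
    · rintro ⟨g, -, rfl⟩
      change (c : ℕ∞) ≤ order (X ^ c * g)
      rw [order_mul, order_X_pow]
      exact le_self_add
  rw [h1]
  exact (Module.Finite.fg_top).map _

/-- `A` is not a field -/
theorem exists_mem_maximalIdeal_ne_zero [Module.Finite ↥A (PowerSeries k)] [IsLocalRing ↥A] :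
    ∃ a : ↥A, a ∈ IsLocalRing.maximalIdeal ↥A ∧ a ≠ 0 := by
  by_contra hcon
  have hbot : IsLocalRing.maximalIdeal ↥A = ⊥ := by
    rw [eq_bot_iff]
    intro a ha
    by_contra ha0
    exact hcon ⟨a, ha, ha0⟩
  have hF : IsField ↥A := IsLocalRing.isField_iff_maximalIdeal_eq.mpr hbot
  haveI : Algebra.IsIntegral ↥A (PowerSeries k) := Algebra.IsIntegral.of_finite _ _
  have hP : IsField (PowerSeries k) := isField_of_isIntegral_of_isField' hF
  have hX : IsUnit (X : PowerSeries k) := by
    obtain ⟨y, hy⟩ := hP.mul_inv_cancel (X_ne_zero (R := k))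
    exact IsUnit.of_mul_eq_one _ hy
  rw [PowerSeries.isUnit_iff_constantCoeff, constantCoeff_X] at hX
  exact not_isUnit_zero hX

/-- high-order elements lie in `𝔪_A • t^c k[[t]]` -/
theorem mem_smul_E [IsLocalRing ↥A] (c : ℕ) (a : ↥A) (ha : a ∈ IsLocalRing.maximalIdeal ↥A)
    (ha0 : a ≠ 0) (e : ℕ) (he : order (a : PowerSeries k) = e) (f : PowerSeries k)
    (hf : ((c + e : ℕ) : ℕ∞) ≤ order f) :
    f ∈ IsLocalRing.maximalIdeal ↥A • E A c := by
  have ha0' : (a : PowerSeries k) ≠ 0 := fun h => ha0 (Subtype.ext h)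
  obtain ⟨u, hu⟩ := exists_eq_X_pow_mul e (a : PowerSeries k) he.ge
  have hu0 : constantCoeff u ≠ 0 := by
    have h1 := coeff_ne_zero_of_order_eq he
    rw [hu] at h1
    have h2 : coeff e (X ^ e * u) = coeff 0 u := by
      have := coeff_X_pow_mul u e 0
      rwa [zero_add] at this
    rw [h2, coeff_zero_eq_constantCoeff_apply] at h1
    exact h1
  have huU : IsUnit u := by
    rw [PowerSeries.isUnit_iff_constantCoeff]
    exact isUnit_iff_ne_zero.mpr hu0
  obtain ⟨v, hv⟩ := huU.exists_right_inv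
  obtain ⟨g, hg⟩ := exists_eq_X_pow_mul (c + e) f hf
  have hfa : f = a • (v * X ^ c * g) := by
    change f = (a : PowerSeries k) * (v * X ^ c * g)
    rw [hg, hu, pow_add]
    calc X ^ c * X ^ e * g = (u * v) * (X ^ c * X ^ e * g) := by rw [hv, one_mul]
      _ = X ^ e * u * (v * X ^ c * g) := by ring
  rw [hfa]
  apply Submodule.smul_mem_smul ha
  change (c : ℕ∞) ≤ order (v * X ^ c * g)
  rw [order_mul, order_mul, order_X_pow]
  exact le_trans (le_add_self) (le_self_add)

/-- if every `n ≥ c` is a value of `N` then `N ⊇ t^c k[[t]]` -/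
theorem mem_of_forall_vals [Module.Finite ↥A (PowerSeries k)]
    (N : Submodule ↥A (PowerSeries k)) (c : ℕ)
    (hN : ∀ n : ℕ, c ≤ n → ∃ f ∈ N, order f = n) (f : PowerSeries k)
    (hf : (c : ℕ∞) ≤ order f) : f ∈ N := by
  haveI := isLocalRing A
  obtain ⟨a, ha, ha0⟩ := exists_mem_maximalIdeal_ne_zero A
  have ha0' : (a : PowerSeries k) ≠ 0 := fun h => ha0 (Subtype.ext h)
  obtain ⟨e, he⟩ : ∃ e : ℕ, order (a : PowerSeries k) = e :=
    ⟨(order (a : PowerSeries k)).toNat, (coe_toNat_order ha0').symm⟩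
  set V : Submodule k (PowerSeries k) := (N ⊓ E A c).restrictScalars k with hV
  have hvals : ∀ n, c ≤ n → n ∈ vals V := by
    intro n hn
    obtain ⟨g, hg, hgo⟩ := hN n hn
    refine ⟨g, ⟨hg, ?_⟩, hgo⟩
    change (c : ℕ∞) ≤ order g
    rw [hgo]
    exact_mod_cast hn
  have approx : ∀ j : ℕ, ∀ h : PowerSeries k, (c : ℕ∞) ≤ order h →
      ∃ g ∈ V, ((c + j : ℕ) : ℕ∞) ≤ order (h - g) := by
    intro j
    induction j with
    | zero =>
      intro h hh
      exact ⟨0, V.zero_mem, by rw [sub_zero]; exact hh⟩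
    | succ j ih =>
      intro h hh
      obtain ⟨g, hg, hgo⟩ := ih h hh
      obtain ⟨g', hg', -, hgo'⟩ := exists_sub_order_ge (hvals (c + j) (by omega)) (h - g) hgo
      refine ⟨g + g', V.add_mem hg hg', ?_⟩
      have : h - (g + g') = h - g - g' := by ring
      rw [this]
      exact hgo'
  have hle : E A c ≤ (N ⊓ E A c) ⊔ IsLocalRing.maximalIdeal ↥A • E A c := by
    intro h hh
    obtain ⟨g, hg, hgo⟩ := approx e h hh
    have h1 : h - g ∈ IsLocalRing.maximalIdeal ↥A • E A c := mem_smul_E A c a ha ha0 e he _ hgo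
    have h2 : g ∈ N ⊓ E A c := hg
    have : h = g + (h - g) := by ring
    rw [this]
    exact Submodule.add_mem_sup h2 h1
  have hjac : IsLocalRing.maximalIdeal ↥A ≤ Ideal.jacobson ⊥ :=
    (IsLocalRing.jacobson_eq_maximalIdeal _ bot_ne_top).ge
  have := Submodule.le_of_le_smul_of_le_jacobson_bot (E_fg A c) hjac hle
  exact (this hf).1

end Groth.Agent.Lib.helper15.PSNak
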