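import Mathlib

/-!
# The augmentation ideal `(X_i)` of a polynomial ring
-/

set_option autoImplicit false

namespace Groth.Agent.Lib.helper15.PolyAug

open MvPolynomial

variable {σ A : Type*} [CommRing A]

/-- the ideal generated by the variables -/
noncomputable abbrev Sp (σ A : Type*) [CommRing A] : Ideal (MvPolynomial σ A) :=
  Ideal.span (Set.range (X : σ → MvPolynomial σ A))

lemma X_mem_Sp (i : σ) : (X i : MvPolynomial σ A) ∈ Sp σ A := Ideal.subset_span ⟨i, rfl⟩

lemma constantCoeff_of_mem_Sp {f : MvPolynomial σ A} (hf : f ∈ Sp σ A) : constantCoeff f = 0 := by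
  have : Sp σ A ≤ RingHom.ker (constantCoeff : MvPolynomial σ A →+* A) := by
    rw [Ideal.span_le]
    rintro _ ⟨i, rfl⟩
    exact constantCoeff_X A i
  exact this hf

/-- every polynomial is constant + linear + (element of `Sp²`) -/
lemma decomp [Fintype σ] [DecidableEq σ] (f : MvPolynomial σ A) :
    ∃ (a : σ → A) (h : MvPolynomial σ A), h ∈ Sp σ A * Sp σ A ∧
      f = C (constantCoeff f) + ∑ i, C (a i) * X i + h := by
  induction f using MvPolynomial.induction_on with
  | C c => exact ⟨0, 0, zero_mem _, by simp⟩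
  | add p q hp hq =>
    obtain ⟨a, h, hh, e⟩ := hp
    obtain ⟨a', h', hh', e'⟩ := hq
    refine ⟨a + a', h + h', add_mem hh hh', ?_⟩
    conv_lhs => rw [e, e']
    simp only [Pi.add_apply, map_add, add_mul, Finset.sum_add_distrib]
    ring
  | mul_X p j hp =>
    obtain ⟨a, h, hh, e⟩ := hp
    have hlin : ∑ i, C (a i) * X i + h ∈ Sp σ A :=
      add_mem (sum_mem fun i _ => Ideal.mul_mem_left _ _ (X_mem_Sp i)) (Ideal.mul_le_left hh)
    refine ⟨Pi.single j (constantCoeff p), (∑ i, C (a i) * X i + h) * X j,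
      Ideal.mul_mem_mul hlin (X_mem_Sp j), ?_⟩
    have h1 : ∑ i, C ((Pi.single j (constantCoeff p) : σ → A) i) * X i =
        C (constantCoeff p) * (X j : MvPolynomial σ A) := by
      rw [Finset.sum_eq_single j]
      · rw [Pi.single_eq_same]
      · intro i _ hi; rw [Pi.single_eq_of_ne hi, map_zero, zero_mul]
      · intro hj; exact absurd (Finset.mem_univ j) hj
    rw [h1, map_mul, constantCoeff_X, mul_zero, map_zero, zero_add]
    conv_lhs => rw [e]
    ring

lemma sub_C_mem_Sp [Fintype σ] (f : MvPolynomial σ A) : f - C (constantCoeff f) ∈ Sp σ A := by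
  classical
  obtain ⟨a, h, hh, e⟩ := decomp f
  have : f - C (constantCoeff f) = ∑ i, C (a i) * X i + h := by
    rw [sub_eq_iff_eq_add]
    conv_lhs => rw [e]
    ring
  rw [this]
  exact add_mem (sum_mem fun i _ => Ideal.mul_mem_left _ _ (X_mem_Sp i)) (Ideal.mul_le_left hh)

/-- a polynomial with constant coefficient one is a nonzerodivisor -/
lemma eq_zero_of_mul_eq_zero {u f : MvPolynomial σ A} (hu : constantCoeff u = 1)
    (h : u * f = 0) : f = 0 := by
  have h1 : (u : MvPowerSeries σ A) * (f : MvPowerSeries σ A) = 0 := by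
    rw [← MvPolynomial.coe_mul, h, MvPolynomial.coe_zero]
  have hunit : IsUnit (u : MvPowerSeries σ A) := by
    rw [MvPowerSeries.isUnit_iff_constantCoeff]
    have : MvPowerSeries.constantCoeff (u : MvPowerSeries σ A) = constantCoeff u := by
      rw [← MvPowerSeries.coeff_zero_eq_constantCoeff_apply, MvPolynomial.coeff_coe,
        MvPolynomial.constantCoeff_eq]
    rw [this, hu]; exact isUnit_one
  have := (hunit.mul_right_eq_zero).1 h1
  exact MvPolynomial.coe_eq_zero_iff.1 this

/-- Nakayama for ideals of a Noetherian polynomial ring along the augmentation ideal. -/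
theorem eq_bot_of_le_mul [Finite σ] [IsNoetherianRing A] (K : Ideal (MvPolynomial σ A))
    (h : K ≤ Sp σ A * K) : K = ⊥ := by
  have hfg : (K : Submodule (MvPolynomial σ A) (MvPolynomial σ A)).FG :=
    IsNoetherian.noetherian K
  obtain ⟨u, hu, huK⟩ :=
    Submodule.exists_sub_one_mem_and_smul_eq_zero_of_fg_of_le_smul (Sp σ A) K hfg
      (by rw [smul_eq_mul]; exact h)
  have hu1 : constantCoeff u = 1 := by
    have := constantCoeff_of_mem_Sp hu
    rwa [map_sub, map_one, sub_eq_zero] at this
  rw [eq_bot_iff]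
  intro f hf
  rw [Ideal.mem_bot]
  exact eq_zero_of_mul_eq_zero hu1 (by simpa [smul_eq_mul] using huK f hf)

end Groth.Agent.Lib.helper15.PolyAug
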