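import Mathlib
import Groth.Agent.Lib.Helper15.LieStable

/-!
# Product comodules; a linear map intertwining the infinitesimal actions of a unipotent group in
characteristic zero intertwines the coactions (helper15)

* `prodComod`: the product of two comodules.
* `coact_eq_of_lie_eq`: a linear map between comodules over a unipotent group (char 0, finite type)
  commuting with the infinitesimal action of every `ε`-derivation is a comodule map.
-/

set_option autoImplicit false

namespace Groth.Agent.Lib.helper15.ProdComod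

open TensorProduct Groth.Agent.Lib.helper15.HeightOne Groth.Agent.Lib.helper15.ComodOps
  Groth.Agent.Lib.helper15.ComodFin Groth.Agent.Lib.helper15.LieInv
  Groth.Agent.Lib.helper15.LieStable

universe u v

section Prod

variable {k : Type u} [CommRing k] {A : Type v} [AddCommGroup A] [Module k A] [Coalgebra k A]
variable {V₁ V₂ : Type*} [AddCommGroup V₁] [Module k V₁] [HopfRep.Comod k A V₁]
  [AddCommGroup V₂] [Module k V₂] [HopfRep.Comod k A V₂]

omit [Coalgebra k A] in
lemma assoc_rTensor_rTensor {V W : Type*} [AddCommGroup V] [Module k V] [AddCommGroup W]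
    [Module k W] (f : V →ₗ[k] W) (t : (V ⊗[k] A) ⊗[k] A) :
    TensorProduct.assoc k W A A ((f.rTensor A).rTensor A t) =
      f.rTensor (A ⊗[k] A) (TensorProduct.assoc k V A A t) := by
  induction t with
  | zero => simp
  | tmul x a =>
    induction x with
    | zero => simp
    | tmul w b => simp
    | add x y hx hy => simp only [TensorProduct.add_tmul, map_add, hx, hy]
  | add x y hx hy => simp only [map_add, hx, hy]

/-- the coaction on the product of two comodules -/
noncomputable def prodCoact : V₁ × V₂ →ₗ[k] (V₁ × V₂) ⊗[k] A :=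
  LinearMap.coprod
    ((LinearMap.inl k V₁ V₂).rTensor A ∘ₗ HopfRep.Comod.coact (k := k) (A := A))
    ((LinearMap.inr k V₁ V₂).rTensor A ∘ₗ HopfRep.Comod.coact (k := k) (A := A))

lemma prodCoact_apply (x : V₁ × V₂) :
    prodCoact (k := k) (A := A) x =
      (LinearMap.inl k V₁ V₂).rTensor A (HopfRep.Comod.coact (k := k) (A := A) x.1) +
      (LinearMap.inr k V₁ V₂).rTensor A (HopfRep.Comod.coact (k := k) (A := A) x.2) := by
  simp [prodCoact, LinearMap.coprod_apply]

lemma prodCoact_comp_inl :
    prodCoact (k := k) (A := A) ∘ₗ LinearMap.inl k V₁ V₂ =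
      (LinearMap.inl k V₁ V₂).rTensor A ∘ₗ HopfRep.Comod.coact (k := k) (A := A) := by
  ext v
  simp [prodCoact_apply]

lemma prodCoact_comp_inr :
    prodCoact (k := k) (A := A) ∘ₗ LinearMap.inr k V₁ V₂ =
      (LinearMap.inr k V₁ V₂).rTensor A ∘ₗ HopfRep.Comod.coact (k := k) (A := A) := by
  ext v
  simp [prodCoact_apply]

/-- a linear map `j : V → W` with `ρ_W ∘ j = (j ⊗ id) ∘ ρ_V` satisfies the comodule axioms on its
image (coassociativity part) -/
lemma coassoc_of_intertwine {V W : Type*} [AddCommGroup V] [Module k V] [HopfRep.Comod k A V]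
    [AddCommGroup W] [Module k W] (c : W →ₗ[k] W ⊗[k] A) (j : V →ₗ[k] W)
    (hj : c ∘ₗ j = j.rTensor A ∘ₗ HopfRep.Comod.coact (k := k) (A := A)) :
    ((TensorProduct.assoc k W A A).toLinearMap ∘ₗ c.rTensor A ∘ₗ c) ∘ₗ j =
      ((CoalgebraStruct.comul (R := k) (A := A)).lTensor W ∘ₗ c) ∘ₗ j := by
  ext v
  simp only [LinearMap.comp_apply, LinearEquiv.coe_coe]
  have h1 : c (j v) = j.rTensor A (HopfRep.Comod.coact (k := k) (A := A) v) :=
    LinearMap.congr_fun hj v
  rw [h1]
  have h2 : c.rTensor A (j.rTensor A (HopfRep.Comod.coact (k := k) (A := A) v)) =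
      (j.rTensor A).rTensor A ((HopfRep.Comod.coact (k := k) (A := A)).rTensor A
        (HopfRep.Comod.coact (k := k) (A := A) v)) := by
    rw [← LinearMap.comp_apply, ← LinearMap.rTensor_comp, hj, LinearMap.rTensor_comp,
      LinearMap.comp_apply]
  rw [h2, assoc_rTensor_rTensor]
  have h3 := LinearMap.congr_fun (HopfRep.Comod.coassoc (k := k) (A := A) (V := V)) v
  simp only [LinearMap.comp_apply, LinearEquiv.coe_coe] at h3
  rw [h3]
  have h4 : ∀ s : V ⊗[k] A, j.rTensor (A ⊗[k] A)
      ((CoalgebraStruct.comul (R := k) (A := A)).lTensor V s) =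
      (CoalgebraStruct.comul (R := k) (A := A)).lTensor W (j.rTensor A s) := by
    intro s
    induction s with
    | zero => simp
    | tmul w a => simp
    | add x y hx hy => simp only [map_add, hx, hy]
  exact h4 _

lemma counit_of_intertwine {V W : Type*} [AddCommGroup V] [Module k V] [HopfRep.Comod k A V]
    [AddCommGroup W] [Module k W] (c : W →ₗ[k] W ⊗[k] A) (j : V →ₗ[k] W)
    (hj : c ∘ₗ j = j.rTensor A ∘ₗ HopfRep.Comod.coact (k := k) (A := A)) :
    ((CoalgebraStruct.counit (R := k) (A := A)).lTensor W ∘ₗ c) ∘ₗ j =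
      ((TensorProduct.mk k W k).flip 1) ∘ₗ j := by
  ext v
  simp only [LinearMap.comp_apply]
  have h1 : c (j v) = j.rTensor A (HopfRep.Comod.coact (k := k) (A := A) v) :=
    LinearMap.congr_fun hj v
  rw [h1]
  have h4 : ∀ s : V ⊗[k] A, (CoalgebraStruct.counit (R := k) (A := A)).lTensor W (j.rTensor A s) =
      j.rTensor k ((CoalgebraStruct.counit (R := k) (A := A)).lTensor V s) := by
    intro s
    induction s with
    | zero => simp
    | tmul w a => simp
    | add x y hx hy => simp only [map_add, hx, hy]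
  rw [h4]
  have h3 := LinearMap.congr_fun (HopfRep.Comod.counit_comp (k := k) (A := A) (V := V)) v
  simp only [LinearMap.comp_apply] at h3
  rw [h3]
  simp

lemma prodCoact_coassoc :
    (TensorProduct.assoc k (V₁ × V₂) A A).toLinearMap ∘ₗ
      (prodCoact (k := k) (A := A) (V₁ := V₁) (V₂ := V₂)).rTensor A ∘ₗ prodCoact =
    (CoalgebraStruct.comul (R := k) (A := A)).lTensor (V₁ × V₂) ∘ₗ prodCoact := by
  apply LinearMap.prod_ext
  · exact coassoc_of_intertwine (prodCoact (k := k) (A := A) (V₁ := V₁) (V₂ := V₂))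
      (LinearMap.inl k V₁ V₂) prodCoact_comp_inl
  · exact coassoc_of_intertwine (prodCoact (k := k) (A := A) (V₁ := V₁) (V₂ := V₂))
      (LinearMap.inr k V₁ V₂) prodCoact_comp_inr

lemma prodCoact_counit :
    (CoalgebraStruct.counit (R := k) (A := A)).lTensor (V₁ × V₂) ∘ₗ
      (prodCoact (k := k) (A := A) (V₁ := V₁) (V₂ := V₂)) =
    (TensorProduct.mk k (V₁ × V₂) k).flip 1 := by
  apply LinearMap.prod_ext
  · exact counit_of_intertwine (prodCoact (k := k) (A := A) (V₁ := V₁) (V₂ := V₂))
      (LinearMap.inl k V₁ V₂) prodCoact_comp_inl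
  · exact counit_of_intertwine (prodCoact (k := k) (A := A) (V₁ := V₁) (V₂ := V₂))
      (LinearMap.inr k V₁ V₂) prodCoact_comp_inr

/-- the product of two comodules -/
@[reducible] noncomputable def prodComod : HopfRep.Comod k A (V₁ × V₂) where
  coact := prodCoact
  coassoc := prodCoact_coassoc
  counit_comp := prodCoact_counit

end Prod

section Main

variable {k : Type u} [Field k] {A : Type v} [CommRing A] [HopfAlgebra k A]
  [CharZero k] [Algebra.FiniteType k A]

/-- **A linear map commuting with the infinitesimal action of a unipotent group (char 0) is a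
comodule map.** -/
theorem coact_eq_of_lie_eq (hU : HopfRep.IsUnipotent k A) (V₁ V₂ : Type v)
    [AddCommGroup V₁] [Module k V₁] [HopfRep.Comod k A V₁]
    [AddCommGroup V₂] [Module k V₂] [HopfRep.Comod k A V₂] (e : V₁ →ₗ[k] V₂)
    (h : ∀ φ : A →ₗ[k] k, IsEpsDer φ → ∀ f : V₁,
      slV φ (HopfRep.Comod.coact (k := k) (A := A) (e f)) =
        e (slV φ (HopfRep.Comod.coact (k := k) (A := A) f))) (f : V₁) :
    HopfRep.Comod.coact (k := k) (A := A) (e f) =
      e.rTensor A (HopfRep.Comod.coact (k := k) (A := A) f) := by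
  let _ : HopfRep.Comod k A (V₁ × V₂) := prodComod
  have hLS : IsLieStable (k := k) (A := A) e.graph := by
    intro φ hφ u hu
    rw [LinearMap.mem_graph_iff] at hu ⊢
    show (slV φ (prodCoact (k := k) (A := A) u)).2 = e (slV φ (prodCoact (k := k) (A := A) u)).1
    rw [prodCoact_apply, map_add, slV_rTensor, slV_rTensor]
    simp only [LinearMap.inl_apply, LinearMap.inr_apply, Prod.snd_add, Prod.fst_add, add_zero,
      zero_add]
    rw [hu]
    exact h φ hφ u.1
  have hsub := isSubcomod_of_lieStable hU (V₁ × V₂) e.graph hLS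
  obtain ⟨t, ht⟩ := hsub (f, e f) (by rw [LinearMap.mem_graph_iff])
  have ht' : e.graph.subtype.rTensor A t = prodCoact (k := k) (A := A) (f, e f) := ht
  rw [prodCoact_apply] at ht'
  have h1 := congrArg ((LinearMap.fst k V₁ V₂).rTensor A) ht'
  have h2 := congrArg ((LinearMap.snd k V₁ V₂).rTensor A) ht'
  rw [map_add, ← LinearMap.rTensor_comp_apply, ← LinearMap.rTensor_comp_apply,
    ← LinearMap.rTensor_comp_apply] at h1 h2
  simp only [LinearMap.fst_comp_inl, LinearMap.fst_comp_inr, LinearMap.snd_comp_inl,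
    LinearMap.snd_comp_inr, LinearMap.rTensor_id, LinearMap.rTensor_zero, LinearMap.id_apply,
    LinearMap.zero_apply, add_zero, zero_add] at h1 h2
  have h3 : LinearMap.snd k V₁ V₂ ∘ₗ e.graph.subtype = e ∘ₗ LinearMap.fst k V₁ V₂ ∘ₗ e.graph.subtype := by
    ext ⟨u, hu⟩
    rw [LinearMap.mem_graph_iff] at hu
    simpa using hu
  rw [← h2, h3, LinearMap.rTensor_comp, LinearMap.comp_apply, h1]

end Main

end Groth.Agent.Lib.helper15.ProdComod
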