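import Mathlib

/-!
Helper: existence of points of `Proj` containing a homogeneous ideal.
-/

namespace Groth.Agent.Lib.helper15

open DirectSum in
/-- If `I` is a homogeneous ideal and some element `g` of the irrelevant ideal is not in the radical
of `I`, then there is a point of the projective spectrum containing `I`. -/
theorem exists_projectiveSpectrum_of_not_mem_radical {R A : Type*} [CommRing R] [CommRing A]
    [Algebra R A] (𝒜 : ℕ → Submodule R A) [GradedAlgebra 𝒜] (I : Ideal A) (hI : I.IsHomogeneous 𝒜)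
    (g : A) (hg : g ∈ (HomogeneousIdeal.irrelevant 𝒜).toIdeal) (hgI : g ∉ I.radical) :
    ∃ x : ProjectiveSpectrum 𝒜, I ≤ x.asHomogeneousIdeal.toIdeal := by
  classical
  -- some homogeneous component is not in the radical
  have hcomp : ∃ j : ℕ, (decompose 𝒜 g j : A) ∉ I.radical := by
    by_contra! hall
    apply hgI
    rw [← DirectSum.sum_support_decompose 𝒜 g]
    exact I.radical.sum_mem fun j _ => hall j
  obtain ⟨j, hj⟩ := hcomp
  have hj0 : j ≠ 0 := by
    rintro rfl
    apply hj
    have : (decompose 𝒜 g 0 : A) = 0 := hg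
    rw [this]
    exact I.radical.zero_mem
  rw [hI.radical_eq, Submodule.mem_sInf] at hj
  push Not at hj
  obtain ⟨J, ⟨hJhom, hIJ, hJprime⟩, hgJ⟩ := hj
  refine ⟨⟨⟨J, hJhom⟩, hJprime, ?_⟩, hIJ⟩
  intro hle
  apply hgJ
  apply hle
  change (decompose 𝒜 (decompose 𝒜 g j : A) 0 : A) = 0
  rw [decompose_of_mem_ne 𝒜 (SetLike.coe_mem _) hj0]

end Groth.Agent.Lib.helper15
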