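import Mathlib
import Groth.Agent.Lib.Helper15.FinGrpEtaleSch

/-!
# Quasi-finite flat group schemes with fibres of invertible order are étale (helper15)

* `formallyUnramified_of_fibers'`: a finite type algebra with formally unramified fibres is formally
  unramified.
* `formallyUnramified_of_fiberToSpecResidueField`: scheme version.
-/

set_option autoImplicit false
set_option linter.style.haveILetI false
universe u
open CategoryTheory MonoidalCategory CartesianMonoidalCategory MonObj GrpObj AlgebraicGeometry Limits

namespace Groth.Agent.Lib.helper15.QFinGrpEtale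

open TensorProduct

theorem subsingleton_residue_tensor {R A M : Type*} [CommRing R] [CommRing A] [Algebra R A]
    [AddCommGroup M] [Module R M] [Module A M] [IsScalarTower R A M]
    (q : Ideal A) [q.IsPrime] (p : Ideal R) [p.IsPrime] [q.LiesOver p]
    (h : Subsingleton (p.ResidueField ⊗[R] M)) : Subsingleton (q.ResidueField ⊗[A] M) := by
  let k := p.ResidueField
  let K := q.ResidueField
  letI := Localization.AtPrime.algebraOfLiesOver p q
  have e : K ⊗[k] (k ⊗[R] M) ≃ₗ[K] K ⊗[R] M := AlgebraTensorModule.cancelBaseChange R k K K M
  haveI : Subsingleton (K ⊗[k] (k ⊗[R] M)) := inferInstance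
  haveI : Subsingleton (K ⊗[R] M) := e.symm.toEquiv.subsingleton
  exact (TensorProduct.mapOfCompatibleSMul_surjective A R R K M).subsingleton

attribute [local instance] Algebra.TensorProduct.rightAlgebra

/-- a finite type algebra with unramified fibres is unramified. -/
theorem formallyUnramified_of_fibers' (R A : Type u) [CommRing R] [CommRing A] [Algebra R A]
    [Algebra.FiniteType R A]
    (H : ∀ (p : Ideal R) [p.IsPrime], Algebra.FormallyUnramified p.ResidueField
      (p.ResidueField ⊗[R] A)) :
    Algebra.FormallyUnramified R A := by
  rw [Algebra.formallyUnramified_iff]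
  haveI : Module.Finite A Ω[A⁄R] := inferInstance
  rw [← Module.support_eq_empty_iff (R := A)]
  ext q
  simp only [Set.mem_empty_iff_false, iff_false]
  rw [Module.mem_support_iff_nontrivial_residueField_tensorProduct,
    not_nontrivial_iff_subsingleton]
  haveI : q.asIdeal.LiesOver (q.asIdeal.under R) := ⟨rfl⟩
  apply subsingleton_residue_tensor q.asIdeal (q.asIdeal.under R)
  have h1 := H (q.asIdeal.under R)
  rw [Algebra.formallyUnramified_iff] at h1
  exact (KaehlerDifferential.tensorKaehlerEquivBase R (q.asIdeal.under R).ResidueField A
    ((q.asIdeal.under R).ResidueField ⊗[R] A)).toEquiv.subsingleton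

set_option backward.isDefEq.respectTransparency false in
/-- If `f : X ⟶ Y` is locally of finite type with formally unramified fibres, then `f` is formally
unramified. -/
theorem formallyUnramified_of_fiberToSpecResidueField {X Y : Scheme.{u}} (f : X ⟶ Y)
    [LocallyOfFiniteType f]
    (h : ∀ y, FormallyUnramified (f.fiberToSpecResidueField y)) :
    FormallyUnramified f := by
  wlog h : ∃ R, Y = Spec R
  · rw [IsZariskiLocalAtTarget.iff_of_openCover (P := @FormallyUnramified) Y.affineCover]
    intro i
    dsimp [Scheme.Cover.pullbackHom]
    refine this _ (fun y ↦ ?_) ⟨_, rfl⟩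
    apply MorphismProperty.of_isPullback
    · exact isPullback_fiberToSpecResidueField_of_isPullback (IsPullback.of_hasPullback _ _) _
    · infer_instance
  obtain ⟨R, rfl⟩ := h
  wlog h : ∃ S, X = Spec S generalizing f X
  · rw [IsZariskiLocalAtSource.iff_of_openCover (P := @FormallyUnramified) X.affineCover]
    intro i
    have _ (y) : FormallyUnramified (pullback.snd f ((Spec R).fromSpecResidueField y)) :=
      inferInstanceAs <| FormallyUnramified (f.fiberToSpecResidueField y)
    refine this _ (fun y ↦ ?_) ⟨_, rfl⟩
    rw [Scheme.Hom.fiberToSpecResidueField, ← pullbackRightPullbackFstIso_inv_snd_snd]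
    refine MorphismProperty.comp_mem _ _ _ inferInstance
      (MorphismProperty.comp_mem _ _ _ inferInstance inferInstance)
  obtain ⟨S, rfl⟩ := h
  obtain ⟨φ, rfl⟩ := Spec.map_surjective f
  simp only [HasRingHomProperty.Spec_iff] at *
  algebraize [φ.hom]
  change Algebra.FormallyUnramified R S
  refine formallyUnramified_of_fibers' R S fun p hp ↦ ?_
  rw [← RingHom.formallyUnramified_algebraMap]
  rw [← CommRingCat.hom_ofHom (algebraMap p.ResidueField (p.Fiber ↑S)),
    ← HasRingHomProperty.Spec_iff (P := @FormallyUnramified),
    ← MorphismProperty.arrow_mk_iso_iff (P := @FormallyUnramified)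
    (Spec.fiberToSpecResidueFieldIso R S ⟨p, hp⟩)]
  exact h ⟨p, hp⟩

set_option backward.isDefEq.respectTransparency.types false in
/-- a quasi-finite flat finitely presented group scheme all of whose fibres have order invertible in
the residue field is étale. -/
theorem etale_of_fibres {S : Scheme.{u}} (G : Over S) [GrpObj G]
    [LocallyQuasiFinite G.hom] [QuasiCompact G.hom] [Flat G.hom] [LocallyOfFinitePresentation G.hom]
    (h : ∀ (s : S) (x : ↥(Spec (S.residueField s))),
      ((pullback.snd G.hom (S.fromSpecResidueField s)).finrank x : S.residueField s) ≠ 0) :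
    Etale G.hom := by
  haveI : FormallyUnramified G.hom := by
    apply formallyUnramified_of_fiberToSpecResidueField
    intro s
    have hGs : ((Over.pullback (S.fromSpecResidueField s)).obj G).hom =
        pullback.snd G.hom (S.fromSpecResidueField s) := rfl
    haveI : IsFinite ((Over.pullback (S.fromSpecResidueField s)).obj G).hom :=
      inferInstanceAs (IsFinite (G.hom.fiberToSpecResidueField s))
    haveI : Flat ((Over.pullback (S.fromSpecResidueField s)).obj G).hom := by
      rw [hGs]; infer_instance
    haveI : LocallyOfFinitePresentation ((Over.pullback (S.fromSpecResidueField s)).obj G).hom := by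
      rw [hGs]; infer_instance
    have hE : Etale ((Over.pullback (S.fromSpecResidueField s)).obj G).hom := by
      apply FinGrpEtaleSch.etale_of_finrank_ne_zero
      intro x
      let ψ : S.residueField s →+* (Spec (S.residueField s)).residueField x :=
        ((Scheme.ΓSpecIso (S.residueField s)).inv ≫
          (Spec (S.residueField s)).evaluation ⊤ x trivial).hom
      have h2 := h s x
      have h3 : ψ ((pullback.snd G.hom (S.fromSpecResidueField s)).finrank x :
          S.residueField s) ≠ 0 := by
        rw [Ne, map_eq_zero_iff ψ ψ.injective]
        exact h2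
      rw [map_natCast] at h3
      exact h3
    have hE' : Etale (G.hom.fiberToSpecResidueField s) := hE
    infer_instance
  exact Etale.of_formallyUnramified_of_flat (f := G.hom)

end Groth.Agent.Lib.helper15.QFinGrpEtale
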