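import Mathlib

/-!
# Killing elements which die in a flat local algebra (helper15)

If `B` is a local ring, flat over `C`, and `n : N` satisfies `1 ⊗ n = 0` in `B ⊗[C] N`, then `n` is
killed by an element of `C` which becomes a unit of `B`.
-/

set_option autoImplicit false

namespace Groth.Agent.Lib.helper15.QIso

open TensorProduct

section Kill

variable {C B : Type*} [CommRing C] [CommRing B] [IsLocalRing B] [Algebra C B] [Module.Flat C B]
  {N : Type*} [AddCommGroup N] [Module C N]

theorem exists_kill (n : N) (h : (1 : B) ⊗ₜ[C] n = 0) :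
    ∃ s : C, IsUnit (algebraMap C B s) ∧ s • n = 0 := by
  classical
  have h' : n ⊗ₜ[C] (1 : B) = 0 := by
    have := congrArg (TensorProduct.comm C B N) h
    simpa using this
  have hinj : Function.Injective
      (LinearMap.rTensor B (Submodule.span C (Set.range (fun _ : Unit => n))).subtype) :=
    Module.Flat.rTensor_preserves_injective_linearMap _ (Submodule.injective_subtype _)
  have hsum : ∑ i : Unit, (fun _ : Unit => n) i ⊗ₜ[C] (fun _ : Unit => (1 : B)) i = 0 := by
    simpa using h'
  obtain ⟨k, a, y, h1, h2⟩ :=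
    TensorProduct.vanishesTrivially_of_sum_tmul_eq_zero_of_rTensor_injective C hinj hsum
  have h1' : (1 : B) = ∑ j, a () j • y j := h1 ()
  have h2' : ∀ j, a () j • n = 0 := fun j => by simpa using h2 j
  by_contra hcon
  push Not at hcon
  have hmem : ∀ j, algebraMap C B (a () j) ∈ IsLocalRing.maximalIdeal B := by
    intro j
    rw [IsLocalRing.mem_maximalIdeal]
    intro hu
    exact hcon (a () j) hu (h2' j)
  have : (1 : B) ∈ IsLocalRing.maximalIdeal B := by
    rw [h1']
    refine Ideal.sum_mem _ fun j _ => ?_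
    rw [Algebra.smul_def]
    exact Ideal.mul_mem_right _ _ (hmem j)
  exact (IsLocalRing.maximalIdeal.isMaximal B).ne_top ((Ideal.eq_top_iff_one _).mpr this)

theorem exists_kill_family {ι : Type*} [Finite ι] (n : ι → N)
    (h : ∀ i, (1 : B) ⊗ₜ[C] n i = 0) :
    ∃ s : C, IsUnit (algebraMap C B s) ∧ ∀ i, s • n i = 0 := by
  classical
  cases nonempty_fintype ι
  choose s hs hs0 using fun i => exists_kill (B := B) (n i) (h i)
  refine ⟨∏ i, s i, ?_, fun i => ?_⟩
  · rw [map_prod]
    exact IsUnit.prod_univ_iff.mpr hs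
  · rw [← Finset.mul_prod_erase Finset.univ s (Finset.mem_univ i), mul_comm, mul_smul, hs0 i,
      smul_zero]

end Kill

section Away

variable {C : Type*} [CommRing C] {N : Type*} [AddCommGroup N] [Module C N]

lemma one_tmul_eq_zero_of_smul_eq_zero (s : C) (L : Type*) [CommRing L] [Algebra C L]
    (hs : IsUnit (algebraMap C L s)) (n : N) (h : s • n = 0) : (1 : L) ⊗ₜ[C] n = 0 := by
  obtain ⟨u, hu⟩ := hs
  have h1 : (1 : L) = (↑u⁻¹ : L) * algebraMap C L s := by rw [← hu, Units.inv_mul]
  rw [h1, ← Algebra.commutes, ← Algebra.smul_def, TensorProduct.smul_tmul, h, tmul_zero]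

end Away

end Groth.Agent.Lib.helper15.QIso
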