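import Mathlib
import Groth.Prelude.Def_SGA3b
import Groth.Agent.Lib.Helper15.QIso0
import Groth.Agent.Lib.Helper15.HensGL1
import Groth.Agent.Lib.Helper24.FlatOverIndEtale
import Groth.Agent.Lib.Helper24.IndEtaleCrit

/-!
# Stages of an ind-étale local algebra (helper15)

A *stage* of an `R`-algebra `B` is an étale `R`-algebra `C` with an `R`-algebra map `C → B`.
If `B` is local and flat over `R`, then equalities in `C ⊗[R] A` which hold after base change to `B`
already hold over a localisation of `C` which is again a stage.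
-/

set_option autoImplicit false
set_option linter.style.haveILetI false
set_option linter.unusedSectionVars false
universe u
open TensorProduct SGA3b

namespace Groth.Agent.Lib.helper15.QIso

open Groth.Agent.Lib.helper15.Rigid Groth.Agent.Lib.helper15.MultLocal
  Groth.Agent.Lib.helper15.HensGL

/-- a stage of `B`: an étale `R`-algebra mapping to `B`. -/
structure Stage (R B : Type u) [CommRing R] [CommRing B] [Algebra R B] where
  C : Type u
  [cr : CommRing C]
  [alg : Algebra R C]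
  [et : Algebra.Etale R C]
  φ : C →ₐ[R] B

attribute [instance] Stage.cr Stage.alg Stage.et

section BcA

variable {R : Type*} [CommRing R] {A : Type*} [CommRing A] [Bialgebra R A]
  {T T' T'' : Type*} [CommRing T] [CommRing T'] [CommRing T''] [Algebra R T] [Algebra R T']
  [Algebra R T'']

/-- base change of `A` along an `R`-algebra map, as a semilinear algebra map. -/
noncomputable def bcA (σ : T →ₐ[R] T') : T ⊗[R] A →ₐ[R] T' ⊗[R] A :=
  Algebra.TensorProduct.map σ (AlgHom.id R A)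

@[simp] lemma bcA_tmul (σ : T →ₐ[R] T') (t : T) (a : A) : bcA σ (t ⊗ₜ[R] a) = σ t ⊗ₜ[R] a := by
  simp [bcA]

lemma bcA_eq_rTensor (σ : T →ₐ[R] T') (y : T ⊗[R] A) :
    bcA σ y = LinearMap.rTensor A σ.toLinearMap y := by
  induction y using TensorProduct.induction_on with
  | zero => simp
  | tmul t a => simp
  | add x y hx hy => rw [map_add, map_add, hx, hy]

lemma bcA_comp (σ : T →ₐ[R] T') (σ' : T' →ₐ[R] T'') (y : T ⊗[R] A) :
    bcA (σ'.comp σ) y = bcA σ' (bcA σ y) := by
  induction y using TensorProduct.induction_on with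
  | zero => simp
  | tmul t a => simp
  | add x y hx hy => rw [map_add, map_add, map_add, hx, hy]

lemma bcA_smul (σ : T →ₐ[R] T') (t : T) (y : T ⊗[R] A) : bcA σ (t • y) = σ t • bcA σ y := by
  rw [bcA_eq_rTensor, bcA_eq_rTensor, rTensor_smul]

lemma isGroupLikeElem_bcA (σ : T →ₐ[R] T') {y : T ⊗[R] A} (hy : IsGroupLikeElem T y) :
    IsGroupLikeElem T' (bcA σ y) := by
  rw [bcA_eq_rTensor]
  exact isGroupLikeElem_rTensor σ hy

end BcA

section GlMap

variable {R : Type*} [CommRing R] {A : Type*} [CommRing A] [HopfAlgebra R A]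
  {T T' T'' : Type*} [CommRing T] [CommRing T'] [CommRing T''] [Algebra R T] [Algebra R T']
  [Algebra R T'']

/-- the map induced by base change on group-like elements. -/
noncomputable def glMap (σ : T →ₐ[R] T') : GroupLike T (T ⊗[R] A) →* GroupLike T' (T' ⊗[R] A) where
  toFun g := ⟨bcA σ g.1, isGroupLikeElem_bcA σ g.2⟩
  map_one' := by
    apply GroupLike.val_injective
    simp
  map_mul' g h := by
    apply GroupLike.val_injective
    simp

@[simp] lemma glMap_val (σ : T →ₐ[R] T') (g : GroupLike T (T ⊗[R] A)) :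
    (glMap σ g).1 = bcA σ g.1 := rfl

lemma glMap_comp (σ : T →ₐ[R] T') (σ' : T' →ₐ[R] T'') (g : GroupLike T (T ⊗[R] A)) :
    glMap (σ'.comp σ) g = glMap σ' (glMap σ g) := by
  apply GroupLike.val_injective
  simp [bcA_comp]

end GlMap

section Converse

variable {R : Type*} [CommRing R] {S : Type*} [CommRing S] [Algebra R S]
  {A : Type*} [CommRing A] [Bialgebra R A]

lemma beta_eq_zero_of_tmul {z : A ⊗[R] A} (h : (1 : S) ⊗ₜ[R] z = 0) : beta R S A z = 0 := by
  rw [beta_apply]
  have h2 := congrArg (LinearMap.rTensor (A ⊗[R] A)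
    ((TensorProduct.lid S S).symm.toLinearMap.restrictScalars R)) h
  rw [LinearMap.rTensor_tmul, map_zero] at h2
  have h3 : ((TensorProduct.lid S S).symm.toLinearMap.restrictScalars R) (1 : S) =
      (1 : S) ⊗ₜ[S] (1 : S) := by simp
  rw [h3] at h2
  rw [h2, map_zero]

lemma isGroupLikeElem_tmul_of_eqs {a : A}
    (h1 : (1 : S) ⊗ₜ[R] (Coalgebra.comul (R := R) a - a ⊗ₜ[R] a) = 0)
    (h2 : algebraMap R S (Coalgebra.counit (R := R) a - 1) = 0) :
    IsGroupLikeElem S ((1 : S) ⊗ₜ[R] a) := by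
  refine ⟨?_, ?_⟩
  · rw [TensorProduct.counit_tmul, CommSemiring.counit_apply]
    rw [map_sub, map_one, sub_eq_zero] at h2
    rw [← Algebra.algebraMap_eq_smul_one]
    exact h2
  · have h3 := beta_eq_zero_of_tmul (S := S) h1
    rw [map_sub, beta_comul, beta_tmul, sub_eq_zero] at h3
    exact h3

end Converse

section StageOps

variable {R B : Type u} [CommRing R] [CommRing B] [Algebra R B]

/-- localisation of a stage at an element which becomes a unit of `B`. -/
noncomputable def Stage.away (X : Stage R B) (s : X.C) (hs : IsUnit (X.φ s)) : Stage R B where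
  C := Localization.Away s
  φ := IsLocalization.liftAlgHom (M := Submonoid.powers s) (f := X.φ) (by
    rintro ⟨_, n, rfl⟩
    show IsUnit (X.φ (s ^ n))
    rw [map_pow]
    exact hs.pow n)

/-- the structure map of a localised stage. -/
noncomputable def Stage.toAway (X : Stage R B) (s : X.C) (hs : IsUnit (X.φ s)) :
    X.C →ₐ[R] (X.away s hs).C :=
  IsScalarTower.toAlgHom R X.C (Localization.Away s)

lemma Stage.away_comp (X : Stage R B) (s : X.C) (hs : IsUnit (X.φ s)) :
    (X.away s hs).φ.comp (X.toAway s hs) = X.φ := by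
  ext x
  change (IsLocalization.liftAlgHom _) (algebraMap X.C (Localization.Away s) x) = X.φ x
  rw [IsLocalization.liftAlgHom_apply, IsLocalization.lift_eq]
  rfl

lemma Stage.isUnit_toAway (X : Stage R B) (s : X.C) (hs : IsUnit (X.φ s)) :
    IsUnit (X.toAway s hs s) :=
  IsLocalization.Away.algebraMap_isUnit (S := Localization.Away s) s

/-- the tensor product of two stages. -/
noncomputable def Stage.tensor (X Y : Stage R B) : Stage R B where
  C := X.C ⊗[R] Y.C
  et := Algebra.Etale.comp R X.C (X.C ⊗[R] Y.C)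
  φ := Algebra.TensorProduct.productMap X.φ Y.φ

noncomputable def Stage.inl (X Y : Stage R B) : X.C →ₐ[R] (X.tensor Y).C :=
  Algebra.TensorProduct.includeLeft

noncomputable def Stage.inr (X Y : Stage R B) : Y.C →ₐ[R] (X.tensor Y).C :=
  Algebra.TensorProduct.includeRight

lemma Stage.tensor_comp_inl (X Y : Stage R B) : (X.tensor Y).φ.comp (X.inl Y) = X.φ := by
  ext x
  change (Algebra.TensorProduct.productMap X.φ Y.φ) (x ⊗ₜ[R] (1 : Y.C)) = X.φ x
  simp

lemma Stage.tensor_comp_inr (X Y : Stage R B) : (X.tensor Y).φ.comp (X.inr Y) = Y.φ := by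
  ext x
  change (Algebra.TensorProduct.productMap X.φ Y.φ) ((1 : X.C) ⊗ₜ[R] x) = Y.φ x
  simp

end StageOps

section StageKill

variable {R B : Type u} [CommRing R] [CommRing B] [Algebra R B] [IsLocalRing B] [Module.Flat R B]
  {A : Type u} [CommRing A] [HopfAlgebra R A]

/-- `B` is flat over each stage. -/
lemma Stage.flat (X : Stage R B) :
    @Module.Flat X.C B _ _ X.φ.toRingHom.toAlgebra.toModule := by
  letI : Algebra X.C B := X.φ.toRingHom.toAlgebra
  haveI : IsScalarTower R X.C B := IsScalarTower.of_algebraMap_eq fun r => (X.φ.commutes r).symm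
  exact Groth.Agent.Lib.Helper24.FlatOverIndEtale.flat_of_unramified R X.C B

/-- equalities over `B` hold over a finer stage. -/
theorem Stage.exists_eq (X : Stage R B) {ι : Type*} [Finite ι] (x x' : ι → X.C ⊗[R] A)
    (h : ∀ i, bcA X.φ (x i) = bcA X.φ (x' i)) :
    ∃ (Y : Stage R B) (ψ : X.C →ₐ[R] Y.C), Y.φ.comp ψ = X.φ ∧
      ∀ i, bcA ψ (x i) = bcA ψ (x' i) := by
  letI : Algebra X.C B := X.φ.toRingHom.toAlgebra
  haveI : IsScalarTower R X.C B := IsScalarTower.of_algebraMap_eq fun r => (X.φ.commutes r).symm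
  haveI : Module.Flat X.C B := X.flat
  have hφ : IsScalarTower.toAlgHom R X.C B = X.φ := by ext; rfl
  have h0 : ∀ i, (1 : B) ⊗ₜ[X.C] (x i - x' i) = 0 := by
    intro i
    apply (EmbeddingLike.map_eq_zero_iff (f := cancelBialg R X.C B A)).mp
    rw [cancelBialg_one_tmul, hφ, ← bcA_eq_rTensor, map_sub, h i, sub_self]
  obtain ⟨s, hs, hs0⟩ := exists_kill_family (B := B) (fun i => x i - x' i) h0
  have hs' : IsUnit (X.φ s) := hs
  refine ⟨X.away s hs', X.toAway s hs', X.away_comp s hs', fun i => ?_⟩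
  have h1 : X.toAway s hs' s • bcA (X.toAway s hs') (x i - x' i) = 0 := by
    rw [← bcA_smul, hs0 i, map_zero]
  have h2 := (X.isUnit_toAway s hs').smul_eq_zero.mp h1
  rwa [map_sub, sub_eq_zero] at h2

/-- elements which are group-like over `B` are group-like over a finer stage. -/
theorem Stage.exists_groupLike (X : Stage R B) {ι : Type*} [Finite ι] (y : ι → X.C ⊗[R] A)
    (hy : ∀ i, IsGroupLikeElem B (bcA X.φ (y i))) :
    ∃ (Y : Stage R B) (ψ : X.C →ₐ[R] Y.C), Y.φ.comp ψ = X.φ ∧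
      ∀ i, IsGroupLikeElem Y.C (bcA ψ (y i)) := by
  letI : Algebra X.C B := X.φ.toRingHom.toAlgebra
  haveI : IsScalarTower R X.C B := IsScalarTower.of_algebraMap_eq fun r => (X.φ.commutes r).symm
  haveI : Module.Flat X.C B := X.flat
  have hφ : IsScalarTower.toAlgHom R X.C B = X.φ := by ext; rfl
  have hgl : ∀ i, IsGroupLikeElem B ((1 : B) ⊗ₜ[X.C] y i) := by
    intro i
    have h1 := (hy i).map (cancelBialg R X.C B A).symm
    have h2 : bcA X.φ (y i) = cancelBialg R X.C B A ((1 : B) ⊗ₜ[X.C] y i) := by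
      rw [cancelBialg_one_tmul, hφ, ← bcA_eq_rTensor]
    rwa [h2, BialgEquiv.symm_apply_apply] at h1
  have eqs := fun i => eqs_of_groupLike_tmul (hgl i)
  obtain ⟨s₁, hs₁, h₁⟩ := exists_kill_family (B := B)
    (fun i => Coalgebra.comul (R := X.C) (y i) - y i ⊗ₜ[X.C] y i) (fun i => (eqs i).1)
  obtain ⟨s₂, hs₂, h₂⟩ := exists_kill_family (B := B)
    (fun i => Coalgebra.counit (R := X.C) (y i) - 1) (fun i => by
      have h3 := (eqs i).2
      have h4 : (1 : B) ⊗ₜ[X.C] (Coalgebra.counit (R := X.C) (y i) - 1) =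
          ((Coalgebra.counit (R := X.C) (y i) - 1) • (1 : B)) ⊗ₜ[X.C] (1 : X.C) := by
        rw [TensorProduct.smul_tmul, smul_eq_mul, mul_one]
      rw [h4, Algebra.smul_def, mul_one, h3, zero_tmul])
  have hs' : IsUnit (X.φ (s₁ * s₂)) := by
    rw [map_mul]
    exact hs₁.mul hs₂
  refine ⟨X.away (s₁ * s₂) hs', X.toAway (s₁ * s₂) hs', X.away_comp _ hs', fun i => ?_⟩
  have hu : IsUnit (algebraMap X.C (Localization.Away (s₁ * s₂)) (s₁ * s₂)) :=
    IsLocalization.Away.algebraMap_isUnit (S := Localization.Away (s₁ * s₂)) (s₁ * s₂)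
  have e1 : (1 : Localization.Away (s₁ * s₂)) ⊗ₜ[X.C]
      (Coalgebra.comul (R := X.C) (y i) - y i ⊗ₜ[X.C] y i) = 0 := by
    apply one_tmul_eq_zero_of_smul_eq_zero (s₁ * s₂) _ hu
    rw [mul_comm, mul_smul, h₁ i, smul_zero]
  have e2 : algebraMap X.C (Localization.Away (s₁ * s₂))
      (Coalgebra.counit (R := X.C) (y i) - 1) = 0 := by
    have h3 : (s₁ * s₂) • (Coalgebra.counit (R := X.C) (y i) - 1) = 0 := by
      rw [mul_smul, h₂ i, smul_zero]
    have h4 := congrArg (algebraMap X.C (Localization.Away (s₁ * s₂))) h3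
    rw [smul_eq_mul, map_mul, map_zero] at h4
    exact (hu.mul_right_eq_zero).mp h4
  have h5 := (isGroupLikeElem_tmul_of_eqs (S := Localization.Away (s₁ * s₂)) e1 e2).map
    (cancelBialg R X.C (Localization.Away (s₁ * s₂)) A)
  rw [cancelBialg_one_tmul, ← bcA_eq_rTensor] at h5
  exact h5

end StageKill

section Lift

variable {R B : Type u} [CommRing R] [CommRing B] [Algebra R B]
  {A : Type u} [CommRing A] [Bialgebra R A]

/-- the trivial stage. -/
noncomputable def Stage.triv (R B : Type u) [CommRing R] [CommRing B] [Algebra R B] : Stage R B where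
  C := R
  φ := Algebra.ofId R B

theorem hsurj_of_isIndEtale (h : EtPBC.IsIndEtale R B) :
    ∀ b : B, ∃ (Z : Stage R B) (c : Z.C), Z.φ c = b := by
  obtain ⟨ι, C, _, _, _, φ, -, -, hsurj⟩ :=
    Groth.Agent.Lib.Helper24.IndEtaleCrit.exists_family_of_isIndEtale h
  intro b
  obtain ⟨i, c, hc⟩ := hsurj b
  exact ⟨⟨C i, φ i⟩, c, hc⟩

theorem exists_lift_aux (hsurj : ∀ b : B, ∃ (Z : Stage R B) (c : Z.C), Z.φ c = b)
    (z : B ⊗[R] A) (X₀ : Stage R B) :
    ∃ (X : Stage R B) (ψ : X₀.C →ₐ[R] X.C), X.φ.comp ψ = X₀.φ ∧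
      ∃ y : X.C ⊗[R] A, bcA X.φ y = z := by
  induction z using TensorProduct.induction_on generalizing X₀ with
  | zero => exact ⟨X₀, AlgHom.id R _, by ext; rfl, 0, map_zero _⟩
  | tmul b a =>
    obtain ⟨Z, c, rfl⟩ := hsurj b
    refine ⟨X₀.tensor Z, X₀.inl Z, X₀.tensor_comp_inl Z, (X₀.inr Z c) ⊗ₜ a, ?_⟩
    rw [bcA_tmul]
    congr 1
    exact congrArg (fun F : Z.C →ₐ[R] B => F c) (X₀.tensor_comp_inr Z)
  | add z₁ z₂ h₁ h₂ =>
    obtain ⟨X₁, ψ₁, hc₁, y₁, hy₁⟩ := h₁ X₀
    obtain ⟨X₂, ψ₂, hc₂, y₂, hy₂⟩ := h₂ X₁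
    refine ⟨X₂, ψ₂.comp ψ₁, ?_, bcA ψ₂ y₁ + y₂, ?_⟩
    · rw [← AlgHom.comp_assoc, hc₂, hc₁]
    · rw [map_add, ← bcA_comp, hc₂, hy₁, hy₂]

theorem exists_lift_family (hsurj : ∀ b : B, ∃ (Z : Stage R B) (c : Z.C), Z.φ c = b)
    {ι : Type*} [Finite ι] (z : ι → B ⊗[R] A) :
    ∃ (X : Stage R B) (y : ι → X.C ⊗[R] A), ∀ i, bcA X.φ (y i) = z i := by
  classical
  cases nonempty_fintype ι
  suffices H : ∀ s : Finset ι, ∃ (X : Stage R B) (y : ι → X.C ⊗[R] A),
      ∀ i ∈ s, bcA X.φ (y i) = z i by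
    obtain ⟨X, y, hy⟩ := H Finset.univ
    exact ⟨X, y, fun i => hy i (Finset.mem_univ i)⟩
  intro s
  induction s using Finset.induction_on with
  | empty => exact ⟨Stage.triv R B, fun _ => 0, fun i hi => absurd hi (Finset.notMem_empty i)⟩
  | insert a s ha ih =>
    obtain ⟨X₁, y₁, hy₁⟩ := ih
    obtain ⟨X₂, ψ, hc, y₂, hy₂⟩ := exists_lift_aux hsurj (z a) X₁
    refine ⟨X₂, fun i => if i = a then y₂ else bcA ψ (y₁ i), fun i hi => ?_⟩
    by_cases hia : i = a
    · subst hia
      simp only [if_true]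
      exact hy₂
    · simp only [if_neg hia]
      rw [← bcA_comp, hc]
      exact hy₁ i ((Finset.mem_insert.mp hi).resolve_left hia)

end Lift

end Groth.Agent.Lib.helper15.QIso
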