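import Mathlib
import Groth.Prelude.Def_SGA3b
import Groth.Agent.Lib.Helper15.QIso1
import Groth.Agent.Lib.Helper15.HensGL2

/-!
# Descending a diagonalisation from an ind-étale local algebra to a stage (helper15)
-/

set_option autoImplicit false
set_option linter.style.haveILetI false
set_option linter.unusedSectionVars false
universe u
open TensorProduct SGA3b

namespace Groth.Agent.Lib.helper15.QIso

open Groth.Agent.Lib.helper15.Rigid Groth.Agent.Lib.helper15.MultLocal
  Groth.Agent.Lib.helper15.HensGL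

section Groups

/-- subgroups of finitely generated commutative groups are finitely generated. -/
lemma subgroup_fg_of_commGroup_fg {G : Type*} [CommGroup G] [Group.FG G] (H : Subgroup G) :
    H.FG := by
  rw [Subgroup.fg_iff_add_fg]
  haveI : AddGroup.FG (Additive G) := inferInstance
  haveI h1 : Module.Finite ℤ (Additive G) := Module.Finite.iff_addGroup_fg.mpr inferInstance
  haveI : IsNoetherian ℤ (Additive G) := isNoetherian_of_isNoetherianRing_of_finite ℤ _
  have h2 : (AddSubgroup.toIntSubmodule H.toAddSubgroup).FG := IsNoetherian.noetherian _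
  rwa [Submodule.fg_iff_addSubgroup_fg, AddSubgroup.toIntSubmodule_toAddSubgroup] at h2

end Groups

section Range

variable {C B : Type*} [CommRing C] [CommRing B] [IsLocalRing B] [Algebra C B] [Module.Flat C B]
  {P Q : Type*} [AddCommGroup P] [Module C P] [AddCommGroup Q] [Module C Q]

theorem exists_smul_mem_range (f : P →ₗ[C] Q) (hf : Function.Surjective (LinearMap.lTensor B f))
    {ι : Type*} [Finite ι] (q : ι → Q) :
    ∃ s : C, IsUnit (algebraMap C B s) ∧ ∀ i, s • q i ∈ LinearMap.range f := by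
  have h0 : ∀ i, (1 : B) ⊗ₜ[C] (LinearMap.range f).mkQ (q i) = 0 := by
    intro i
    obtain ⟨v, hv⟩ := hf ((1 : B) ⊗ₜ[C] q i)
    have h1 : LinearMap.lTensor B ((LinearMap.range f).mkQ) (LinearMap.lTensor B f v) = 0 := by
      rw [← LinearMap.comp_apply, ← LinearMap.lTensor_comp, LinearMap.range_mkQ_comp,
        LinearMap.lTensor_zero, LinearMap.zero_apply]
    rw [hv, LinearMap.lTensor_tmul] at h1
    exact h1
  obtain ⟨s, hs, hs0⟩ := exists_kill_family (B := B) (fun i => (LinearMap.range f).mkQ (q i)) h0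
  refine ⟨s, hs, fun i => ?_⟩
  have := hs0 i
  rw [← map_smul, Submodule.mkQ_apply, Submodule.Quotient.mk_eq_zero] at this
  exact this

end Range

section Theta

variable {R B : Type u} [CommRing R] [CommRing B] [Algebra R B] [IsLocalRing B] [Module.Flat R B]
  {A : Type u} [CommRing A] [HopfAlgebra R A] {M : Type u} [CommGroup M]
  (Ψ : B ⊗[R] A ≃ₐc[B] MonoidAlgebra B M)

/-- the type of a group-like element of `B ⊗ A`. -/
theorem exists_mu : ∃ μ : GroupLike B (B ⊗[R] A) →* M,
    ∀ g, Ψ g.1 = MonoidAlgebra.single (μ g) 1 := by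
  let G : GroupLike B (B ⊗[R] A) →* MonoidAlgebra B M :=
    ((Ψ : B ⊗[R] A →ₐ[B] MonoidAlgebra B M) : B ⊗[R] A →* MonoidAlgebra B M).comp
      (GroupLike.valMonoidHom B (B ⊗[R] A))
  exact exists_monoidHom_of_groupLike G (fun g => g.2.map Ψ)

include Ψ in
/-- a character `M → GroupLike (Y.C ⊗ A)` at a finer stage lifting `Ψ⁻¹`. -/
theorem Stage.exists_theta (X : Stage R B) {ι : Type*} [Finite ι] (m : ι → M)
    (hm : Subgroup.closure (Set.range m) = ⊤) (y : ι → GroupLike X.C (X.C ⊗[R] A))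
    (hy : ∀ i, Ψ (bcA X.φ (y i).1) = MonoidAlgebra.single (m i) 1) :
    ∃ (Y : Stage R B) (ψ : X.C →ₐ[R] Y.C) (θ : M →* GroupLike Y.C (Y.C ⊗[R] A)),
      Y.φ.comp ψ = X.φ ∧ ∀ m, Ψ (bcA Y.φ (θ m).1) = MonoidAlgebra.single m 1 := by
  classical
  obtain ⟨μ, hμ⟩ := exists_mu Ψ
  have hinj := MonoidAlgebra.single_left_injective (R := B) (M := M) (one_ne_zero (α := B))
  let π : GroupLike X.C (X.C ⊗[R] A) →* M := μ.comp (glMap X.φ)
  have hπ : ∀ g, Ψ (bcA X.φ g.1) = MonoidAlgebra.single (π g) 1 := fun g => hμ (glMap X.φ g)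
  have hπy : ∀ i, π (y i) = m i := by
    intro i
    apply hinj
    change MonoidAlgebra.single (π (y i)) (1 : B) = MonoidAlgebra.single (m i) 1
    rw [← hπ, hy]
  let X' : Subgroup (GroupLike X.C (X.C ⊗[R] A)) := Subgroup.closure (Set.range y)
  let π' : X' →* M := π.comp X'.subtype
  have hsurj : Function.Surjective π' := by
    rw [← MonoidHom.range_eq_top, eq_top_iff, ← hm, Subgroup.closure_le]
    rintro _ ⟨i, rfl⟩
    exact ⟨⟨y i, Subgroup.subset_closure ⟨i, rfl⟩⟩, hπy i⟩
  haveI : Group.FG X' := Group.closure_finite_fg (Set.range y)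
  obtain ⟨S, hS⟩ := subgroup_fg_of_commGroup_fg π'.ker
  -- kill the generators of the kernel
  have hker : ∀ κ : S, bcA X.φ (κ.1.1.1) = bcA X.φ (1 : X.C ⊗[R] A) := by
    intro κ
    have h1 : (κ.1 : X') ∈ π'.ker := by
      rw [← hS]
      exact Subgroup.subset_closure κ.2
    have h2 : π κ.1.1 = 1 := h1
    have h3 : Ψ (bcA X.φ (κ.1.1.1)) = Ψ (bcA X.φ (1 : X.C ⊗[R] A)) := by
      rw [hπ, h2, map_one, map_one]
      rfl
    exact (EquivLike.injective Ψ) h3
  obtain ⟨Y, ψ, hcomm, heq⟩ := X.exists_eq (fun κ : S => κ.1.1.1) (fun _ => 1) hker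
  let τ : X' →* GroupLike Y.C (Y.C ⊗[R] A) := (glMap ψ).comp X'.subtype
  have hK : π'.ker ≤ τ.ker := by
    rw [← hS, Subgroup.closure_le]
    intro κ hκ
    change τ κ = 1
    apply GroupLike.val_injective
    have := heq ⟨κ, hκ⟩
    simp only [map_one] at this
    exact this
  let θ : M →* GroupLike Y.C (Y.C ⊗[R] A) :=
    (QuotientGroup.lift π'.ker τ hK).comp
      (QuotientGroup.quotientKerEquivOfSurjective π' hsurj).symm.toMonoidHom
  refine ⟨Y, ψ, θ, hcomm, fun m₀ => ?_⟩
  obtain ⟨x, rfl⟩ := hsurj m₀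
  have h1 : (QuotientGroup.quotientKerEquivOfSurjective π' hsurj).symm (π' x) =
      QuotientGroup.mk x := by
    rw [MulEquiv.symm_apply_eq]
    rfl
  have h2 : θ (π' x) = τ x := by
    change (QuotientGroup.lift π'.ker τ hK)
      ((QuotientGroup.quotientKerEquivOfSurjective π' hsurj).symm (π' x)) = τ x
    rw [h1]
    rfl
  rw [h2]
  change Ψ (bcA Y.φ (bcA ψ x.1.1)) = _
  rw [← bcA_comp, hcomm, hπ]
  rfl

end Theta

section LiftTheta

variable {T : Type*} [CommRing T] {H : Type*} [CommRing H] [HopfAlgebra T H]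
  {M : Type*} [CommMonoid M]

/-- the bialgebra map attached to a character with values in the group-like elements. -/
noncomputable def liftTheta (θ : M →* GroupLike T H) : MonoidAlgebra T M →ₐc[T] H :=
  liftGL ((GroupLike.valMonoidHom T H).comp θ)
    (fun m => show IsGroupLikeElem T (((GroupLike.valMonoidHom T H).comp θ) m) from (θ m).2)

lemma liftTheta_single (θ : M →* GroupLike T H) (m : M) (t : T) :
    liftTheta θ (MonoidAlgebra.single m t) = t • (θ m).1 :=
  liftGL_single _ _ m t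

end LiftTheta

section Surj

variable {R B : Type u} [CommRing R] [CommRing B] [Algebra R B] [IsLocalRing B] [Module.Flat R B]
  {A : Type u} [CommRing A] [HopfAlgebra R A] {M : Type u} [CommGroup M]
  (Ψ : B ⊗[R] A ≃ₐc[B] MonoidAlgebra B M)

include Ψ in
/-- the base change to `B` of the map attached to a character lifting `Ψ⁻¹` is surjective. -/
lemma lTensor_liftTheta_surjective (Y : Stage R B) (θ : M →* GroupLike Y.C (Y.C ⊗[R] A))
    (hθ : ∀ m, Ψ (bcA Y.φ (θ m).1) = MonoidAlgebra.single m 1) :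
    letI : Algebra Y.C B := Y.φ.toRingHom.toAlgebra
    Function.Surjective (LinearMap.lTensor B (liftTheta θ : MonoidAlgebra Y.C M →ₗ[Y.C] Y.C ⊗[R] A)) := by
  letI : Algebra Y.C B := Y.φ.toRingHom.toAlgebra
  haveI : IsScalarTower R Y.C B := IsScalarTower.of_algebraMap_eq fun r => (Y.φ.commutes r).symm
  have hφ : IsScalarTower.toAlgHom R Y.C B = Y.φ := by ext; rfl
  have key : ∀ z : MonoidAlgebra B M, ∃ v : B ⊗[Y.C] MonoidAlgebra Y.C M,
      Ψ (cancelBialg R Y.C B A (LinearMap.lTensor B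
        (liftTheta θ : MonoidAlgebra Y.C M →ₗ[Y.C] Y.C ⊗[R] A) v)) = z := by
    intro z
    induction z using MonoidAlgebra.induction_linear with
    | zero => exact ⟨0, by simp⟩
    | add x y hx hy =>
      obtain ⟨v, hv⟩ := hx
      obtain ⟨w, hw⟩ := hy
      exact ⟨v + w, by rw [map_add, map_add, map_add, hv, hw]⟩
    | single m b =>
      refine ⟨b ⊗ₜ[Y.C] MonoidAlgebra.single m 1, ?_⟩
      rw [LinearMap.lTensor_tmul]
      change Ψ (cancelBialg R Y.C B A (b ⊗ₜ[Y.C] liftTheta θ (MonoidAlgebra.single m 1))) = _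
      rw [liftTheta_single, one_smul]
      have h1 : b ⊗ₜ[Y.C] (θ m).1 = b • ((1 : B) ⊗ₜ[Y.C] (θ m).1) := by
        rw [TensorProduct.smul_tmul', smul_eq_mul, mul_one]
      rw [h1, map_smul, map_smul, cancelBialg_one_tmul, hφ, ← bcA_eq_rTensor, hθ,
        MonoidAlgebra.smul_single, smul_eq_mul, mul_one]
  intro w
  obtain ⟨v, hv⟩ := key (Ψ (cancelBialg R Y.C B A w))
  refine ⟨v, ?_⟩
  exact (EquivLike.injective (cancelBialg R Y.C B A)) ((EquivLike.injective Ψ) hv)

include Ψ in
/-- the map attached to a character lifting `Ψ⁻¹` is surjective over a finer stage. -/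
theorem Stage.exists_surj (hft : Algebra.FiniteType R A) (Y : Stage R B)
    (θ : M →* GroupLike Y.C (Y.C ⊗[R] A))
    (hθ : ∀ m, Ψ (bcA Y.φ (θ m).1) = MonoidAlgebra.single m 1) :
    ∃ (Z : Stage R B) (ψ : Y.C →ₐ[R] Z.C), Z.φ.comp ψ = Y.φ ∧
      Function.Surjective (liftTheta ((glMap ψ).comp θ)) := by
  classical
  letI : Algebra Y.C B := Y.φ.toRingHom.toAlgebra
  haveI : IsScalarTower R Y.C B := IsScalarTower.of_algebraMap_eq fun r => (Y.φ.commutes r).symm
  haveI : Module.Flat Y.C B := Y.flat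
  obtain ⟨S, hS⟩ := hft.out
  obtain ⟨s, hs, hs0⟩ := exists_smul_mem_range (B := B)
    (liftTheta θ : MonoidAlgebra Y.C M →ₗ[Y.C] Y.C ⊗[R] A)
    (lTensor_liftTheta_surjective Ψ Y θ hθ) (fun a : S => (1 : Y.C) ⊗ₜ[R] (a : A))
  have hs' : IsUnit (Y.φ s) := hs
  refine ⟨Y.away s hs', Y.toAway s hs', Y.away_comp s hs', ?_⟩
  -- transfer of the range
  have htr : ∀ x : MonoidAlgebra Y.C M, ∃ x' : MonoidAlgebra (Y.away s hs').C M,
      liftTheta ((glMap (Y.toAway s hs')).comp θ) x' = bcA (Y.toAway s hs') (liftTheta θ x) := by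
    intro x
    induction x using MonoidAlgebra.induction_linear with
    | zero => exact ⟨0, by simp⟩
    | add x y hx hy =>
      obtain ⟨x', hx'⟩ := hx
      obtain ⟨y', hy'⟩ := hy
      exact ⟨x' + y', by rw [map_add, hx', hy', map_add, map_add]⟩
    | single m c =>
      refine ⟨MonoidAlgebra.single m (Y.toAway s hs' c), ?_⟩
      rw [liftTheta_single, liftTheta_single, bcA_smul]
      rfl
  let Φ : MonoidAlgebra (Y.away s hs').C M →ₐ[(Y.away s hs').C] (Y.away s hs').C ⊗[R] A :=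
    (liftTheta ((glMap (Y.toAway s hs')).comp θ) :
      MonoidAlgebra (Y.away s hs').C M →ₐc[(Y.away s hs').C] (Y.away s hs').C ⊗[R] A)
  have hgen : ∀ a ∈ S, (1 : (Y.away s hs').C) ⊗ₜ[R] a ∈ Φ.range := by
    intro a ha
    obtain ⟨w, hw⟩ := hs0 ⟨a, ha⟩
    obtain ⟨w', hw'⟩ := htr w
    have h1 : Y.toAway s hs' s • ((1 : (Y.away s hs').C) ⊗ₜ[R] a) ∈ Φ.range := by
      refine ⟨w', ?_⟩
      change liftTheta ((glMap (Y.toAway s hs')).comp θ) w' = _
      have hw2 : liftTheta θ w = s • ((1 : Y.C) ⊗ₜ[R] a) := hw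
      rw [hw', hw2, bcA_smul, bcA_tmul, map_one]
    obtain ⟨u, hu⟩ := Y.isUnit_toAway s hs'
    have h2 : (1 : (Y.away s hs').C) ⊗ₜ[R] a =
        (↑u⁻¹ : (Y.away s hs').C) • (Y.toAway s hs' s • ((1 : (Y.away s hs').C) ⊗ₜ[R] a)) := by
      rw [smul_smul, ← hu, Units.inv_mul, one_smul]
    rw [h2]
    exact Subalgebra.smul_mem _ h1 _
  have hall : ∀ a : A, (1 : (Y.away s hs').C) ⊗ₜ[R] a ∈ Φ.range := by
    intro a
    have ha : a ∈ Algebra.adjoin R (S : Set A) := by rw [hS]; trivial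
    induction ha using Algebra.adjoin_induction with
    | mem a ha => exact hgen a ha
    | algebraMap r =>
      have h3 : (1 : (Y.away s hs').C) ⊗ₜ[R] algebraMap R A r =
          algebraMap (Y.away s hs').C ((Y.away s hs').C ⊗[R] A)
            (algebraMap R (Y.away s hs').C r) := by
        rw [Algebra.TensorProduct.algebraMap_apply, Algebra.algebraMap_self, RingHom.id_apply,
          Algebra.algebraMap_eq_smul_one, Algebra.algebraMap_eq_smul_one, TensorProduct.smul_tmul]
      rw [h3]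
      exact Subalgebra.algebraMap_mem _ _
    | add a b _ _ ha hb =>
      rw [TensorProduct.tmul_add]
      exact add_mem ha hb
    | mul a b _ _ ha hb =>
      have h3 : (1 : (Y.away s hs').C) ⊗ₜ[R] (a * b) =
          ((1 : (Y.away s hs').C) ⊗ₜ[R] a) * ((1 : (Y.away s hs').C) ⊗ₜ[R] b) := by
        rw [Algebra.TensorProduct.tmul_mul_tmul, mul_one]
      rw [h3]
      exact mul_mem ha hb
  intro w
  induction w using TensorProduct.induction_on with
  | zero => exact ⟨0, map_zero _⟩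
  | tmul t a =>
    have h3 : t ⊗ₜ[R] a = t • ((1 : (Y.away s hs').C) ⊗ₜ[R] a) := by
      rw [TensorProduct.smul_tmul', smul_eq_mul, mul_one]
    have h := Subalgebra.smul_mem Φ.range (hall a) t
    rw [← h3] at h
    exact h
  | add x y hx hy =>
    obtain ⟨x', hx'⟩ := hx
    obtain ⟨y', hy'⟩ := hy
    exact ⟨x' + y', by rw [map_add, hx', hy']⟩

end Surj

end Groth.Agent.Lib.helper15.QIso
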