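import Mathlib
import Groth.Prelude.Def_SGA3b
import Groth.Agent.Lib.Helper15.QIso2
import Groth.Agent.Lib.Helper15.MultKer3

/-!
# A surjective bialgebra map `C[M] → H` onto a group of multiplicative type of type `M` is injective
(helper15)
-/

set_option autoImplicit false
set_option linter.style.haveILetI false
set_option linter.unusedSectionVars false
universe u
open TensorProduct SGA3b

namespace Groth.Agent.Lib.helper15.QIso

open Groth.Agent.Lib.helper15.Rigid Groth.Agent.Lib.helper15.MultLocal
  Groth.Agent.Lib.helper15.HensGL Groth.Agent.Lib.helper15.DiagSub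
  Groth.Agent.Lib.helper15.MultKer

section Hopfian

/-- finitely generated commutative groups are Hopfian. -/
lemma hopfian {G : Type*} [CommGroup G] [Group.FG G] (g : G →* G) (hg : Function.Surjective g) :
    Function.Injective g := by
  haveI : AddGroup.FG (Additive G) := inferInstance
  haveI h1 : Module.Finite ℤ (Additive G) := Module.Finite.iff_addGroup_fg.mpr inferInstance
  haveI : IsNoetherian ℤ (Additive G) := isNoetherian_of_isNoetherianRing_of_finite ℤ _
  let L : Additive G →ₗ[ℤ] Additive G := (MonoidHom.toAdditive g).toIntLinearMap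
  have hL : Function.Surjective L := hg
  exact IsNoetherian.injective_of_surjective_endomorphism L hL

end Hopfian

section Inj

variable {C : Type u} [CommRing C] {H : Type u} [CommRing H] [HopfAlgebra C H]
  {M : Type u} [CommGroup M] [Group.FG M]
  {T : Type u} [CommRing T] [Algebra C T] [Module.FaithfullyFlat C T]
  {N : Type u} [CommGroup N]

theorem injective_of_surjective_of_const (E : T ⊗[C] H ≃ₐc[T] MonoidAlgebra T N) (e : M ≃* N)
    (Ψ : MonoidAlgebra C M →ₐc[C] H) (hΨ : Function.Surjective Ψ) : Function.Injective Ψ := by
  classical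
  let g : M →* MonoidAlgebra T N :=
    { toFun := fun m => E ((1 : T) ⊗ₜ[C] Ψ (MonoidAlgebra.single m 1))
      map_one' := by
        have : (MonoidAlgebra.single (1 : M) (1 : C)) = 1 := rfl
        rw [this, map_one]
        exact map_one E
      map_mul' := fun p q => by
        have : (MonoidAlgebra.single (p * q) (1 : C)) =
            MonoidAlgebra.single p 1 * MonoidAlgebra.single q 1 := by
          rw [MonoidAlgebra.single_mul_single, one_mul]
        rw [this, map_mul Ψ, ← map_mul E, Algebra.TensorProduct.tmul_mul_tmul, one_mul] }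
  have hg : ∀ m, IsGroupLikeElem T (g m) := fun m =>
    (isGroupLikeElem_tmul
      ((MonoidAlgebra.isGroupLikeElem_single_one (R := C) (A := C) m).map Ψ)).map E
  let Φ : MonoidAlgebra T M →ₐc[T] MonoidAlgebra T N := liftGL g hg
  let ι : MonoidAlgebra C M →ₐ[C] MonoidAlgebra T M := MonoidAlgebra.mapAlgHom M (Algebra.ofId C T)
  -- compatibility
  have hcomp : ∀ x : MonoidAlgebra C M, Φ (ι x) = E ((1 : T) ⊗ₜ[C] Ψ x) := by
    intro x
    induction x using MonoidAlgebra.induction_linear with
    | zero => simp
    | add x y hx hy => rw [map_add, map_add, hx, hy, map_add, TensorProduct.tmul_add, map_add]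
    | single m c =>
      have h1 : ι (MonoidAlgebra.single m c) = MonoidAlgebra.single m (algebraMap C T c) :=
        MonoidAlgebra.mapAlgHom_single _ m c
      have h2 : (MonoidAlgebra.single m c : MonoidAlgebra C M) = c • MonoidAlgebra.single m 1 := by
        rw [MonoidAlgebra.smul_single, smul_eq_mul, mul_one]
      rw [h1, liftGL_single, h2, map_smul, TensorProduct.tmul_smul, ← algebraMap_smul T c,
        map_smul]
      rfl
  -- `Φ` is surjective
  have hΦsurj : Function.Surjective Φ := by
    have key : ∀ w : T ⊗[C] H, ∃ x : MonoidAlgebra T M, Φ x = E w := by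
      intro w
      induction w using TensorProduct.induction_on with
      | zero => exact ⟨0, by simp⟩
      | tmul t h =>
        obtain ⟨x₀, rfl⟩ := hΨ h
        refine ⟨t • ι x₀, ?_⟩
        rw [map_smul, hcomp, ← map_smul, TensorProduct.smul_tmul', smul_eq_mul, mul_one]
      | add x y hx hy =>
        obtain ⟨x', hx'⟩ := hx
        obtain ⟨y', hy'⟩ := hy
        exact ⟨x' + y', by rw [map_add, hx', hy', map_add]⟩
    intro z
    obtain ⟨x, hx⟩ := key (E.symm z)
    exact ⟨x, by rw [hx, BialgEquiv.apply_symm_apply]⟩
  obtain ⟨Λ, _, ε, f, -, hsum, hf⟩ := exists_partition Φ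
  -- on each piece `Φ` is a map of group algebras
  have hpiece : ∀ l (x : MonoidAlgebra T M),
      ε l • Φ x = ε l • MonoidAlgebra.mapDomainBialgHom T (f l) x := by
    intro l x
    induction x using MonoidAlgebra.induction_linear with
    | zero => simp
    | add x y hx hy => rw [map_add, map_add, smul_add, smul_add, hx, hy]
    | single q t =>
      have h2 : (MonoidAlgebra.single q t : MonoidAlgebra T M) = t • MonoidAlgebra.single q 1 := by
        rw [MonoidAlgebra.smul_single, smul_eq_mul, mul_one]
      rw [h2, map_smul, map_smul, smul_comm, hf l q, MonoidAlgebra.mapDomainBialgHom_single,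
        smul_comm]
  -- the pieces are surjective, hence bijective
  have hfl : ∀ l, ε l ≠ 0 → Function.Injective (f l) := by
    intro l hl
    have hs : Function.Surjective (f l) := by
      intro ν
      by_contra hν
      obtain ⟨x, hx⟩ := hΦsurj (MonoidAlgebra.single ν 1)
      have h1 := hpiece l x
      rw [hx] at h1
      have h2 := congrArg (fun z : MonoidAlgebra T N => z.coeff ν) h1
      have h3 : (MonoidAlgebra.mapDomainBialgHom T (f l) x).coeff ν = 0 := by
        change (Finsupp.mapDomain (f l) x.coeff) ν = 0
        exact Finsupp.mapDomain_of_notMem_range _ _ hν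
      simp only [MonoidAlgebra.coeff_smul, Finsupp.smul_apply, h3,
        MonoidAlgebra.coeff_single, Finsupp.single_eq_same, smul_eq_mul, mul_one, mul_zero] at h2
      exact hl h2
    have h4 : Function.Injective ((e.symm.toMonoidHom).comp (f l)) :=
      hopfian _ (e.symm.surjective.comp hs)
    exact fun a b hab => h4 (by simp [hab])
  -- `Φ` is injective
  have hΦinj : ∀ x, Φ x = 0 → x = 0 := by
    intro x hx
    have h1 : ∀ l, ε l • x = 0 := by
      intro l
      by_cases hl : ε l = 0
      · rw [hl, zero_smul]
      · have h2 := hpiece l x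
        rw [hx, smul_zero, ← map_smul] at h2
        have h3 : MonoidAlgebra.mapDomain (f l) (ε l • x) = MonoidAlgebra.mapDomain (f l) 0 := by
          rw [MonoidAlgebra.mapDomain_zero]
          exact h2.symm
        exact MonoidAlgebra.mapDomain_injective (hfl l hl) h3
    calc x = (∑ l, ε l) • x := by rw [hsum, one_smul]
      _ = ∑ l, ε l • x := Finset.sum_smul
      _ = 0 := Finset.sum_eq_zero fun l _ => h1 l
  -- descent
  rw [injective_iff_map_eq_zero]
  intro x hx
  have h1 : Φ (ι x) = 0 := by rw [hcomp, hx, TensorProduct.tmul_zero, map_zero]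
  have h2 := hΦinj _ h1
  ext m
  have h3 := congrArg (fun z : MonoidAlgebra T M => z.coeff m) h2
  simp only [ι, MonoidAlgebra.coeff_mapAlgHom, MonoidAlgebra.coeff_zero, Finsupp.coe_zero,
    Pi.zero_apply] at h3
  have h4 : algebraMap C T (x.coeff m) = 0 := h3
  have := FaithfulSMul.algebraMap_injective C T (h4.trans (map_zero _).symm)
  simpa using this

end Inj

end Groth.Agent.Lib.helper15.QIso
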