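import Mathlib
import Groth.Prelude.Def_SGA3b
import Groth.Agent.Lib.Helper15.QIso3

/-!
# Descent of a diagonalisation from an ind-étale local algebra to an étale algebra (helper15)
-/

set_option autoImplicit false
set_option linter.style.haveILetI false
set_option linter.unusedSectionVars false
universe u
open TensorProduct SGA3b

namespace Groth.Agent.Lib.helper15.QIso

open Groth.Agent.Lib.helper15.Rigid Groth.Agent.Lib.helper15.MultLocal
  Groth.Agent.Lib.helper15.HensGL Groth.Agent.Lib.helper15.DiagSub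
  Groth.Agent.Lib.helper15.MultKer

variable {R₀ B : Type u} [CommRing R₀] [CommRing B] [Algebra R₀ B] [IsLocalRing B]
  [Module.Flat R₀ B] {A₀ : Type u} [CommRing A₀] [HopfAlgebra R₀ A₀]

/-- a group of multiplicative type, of finite type and of constant type, which is diagonalisable
over a flat local ind-étale algebra `B`, is diagonalisable over an étale algebra mapping to `B`. -/
theorem exists_stage_isDiag (hB : EtPBC.IsIndEtale R₀ B) (hft : Algebra.FiniteType R₀ A₀)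
    (hc : IsMultTypeConst R₀ A₀) (hd : IsDiag B (B ⊗[R₀] A₀)) :
    ∃ Z : Stage R₀ B, IsDiag Z.C (Z.C ⊗[R₀] A₀) := by
  classical
  obtain ⟨M, _, ⟨Ψ⟩⟩ := hd
  haveI := hft
  haveI : Algebra.FiniteType B (B ⊗[R₀] A₀) := inferInstance
  haveI : Algebra.FiniteType B (MonoidAlgebra B M) :=
    Algebra.FiniteType.equiv inferInstance (Ψ : B ⊗[R₀] A₀ ≃ₐ[B] MonoidAlgebra B M)
  haveI hM : Group.FG M := (MonoidAlgebra.finiteType_iff_group_fg (R := B)).mp inferInstance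
  obtain ⟨S, hS, hSfin⟩ := Group.fg_iff.mp hM
  haveI : Finite S := hSfin
  let m : S → M := Subtype.val
  have hm : Subgroup.closure (Set.range m) = ⊤ := by
    rw [Subtype.range_val]
    exact hS
  let z : S → B ⊗[R₀] A₀ := fun i => Ψ.symm (MonoidAlgebra.single (m i) 1)
  obtain ⟨X₁, y₁, hy₁⟩ := exists_lift_family (hsurj_of_isIndEtale hB) z
  have hy : ∀ i, IsGroupLikeElem B (bcA X₁.φ (y₁ i)) := by
    intro i
    rw [hy₁ i]
    exact (MonoidAlgebra.isGroupLikeElem_single_one (R := B) (A := B) (m i)).map Ψ.symm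
  obtain ⟨X₂, ψ₂, hc₂, hgl⟩ := X₁.exists_groupLike y₁ hy
  let y₂ : S → GroupLike X₂.C (X₂.C ⊗[R₀] A₀) := fun i => ⟨bcA ψ₂ (y₁ i), hgl i⟩
  have hy₂ : ∀ i, Ψ (bcA X₂.φ (y₂ i).1) = MonoidAlgebra.single (m i) 1 := by
    intro i
    change Ψ (bcA X₂.φ (bcA ψ₂ (y₁ i))) = _
    rw [← bcA_comp, hc₂, hy₁ i]
    exact Ψ.apply_symm_apply _
  obtain ⟨X₃, ψ₃, θ, hc₃, hθ⟩ := X₂.exists_theta Ψ m hm y₂ hy₂
  obtain ⟨Z, ψ₄, hc₄, hsurj⟩ := X₃.exists_surj Ψ hft θ hθ
  -- the type of `Z.C ⊗ A₀`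
  obtain ⟨T, _, _, hff, N, _, ⟨E⟩⟩ := isMultTypeConst_baseChange Z.C hc
  letI : Algebra Z.C B := Z.φ.toRingHom.toAlgebra
  haveI : IsScalarTower R₀ Z.C B := IsScalarTower.of_algebraMap_eq fun r => (Z.φ.commutes r).symm
  let E₁ : B ⊗[Z.C] (Z.C ⊗[R₀] A₀) ≃ₐc[B] MonoidAlgebra B M := (cancelBialg R₀ Z.C B A₀).trans Ψ
  haveI : Nontrivial (B ⊗[Z.C] T) := inferInstance
  obtain ⟨e⟩ := mulEquiv_of_nontrivial_tensor E₁ E
  have hinj := injective_of_surjective_of_const E e (liftTheta ((glMap ψ₄).comp θ)) hsurj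
  exact ⟨Z, M, inferInstance,
    ⟨(BialgEquiv.ofBijective (liftTheta ((glMap ψ₄).comp θ)) ⟨hinj, hsurj⟩).symm⟩⟩

end Groth.Agent.Lib.helper15.QIso
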