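import Mathlib
import Groth.Prelude.Def_SGA3b
import Groth.Agent.Lib.Helper15.QIso4
import Groth.Agent.S2969

/-!
# Groups of multiplicative type over a strictly henselian local ring are diagonalisable (helper15)
-/

set_option autoImplicit false
set_option linter.style.haveILetI false
set_option linter.unusedSectionVars false
universe u
open TensorProduct SGA3b

namespace Groth.Agent.Lib.helper15.QIso

open Groth.Agent.Lib.helper15.Rigid Groth.Agent.Lib.helper15.MultLocal
  Groth.Agent.Lib.helper15.HensGL Groth.Agent.Lib.helper15.DiagSub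
  Groth.Agent.Lib.helper15.MultKer

theorem isDiag_of_strictHens {B : Type u} [CommRing B] [HenselianLocalRing B]
    (hsc : IsSepClosed (IsLocalRing.ResidueField B)) {H : Type u} [CommRing H] [HopfAlgebra B H]
    (hft : Algebra.FiniteType B H) (hc : IsMultTypeConst B H) : IsDiag B H := by
  classical
  have hR : HenselianRing B (IsLocalRing.maximalIdeal B) := inferInstance
  letI : Field (B ⧸ IsLocalRing.maximalIdeal B) := Ideal.Quotient.field _
  haveI : IsSepClosed (B ⧸ IsLocalRing.maximalIdeal B) := hsc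
  have h0 : IsMultType (B ⧸ IsLocalRing.maximalIdeal B) ((B ⧸ IsLocalRing.maximalIdeal B) ⊗[B] H) :=
    isMultType_of_const (isMultTypeConst_baseChange _ hc)
  haveI := hft
  have hft0 : Algebra.FiniteType (B ⧸ IsLocalRing.maximalIdeal B)
      ((B ⧸ IsLocalRing.maximalIdeal B) ⊗[B] H) := inferInstance
  obtain ⟨k', _, _, hfin, hsep, M, _, -, ⟨E'⟩⟩ :=
    Groth.Agent.S2969.result (B ⧸ IsLocalRing.maximalIdeal B) _ hft0 h0
  have hbij : Function.Bijective (algebraMap (B ⧸ IsLocalRing.maximalIdeal B) k') :=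
    ⟨(algebraMap (B ⧸ IsLocalRing.maximalIdeal B) k').injective,
      IsSepClosed.algebraMap_surjective (B ⧸ IsLocalRing.maximalIdeal B) k'⟩
  let ρ : k' ≃+* (B ⧸ IsLocalRing.maximalIdeal B) :=
    (RingEquiv.ofBijective (algebraMap (B ⧸ IsLocalRing.maximalIdeal B) k') hbij).symm
  letI : Algebra k' (B ⧸ IsLocalRing.maximalIdeal B) := ρ.toRingHom.toAlgebra
  haveI : IsScalarTower (B ⧸ IsLocalRing.maximalIdeal B) k' (B ⧸ IsLocalRing.maximalIdeal B) :=
    IsScalarTower.of_algebraMap_eq fun r => by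
      change r = ρ (algebraMap (B ⧸ IsLocalRing.maximalIdeal B) k' r)
      exact ((RingEquiv.ofBijective (algebraMap (B ⧸ IsLocalRing.maximalIdeal B) k')
        hbij).symm_apply_apply r).symm
  let e₀ : (B ⧸ IsLocalRing.maximalIdeal B) ⊗[B] H ≃ₐc[B ⧸ IsLocalRing.maximalIdeal B]
      MonoidAlgebra (B ⧸ IsLocalRing.maximalIdeal B) M :=
    ((Bialgebra.TensorProduct.lid (B ⧸ IsLocalRing.maximalIdeal B)
      ((B ⧸ IsLocalRing.maximalIdeal B) ⊗[B] H)).symm.trans
      (cancelBialg (B ⧸ IsLocalRing.maximalIdeal B) k' (B ⧸ IsLocalRing.maximalIdeal B)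
        ((B ⧸ IsLocalRing.maximalIdeal B) ⊗[B] H)).symm).trans
      (bcDiag (B ⧸ IsLocalRing.maximalIdeal B) E')
  exact isDiag_of_closedFibre hR hft (isMultType_of_const hc) e₀

end Groth.Agent.Lib.helper15.QIso
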