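import Mathlib
import Groth.Prelude.Def_SGA3b
import Groth.Agent.Lib.Helper15.QIso5
import Groth.Agent.Lib.Helper24.HensIndEtale
import Groth.Agent.Lib.Helper24.StrictHensProps
import Groth.Agent.Lib.Helper24.IndEtaleCancel

/-!
# Groups of multiplicative type and of finite type are quasi-isotrivial (helper15; SGA3 X 4.5)
-/

set_option autoImplicit false
set_option linter.style.haveILetI false
set_option linter.unusedSectionVars false
universe u
open TensorProduct SGA3b

namespace Groth.Agent.Lib.helper15.QIso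

open Groth.Agent.Lib.helper15.Rigid Groth.Agent.Lib.helper15.MultLocal
  Groth.Agent.Lib.helper15.HensGL Groth.Agent.Lib.helper15.DiagSub
  Groth.Agent.Lib.helper15.MultKer

open Groth.Agent.Lib.Helper24.StrictHens in
/-- constant type: an étale neighbourhood of a prime over which the group is diagonalisable. -/
theorem exists_etale_isDiag_of_const {R₀ : Type u} [CommRing R₀] {A₀ : Type u} [CommRing A₀]
    [HopfAlgebra R₀ A₀] (hft : Algebra.FiniteType R₀ A₀) (hc : IsMultTypeConst R₀ A₀)
    (𝔭 : Ideal R₀) [𝔭.IsPrime] :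
    ∃ (Z : Type u) (_ : CommRing Z) (_ : Algebra R₀ Z), Algebra.Etale R₀ Z ∧
      (∃ q : Ideal Z, q.IsPrime ∧ q.comap (algebraMap R₀ Z) = 𝔭) ∧ IsDiag Z (Z ⊗[R₀] A₀) := by
  classical
  let Rp := Localization.AtPrime 𝔭
  let B := SH Rp
  letI : Algebra R₀ B := ((algebraMap Rp B).comp (algebraMap R₀ Rp)).toAlgebra
  haveI : IsScalarTower R₀ Rp B := IsScalarTower.of_algebraMap_eq fun _ => rfl
  haveI : Module.Flat R₀ Rp := IsLocalization.flat Rp 𝔭.primeCompl
  haveI : Module.Flat R₀ B := Module.Flat.trans R₀ Rp B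
  have hB : EtPBC.IsIndEtale R₀ B :=
    Groth.Agent.Lib.Helper24.IndEtaleTrans.isIndEtale_trans R₀ Rp B
      (Groth.Agent.Lib.Helper24.IndEtaleCancel.isIndEtale_of_isLocalization 𝔭.primeCompl)
      (Groth.Agent.Lib.Helper24.HensIndEtale.isIndEtale_SHens Rp (Ωstd Rp))
  have hcB : IsMultTypeConst B (B ⊗[R₀] A₀) := isMultTypeConst_baseChange B hc
  have hsc : IsSepClosed (IsLocalRing.ResidueField B) :=
    IsSepClosure.sep_closed (k := IsLocalRing.ResidueField Rp)
  haveI := hft
  have hftB : Algebra.FiniteType B (B ⊗[R₀] A₀) := inferInstance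
  have hd : IsDiag B (B ⊗[R₀] A₀) := isDiag_of_strictHens hsc hftB hcB
  obtain ⟨Z, hZ⟩ := exists_stage_isDiag hB hft hc hd
  refine ⟨Z.C, inferInstance, inferInstance, inferInstance,
    ⟨(IsLocalRing.maximalIdeal B).comap Z.φ, Ideal.comap_isPrime _ _, ?_⟩, hZ⟩
  have h1 : (Z.φ : Z.C →+* B).comp (algebraMap R₀ Z.C) = algebraMap R₀ B := Z.φ.comp_algebraMap
  have h2 : algebraMap R₀ B = (algebraMap Rp B).comp (algebraMap R₀ Rp) := rfl
  have h3 : (IsLocalRing.maximalIdeal B).comap (algebraMap Rp B) = IsLocalRing.maximalIdeal Rp :=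
    ((IsLocalRing.local_hom_TFAE (algebraMap Rp B)).out 0 4).mp
      (inferInstance : IsLocalHom (algebraMap Rp B))
  change ((IsLocalRing.maximalIdeal B).comap (Z.φ : Z.C →+* B)).comap (algebraMap R₀ Z.C) = 𝔭
  rw [Ideal.comap_comap, h1, h2, ← Ideal.comap_comap, h3]
  exact Localization.AtPrime.under_maximalIdeal

/-- an étale neighbourhood of a prime over which a group of multiplicative type and of finite
type is diagonalisable. -/
theorem exists_etale_isDiag {R : Type u} [CommRing R] {A : Type u} [CommRing A] [HopfAlgebra R A]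
    (hft : Algebra.FiniteType R A) (h : IsMultType R A) (𝔭 : Ideal R) [h𝔭 : 𝔭.IsPrime] :
    ∃ (Z : Type u) (_ : CommRing Z) (_ : Algebra R Z), Algebra.Etale R Z ∧
      (∃ q : Ideal Z, q.IsPrime ∧ q.comap (algebraMap R Z) = 𝔭) ∧ IsDiag Z (Z ⊗[R] A) := by
  classical
  obtain ⟨s, hs, hcs⟩ := h
  have hex : ∃ f ∈ s, f ∉ 𝔭 := by
    by_contra hcon
    push Not at hcon
    have : Ideal.span s ≤ 𝔭 := Ideal.span_le.mpr hcon
    rw [hs] at this
    exact h𝔭.ne_top (top_le_iff.mp this)
  obtain ⟨f, hfs, hf𝔭⟩ := hex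
  have hdisj : Disjoint (Submonoid.powers f : Set R) (𝔭 : Set R) := by
    rw [Set.disjoint_left]
    rintro _ ⟨n, rfl⟩ hn
    exact hf𝔭 (h𝔭.mem_of_pow_mem n hn)
  haveI h𝔭₀ : (𝔭.map (algebraMap R (Localization.Away f))).IsPrime :=
    IsLocalization.isPrime_of_isPrime_disjoint (Submonoid.powers f) _ 𝔭 h𝔭 hdisj
  have hcomap : (𝔭.map (algebraMap R (Localization.Away f))).comap
      (algebraMap R (Localization.Away f)) = 𝔭 :=
    IsLocalization.under_map_of_isPrime_disjoint (Submonoid.powers f) _ h𝔭 hdisj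
  haveI := hft
  have hft0 : Algebra.FiniteType (Localization.Away f) (Localization.Away f ⊗[R] A) :=
    inferInstance
  obtain ⟨Z, _, _, hZet, ⟨q, hq, hqc⟩, M, _, ⟨E⟩⟩ :=
    exists_etale_isDiag_of_const hft0 (hcs f hfs) (𝔭.map (algebraMap R (Localization.Away f)))
  letI : Algebra R Z :=
    ((algebraMap (Localization.Away f) Z).comp (algebraMap R (Localization.Away f))).toAlgebra
  haveI : IsScalarTower R (Localization.Away f) Z := IsScalarTower.of_algebraMap_eq fun _ => rfl
  haveI : Algebra.Etale R (Localization.Away f) := Algebra.Etale.of_isLocalizationAway f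
  haveI := hZet
  refine ⟨Z, inferInstance, inferInstance, Algebra.Etale.comp R (Localization.Away f) Z,
    ⟨q, hq, ?_⟩, M, inferInstance, ⟨(cancelBialg R (Localization.Away f) Z A).symm.trans E⟩⟩
  change q.comap ((algebraMap (Localization.Away f) Z).comp
    (algebraMap R (Localization.Away f))) = 𝔭
  rw [← Ideal.comap_comap, hqc, hcomap]

section Assembly

attribute [local instance] Algebra.TensorProduct.rightAlgebra

lemma isScalarTower_right {R S Z : Type*} [CommRing R] [CommRing S] [CommRing Z] [Algebra R S]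
    [Algebra R Z] : IsScalarTower R Z (S ⊗[R] Z) :=
  IsScalarTower.of_algebraMap_eq fun r => by
    change algebraMap R S r ⊗ₜ[R] (1 : Z) = (1 : S) ⊗ₜ[R] algebraMap R Z r
    rw [Algebra.algebraMap_eq_smul_one, Algebra.algebraMap_eq_smul_one, TensorProduct.smul_tmul]

lemma faithfullyFlat_away_tensor {R Z : Type u} [CommRing R] [CommRing Z] [Algebra R Z]
    [Module.Flat R Z] (f : R)
    (hU : ∀ p : PrimeSpectrum R, f ∉ p.asIdeal →
      p ∈ Set.range (PrimeSpectrum.comap (algebraMap R Z))) :
    Module.FaithfullyFlat (Localization.Away f) (Localization.Away f ⊗[R] Z) := by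
  haveI : IsScalarTower R Z (Localization.Away f ⊗[R] Z) := isScalarTower_right
  apply Module.FaithfullyFlat.of_comap_surjective
  intro P
  let p : PrimeSpectrum R := PrimeSpectrum.comap (algebraMap R (Localization.Away f)) P
  have hfp : f ∉ p.asIdeal := by
    intro hf
    have h1 : algebraMap R (Localization.Away f) f ∈ P.asIdeal := hf
    exact P.isPrime.ne_top (Ideal.eq_top_of_isUnit_mem _ h1
      (IsLocalization.Away.algebraMap_isUnit f))
  obtain ⟨q, hq⟩ := hU p hfp
  have hq' : q.asIdeal.comap (algebraMap R Z) = p.asIdeal := by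
    rw [← hq]
    rfl
  have hdisj : Disjoint (Algebra.algebraMapSubmonoid Z (Submonoid.powers f) : Set Z)
      (q.asIdeal : Set Z) := by
    rw [Set.disjoint_left]
    rintro _ ⟨_, ⟨n, rfl⟩, rfl⟩ hn
    have h1 : f ^ n ∈ p.asIdeal := by
      rw [← hq']
      exact hn
    exact hfp (p.isPrime.mem_of_pow_mem n h1)
  haveI hQ : (q.asIdeal.map (algebraMap Z (Localization.Away f ⊗[R] Z))).IsPrime :=
    IsLocalization.isPrime_of_isPrime_disjoint
      (Algebra.algebraMapSubmonoid Z (Submonoid.powers f)) _ q.asIdeal q.isPrime hdisj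
  have hQc : (q.asIdeal.map (algebraMap Z (Localization.Away f ⊗[R] Z))).comap
      (algebraMap Z (Localization.Away f ⊗[R] Z)) = q.asIdeal :=
    IsLocalization.under_map_of_isPrime_disjoint
      (Algebra.algebraMapSubmonoid Z (Submonoid.powers f)) _ q.isPrime hdisj
  refine ⟨⟨q.asIdeal.map (algebraMap Z (Localization.Away f ⊗[R] Z)), hQ⟩, ?_⟩
  apply PrimeSpectrum.ext
  change (q.asIdeal.map (algebraMap Z (Localization.Away f ⊗[R] Z))).comap
    (algebraMap (Localization.Away f) (Localization.Away f ⊗[R] Z)) = P.asIdeal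
  have hcompat : (algebraMap (Localization.Away f) (Localization.Away f ⊗[R] Z)).comp
      (algebraMap R (Localization.Away f)) =
      (algebraMap Z (Localization.Away f ⊗[R] Z)).comp (algebraMap R Z) := by
    rw [← IsScalarTower.algebraMap_eq, ← IsScalarTower.algebraMap_eq]
  have h1 : ((q.asIdeal.map (algebraMap Z (Localization.Away f ⊗[R] Z))).comap
      (algebraMap (Localization.Away f) (Localization.Away f ⊗[R] Z))).comap
      (algebraMap R (Localization.Away f)) = P.asIdeal.comap (algebraMap R (Localization.Away f)) := by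
    rw [Ideal.comap_comap, hcompat, ← Ideal.comap_comap, hQc, hq']
    rfl
  rw [← IsLocalization.map_under (Submonoid.powers f) (Localization.Away f)
    ((q.asIdeal.map (algebraMap Z (Localization.Away f ⊗[R] Z))).comap
      (algebraMap (Localization.Away f) (Localization.Away f ⊗[R] Z))),
    ← IsLocalization.map_under (Submonoid.powers f) (Localization.Away f) P.asIdeal]
  exact congrArg _ h1

/-- **SGA3 X 4.5**: a group of multiplicative type and of finite type is quasi-isotrivial. -/
theorem isQuasiIsotrivial_of_finiteType (R : Type u) [CommRing R] (A : Type u) [CommRing A]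
    [HopfAlgebra R A] (hft : Algebra.FiniteType R A) (h : IsMultType R A) :
    IsQuasiIsotrivial R A := by
  classical
  refine ⟨{f | IsQuasiIsotrivialConst (Localization.Away f) (Localization.Away f ⊗[R] A)}, ?_,
    fun f hf => hf⟩
  by_contra hne
  obtain ⟨𝔭, hmax, hle⟩ := Ideal.exists_le_maximal _ hne
  haveI h𝔭 : 𝔭.IsPrime := hmax.isPrime
  obtain ⟨Z, _, _, hZet, ⟨q, hq, hqc⟩, M, _, ⟨E⟩⟩ := exists_etale_isDiag hft h 𝔭
  haveI := hZet
  have hopen : IsOpen (Set.range (PrimeSpectrum.comap (algebraMap R Z))) :=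
    (PrimeSpectrum.isOpenMap_comap_of_hasGoingDown_of_finitePresentation (R := R) (S := Z)).isOpen_range
  have hmem : (⟨𝔭, h𝔭⟩ : PrimeSpectrum R) ∈ Set.range (PrimeSpectrum.comap (algebraMap R Z)) :=
    ⟨⟨q, hq⟩, PrimeSpectrum.ext hqc⟩
  obtain ⟨_, ⟨f, rfl⟩, hfmem, hfsub⟩ :=
    PrimeSpectrum.isTopologicalBasis_basic_opens.exists_subset_of_mem_open hmem hopen
  have hf𝔭 : f ∉ 𝔭 := hfmem
  apply hf𝔭
  apply hle
  apply Ideal.subset_span
  haveI : IsScalarTower R Z (Localization.Away f ⊗[R] Z) := isScalarTower_right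
  refine ⟨Localization.Away f ⊗[R] Z, inferInstance, inferInstance, inferInstance,
    faithfullyFlat_away_tensor f (fun p hp => hfsub hp), M, inferInstance, ⟨?_⟩⟩
  exact (cancelBialg R (Localization.Away f) (Localization.Away f ⊗[R] Z) A).trans
    ((cancelBialg R Z (Localization.Away f ⊗[R] Z) A).symm.trans
      (bcDiag (Localization.Away f ⊗[R] Z) E))

end Assembly

end Groth.Agent.Lib.helper15.QIso
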