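import Mathlib

/-!
# Abstract rank-one systems (helper15)

A group `Γ` with two "root subgroups" `E F : K → Γ` parametrised by a commutative ring `K`, a torus
`Tg` acting on them through a character `χ`, a cocharacter `cor` with `χ ∘ cor = (·)^2` and the
rank-one commutation rule (SGA3 XX 2.1 (F)).  Formal consequences (SGA3 XX 2.x-3.x).
-/

set_option autoImplicit false

namespace Groth.Agent.Lib.helper15.RankOneAbs

/-- an abstract rank-one system -/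
structure Sys (K : Type*) [CommRing K] (Γ : Type*) [Group Γ] (Tg : Type*) [Group Tg] where
  E : K → Γ
  F : K → Γ
  tor : Tg →* Γ
  χ : Tg →* Kˣ
  cor : Kˣ →* Tg
  E_add : ∀ a b, E (a + b) = E a * E b
  F_add : ∀ a b, F (a + b) = F a * F b
  chi_cor : ∀ u, χ (cor u) = u * u
  conjE : ∀ t a, tor t * E a * (tor t)⁻¹ = E (↑(χ t) * a)
  conjF : ∀ t b, tor t * F b * (tor t)⁻¹ = F (↑(χ t)⁻¹ * b)
  comm : ∀ (a b : K) (u : Kˣ), (u : K) = 1 + a * b →
    E a * F b = F (b * ↑u⁻¹) * tor (cor u) * E (a * ↑u⁻¹)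

namespace Sys

variable {K : Type*} [CommRing K] {Γ : Type*} [Group Γ] {Tg : Type*} [Group Tg] (D : Sys K Γ Tg)

/-- the coroot -/
def H (u : Kˣ) : Γ := D.tor (D.cor u)

lemma H_mul (u v : Kˣ) : D.H (u * v) = D.H u * D.H v := by simp [H]
lemma H_one : D.H 1 = 1 := by simp [H]
lemma H_inv (u : Kˣ) : D.H u⁻¹ = (D.H u)⁻¹ := by simp [H]

lemma E_zero : D.E 0 = 1 := by
  have h := D.E_add 0 0
  rw [add_zero] at h
  exact (mul_eq_left.1 h.symm)

lemma F_zero : D.F 0 = 1 := by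
  have h := D.F_add 0 0
  rw [add_zero] at h
  exact (mul_eq_left.1 h.symm)

lemma E_neg (a : K) : D.E (-a) = (D.E a)⁻¹ := by
  have h := D.E_add (-a) a
  rw [neg_add_cancel, E_zero] at h
  exact eq_inv_of_mul_eq_one_left h.symm

lemma F_neg (a : K) : D.F (-a) = (D.F a)⁻¹ := by
  have h := D.F_add (-a) a
  rw [neg_add_cancel, F_zero] at h
  exact eq_inv_of_mul_eq_one_left h.symm

lemma E_congr {a b : K} (h : a = b) : D.E a = D.E b := by rw [h]
lemma F_congr {a b : K} (h : a = b) : D.F a = D.F b := by rw [h]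

/-- moving a torus element to the right of `E` -/
lemma iota_E (t : Tg) (a : K) : D.tor t * D.E a = D.E (↑(D.χ t) * a) * D.tor t := by
  rw [← D.conjE t a]; group

lemma iota_F (t : Tg) (b : K) : D.tor t * D.F b = D.F (↑(D.χ t)⁻¹ * b) * D.tor t := by
  rw [← D.conjF t b]; group

/-- moving a torus element to the left of `E` -/
lemma E_iota (t : Tg) (a : K) : D.E a * D.tor t = D.tor t * D.E (↑(D.χ t)⁻¹ * a) := by
  have h := D.iota_E t (↑(D.χ t)⁻¹ * a)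
  rw [← mul_assoc, Units.mul_inv, one_mul] at h
  exact h.symm

lemma F_iota (t : Tg) (b : K) : D.F b * D.tor t = D.tor t * D.F (↑(D.χ t) * b) := by
  have h := D.iota_F t (↑(D.χ t) * b)
  rw [← mul_assoc, Units.inv_mul, one_mul] at h
  exact h.symm

/-- the commutation rule with explicit parameters -/
lemma comm' (a b a' b' : K) (u : Kˣ) (hu : (u : K) = 1 + a * b) (ha : a' * u = a) (hb : b' * u = b) :
    D.E a * D.F b = D.F b' * D.H u * D.E a' := by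
  rw [D.comm a b u hu, H]
  have e1 : b * ↑u⁻¹ = b' := by rw [← hb, mul_assoc, Units.mul_inv, mul_one]
  have e2 : a * ↑u⁻¹ = a' := by rw [← ha, mul_assoc, Units.mul_inv, mul_one]
  rw [e1, e2]

/-- the reversed commutation rule (S8488) -/
lemma rev (a b a' b' : K) (u : Kˣ) (hu : (u : K) = 1 + a * b) (ha : a' * u = a) (hb : b' * u = b) :
    D.F b * D.E a = D.E a' * (D.H u)⁻¹ * D.F b' := by
  have h := D.comm' (-a) (-b) (-a') (-b') u (by rw [hu]; ring) (by rw [← ha]; ring)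
    (by rw [← hb]; ring)
  rw [E_neg, F_neg, E_neg, F_neg] at h
  have h2 := congrArg (fun g => g⁻¹) h
  simp only [mul_inv_rev, inv_inv] at h2
  rw [h2, mul_assoc]

/-- the coroot through the root groups (S8470) -/
lemma coroot (z : Kˣ) (y₁ x₁ y₂ x₂ : K) (hy₁ : y₁ * z = 1 - z) (hx₁ : x₁ = 1) (hy₂ : y₂ = z - 1)
    (hx₂ : x₂ * z = -1) :
    D.H z = D.F y₁ * D.E x₁ * D.F y₂ * D.E x₂ := by
  have h := D.comm' x₁ y₂ (-x₂) (-y₁) z (by rw [hx₁, hy₂]; ring) (by rw [hx₁]; linear_combination -hx₂)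
    (by rw [hy₂]; linear_combination -hy₁)
  rw [mul_assoc (D.F y₁), h, E_neg, F_neg]
  group

/-- product of two elements of the big cell (S8476) -/
lemma bigCell_mul (x y x' y' y₂ x₂ : K) (t t' : Tg) (z : Kˣ) (hz : (z : K) = 1 + x * y')
    (hy₂ : (y₂ - y) * z * ↑(D.χ t) = y') (hx₂ : (x₂ - x') * z * ↑(D.χ t') = x) :
    (D.F y * D.tor t * D.E x) * (D.F y' * D.tor t' * D.E x') =
      D.F y₂ * D.tor (t * D.cor z * t') * D.E x₂ := by
  have h := D.comm' x y' ((x₂ - x') * ↑(D.χ t')) ((y₂ - y) * ↑(D.χ t)) z hz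
    (by linear_combination hx₂) (by linear_combination hy₂)
  have e1 : D.F y * D.tor t * D.E x * (D.F y' * D.tor t' * D.E x') =
      D.F y * D.tor t * (D.E x * D.F y') * D.tor t' * D.E x' := by group
  rw [e1, h, H]
  have e2 : D.F y * D.tor t * (D.F ((y₂ - y) * ↑(D.χ t)) * D.tor (D.cor z) *
      D.E ((x₂ - x') * ↑(D.χ t'))) * D.tor t' * D.E x' =
      D.F y * (D.tor t * D.F ((y₂ - y) * ↑(D.χ t))) * D.tor (D.cor z) *
      (D.E ((x₂ - x') * ↑(D.χ t')) * D.tor t') * D.E x' := by group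
  rw [e2, D.iota_F, D.E_iota]
  have e3 : (↑(D.χ t)⁻¹ : K) * ((y₂ - y) * ↑(D.χ t)) = y₂ - y := by
    rw [mul_comm (y₂ - y), ← mul_assoc, Units.inv_mul, one_mul]
  have e4 : (↑(D.χ t')⁻¹ : K) * ((x₂ - x') * ↑(D.χ t')) = x₂ - x' := by
    rw [mul_comm (x₂ - x'), ← mul_assoc, Units.inv_mul, one_mul]
  rw [e3, e4]
  have e5 : D.F y * (D.F (y₂ - y) * D.tor t) * D.tor (D.cor z) * (D.tor t' * D.E (x₂ - x')) * D.E x' =
      (D.F y * D.F (y₂ - y)) * (D.tor t * D.tor (D.cor z) * D.tor t') * (D.E (x₂ - x') * D.E x') := by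
    group
  rw [e5, ← D.F_add, ← D.E_add, ← map_mul, ← map_mul]
  rw [D.F_congr (show y + (y₂ - y) = y₂ by ring), D.E_congr (show x₂ - x' + x' = x₂ by ring)]

/-- the Weyl element `w(a) = E(a) F(-a⁻¹) E(a)` (with `ap = -a⁻¹` given by `ap * a = -1`) -/
def w (a ap : K) : Γ := D.E a * D.F ap * D.E a

/-- `w(z a) = α^∨(z) w(a)` (S8448, second part) -/
lemma w_smul (a ap b bp : K) (z : Kˣ) (ha : ap * a = -1) (hb : b = z * a) (hbp : bp * b = -1) :
    D.w b bp = D.H z * D.w a ap := by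
  -- notation: c = b = z a
  have hzi := z.mul_inv
  have hzi' := z.inv_mul
  -- `b' = (z - 1) c⁻¹ = -(z-1) bp`
  -- step 1: H z * E a = F (-b' z⁻¹) * E c * F b'
  have h1 := D.comm' b (-(z - 1) * bp) a (-(z - 1) * bp * ↑z⁻¹) z
    (by linear_combination ((z : K) - 1) * hbp) (by rw [hb]; ring)
    (by linear_combination (-(z - 1) * bp) * hzi')
  have h1' : D.H z * D.E a = (D.F (-(z - 1) * bp * ↑z⁻¹))⁻¹ * D.E b * D.F (-(z - 1) * bp) := by
    rw [mul_assoc, h1]; group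
  -- step 2 : rev for F(bp) E(c s), s = 1 - z⁻¹
  have h2 := D.rev (b * (1 - ↑z⁻¹)) bp (b * (1 - ↑z⁻¹) * z) (bp * z) z⁻¹
    (by linear_combination (-1 + (↑z⁻¹ : K)) * hbp)
    (by rw [mul_assoc, Units.mul_inv, mul_one])
    (by rw [mul_assoc, Units.mul_inv, mul_one])
  -- step 3 : rev for F(-b' z⁻¹) E(c)
  have h3 := D.rev b (-(-(z - 1) * bp * ↑z⁻¹)) (b * z) (-(-(z - 1) * bp)) z⁻¹
    (by linear_combination hzi - (((z : K) - 1) * (↑z⁻¹ : K)) * hbp)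
    (by rw [mul_assoc, Units.mul_inv, mul_one])
    (by ring)
  rw [D.F_neg] at h3
  -- assemble
  have hw : D.w a ap = D.E a * D.F ap * D.E a := rfl
  have hap : ap = bp * z := by
    linear_combination ap * hbp - bp * (z : K) * ha - ap * bp * hb
  rw [hw, ← mul_assoc, ← mul_assoc, h1']
  have e1 : (D.F (-(z - 1) * bp * ↑z⁻¹))⁻¹ * D.E b * D.F (-(z - 1) * bp) * D.F ap * D.E a =
      ((D.F (-(z - 1) * bp * ↑z⁻¹))⁻¹ * D.E b) * (D.F (-(z - 1) * bp) * D.F ap) * D.E a := by group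
  rw [e1, ← D.F_add, h3]
  have e2 : -(z - 1) * bp + ap = bp := by rw [hap]; ring
  rw [D.F_congr e2]
  -- goal: w b bp = E (b z) (H z⁻¹)⁻¹ F (..) * F bp * E a
  have e3 : D.E (b * z) * (D.H z⁻¹)⁻¹ * D.F (-(-(z - 1) * bp)) * D.F bp * D.E a =
      D.E (b * z) * (D.H z⁻¹)⁻¹ * (D.F (-(-(z - 1) * bp)) * D.F bp) * D.E a := by group
  rw [e3, ← D.F_add]
  have e4 : -(-(z - 1) * bp) + bp = bp * z := by ring
  rw [D.F_congr e4]
  -- LHS: E b (F bp E b) ; write E b = E (b s) * E a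
  have e5 : D.w b bp = D.E b * (D.F bp * D.E (b * (1 - ↑z⁻¹))) * D.E a := by
    have : D.E b = D.E (b * (1 - ↑z⁻¹)) * D.E a := by
      rw [← D.E_add]
      apply D.E_congr
      rw [hb]; linear_combination (a : K) * hzi
    calc D.E b * D.F bp * D.E b = D.E b * D.F bp * (D.E (b * (1 - ↑z⁻¹)) * D.E a) := by rw [← this]
      _ = D.E b * (D.F bp * D.E (b * (1 - ↑z⁻¹))) * D.E a := by group
  rw [e5, h2]
  have e6 : D.E b * (D.E (b * (1 - ↑z⁻¹) * z) * (D.H z⁻¹)⁻¹ * D.F (bp * z)) * D.E a =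
      (D.E b * D.E (b * (1 - ↑z⁻¹) * z)) * (D.H z⁻¹)⁻¹ * D.F (bp * z) * D.E a := by group
  rw [e6, ← D.E_add]
  have e7 : b + b * (1 - ↑z⁻¹) * z = b * z := by linear_combination (-(b : K)) * hzi'
  rw [D.E_congr e7]

lemma H_conj_E (z : Kˣ) (a : K) : D.H z * D.E a * (D.H z)⁻¹ = D.E (↑(z * z) * a) := by
  rw [H, D.conjE, D.chi_cor]

lemma H_conj_F (z : Kˣ) (b : K) : D.H z * D.F b * (D.H z)⁻¹ = D.F (↑(z * z)⁻¹ * b) := by
  rw [H, D.conjF, D.chi_cor]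

/-- conjugating the Weyl element by a torus element -/
lemma iota_conj_w (t : Tg) (a ap : K) :
    D.tor t * D.w a ap * (D.tor t)⁻¹ = D.w (↑(D.χ t) * a) (↑(D.χ t)⁻¹ * ap) := by
  have e : D.tor t * D.w a ap * (D.tor t)⁻¹ =
      (D.tor t * D.E a * (D.tor t)⁻¹) * (D.tor t * D.F ap * (D.tor t)⁻¹) * (D.tor t * D.E a * (D.tor t)⁻¹) := by
    rw [w]; group
  rw [e, D.conjE, D.conjF]
  rfl

/-- the torus acts on `w(a)` through the coroot: `i(t) w(a) i(t)⁻¹ = α^∨(α(t)) w(a)` -/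
lemma iota_conj_w' (t : Tg) (a ap : K) (ha : ap * a = -1) :
    D.tor t * D.w a ap * (D.tor t)⁻¹ = D.H (D.χ t) * D.w a ap := by
  rw [iota_conj_w]
  refine D.w_smul a ap _ _ (D.χ t) ha rfl ?_
  have h1 := (D.χ t).inv_mul
  linear_combination ha + (ap * a) * h1

/-- `w(a)` normalises the torus (S8448, first part) -/
lemma w_conj_iota (t : Tg) (a ap : K) (ha : ap * a = -1) :
    D.w a ap * D.tor t * (D.w a ap)⁻¹ = (D.H (D.χ t))⁻¹ * D.tor t := by
  have h := D.iota_conj_w' t a ap ha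
  have h2 : D.w a ap * (D.tor t)⁻¹ * (D.w a ap)⁻¹ = (D.tor t)⁻¹ * D.H (D.χ t) := by
    have : D.H (D.χ t) = D.tor t * D.w a ap * (D.tor t)⁻¹ * (D.w a ap)⁻¹ := by rw [h]; group
    rw [this]; group
  have h3 := congrArg (fun g => g⁻¹) h2
  simp only [mul_inv_rev, inv_inv] at h3
  rw [← h3]; group

/-- `w(z a) = w(a) α^∨(z)⁻¹` (S8448, second part) -/
lemma w_smul' (a ap b bp : K) (z : Kˣ) (ha : ap * a = -1) (hb : b = z * a) (hbp : bp * b = -1) :
    D.w b bp = D.w a ap * (D.H z)⁻¹ := by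
  rw [D.w_smul a ap b bp z ha hb hbp]
  have h := D.iota_conj_w' (D.cor z) a ap ha
  rw [D.chi_cor, H_mul] at h
  -- h : ι (cor z) * w * (ι (cor z))⁻¹ = H z * H z * w
  have h' : D.H z * D.w a ap * (D.H z)⁻¹ = D.H z * D.H z * D.w a ap := h
  have : D.w a ap * (D.H z)⁻¹ = D.H z * D.w a ap := by
    have e : D.w a ap * (D.H z)⁻¹ = (D.H z)⁻¹ * (D.H z * D.w a ap * (D.H z)⁻¹) := by group
    rw [e, h']; group
  rw [this]

/-- `w(a)⁻¹ = α^∨(-1) w(a)` -/
lemma w_inv (a ap : K) (ha : ap * a = -1) : (D.w a ap)⁻¹ = D.H (-1) * D.w a ap := by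
  have h := D.w_smul a ap (-a) (-ap) (-1) ha (by simp) (by linear_combination ha)
  rw [← h, w, w, E_neg, F_neg]
  group

/-- `w(a)² = α^∨(-1)` (S8449) -/
lemma w_sq (a ap : K) (ha : ap * a = -1) : D.w a ap ^ 2 = D.H (-1) := by
  have h := D.w_inv a ap ha
  have h1 : D.H (-1) * D.H (-1) = 1 := by
    rw [← H_mul]; simp [H_one]
  have h2 : D.H (-1) * D.w a ap ^ 2 = 1 := by
    rw [pow_two, ← mul_assoc, ← h, inv_mul_cancel]
  calc D.w a ap ^ 2 = (D.H (-1) * D.H (-1)) * D.w a ap ^ 2 := by rw [h1, one_mul]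
    _ = D.H (-1) * (D.H (-1) * D.w a ap ^ 2) := by group
    _ = D.H (-1) := by rw [h2, mul_one]

/-- `w(a) w(b) = α^∨(-a/b)` (S8449) -/
lemma w_mul_w (a ap b bp : K) (m : Kˣ) (ha : ap * a = -1) (hb : bp * b = -1) (hm : ↑m * b = -a) :
    D.w a ap * D.w b bp = D.H m := by
  have h := D.w_smul b bp a ap (-m) hb (by simp only [Units.val_neg]; linear_combination hm) ha
  rw [h, mul_assoc, ← pow_two, D.w_sq b bp hb, ← H_mul]
  congr 1
  simp

/-- `H(v)⁻¹ E(x) = E(v⁻² x) H(v)⁻¹` -/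
lemma Hinv_E (v : Kˣ) (x : K) : (D.H v)⁻¹ * D.E x = D.E (↑(v * v)⁻¹ * x) * (D.H v)⁻¹ := by
  have h := D.H_conj_E v⁻¹ x
  rw [H_inv, inv_inv] at h
  have e : (v⁻¹ * v⁻¹ : Kˣ) = (v * v)⁻¹ := by rw [mul_inv]
  rw [e] at h
  rw [← h]; group

/-- conjugation formula: `F(c) w(a) = w(a) E(-a² c)` for `c` and `1 + a c` invertible -/
lemma F_mul_w (a ap : K) (ha : ap * a = -1) (c v : Kˣ) (hv : (v : K) = 1 + a * c) :
    D.F c * D.w a ap = D.w a ap * D.E (-(a * a * c)) := by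
  -- `a` as a unit
  let au : Kˣ := ⟨a, -ap, by linear_combination -ha, by linear_combination -ha⟩
  have hau : (au : K) = a := rfl
  have haui : ((au⁻¹ : Kˣ) : K) = -ap := rfl
  have hci := c.mul_inv
  have hvi := v.mul_inv
  have hvi' := v.inv_mul
  -- both sides equal `E(c⁻¹) H(a c)⁻¹ F(ap (a c)⁻¹)`
  have key1 : D.w a ap * D.E (-(a * a * c)) =
      D.E (↑c⁻¹) * (D.H (au * c))⁻¹ * D.F (ap * ↑(au * c)⁻¹) := by
    have h := D.rev (a + -(a * a * c)) ap ((a + -(a * a * c)) * ↑(au * c)⁻¹) (ap * ↑(au * c)⁻¹)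
      (au * c) (by rw [Units.val_mul, hau]; linear_combination (-1 + a * c) * ha)
      (by rw [mul_assoc, Units.inv_mul, mul_one]) (by rw [mul_assoc, Units.inv_mul, mul_one])
    have e1 : D.w a ap * D.E (-(a * a * c)) = D.E a * (D.F ap * D.E (a + -(a * a * c))) := by
      rw [w, D.E_add]; group
    rw [e1, h]
    have e2 : D.E a * (D.E ((a + -(a * a * c)) * ↑(au * c)⁻¹) * (D.H (au * c))⁻¹ *
        D.F (ap * ↑(au * c)⁻¹)) =
        (D.E a * D.E ((a + -(a * a * c)) * ↑(au * c)⁻¹)) * (D.H (au * c))⁻¹ *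
        D.F (ap * ↑(au * c)⁻¹) := by group
    rw [e2, ← D.E_add]
    congr 2
    apply D.E_congr
    rw [mul_inv, Units.val_mul, haui]
    linear_combination (-(↑c⁻¹ : K) + a * c * (↑c⁻¹ : K)) * ha + (-a) * hci
  have key2 : D.F c * D.w a ap =
      D.E (↑c⁻¹) * (D.H (au * c))⁻¹ * D.F (ap * ↑(au * c)⁻¹) := by
    -- first `F c E a`
    have h1 := D.rev a c (a * ↑v⁻¹) (c * ↑v⁻¹) v hv
      (by rw [mul_assoc, Units.inv_mul, mul_one]) (by rw [mul_assoc, Units.inv_mul, mul_one])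
    -- then `F (ap v⁻¹) E a`, with unit `u₂ = a c v⁻¹`
    have h2 := D.rev a (ap * ↑v⁻¹) (a * ↑(au * c * v⁻¹)⁻¹) (ap * ↑v⁻¹ * ↑(au * c * v⁻¹)⁻¹)
      (au * c * v⁻¹)
      (by
        rw [Units.val_mul, Units.val_mul, hau]
        linear_combination (-(↑v⁻¹ : K)) * ha + hvi + (-(↑v⁻¹ : K)) * hv)
      (by rw [mul_assoc, Units.inv_mul, mul_one]) (by rw [mul_assoc, Units.inv_mul, mul_one])
    have e1 : D.F c * D.w a ap = (D.F c * D.E a) * D.F ap * D.E a := by rw [w]; group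
    rw [e1, h1]
    have e2 : D.E (a * ↑v⁻¹) * (D.H v)⁻¹ * D.F (c * ↑v⁻¹) * D.F ap * D.E a =
        D.E (a * ↑v⁻¹) * (D.H v)⁻¹ * ((D.F (c * ↑v⁻¹) * D.F ap) * D.E a) := by group
    rw [e2, ← D.F_add]
    have e3 : c * ↑v⁻¹ + ap = ap * ↑v⁻¹ := by
      linear_combination (c * (↑v⁻¹ : K)) * ha + (-ap) * hvi + (ap * (↑v⁻¹ : K)) * hv
    rw [D.F_congr e3, h2]
    have e4 : D.E (a * ↑v⁻¹) * (D.H v)⁻¹ * (D.E (a * ↑(au * c * v⁻¹)⁻¹) * (D.H (au * c * v⁻¹))⁻¹ *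
        D.F (ap * ↑v⁻¹ * ↑(au * c * v⁻¹)⁻¹)) =
        D.E (a * ↑v⁻¹) * ((D.H v)⁻¹ * D.E (a * ↑(au * c * v⁻¹)⁻¹)) * (D.H (au * c * v⁻¹))⁻¹ *
        D.F (ap * ↑v⁻¹ * ↑(au * c * v⁻¹)⁻¹) := by group
    rw [e4, D.Hinv_E]
    have e5 : D.E (a * ↑v⁻¹) * (D.E (↑(v * v)⁻¹ * (a * ↑(au * c * v⁻¹)⁻¹)) * (D.H v)⁻¹) *
        (D.H (au * c * v⁻¹))⁻¹ * D.F (ap * ↑v⁻¹ * ↑(au * c * v⁻¹)⁻¹) =
        (D.E (a * ↑v⁻¹) * D.E (↑(v * v)⁻¹ * (a * ↑(au * c * v⁻¹)⁻¹))) *
        ((D.H (au * c * v⁻¹)) * D.H v)⁻¹ * D.F (ap * ↑v⁻¹ * ↑(au * c * v⁻¹)⁻¹) := by group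
    rw [e5, ← D.E_add, ← D.H_mul]
    have e6 : au * c * v⁻¹ * v = au * c := by rw [inv_mul_cancel_right]
    rw [e6]
    congr 1
    · congr 1
      apply D.E_congr
      simp only [mul_inv, inv_inv, Units.val_mul, haui]
      linear_combination (-((↑c⁻¹ : K) * v * (↑v⁻¹ : K) * (↑v⁻¹ : K))) * ha + (-(a * (↑v⁻¹ : K))) * hci +
        ((↑c⁻¹ : K) + (↑c⁻¹ : K) * (↑v⁻¹ : K)) * hvi + (-((↑c⁻¹ : K) * (↑v⁻¹ : K))) * hv
    · apply D.F_congr
      simp only [mul_inv, inv_inv, Units.val_mul, haui]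
      linear_combination (-(ap * ap * (↑c⁻¹ : K))) * hvi
  rw [key1, key2]

/-- `w(a) E(a) w(a)⁻¹ = F(-a⁻¹)` provided there is a unit `u` with `1 + u` a unit (S8475) -/
lemma w_conj_E_of_units (a ap : K) (ha : ap * a = -1) (u u1 : Kˣ) (hu1 : (u1 : K) = 1 + u) :
    D.w a ap * D.E a * (D.w a ap)⁻¹ = D.F ap := by
  let aui : Kˣ := ⟨-ap, a, by linear_combination -ha, by linear_combination -ha⟩
  have haui : (aui : K) = -ap := rfl
  have h1 := D.F_mul_w a ap ha (u * aui) u1 (by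
    rw [Units.val_mul, haui, hu1]; linear_combination (u : K) * ha)
  have h2 := D.F_mul_w a ap ha (-u1 * aui) (-u) (by
    rw [Units.val_mul, haui, Units.val_neg, Units.val_neg, hu1]; linear_combination (-(1 + (u : K))) * ha)
  have e : D.F ap = D.F ↑(u * aui) * D.F ↑(-u1 * aui) := by
    rw [← D.F_add]
    apply D.F_congr
    rw [Units.val_mul, Units.val_mul, haui, Units.val_neg, hu1]; ring
  have h3 : D.F ap * D.w a ap = D.w a ap * D.E a := by
    rw [e, mul_assoc, h2, ← mul_assoc, h1, mul_assoc, ← D.E_add]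
    congr 1
    apply D.E_congr
    rw [Units.val_mul, Units.val_mul, haui, Units.val_neg, hu1]
    linear_combination (-(a : K)) * ha
  rw [← h3]; group

/-- the braid relation from the conjugation formula -/
lemma braid_of_conj (a ap : K) (h : D.w a ap * D.E a * (D.w a ap)⁻¹ = D.F ap) :
    D.E a * D.F ap * D.E a = D.F ap * D.E a * D.F ap := by
  have h1 : D.w a ap * D.E a = D.F ap * D.w a ap := by rw [← h]; group
  rw [w] at h1
  have h2 : D.E a * D.F ap * D.E a * D.E a * (D.E a)⁻¹ = D.F ap * (D.E a * D.F ap * D.E a) * (D.E a)⁻¹ := by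
    rw [h1]
  have e1 : D.E a * D.F ap * D.E a * D.E a * (D.E a)⁻¹ = D.E a * D.F ap * D.E a := by group
  have e2 : D.F ap * (D.E a * D.F ap * D.E a) * (D.E a)⁻¹ = D.F ap * D.E a * D.F ap := by group
  rw [e1, e2] at h2
  exact h2

/-- `(w(a) E(a))³ = 1` (S8475) -/
lemma cube (a ap : K) (ha : ap * a = -1) (h : D.w a ap * D.E a * (D.w a ap)⁻¹ = D.F ap) :
    (D.w a ap * D.E a) ^ 3 = 1 := by
  have h1 : D.w a ap * D.E a = D.F ap * D.w a ap := by rw [← h]; group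
  have hsq := D.w_sq a ap ha
  have hc : D.H (-1) * D.E a = D.E a * D.H (-1) := by
    have := D.H_conj_E (-1) a
    have e : ((-1 * -1 : Kˣ) : K) * a = a := by simp
    rw [e] at this
    calc D.H (-1) * D.E a = (D.H (-1) * D.E a * (D.H (-1))⁻¹) * D.H (-1) := by group
      _ = D.E a * D.H (-1) := by rw [this]
  have hH : D.H (-1) * D.H (-1) = 1 := by rw [← H_mul]; simp [H_one]
  calc (D.w a ap * D.E a) ^ 3
      = (D.w a ap * D.E a) * (D.w a ap * D.E a) * (D.w a ap * D.E a) := by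
        rw [pow_succ, pow_two]
    _ = (D.w a ap * D.E a) * (D.F ap * D.w a ap) * (D.w a ap * D.E a) := by rw [← h1]
    _ = D.w a ap * (D.E a * D.F ap) * (D.w a ap ^ 2) * D.E a := by rw [pow_two]; group
    _ = D.w a ap * (D.E a * D.F ap) * (D.H (-1) * D.E a) := by rw [hsq]; group
    _ = D.w a ap * (D.E a * D.F ap) * (D.E a * D.H (-1)) := by rw [hc]
    _ = D.w a ap * (D.E a * D.F ap * D.E a) * D.H (-1) := by group
    _ = D.w a ap ^ 2 * D.H (-1) := by rw [pow_two]; rfl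
    _ = 1 := by rw [hsq, hH]

end Sys

end Groth.Agent.Lib.helper15.RankOneAbs
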