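import Mathlib
import Groth.Prelude.Def_Red2
import Groth.Agent.Lib.Helper15.GaGm
import Groth.Agent.Lib.Helper15.RankOneAbs

/-!
# From the scheme-theoretic rank-one hypotheses (SGA3 XX) to an abstract rank-one system (helper15)
-/

set_option autoImplicit false

namespace Groth.Agent.Lib.helper15.RankOne

open CategoryTheory MonoidalCategory CartesianMonoidalCategory MonObj GrpObj AlgebraicGeometry Limits
open Groth.Agent.Lib.helper15.GaGm Groth.Agent.Lib.helper15.RankOneAbs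

universe u

variable {S : Scheme.{u}}

/-- the point of `𝔾_a` with a given function -/
noncomputable def gaPt {X : Over S} (a : Γ(X.left, ⊤)) : X ⟶ Red.Ga S :=
  Classical.choose (exists_gaFn_eq a)

@[simp] lemma gaFn_gaPt {X : Over S} (a : Γ(X.left, ⊤)) : Red.gaFn (gaPt a) = a :=
  Classical.choose_spec (exists_gaFn_eq a)

lemma gaPt_eq {X : Over S} (x : X ⟶ Red.Ga S) (a : Γ(X.left, ⊤)) (h : Red.gaFn x = a) :
    gaPt a = x :=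
  gaFn_injective (by rw [gaFn_gaPt, h])

lemma gaPt_gaFn {X : Over S} (x : X ⟶ Red.Ga S) : gaPt (Red.gaFn x) = x := gaPt_eq x _ rfl

lemma gaPt_add {X : Over S} (a b : Γ(X.left, ⊤)) : gaPt (a + b) = gaPt a * gaPt b :=
  gaPt_eq _ _ (by rw [gaFn_mul, gaFn_gaPt, gaFn_gaPt])

/-- the point of `𝔾_m` with a given invertible function -/
noncomputable def gmPt {X : Over S} (u : Γ(X.left, ⊤)ˣ) : X ⟶ Red.Gm S :=
  Classical.choose (exists_gmFn_eq (u : Γ(X.left, ⊤)) u.isUnit)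

@[simp] lemma gmFn_gmPt {X : Over S} (u : Γ(X.left, ⊤)ˣ) : Red.gmFn (gmPt u) = u :=
  Classical.choose_spec (exists_gmFn_eq (u : Γ(X.left, ⊤)) u.isUnit)

lemma gmPt_eq {X : Over S} (t : X ⟶ Red.Gm S) (u : Γ(X.left, ⊤)ˣ) (h : Red.gmFn t = u) :
    gmPt u = t :=
  gmFn_injective (by rw [gmFn_gmPt, h])

lemma gmPt_mul {X : Over S} (u v : Γ(X.left, ⊤)ˣ) : gmPt (u * v) = gmPt u * gmPt v :=
  gmPt_eq _ _ (by rw [gmFn_mul, gmFn_gmPt, gmFn_gmPt, Units.val_mul])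

lemma gmPt_one {X : Over S} : gmPt (1 : Γ(X.left, ⊤)ˣ) = (1 : X ⟶ Red.Gm S) :=
  gmPt_eq _ _ (by rw [gmFn_one, Units.val_one])

/-- the unit of a point of `𝔾_m` -/
noncomputable def gmUnit {X : Over S} (t : X ⟶ Red.Gm S) : Γ(X.left, ⊤)ˣ := (isUnit_gmFn t).unit

@[simp] lemma val_gmUnit {X : Over S} (t : X ⟶ Red.Gm S) : (gmUnit t : Γ(X.left, ⊤)) = Red.gmFn t :=
  rfl

lemma gmPt_gmUnit {X : Over S} (t : X ⟶ Red.Gm S) : gmPt (gmUnit t) = t := gmPt_eq t _ rfl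

section Sys

/-- the abstract rank-one system on `X`-points -/
noncomputable def sys {G T : Over S} [GrpObj G] [GrpObj T] (i : T ⟶ G) [IsMonHom i]
    (α : T ⟶ Red.Gm S) [IsMonHom α] (pp pm : Red.Ga S ⟶ G) [IsMonHom pp] [IsMonHom pm]
    (hpp : ∀ (X : Over S) (t : X ⟶ T) (x : X ⟶ Red.Ga S), ∃ x' : X ⟶ Red.Ga S,
      x' ≫ pp = (t ≫ i) * (x ≫ pp) * (t ≫ i)⁻¹ ∧ Red.gaFn x' = Red.gmFn (t ≫ α) * Red.gaFn x)
    (hpm : ∀ (X : Over S) (t : X ⟶ T) (y : X ⟶ Red.Ga S), ∃ y' : X ⟶ Red.Ga S,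
      y' ≫ pm = (t ≫ i) * (y ≫ pm) * (t ≫ i)⁻¹ ∧ Red.gaFn y' * Red.gmFn (t ≫ α) = Red.gaFn y)
    (av : Red.Gm S ⟶ T) [IsMonHom av] (h2 : av ≫ α = (𝟙 (Red.Gm S)) ^ 2)
    (hF : ∀ (X : Over S) (x y : X ⟶ Red.Ga S), IsUnit (1 + Red.gaFn x * Red.gaFn y) →
      ∃ (x' y' : X ⟶ Red.Ga S) (z : X ⟶ Red.Gm S), Red.gmFn z = 1 + Red.gaFn x * Red.gaFn y ∧
        Red.gaFn x' * Red.gmFn z = Red.gaFn x ∧ Red.gaFn y' * Red.gmFn z = Red.gaFn y ∧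
        (x ≫ pp) * (y ≫ pm) = (y' ≫ pm) * (z ≫ av ≫ i) * (x' ≫ pp))
    (X : Over S) : Sys Γ(X.left, ⊤) (X ⟶ G) (X ⟶ T) where
  E a := gaPt a ≫ pp
  F b := gaPt b ≫ pm
  tor := IsMonHom.monoidHom i X
  χ :=
    { toFun := fun t => gmUnit (t ≫ α)
      map_one' := by
        apply Units.ext
        have e : (1 : X ⟶ T) ≫ α = 1 := MonObj.one_comp α
        rw [val_gmUnit, e, gmFn_one, Units.val_one]
      map_mul' := fun t t' => by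
        apply Units.ext
        have e : (t * t') ≫ α = (t ≫ α) * (t' ≫ α) := MonObj.mul_comp t t' α
        rw [val_gmUnit, e, gmFn_mul, Units.val_mul, val_gmUnit, val_gmUnit] }
  cor :=
    { toFun := fun u => gmPt u ≫ av
      map_one' := by
        have e : (1 : X ⟶ Red.Gm S) ≫ av = 1 := MonObj.one_comp av
        rw [gmPt_one, e]
      map_mul' := fun u v => by
        have e : (gmPt u * gmPt v) ≫ av = (gmPt u ≫ av) * (gmPt v ≫ av) := MonObj.mul_comp _ _ av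
        rw [gmPt_mul, e] }
  E_add a b := by
    have e : (gaPt a * gaPt b) ≫ pp = (gaPt a ≫ pp) * (gaPt b ≫ pp) := MonObj.mul_comp _ _ pp
    rw [gaPt_add, e]
  F_add a b := by
    have e : (gaPt a * gaPt b) ≫ pm = (gaPt a ≫ pm) * (gaPt b ≫ pm) := MonObj.mul_comp _ _ pm
    rw [gaPt_add, e]
  chi_cor u := by
    apply Units.ext
    show Red.gmFn ((gmPt u ≫ av) ≫ α) = ↑(u * u)
    rw [Category.assoc, h2, MonObj.comp_pow, Category.comp_id, gmFn_pow, gmFn_gmPt, pow_two,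
      Units.val_mul]
  conjE t a := by
    obtain ⟨x', h1, h3⟩ := hpp X t (gaPt a)
    rw [gaFn_gaPt] at h3
    show (t ≫ i) * (gaPt a ≫ pp) * (t ≫ i)⁻¹ = gaPt (Red.gmFn (t ≫ α) * a) ≫ pp
    rw [← h1, gaPt_eq x' _ h3]
  conjF t b := by
    obtain ⟨y', h1, h3⟩ := hpm X t (gaPt b)
    rw [gaFn_gaPt] at h3
    show (t ≫ i) * (gaPt b ≫ pm) * (t ≫ i)⁻¹ =
      gaPt ((↑(gmUnit (t ≫ α))⁻¹ : Γ(X.left, ⊤)) * b) ≫ pm
    rw [← h1]
    congr 1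
    symm
    apply gaPt_eq
    rw [← h3, mul_comm (Red.gaFn y'), ← _root_.mul_assoc]
    have : (↑(gmUnit (t ≫ α))⁻¹ : Γ(X.left, ⊤)) * Red.gmFn (t ≫ α) = 1 := (gmUnit (t ≫ α)).inv_mul
    rw [this, _root_.one_mul]
  comm a b u hu := by
    obtain ⟨x', y', z, hz, hx', hy', h⟩ := hF X (gaPt a) (gaPt b) (by
      rw [gaFn_gaPt, gaFn_gaPt, ← hu]; exact u.isUnit)
    simp only [gaFn_gaPt] at hz hx' hy'
    have ez : gmPt u = z := gmPt_eq z u (by rw [hz, hu])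
    have ex : gaPt (a * (↑u⁻¹ : Γ(X.left, ⊤))) = x' := by
      apply gaPt_eq
      rw [← hx', hz, ← hu, _root_.mul_assoc, Units.mul_inv, _root_.mul_one]
    have ey : gaPt (b * (↑u⁻¹ : Γ(X.left, ⊤))) = y' := by
      apply gaPt_eq
      rw [← hy', hz, ← hu, _root_.mul_assoc, Units.mul_inv, _root_.mul_one]
    show (gaPt a ≫ pp) * (gaPt b ≫ pm) =
      (gaPt (b * (↑u⁻¹ : Γ(X.left, ⊤))) ≫ pm) * ((gmPt u ≫ av) ≫ i) *
        (gaPt (a * (↑u⁻¹ : Γ(X.left, ⊤))) ≫ pp)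
    rw [h, ez, ex, ey, Category.assoc]

section Lemmas

variable {G T : Over S} [GrpObj G] [GrpObj T] (i : T ⟶ G) [IsMonHom i]
    (α : T ⟶ Red.Gm S) [IsMonHom α] (pp pm : Red.Ga S ⟶ G) [IsMonHom pp] [IsMonHom pm]
    (hpp : ∀ (X : Over S) (t : X ⟶ T) (x : X ⟶ Red.Ga S), ∃ x' : X ⟶ Red.Ga S,
      x' ≫ pp = (t ≫ i) * (x ≫ pp) * (t ≫ i)⁻¹ ∧ Red.gaFn x' = Red.gmFn (t ≫ α) * Red.gaFn x)
    (hpm : ∀ (X : Over S) (t : X ⟶ T) (y : X ⟶ Red.Ga S), ∃ y' : X ⟶ Red.Ga S,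
      y' ≫ pm = (t ≫ i) * (y ≫ pm) * (t ≫ i)⁻¹ ∧ Red.gaFn y' * Red.gmFn (t ≫ α) = Red.gaFn y)
    (av : Red.Gm S ⟶ T) [IsMonHom av] (h2 : av ≫ α = (𝟙 (Red.Gm S)) ^ 2)
    (hF : ∀ (X : Over S) (x y : X ⟶ Red.Ga S), IsUnit (1 + Red.gaFn x * Red.gaFn y) →
      ∃ (x' y' : X ⟶ Red.Ga S) (z : X ⟶ Red.Gm S), Red.gmFn z = 1 + Red.gaFn x * Red.gaFn y ∧
        Red.gaFn x' * Red.gmFn z = Red.gaFn x ∧ Red.gaFn y' * Red.gmFn z = Red.gaFn y ∧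
        (x ≫ pp) * (y ≫ pm) = (y' ≫ pm) * (z ≫ av ≫ i) * (x' ≫ pp))
    (X : Over S)

lemma sys_E (x : X ⟶ Red.Ga S) :
    x ≫ pp = (sys i α pp pm hpp hpm av h2 hF X).E (Red.gaFn x) := by
  show x ≫ pp = gaPt (Red.gaFn x) ≫ pp
  rw [gaPt_gaFn]

lemma sys_F (y : X ⟶ Red.Ga S) :
    y ≫ pm = (sys i α pp pm hpp hpm av h2 hF X).F (Red.gaFn y) := by
  show y ≫ pm = gaPt (Red.gaFn y) ≫ pm
  rw [gaPt_gaFn]

lemma sys_H (z : X ⟶ Red.Gm S) :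
    z ≫ av ≫ i = (sys i α pp pm hpp hpm av h2 hF X).H (gmUnit z) := by
  show z ≫ av ≫ i = (gmPt (gmUnit z) ≫ av) ≫ i
  rw [gmPt_gmUnit, Category.assoc]

lemma sys_tor (t : X ⟶ T) :
    t ≫ i = (sys i α pp pm hpp hpm av h2 hF X).tor t := rfl

lemma sys_chi (t : X ⟶ T) :
    (((sys i α pp pm hpp hpm av h2 hF X).χ t : Γ(X.left, ⊤)ˣ) : Γ(X.left, ⊤)) = Red.gmFn (t ≫ α) :=
  rfl

lemma sys_chi' (t : X ⟶ T) :
    (sys i α pp pm hpp hpm av h2 hF X).χ t = gmUnit (t ≫ α) := rfl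

lemma sys_cor (z : X ⟶ Red.Gm S) :
    z ≫ av = (sys i α pp pm hpp hpm av h2 hF X).cor (gmUnit z) := by
  show z ≫ av = gmPt (gmUnit z) ≫ av
  rw [gmPt_gmUnit]

end Lemmas

end Sys

end Groth.Agent.Lib.helper15.RankOne
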