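import Mathlib
import Groth.Prelude.Def_Red2
import Groth.Agent.Lib.Helper15.RankOne

/-!
# A flat cover with a unit `u` such that `1 + u` is a unit (helper15)

Every `X : Over S` has an epimorphism `π : X' ⟶ X` in `Over S` such that `Γ(X')` contains a unit `u`
with `1 + u` a unit (adjoin a root of `T² + T + 1`).
-/

set_option autoImplicit false

namespace Groth.Agent.Lib.helper15.RankOneCover

open CategoryTheory MonoidalCategory CartesianMonoidalCategory MonObj GrpObj AlgebraicGeometry Limits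
open Polynomial

universe u

/-- `T² + T + 1` -/
noncomputable def f0 : Polynomial (ULift.{u} ℤ) := X ^ 2 + X + 1

lemma f0_monic : (f0.{u}).Monic := by
  unfold f0
  monicity!

lemma f0_natDegree : (f0.{u}).natDegree = 2 := by
  unfold f0
  compute_degree!

instance : IsDomain (ULift.{u} ℤ) := MulEquiv.isDomain ℤ (ULift.ringEquiv : ULift.{u} ℤ ≃+* ℤ).toMulEquiv

/-- `ℤ[T]/(T² + T + 1)` -/
noncomputable abbrev R₀ : Type u := AdjoinRoot (f0.{u})

instance : Module.Free (ULift.{u} ℤ) R₀.{u} := f0_monic.free_adjoinRoot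

instance : Nontrivial R₀.{u} := AdjoinRoot.nontrivial _ (by
  rw [Polynomial.degree_eq_natDegree f0_monic.ne_zero, f0_natDegree]; norm_num)

lemma root_mul : (AdjoinRoot.root f0.{u}) * (1 + AdjoinRoot.root f0.{u}) = -1 := by
  have h : AdjoinRoot.mk f0.{u} f0 = 0 := AdjoinRoot.mk_self
  have h' : AdjoinRoot.mk f0.{u} (X ^ 2 + X + 1) = 0 := h
  simp only [map_add, map_pow, AdjoinRoot.mk_X, map_one] at h'
  linear_combination h'

variable {S : Scheme.{u}}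

lemma exists_cover (X : Over S) : ∃ (X' : Over S) (π : X' ⟶ X) (v v1 : Γ(X'.left, ⊤)ˣ),
    Epi π ∧ (v1 : Γ(X'.left, ⊤)) = 1 + v := by
  let gX : X.left ⟶ Spec (CommRingCat.of (ULift.{u} ℤ)) :=
    Limits.IsTerminal.from specULiftZIsTerminal X.left
  let φ : CommRingCat.of (ULift.{u} ℤ) ⟶ CommRingCat.of R₀.{u} :=
    CommRingCat.ofHom (algebraMap (ULift.{u} ℤ) R₀.{u})
  have hff : φ.hom.FaithfullyFlat := by
    have hM : Module.FaithfullyFlat (ULift.{u} ℤ) R₀.{u} := inferInstance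
    exact (RingHom.faithfullyFlat_algebraMap_iff (R := ULift.{u} ℤ) (S := R₀.{u})).2 hM
  obtain ⟨hflat, hsurj⟩ := (flat_and_surjective_SpecMap_iff φ).2 hff
  let π₀ : pullback gX (Spec.map φ) ⟶ X.left := pullback.fst gX (Spec.map φ)
  have : Flat π₀ := inferInstance
  have : Surjective π₀ := inferInstance
  have hepi : Epi π₀ := Flat.epi_of_flat_of_surjective π₀
  let X' : Over S := Over.mk (π₀ ≫ X.hom)
  let π : X' ⟶ X := Over.homMk π₀ rfl
  have hπ : Epi π := by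
    have : Epi π.left := hepi
    exact Over.epi_of_epi_left π
  -- the function
  let ψ : R₀.{u} →+* Γ(X'.left, ⊤) :=
    ((Scheme.ΓSpecIso (CommRingCat.of R₀.{u})).inv ≫ (pullback.snd gX (Spec.map φ)).appTop).hom
  let r : R₀.{u} := AdjoinRoot.root f0
  have h1 : ψ r * (1 + ψ r) = -1 := by
    rw [← map_one ψ, ← map_add, ← map_mul, root_mul, map_neg, map_one]
  have h2 : (1 + ψ r) * (-(ψ r)) = 1 := by linear_combination -h1
  refine ⟨X', π, ⟨ψ r, -(1 + ψ r), by linear_combination -h1, by linear_combination -h1⟩,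
    ⟨1 + ψ r, -(ψ r), h2, by linear_combination h2⟩, hπ, rfl⟩

section Braid

open Groth.Agent.Lib.helper15.GaGm Groth.Agent.Lib.helper15.RankOne

variable {G T : Over S} [GrpObj G] [GrpObj T] (i : T ⟶ G) [IsMonHom i]
    (α : T ⟶ Red.Gm S) [IsMonHom α] (pp pm : Red.Ga S ⟶ G) [IsMonHom pp] [IsMonHom pm]
    (hpp : ∀ (X : Over S) (t : X ⟶ T) (x : X ⟶ Red.Ga S), ∃ x' : X ⟶ Red.Ga S,
      x' ≫ pp = (t ≫ i) * (x ≫ pp) * (t ≫ i)⁻¹ ∧ Red.gaFn x' = Red.gmFn (t ≫ α) * Red.gaFn x)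
    (hpm : ∀ (X : Over S) (t : X ⟶ T) (y : X ⟶ Red.Ga S), ∃ y' : X ⟶ Red.Ga S,
      y' ≫ pm = (t ≫ i) * (y ≫ pm) * (t ≫ i)⁻¹ ∧ Red.gaFn y' * Red.gmFn (t ≫ α) = Red.gaFn y)
    (av : Red.Gm S ⟶ T) [IsMonHom av] (h2 : av ≫ α = (𝟙 (Red.Gm S)) ^ 2)
    (hF : ∀ (X : Over S) (x y : X ⟶ Red.Ga S), IsUnit (1 + Red.gaFn x * Red.gaFn y) →
      ∃ (x' y' : X ⟶ Red.Ga S) (z : X ⟶ Red.Gm S), Red.gmFn z = 1 + Red.gaFn x * Red.gaFn y ∧
        Red.gaFn x' * Red.gmFn z = Red.gaFn x ∧ Red.gaFn y' * Red.gmFn z = Red.gaFn y ∧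
        (x ≫ pp) * (y ≫ pm) = (y' ≫ pm) * (z ≫ av ≫ i) * (x' ≫ pp))

include hpp hpm h2 hF in
/-- `w(x) p₊(x) w(x)⁻¹ = p₋(-x⁻¹)` (SGA3 XX 3.1), by passing to a flat cover where `u`, `1 + u`
are units. -/
theorem w_conj_E (X : Over S) (x x' : X ⟶ Red.Ga S) (hx : Red.gaFn x' * Red.gaFn x = -1) :
    ((x ≫ pp) * (x' ≫ pm) * (x ≫ pp)) * (x ≫ pp) * ((x ≫ pp) * (x' ≫ pm) * (x ≫ pp))⁻¹ =
      x' ≫ pm := by
  obtain ⟨X', π, v, v1, hπ, hv⟩ := exists_cover X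
  rw [← cancel_epi π]
  simp only [MonObj.comp_mul, GrpObj.comp_inv, ← Category.assoc]
  have hx' : Red.gaFn (π ≫ x') * Red.gaFn (π ≫ x) = -1 := by
    rw [gaFn_comp, gaFn_comp, ← map_mul, hx, map_neg, map_one]
  have h := (sys i α pp pm hpp hpm av h2 hF X').w_conj_E_of_units
    (Red.gaFn (π ≫ x)) (Red.gaFn (π ≫ x')) hx' v v1 hv
  rw [sys_E i α pp pm hpp hpm av h2 hF X' (π ≫ x), sys_F i α pp pm hpp hpm av h2 hF X' (π ≫ x')]
  exact h

end Braid

end Groth.Agent.Lib.helper15.RankOneCover
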