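import Mathlib
import Groth.Agent.Lib.Helper17.FibreStalk2
import Groth.Agent.Lib.Helper15.MaxPtLen
import Groth.Agent.Lib.Helper15.TensLen1

/-!
# The fibre ring over a maximal point and the reduced subscheme (helper15)

For a cartesian square `Z'' = X'' ×_{X'} R` with `R ⟶ X'` a closed immersion, `R` reduced, and a point
`z''` of `Z''` over a maximal point `z'` of `R`: the local ring of `Z''` at `z''` is the fibre ring
`O_{X'',x''}/m_{x'} O_{X'',x''}` of `X'' ⟶ X'` at the image `x''` of `z''`.
-/

set_option autoImplicit false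
set_option linter.style.haveILetI false
universe u
open CategoryTheory CategoryTheory.Limits AlgebraicGeometry IsLocalRing TensorProduct

namespace Groth.Agent.Lib.helper15.RedFibre

open Groth.Agent.Lib.helper17.FibreStalk Groth.Agent.Lib.helper17.FibreStalk2
  Groth.Agent.Lib.helper15.MaxPtLen Groth.Agent.Lib.helper15.TensLen

/-- (as in helper9's `PISmooth3`) the closed subscheme of a radical ideal sheaf is reduced. -/
theorem isReduced_radical_subscheme {X : Scheme.{u}} (I : X.IdealSheafData) :
    AlgebraicGeometry.IsReduced I.radical.subscheme := by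
  rw [IsReduced.iff_of_openCover (X := I.radical.subscheme) I.radical.subschemeCover.openCover]
  intro (U : X.affineOpens)
  change AlgebraicGeometry.IsReduced (Spec (.of (Γ(X, U.1) ⧸ I.radical.ideal U)))
  rw [affine_isReduced_iff, ← Ideal.isRadical_iff_quotient_reduced]
  change ((I.ideal U).radical).IsRadical
  exact Ideal.radical_isRadical _

theorem isReduced_nilradical_subscheme (X : Scheme.{u}) :
    AlgebraicGeometry.IsReduced X.nilradical.subscheme :=
  isReduced_radical_subscheme ⊥

/-- `O_{X,x}/m_y O_{X,x} ≃ O_{Z,z}` from a pullback square presenting the fibre (as in helper17's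
`FibreChart`). -/
noncomputable def fibRingEquivOfIsPullback {X Y Z : Scheme.{u}} (f : X ⟶ Y) (y : Y) (ι : Z ⟶ X)
    (π : Z ⟶ Spec (Y.residueField y)) (h : IsPullback ι π f (Y.fromSpecResidueField y)) (z : Z) :
    FibRing f (ι z) ≃+* Z.presheaf.stalk z :=
  haveI : IsPreimmersion ι :=
    MorphismProperty.of_isPullback (P := @IsPreimmersion) h.flip inferInstance
  (Ideal.quotEquivOfEq (ker_stalkMap_of_isPullback f y ι π h z).symm).trans
    (RingHom.quotientKerEquivOfSurjective (ι.stalkMap_surjective z))

/-- The same for a `K`-point inducing an isomorphism on residue fields. -/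
noncomputable def fibRingEquivOfIsPullbackField {X Y Z : Scheme.{u}} (f : X ⟶ Y) (K : Type u)
    [Field K] (g : Spec (CommRingCat.of K) ⟶ Y) (ι : Z ⟶ X) (π : Z ⟶ Spec (CommRingCat.of K))
    (h : IsPullback ι π f g)
    (hsurj : Function.Surjective (Scheme.stalkClosedPointTo g).hom) [IsPreimmersion ι] (z : Z) :
    FibRing f (ι z) ≃+* Z.presheaf.stalk z :=
  (Ideal.quotEquivOfEq (ker_stalkMap_of_isPullback_field f K g ι π h hsurj z).symm).trans
    (RingHom.quotientKerEquivOfSurjective (ι.stalkMap_surjective z))

theorem surjective_stalkClosedPointTo_fromSpecResidueField {X : Scheme.{u}} (x : X) :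
    Function.Surjective (Scheme.stalkClosedPointTo (X.fromSpecResidueField x)).hom := by
  intro c
  obtain ⟨s, rfl⟩ := X.residue_surjective x c
  obtain ⟨U, hxU, t, rfl⟩ := X.presheaf.exists_germ_eq s
  have hU : (X.fromSpecResidueField x) (closedPoint (X.residueField x)) ∈ U :=
    (X.fromSpecResidueField_apply x _).symm ▸ hxU
  haveI : IsLocalHom (X.residue x).hom :=
    inferInstanceAs (IsLocalHom (IsLocalRing.residue (X.presheaf.stalk x)))
  refine ⟨X.presheaf.germ U _ hU t, ?_⟩
  have h := Scheme.germ_stalkClosedPointTo_Spec_fromSpecStalk (X := X) (x := x) (X.residue x) U hU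
  exact congrArg (fun m => m.hom t) h

/-- For a cartesian square `Z'' = X'' ×_{X'} R` with `R ⟶ X'` a closed immersion and `R` reduced, at a
point `z''` over a maximal point of `R` the local ring of `Z''` is the fibre ring of `X'' ⟶ X'`. -/
theorem nonempty_fibRing_equiv_stalk {X' X'' R Z'' : Scheme.{u}} (π : X'' ⟶ X') (ι : R ⟶ X')
    [IsClosedImmersion ι] [AlgebraicGeometry.IsReduced R] (j : Z'' ⟶ X'') (πZ : Z'' ⟶ R)
    (hsq : IsPullback j πZ π ι) (z'' : Z'') (hz' : ∀ y : R, y ⤳ πZ z'' → y = πZ z'') :
    Nonempty (FibRing π (j z'') ≃+* Z''.presheaf.stalk z'') := by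
  have h1 : IsPullback (pullback.fst πZ (R.fromSpecResidueField (πZ z'')))
      (pullback.snd πZ (R.fromSpecResidueField (πZ z''))) πZ (R.fromSpecResidueField (πZ z'')) :=
    IsPullback.of_hasPullback _ _
  have h2 := h1.paste_horiz hsq
  obtain ⟨w, hw1, -⟩ := Scheme.Pullback.exists_preimage_pullback
    (f := πZ) (g := R.fromSpecResidueField (πZ z'')) z''
    (closedPoint (R.residueField (πZ z''))) (R.fromSpecResidueField_apply (πZ z'') _).symm
  have e1 := fibRingEquivOfIsPullback πZ (πZ z'') _ _ h1 w
  haveI : IsClosedImmersion j :=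
    MorphismProperty.of_isPullback (P := @IsClosedImmersion) hsq.flip inferInstance
  haveI : IsPreimmersion (pullback.fst πZ (R.fromSpecResidueField (πZ z'')) ≫ j) := inferInstance
  have hsurj : Function.Surjective
      (Scheme.stalkClosedPointTo (R.fromSpecResidueField (πZ z'') ≫ ι)).hom := by
    rw [Scheme.stalkClosedPointTo_comp]
    exact (surjective_stalkClosedPointTo_fromSpecResidueField (πZ z'')).comp
      (ι.stalkMap_surjective _)
  have e2 := fibRingEquivOfIsPullbackField π (R.residueField (πZ z''))
    (R.fromSpecResidueField (πZ z'') ≫ ι) _ _ h2 hsurj w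
  -- the local ring of `R` at the maximal point is a field
  haveI := krullDimLE_zero_stalk (πZ z'') hz'
  have hfield : IsField (R.presheaf.stalk (πZ z'')) := Ring.KrullDimLE.isField_of_isReduced
  have hbot : maximalIdeal (R.presheaf.stalk (πZ z'')) = ⊥ :=
    IsLocalRing.isField_iff_maximalIdeal_eq.mp hfield
  obtain ⟨e3⟩ := fibRing_congr πZ hw1
  have e4 : FibRing πZ z'' ≃+* Z''.presheaf.stalk z'' :=
    (Ideal.quotEquivOfEq (by rw [hbot, Ideal.map_bot])).trans (RingEquiv.quotientBot _)
  obtain ⟨e5⟩ := fibRing_congr π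
    (show (pullback.fst πZ (R.fromSpecResidueField (πZ z'')) ≫ j) w = j z'' by
      rw [Scheme.Hom.comp_apply, hw1])
  exact ⟨e5.symm.trans (e2.trans (e1.symm.trans (e3.trans e4)))⟩

end Groth.Agent.Lib.helper15.RedFibre
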