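import Mathlib

/-!
# Counting pairs (quadratic, degree-n) of polynomials over a finite field with nonzero resultant
(helper15; for S18924 / S18925)
-/

set_option linter.style.haveILetI false

namespace Groth.Agent.Lib.helper15.ResCount

open Polynomial

section Basic

variable {F : Type*} [Field F]

/-- The polynomial with coefficient vector `c`. -/
noncomputable def P {m : ℕ} (c : Fin m → F) : F[X] := ∑ i : Fin m, C (c i) * X ^ (i : ℕ)

lemma P_eq {m : ℕ} (c : Fin m → F) : P c = ((degreeLTEquiv F m).symm c : F[X]) := by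
  simp [P, degreeLTEquiv, C_mul_X_pow_eq_monomial]

lemma P_mem {m : ℕ} (c : Fin m → F) : P c ∈ degreeLT F m := by
  rw [P_eq]; exact Subtype.property _

lemma P_degree_lt {m : ℕ} (c : Fin m → F) : (P c).degree < m := mem_degreeLT.mp (P_mem c)

lemma P_coeff {m : ℕ} (c : Fin m → F) (i : Fin m) : (P c).coeff i = c i := by
  have h := (degreeLTEquiv F m).apply_symm_apply c
  have h2 := congrFun h i
  rw [P_eq]
  exact h2

lemma P_coeff_of_le {m : ℕ} (c : Fin m → F) {j : ℕ} (hj : m ≤ j) : (P c).coeff j = 0 :=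
  coeff_eq_zero_of_degree_lt ((P_degree_lt c).trans_le (by exact_mod_cast hj))

lemma P_injective {m : ℕ} : Function.Injective (P : (Fin m → F) → F[X]) := by
  intro c c' h
  funext i
  rw [← P_coeff c i, ← P_coeff c' i, h]

lemma P_coeffVec {m : ℕ} {g : F[X]} (hg : g.degree < m) :
    P (fun i : Fin m => g.coeff i) = g := by
  have h := (degreeLTEquiv F m).symm_apply_apply ⟨g, mem_degreeLT.mpr hg⟩
  rw [P_eq]
  exact congrArg Subtype.val h

lemma P_natDegree_le {m : ℕ} (c : Fin (m + 1) → F) : (P c).natDegree ≤ m := by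
  have h := P_degree_lt c
  by_cases h0 : P c = 0
  · rw [h0]; simp
  · rw [degree_eq_natDegree h0] at h
    have : (P c).natDegree < m + 1 := by exact_mod_cast h
    omega

end Basic

section Criterion

variable {F : Type*} [Field F]

lemma natDegree_lt_of_coeff_eq_zero {f : F[X]} {d : ℕ} (hd : 1 ≤ d) (hf : f.natDegree ≤ d)
    (h0 : f.coeff d = 0) : f.natDegree < d := by
  rcases hf.lt_or_eq with h | h
  · exact h
  · exfalso
    have h1 : f.leadingCoeff = 0 := by rw [leadingCoeff, h]; exact h0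
    rw [leadingCoeff_eq_zero] at h1
    rw [h1, natDegree_zero] at h
    omega

/-- The resultant with size parameters `(2, n)` is nonzero iff the polynomials are coprime and
not both of too small degree. -/
theorem res_ne_zero_iff {n : ℕ} (hn : 1 ≤ n) (f g : F[X]) (hf : f.natDegree ≤ 2)
    (hg : g.natDegree ≤ n) :
    resultant f g 2 n ≠ 0 ↔ IsCoprime f g ∧ (f.coeff 2 ≠ 0 ∨ g.coeff n ≠ 0) := by
  by_cases h2 : f.coeff 2 = 0
  · by_cases hgn : g.coeff n = 0
    · have hf' := natDegree_lt_of_coeff_eq_zero (by norm_num) hf h2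
      have hg' := natDegree_lt_of_coeff_eq_zero hn hg hgn
      rw [resultant_eq_zero_of_lt_lt f g 2 n hf' hg']
      simp [h2, hgn]
    · have hgd : g.natDegree = n := le_antisymm hg (le_natDegree_of_ne_zero hgn)
      have hg0 : g ≠ 0 := by rintro rfl; simp at hgn
      obtain ⟨k, hk⟩ : ∃ k, 2 = f.natDegree + k := ⟨2 - f.natDegree, by omega⟩
      have h1 := resultant_add_left_deg f g f.natDegree n k le_rfl
      rw [← hk] at h1
      have h3 : resultant f g f.natDegree n = resultant f g := by rw [hgd]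
      rw [h1, h3]
      have h4 : (-1 : F) ^ (n * k) * g.coeff n ^ k ≠ 0 :=
        mul_ne_zero (pow_ne_zero _ (by norm_num)) (pow_ne_zero _ hgn)
      rw [mul_ne_zero_iff_left h4, Ne, resultant_eq_zero_iff]
      simp [hg0, hgn]
  · have hfd : f.natDegree = 2 := le_antisymm hf (le_natDegree_of_ne_zero h2)
    have hf0 : f ≠ 0 := by rintro rfl; simp at h2
    obtain ⟨k, hk⟩ : ∃ k, n = g.natDegree + k := ⟨n - g.natDegree, by omega⟩
    have h1 := resultant_add_right_deg f g 2 g.natDegree k le_rfl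
    rw [← hk] at h1
    have h3 : resultant f g 2 g.natDegree = resultant f g := by rw [← hfd]
    rw [h1, h3]
    have h4 : f.coeff 2 ^ k ≠ 0 := pow_ne_zero _ h2
    rw [mul_ne_zero_iff_left h4, Ne, resultant_eq_zero_iff]
    simp [hf0, h2]

end Criterion

section Count

variable {F : Type*} [Field F] [Fintype F]

lemma card_fiberwise {A B : Type*} [Finite A] [Fintype B] (p : A → B → Prop) :
    Nat.card {x : A × B // p x.1 x.2} = ∑ b : B, Nat.card {a : A // p a b} := by
  rw [← Nat.card_sigma]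
  exact Nat.card_congr
    { toFun := fun x => ⟨x.1.2, x.1.1, x.2⟩
      invFun := fun y => ⟨(y.2.1, y.1), y.2.2⟩
      left_inv := fun x => rfl
      right_inv := fun y => rfl }

lemma card_ne_zero : Nat.card {x : F // x ≠ 0} = Fintype.card F - 1 := by
  classical
  rw [Nat.card_eq_fintype_card, Fintype.card_subtype]
  rw [Finset.filter_ne' Finset.univ (0 : F), Finset.card_erase_of_mem (Finset.mem_univ _),
    Finset.card_univ]

lemma card_forall_ne_zero {m : ℕ} (T : Finset (Fin m)) :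
    Nat.card {c : Fin m → F // ∀ i ∈ T, c i ≠ 0} =
      (Fintype.card F - 1) ^ T.card * Fintype.card F ^ (m - T.card) := by
  classical
  rw [Nat.card_eq_fintype_card, Fintype.card_subtype]
  have h1 : (Finset.univ.filter fun c : Fin m → F => ∀ i ∈ T, c i ≠ 0) =
      Fintype.piFinset (fun i => if i ∈ T then (Finset.univ.erase (0 : F)) else Finset.univ) := by
    ext c
    simp only [Finset.mem_filter, Finset.mem_univ, true_and, Fintype.mem_piFinset]
    constructor
    · intro h i
      split_ifs with hi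
      · exact Finset.mem_erase.mpr ⟨h i hi, Finset.mem_univ _⟩
      · exact Finset.mem_univ _
    · intro h i hi
      have := h i
      rw [if_pos hi] at this
      exact (Finset.mem_erase.mp this).1
  rw [h1, Fintype.card_piFinset]
  have h2 : ∀ i : Fin m, (if i ∈ T then (Finset.univ.erase (0 : F)) else Finset.univ).card =
      if i ∈ T then Fintype.card F - 1 else Fintype.card F := by
    intro i
    split_ifs
    · rw [Finset.card_erase_of_mem (Finset.mem_univ _), Finset.card_univ]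
    · rw [Finset.card_univ]
  simp only [h2]
  rw [Finset.prod_ite, Finset.prod_const, Finset.prod_const, Finset.filter_mem_eq_inter,
    Finset.univ_inter]
  congr 2
  have h3 : (Finset.univ.filter fun i : Fin m => i ∉ T) = Tᶜ := by
    ext i; simp
  rw [h3, Finset.card_compl, Fintype.card_fin]

lemma card_last_ne_zero (d : ℕ) :
    Nat.card {c : Fin (d + 1) → F // c (Fin.last d) ≠ 0} =
      (Fintype.card F - 1) * Fintype.card F ^ d := by
  have h := card_forall_ne_zero (F := F) ({Fin.last d} : Finset (Fin (d + 1)))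
  simp only [Finset.mem_singleton, forall_eq, Finset.card_singleton, pow_one,
    Nat.add_sub_cancel] at h
  exact h

omit [Fintype F] in
lemma P_cons {m : ℕ} (x : F) (t : Fin m → F) :
    P (Fin.cons x t : Fin (m + 1) → F) = C x + X * P t := by
  simp only [P, Fin.sum_univ_succ, Fin.cons_zero, Fin.val_zero, pow_zero, mul_one, Fin.cons_succ,
    Fin.val_succ, Finset.mul_sum]
  congr 1
  refine Finset.sum_congr rfl fun i _ => ?_
  ring

lemma card_last_ne_eval_ne (d : ℕ) (ρ : F) :
    Nat.card {c : Fin (d + 2) → F // c (Fin.last (d + 1)) ≠ 0 ∧ eval ρ (P c) ≠ 0} =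
      (Fintype.card F - 1) ^ 2 * Fintype.card F ^ d := by
  have e : {c : Fin (d + 2) → F // c (Fin.last (d + 1)) ≠ 0 ∧ eval ρ (P c) ≠ 0} ≃
      {y : F // y ≠ 0} × {t : Fin (d + 1) → F // t (Fin.last d) ≠ 0} :=
    { toFun := fun c => (⟨eval ρ (P c.1), c.2.2⟩, ⟨Fin.tail c.1, by
        show c.1 (Fin.succ (Fin.last d)) ≠ 0
        rw [Fin.succ_last]
        exact c.2.1⟩)
      invFun := fun x => ⟨Fin.cons (x.1.1 - ρ * eval ρ (P x.2.1)) x.2.1, by
        constructor
        · rw [← Fin.succ_last, Fin.cons_succ]; exact x.2.2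
        · rw [P_cons, eval_add, eval_C, eval_mul, eval_X, sub_add_cancel]; exact x.1.2⟩
      left_inv := by
        rintro ⟨c, hc⟩
        apply Subtype.ext
        simp only
        have h1 : c = Fin.cons (c 0) (Fin.tail c) := (Fin.cons_self_tail c).symm
        conv_rhs => rw [h1]
        congr 1
        conv_lhs => rw [h1, P_cons]
        simp
      right_inv := by
        rintro ⟨⟨y, hy⟩, ⟨t, ht⟩⟩
        simp only [Fin.tail_cons, P_cons, eval_add, eval_C, eval_mul, eval_X, sub_add_cancel] }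
  rw [Nat.card_congr e, Nat.card_prod, card_ne_zero, card_last_ne_zero]
  ring

omit [Fintype F] in
lemma isCoprime_linear_iff {g : F[X]} (u : F) {v : F} (hv : v ≠ 0) :
    IsCoprime g (C u + C v * X) ↔ eval (-u / v) g ≠ 0 := by
  have h1 : C u + C v * X = C v * (X - C (-u / v)) := by
    rw [mul_sub, ← C_mul, mul_div_cancel₀ _ hv, C_neg]
    ring
  rw [h1, isCoprime_mul_unit_left_right (isUnit_C.mpr hv.isUnit), isCoprime_comm,
    (irreducible_X_sub_C _).coprime_iff_not_dvd, dvd_iff_isRoot, IsRoot.def]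

omit [Fintype F] in
lemma natDegree_P_of_last_ne_zero {d : ℕ} {c : Fin (d + 1) → F} (hc : c (Fin.last d) ≠ 0) :
    (P c).natDegree = d := by
  refine le_antisymm (P_natDegree_le c) (le_natDegree_of_ne_zero ?_)
  have := P_coeff c (Fin.last d)
  rw [Fin.val_last] at this
  rwa [this]

/-- The count for a fixed linear polynomial with nonzero leading coefficient. -/
lemma card_N1 (d : ℕ) (u : F) {v : F} (hv : v ≠ 0) :
    Nat.card {c : Fin (d + 2) → F // c (Fin.last (d + 1)) ≠ 0 ∧
      IsCoprime (P c) (C u + C v * X)} = (Fintype.card F - 1) ^ 2 * Fintype.card F ^ d := by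
  rw [← card_last_ne_eval_ne d (-u / v)]
  exact Nat.card_congr (Equiv.subtypeEquivRight fun c => by rw [isCoprime_linear_iff u hv])

lemma card_N2 (d : ℕ) {u : F} (hu : u ≠ 0) :
    Nat.card {c : Fin (d + 2) → F // c (Fin.last (d + 1)) ≠ 0 ∧
      IsCoprime (P c) (C u + C (0 : F) * X)} = (Fintype.card F - 1) * Fintype.card F ^ (d + 1) := by
  rw [← card_last_ne_zero (d + 1)]
  refine Nat.card_congr (Equiv.subtypeEquivRight fun c => ?_)
  rw [C_0, zero_mul, add_zero]
  exact and_iff_left ⟨0, C u⁻¹, by rw [zero_mul, zero_add, ← C_mul, inv_mul_cancel₀ hu, C_1]⟩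

omit [Fintype F] in
lemma card_N3 (d : ℕ) :
    Nat.card {c : Fin (d + 2) → F // c (Fin.last (d + 1)) ≠ 0 ∧
      IsCoprime (P c) (C (0 : F) + C (0 : F) * X)} = 0 := by
  have : IsEmpty {c : Fin (d + 2) → F // c (Fin.last (d + 1)) ≠ 0 ∧
      IsCoprime (P c) (C (0 : F) + C (0 : F) * X)} := by
    constructor
    rintro ⟨c, hc, hcop⟩
    rw [C_0, zero_mul, add_zero, isCoprime_zero_right] at hcop
    have h1 := natDegree_P_of_last_ne_zero hc
    have h2 := natDegree_eq_zero_of_isUnit hcop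
    omega
  exact Nat.card_of_isEmpty

/-- Pairs (polynomial of exact degree `d+1`, polynomial of degree `≤ 1`) that are coprime. -/
theorem card_T (d : ℕ) :
    Nat.card {x : (Fin (d + 2) → F) × (F × F) // x.1 (Fin.last (d + 1)) ≠ 0 ∧
      IsCoprime (P x.1) (C x.2.1 + C x.2.2 * X)} =
      (Fintype.card F - 1) ^ 2 * Fintype.card F ^ (d + 2) := by
  classical
  refine Eq.trans (card_fiberwise (fun (c : Fin (d + 2) → F) (h : F × F) =>
    c (Fin.last (d + 1)) ≠ 0 ∧ IsCoprime (P c) (C h.1 + C h.2 * X))) ?_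
  rw [Fintype.sum_prod_type]
  have hq : 1 ≤ Fintype.card F := Fintype.card_pos
  have inner : ∀ u : F, ∑ v : F, Nat.card {c : Fin (d + 2) → F // c (Fin.last (d + 1)) ≠ 0 ∧
        IsCoprime (P c) (C u + C v * X)} =
      Nat.card {c : Fin (d + 2) → F // c (Fin.last (d + 1)) ≠ 0 ∧
        IsCoprime (P c) (C u + C (0 : F) * X)} +
        (Fintype.card F - 1) * ((Fintype.card F - 1) ^ 2 * Fintype.card F ^ d) := by
    intro u
    rw [← Finset.add_sum_erase Finset.univ _ (Finset.mem_univ (0 : F))]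
    congr 1
    rw [Finset.sum_congr rfl (fun v hv => card_N1 d u (Finset.ne_of_mem_erase hv)),
      Finset.sum_const, Finset.card_erase_of_mem (Finset.mem_univ _), Finset.card_univ,
      smul_eq_mul]
  simp only [inner]
  rw [Finset.sum_add_distrib, Finset.sum_const, Finset.card_univ, smul_eq_mul,
    ← Finset.add_sum_erase Finset.univ _ (Finset.mem_univ (0 : F)), card_N3,
    Finset.sum_congr rfl (fun u hu => card_N2 d (Finset.ne_of_mem_erase hu)), Finset.sum_const,
    Finset.card_erase_of_mem (Finset.mem_univ _), Finset.card_univ, smul_eq_mul]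
  obtain ⟨Q, hQ⟩ : ∃ Q, Fintype.card F = Q + 1 := ⟨Fintype.card F - 1, by omega⟩
  rw [hQ, Nat.add_sub_cancel]
  ring

omit [Fintype F] in
lemma natDegree_linear_le (u v : F) : (C u + C v * X).natDegree ≤ 1 := by
  refine (natDegree_add_le _ _).trans (max_le ?_ ?_)
  · rw [natDegree_C]; exact Nat.zero_le _
  · exact (natDegree_C_mul_le v X).trans natDegree_X_le

/-- The map `(w, (u, v)) ↦` coefficient vector of `f * P w + (u + v X)`. -/
noncomputable def Psi (n' : ℕ) (f : F[X]) (x : (Fin n' → F) × (F × F)) : Fin (n' + 2) → F :=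
  fun i => (f * P x.1 + (C x.2.1 + C x.2.2 * X)).coeff i

omit [Fintype F] in
lemma degree_Psi_lt (n' : ℕ) {f : F[X]} (hfd : f.natDegree = 2) (x : (Fin n' → F) × (F × F)) :
    (f * P x.1 + (C x.2.1 + C x.2.2 * X)).degree < ((n' + 2 : ℕ) : WithBot ℕ) := by
  have hf0 : f ≠ 0 := by
    rintro rfl
    rw [natDegree_zero] at hfd
    omega
  by_cases h0 : f * P x.1 + (C x.2.1 + C x.2.2 * X) = 0
  · rw [h0, degree_zero]; exact WithBot.bot_lt_coe _
  rw [degree_eq_natDegree h0]
  have h1 : (f * P x.1 + (C x.2.1 + C x.2.2 * X)).natDegree < n' + 2 := by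
    refine lt_of_le_of_lt (natDegree_add_le _ _) (max_lt ?_ ?_)
    · by_cases h2 : P x.1 = 0
      · rw [h2, mul_zero, natDegree_zero]; omega
      · rw [natDegree_mul hf0 h2, hfd]
        have h3 := P_degree_lt x.1
        rw [degree_eq_natDegree h2] at h3
        have h4 : (P x.1).natDegree < n' := by exact_mod_cast h3
        omega
    · exact lt_of_le_of_lt (natDegree_linear_le _ _) (by omega)
  exact_mod_cast h1

omit [Fintype F] in
lemma P_Psi (n' : ℕ) {f : F[X]} (hfd : f.natDegree = 2) (x : (Fin n' → F) × (F × F)) :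
    P (Psi n' f x) = f * P x.1 + (C x.2.1 + C x.2.2 * X) :=
  P_coeffVec (degree_Psi_lt n' hfd x)

omit [Fintype F] in
lemma Psi_injective (n' : ℕ) {f : F[X]} (hfd : f.natDegree = 2) :
    Function.Injective (Psi n' f) := by
  have hf0 : f ≠ 0 := by
    rintro rfl
    rw [natDegree_zero] at hfd
    omega
  intro x x' h
  have h1 : f * P x.1 + (C x.2.1 + C x.2.2 * X) = f * P x'.1 + (C x'.2.1 + C x'.2.2 * X) := by
    rw [← P_Psi n' hfd, ← P_Psi n' hfd, h]
  have h2 : f * (P x.1 - P x'.1) =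
      (C (x'.2.1 - x.2.1) + C (x'.2.2 - x.2.2) * X) := by
    rw [C_sub, C_sub]
    linear_combination h1
  have h3 : P x.1 - P x'.1 = 0 := by
    by_contra hne
    have d1 : (f * (P x.1 - P x'.1)).natDegree = 2 + (P x.1 - P x'.1).natDegree := by
      rw [natDegree_mul hf0 hne, hfd]
    have d2 := natDegree_linear_le (x'.2.1 - x.2.1) (x'.2.2 - x.2.2)
    rw [h2] at d1
    omega
  have h4 : x.1 = x'.1 := P_injective (sub_eq_zero.mp h3)
  rw [h3, mul_zero] at h2
  have h5 := congrArg (fun g => g.coeff 0) h2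
  have h6 := congrArg (fun g => g.coeff 1) h2
  simp only [coeff_zero, coeff_add, coeff_C_zero, coeff_C_mul, coeff_X_zero, mul_zero, add_zero,
    coeff_C_succ, coeff_X_one, mul_one, zero_add] at h5 h6
  refine Prod.ext h4 (Prod.ext ?_ ?_)
  · exact (sub_eq_zero.mp h5.symm).symm
  · exact (sub_eq_zero.mp h6.symm).symm

lemma Psi_bijective (n' : ℕ) {f : F[X]} (hfd : f.natDegree = 2) :
    Function.Bijective (Psi n' f) := by
  classical
  rw [Fintype.bijective_iff_injective_and_card]
  refine ⟨Psi_injective n' hfd, ?_⟩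
  simp only [Fintype.card_prod, Fintype.card_pi, Finset.prod_const, Finset.card_univ,
    Fintype.card_fin]
  ring

/-- Reduction modulo a quadratic: the polynomials of degree `≤ n'+1` prime to `f` (quadratic)
correspond to `F^{n'} ×` the polynomials of degree `≤ 1` prime to `f`. -/
theorem card_coprime_quadratic' (n' : ℕ) {f : F[X]} (hfd : f.natDegree = 2) :
    Nat.card {b : Fin (n' + 2) → F // IsCoprime f (P b)} =
      Fintype.card F ^ n' * Nat.card {h : F × F // IsCoprime f (C h.1 + C h.2 * X)} := by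
  classical
  have e1 : {x : (Fin n' → F) × (F × F) // IsCoprime f (C x.2.1 + C x.2.2 * X)} ≃
      {b : Fin (n' + 2) → F // IsCoprime f (P b)} :=
    (Equiv.ofBijective (Psi n' f) (Psi_bijective n' hfd)).subtypeEquiv (fun x => by
        show _ ↔ IsCoprime f (P (Psi n' f x))
        rw [P_Psi n' hfd, add_comm (f * P x.1), IsCoprime.add_mul_left_right_iff])
  have e2 : {x : (Fin n' → F) × (F × F) // IsCoprime f (C x.2.1 + C x.2.2 * X)} ≃
      (Fin n' → F) × {h : F × F // IsCoprime f (C h.1 + C h.2 * X)} :=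
    { toFun := fun x => (x.1.1, ⟨x.1.2, x.2⟩)
      invFun := fun y => ⟨(y.1, y.2.1), y.2.2⟩
      left_inv := fun x => rfl
      right_inv := fun y => rfl }
  rw [← Nat.card_congr e1, Nat.card_congr e2, Nat.card_prod, Nat.card_eq_fintype_card,
    Fintype.card_pi, Finset.prod_const, Finset.card_univ, Fintype.card_fin]

theorem card_coprime_quadratic (n' : ℕ) (a : Fin 3 → F) (ha : a (Fin.last 2) ≠ 0) :
    Nat.card {b : Fin (n' + 2) → F // IsCoprime (P a) (P b)} =
      Fintype.card F ^ n' * Nat.card {h : F × F // IsCoprime (P a) (C h.1 + C h.2 * X)} :=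
  card_coprime_quadratic' n' (natDegree_P_of_last_ne_zero ha)

omit [Fintype F] in
lemma P_vec3 (u v : F) : P (![u, v, 0] : Fin 3 → F) = C u + C v * X := by
  simp [P, Fin.sum_univ_succ]

omit [Fintype F] in
lemma vec3_eq {a : Fin 3 → F} (h : a (Fin.last 2) = 0) : a = ![a 0, a 1, 0] := by
  funext i
  fin_cases i
  · rfl
  · rfl
  · exact h

omit [Fintype F] in
lemma P_of_last_zero {a : Fin 3 → F} (h : a (Fin.last 2) = 0) :
    P a = C (a 0) + C (a 1) * X := by
  conv_lhs => rw [vec3_eq h]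
  exact P_vec3 _ _

/-- Coprime pairs with the quadratic of exact degree two. -/
theorem card_S1 (n' : ℕ) :
    Nat.card {p : (Fin 3 → F) × (Fin (n' + 2) → F) //
      p.1 (Fin.last 2) ≠ 0 ∧ IsCoprime (P p.1) (P p.2)} =
      Fintype.card F ^ n' * ((Fintype.card F - 1) ^ 2 * Fintype.card F ^ 3) := by
  classical
  have e : {p : (Fin 3 → F) × (Fin (n' + 2) → F) //
      p.1 (Fin.last 2) ≠ 0 ∧ IsCoprime (P p.1) (P p.2)} ≃
      {x : (Fin (n' + 2) → F) × (Fin 3 → F) //
        x.2 (Fin.last 2) ≠ 0 ∧ IsCoprime (P x.2) (P x.1)} :=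
    (Equiv.prodComm _ _).subtypeEquiv (fun p => Iff.rfl)
  rw [Nat.card_congr e]
  refine Eq.trans (card_fiberwise (fun (b : Fin (n' + 2) → F) (a : Fin 3 → F) =>
    a (Fin.last 2) ≠ 0 ∧ IsCoprime (P a) (P b))) ?_
  have h1 : ∀ a : Fin 3 → F,
      Nat.card {b : Fin (n' + 2) → F // a (Fin.last 2) ≠ 0 ∧ IsCoprime (P a) (P b)} =
        Fintype.card F ^ n' *
          Nat.card {h : F × F // a (Fin.last 2) ≠ 0 ∧ IsCoprime (P a) (C h.1 + C h.2 * X)} := by
    intro a
    by_cases ha : a (Fin.last 2) = 0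
    · have i1 : IsEmpty {b : Fin (n' + 2) → F // a (Fin.last 2) ≠ 0 ∧ IsCoprime (P a) (P b)} :=
        ⟨fun b => b.2.1 ha⟩
      have i2 : IsEmpty {h : F × F // a (Fin.last 2) ≠ 0 ∧
          IsCoprime (P a) (C h.1 + C h.2 * X)} := ⟨fun h => h.2.1 ha⟩
      rw [Nat.card_of_isEmpty, Nat.card_of_isEmpty, mul_zero]
    · rw [Nat.card_congr (Equiv.subtypeEquivRight fun b => and_iff_right ha),
        Nat.card_congr (Equiv.subtypeEquivRight fun h => and_iff_right ha)]
      exact card_coprime_quadratic n' a ha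
  simp only [h1]
  rw [← Finset.mul_sum]
  congr 1
  have hT := card_T (F := F) 1
  rw [← hT]
  refine Eq.trans (card_fiberwise (fun (h : F × F) (a : Fin 3 → F) =>
    a (Fin.last 2) ≠ 0 ∧ IsCoprime (P a) (C h.1 + C h.2 * X))).symm ?_
  exact Nat.card_congr ((Equiv.prodComm _ _).subtypeEquiv (fun p => Iff.rfl))

/-- Coprime pairs with the "quadratic" of degree `≤ 1` and the other of exact degree. -/
theorem card_S2 (n' : ℕ) :
    Nat.card {p : (Fin 3 → F) × (Fin (n' + 2) → F) //
      p.1 (Fin.last 2) = 0 ∧ p.2 (Fin.last (n' + 1)) ≠ 0 ∧ IsCoprime (P p.1) (P p.2)} =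
      (Fintype.card F - 1) ^ 2 * Fintype.card F ^ (n' + 2) := by
  rw [← card_T n']
  refine Nat.card_congr ?_
  exact
    { toFun := fun p => ⟨(p.1.2, (p.1.1 0, p.1.1 1)), ⟨p.2.2.1, by
          have h := p.2.2.2
          rw [P_of_last_zero p.2.1] at h
          exact isCoprime_comm.mp h⟩⟩
      invFun := fun x => ⟨(![x.1.2.1, x.1.2.2, 0], x.1.1), ⟨rfl, x.2.1, by
          rw [P_vec3]
          exact isCoprime_comm.mp x.2.2⟩⟩
      left_inv := by
        rintro ⟨⟨a, b⟩, h0, h1, h2⟩
        apply Subtype.ext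
        simp only
        rw [← vec3_eq h0]
      right_inv := by
        rintro ⟨⟨b, u, v⟩, h1, h2⟩
        rfl }

theorem card_coprime_pairs (n' : ℕ) :
    Nat.card {p : (Fin 3 → F) × (Fin (n' + 2) → F) // IsCoprime (P p.1) (P p.2) ∧
      (p.1 (Fin.last 2) ≠ 0 ∨ p.2 (Fin.last (n' + 1)) ≠ 0)} =
      Fintype.card F ^ n' * ((Fintype.card F - 1) ^ 2 * Fintype.card F ^ 3) +
        (Fintype.card F - 1) ^ 2 * Fintype.card F ^ (n' + 2) := by
  classical
  rw [← card_S1 n', ← card_S2 n', Nat.card_eq_fintype_card, Nat.card_eq_fintype_card,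
    Nat.card_eq_fintype_card, Fintype.card_subtype, Fintype.card_subtype, Fintype.card_subtype,
    ← Finset.card_union_of_disjoint]
  · congr 1
    ext p
    simp only [Finset.mem_filter, Finset.mem_univ, true_and, Finset.mem_union]
    tauto
  · rw [Finset.disjoint_filter]
    intro p _ h1 h2
    exact h1.1 h2.1

/-- The number of pairs with nonzero `(2, n)`-resultant. -/
theorem card_res_ne_zero' (n' : ℕ) :
    Nat.card {p : (Fin 3 → F) × (Fin (n' + 2) → F) //
      resultant (P p.1) (P p.2) 2 (n' + 1) ≠ 0} =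
      Fintype.card F ^ n' * ((Fintype.card F - 1) ^ 2 * Fintype.card F ^ 3) +
        (Fintype.card F - 1) ^ 2 * Fintype.card F ^ (n' + 2) := by
  rw [← card_coprime_pairs n']
  refine Nat.card_congr (Equiv.subtypeEquivRight fun p => ?_)
  have h1 := res_ne_zero_iff (n := n' + 1) (by omega) (P p.1) (P p.2)
    (P_natDegree_le (m := 2) p.1) (P_natDegree_le (m := n' + 1) p.2)
  have h2 : (P p.1).coeff 2 = p.1 (Fin.last 2) := P_coeff p.1 (Fin.last 2)
  have h3 : (P p.2).coeff (n' + 1) = p.2 (Fin.last (n' + 1)) := by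
    have := P_coeff p.2 (Fin.last (n' + 1))
    rwa [Fin.val_last] at this
  rw [h1, h2, h3]

theorem card_res_ne_zero (n : ℕ) (hn : 1 ≤ n) :
    Nat.card {p : (Fin 3 → F) × (Fin (n + 1) → F) //
      resultant (P p.1) (P p.2) 2 n ≠ 0} =
      (Fintype.card F - 1) ^ 2 * Fintype.card F ^ (n + 1) * (Fintype.card F + 1) := by
  obtain ⟨n', rfl⟩ : ∃ n', n = n' + 1 := ⟨n - 1, by omega⟩
  rw [card_res_ne_zero' n']
  ring

end Count

section Scale

variable {F : Type*} [Field F]

lemma P_smul {m : ℕ} (t : F) (c : Fin m → F) : P (t • c) = C t * P c := by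
  simp only [P, Pi.smul_apply, smul_eq_mul, C_mul, Finset.mul_sum, mul_assoc]

/-- The scaling `(a, b) ↦ (t a, t^{-m} b)` multiplies the `(2, 2m+1)`-resultant by `t`. -/
noncomputable def scale (m : ℕ) (t : F) {k : ℕ} (p : (Fin 3 → F) × (Fin k → F)) :
    (Fin 3 → F) × (Fin k → F) := (t • p.1, (t⁻¹) ^ m • p.2)

lemma res_scale (m : ℕ) {t : F} (ht : t ≠ 0) {k : ℕ} (p : (Fin 3 → F) × (Fin k → F)) :
    resultant (P (scale m t p).1) (P (scale m t p).2) 2 (2 * m + 1) =
      t * resultant (P p.1) (P p.2) 2 (2 * m + 1) := by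
  unfold scale
  dsimp only
  rw [P_smul, P_smul, resultant_C_mul_left, resultant_C_mul_right]
  rw [← mul_assoc]
  congr 1
  rw [← pow_mul, pow_succ, inv_pow, mul_comm m 2]
  field_simp

lemma scale_scale (m : ℕ) {t : F} (ht : t ≠ 0) {k : ℕ} (p : (Fin 3 → F) × (Fin k → F)) :
    scale m t (scale m t⁻¹ p) = p := by
  unfold scale
  dsimp only
  rw [smul_smul, smul_smul, inv_inv, mul_inv_cancel₀ ht, ← mul_pow, inv_mul_cancel₀ ht, one_pow,
    one_smul, one_smul]

theorem card_res_eq_one_mul [Fintype F] (m : ℕ) :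
    (Fintype.card F - 1) * Nat.card {p : (Fin 3 → F) × (Fin (2 * m + 1 + 1) → F) //
      resultant (P p.1) (P p.2) 2 (2 * m + 1) = 1} =
    Nat.card {p : (Fin 3 → F) × (Fin (2 * m + 1 + 1) → F) //
      resultant (P p.1) (P p.2) 2 (2 * m + 1) ≠ 0} := by
  rw [← card_ne_zero, ← Nat.card_prod]
  refine (Nat.card_congr ?_).symm
  exact
    { toFun := fun p => (⟨resultant (P p.1.1) (P p.1.2) 2 (2 * m + 1), p.2⟩,
        ⟨scale m (resultant (P p.1.1) (P p.1.2) 2 (2 * m + 1))⁻¹ p.1, by
          rw [res_scale m (inv_ne_zero p.2), inv_mul_cancel₀ p.2]⟩)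
      invFun := fun x => ⟨scale m x.1.1 x.2.1, by
        rw [res_scale m x.1.2, x.2.2, mul_one]
        exact x.1.2⟩
      left_inv := by
        rintro ⟨p, hp⟩
        exact Subtype.ext (scale_scale m hp p)
      right_inv := by
        rintro ⟨⟨c, hc⟩, ⟨p, hp⟩⟩
        have h1 : resultant (P (scale m c p).1) (P (scale m c p).2) 2 (2 * m + 1) = c := by
          rw [res_scale m hc, hp, mul_one]
        refine Prod.ext (Subtype.ext h1) (Subtype.ext ?_)
        simp only [h1]
        have h2 := scale_scale m (inv_ne_zero hc) p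
        rwa [inv_inv] at h2 }

end Scale
section Final

lemma arith1 (q n : ℕ) (hq : 2 ≤ q) :
    (q - 1) ^ 2 * q ^ (n + 1) * (q + 1) = q ^ (n + 4) - q ^ (n + 3) - q ^ (n + 2) + q ^ (n + 1) := by
  obtain ⟨Q, rfl⟩ : ∃ Q, q = Q + 2 := ⟨q - 2, by omega⟩
  have h0 : Q + 2 - 1 = Q + 1 := by omega
  rw [h0]
  have key : (Q + 1) ^ 2 * (Q + 2) ^ (n + 1) * (Q + 2 + 1) + (Q + 2) ^ (n + 3) + (Q + 2) ^ (n + 2) =
      (Q + 2) ^ (n + 4) + (Q + 2) ^ (n + 1) := by ring
  have hle : (Q + 2) ^ (n + 1) ≤ (Q + 1) ^ 2 * (Q + 2) ^ (n + 1) * (Q + 2 + 1) := by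
    calc (Q + 2) ^ (n + 1) = 1 * (Q + 2) ^ (n + 1) * 1 := by ring
      _ ≤ (Q + 1) ^ 2 * (Q + 2) ^ (n + 1) * (Q + 2 + 1) := by
        gcongr
        · exact Nat.one_le_pow _ _ (by omega)
        · omega
  omega

lemma arith2 (q n : ℕ) (hq : 2 ≤ q) :
    (q - 1) * q ^ (n + 1) * (q + 1) = q ^ (n + 3) - q ^ (n + 1) := by
  obtain ⟨Q, rfl⟩ : ∃ Q, q = Q + 2 := ⟨q - 2, by omega⟩
  have h0 : Q + 2 - 1 = Q + 1 := by omega
  rw [h0]
  have key : (Q + 1) * (Q + 2) ^ (n + 1) * (Q + 2 + 1) + (Q + 2) ^ (n + 1) =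
      (Q + 2) ^ (n + 3) := by ring
  omega

variable {F : Type*} [Field F] [Fintype F]

theorem card_res_ne_zero_final (n : ℕ) (hn : 1 ≤ n) :
    Nat.card {p : (Fin 3 → F) × (Fin (n + 1) → F) //
      resultant (P p.1) (P p.2) 2 n ≠ 0} =
      Fintype.card F ^ (n + 4) - Fintype.card F ^ (n + 3) - Fintype.card F ^ (n + 2) +
        Fintype.card F ^ (n + 1) := by
  rw [card_res_ne_zero n hn, arith1 _ _ Fintype.one_lt_card]

theorem card_res_eq_one_final (n : ℕ) (hn : Odd n) :
    Nat.card {p : (Fin 3 → F) × (Fin (n + 1) → F) //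
      resultant (P p.1) (P p.2) 2 n = 1} =
      Fintype.card F ^ (n + 3) - Fintype.card F ^ (n + 1) := by
  obtain ⟨m, rfl⟩ := hn
  have hq : 2 ≤ Fintype.card F := Fintype.one_lt_card
  have h1 := card_res_eq_one_mul (F := F) m
  rw [card_res_ne_zero (2 * m + 1) (by omega)] at h1
  rw [← arith2 _ _ hq]
  have hpos : 0 < Fintype.card F - 1 := by omega
  refine Nat.eq_of_mul_eq_mul_left hpos ?_
  rw [h1]
  ring

end Final

end Groth.Agent.Lib.helper15.ResCount
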