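import Mathlib

/-!
# Field-valued points and residue fields of fibre products (helper15)

For a field `Ω` and `a : Spec Ω ⟶ Z` write `ptOf a` for the image point, `resOf a : κ(ptOf a) →+* Ω`
for the induced embedding of the residue field and `imgOf a` for its range, a subfield of `Ω`.
-/

set_option autoImplicit false
set_option linter.style.haveILetI false
universe u
open CategoryTheory CategoryTheory.Limits AlgebraicGeometry IsLocalRing

namespace Groth.Agent.Lib.helper15.ResGen

variable {Ω : Type u} [Field Ω]

/-- The image point of a field-valued point. -/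
noncomputable def ptOf {Z : Scheme.{u}} (a : Spec (CommRingCat.of Ω) ⟶ Z) : Z :=
  a (closedPoint Ω)

/-- The embedding of the residue field of the image point. -/
noncomputable def resOf {Z : Scheme.{u}} (a : Spec (CommRingCat.of Ω) ⟶ Z) :
    Z.residueField (ptOf a) →+* Ω :=
  (Scheme.descResidueField (Scheme.stalkClosedPointTo a)).hom

/-- The image of the residue field of the image point in `Ω`. -/
noncomputable def imgOf {Z : Scheme.{u}} (a : Spec (CommRingCat.of Ω) ⟶ Z) : Subfield Ω :=
  (resOf a).fieldRange

theorem resOf_comp {Z W : Scheme.{u}} (a : Spec (CommRingCat.of Ω) ⟶ Z) (h : Z ⟶ W) :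
    resOf (a ≫ h) = (resOf a).comp (h.residueFieldMap (ptOf a)).hom := by
  have := Scheme.descResidueField_stalkClosedPointTo_comp h a
  exact congrArg CommRingCat.Hom.hom this

theorem imgOf_comp_le {Z W : Scheme.{u}} (a : Spec (CommRingCat.of Ω) ⟶ Z) (h : Z ⟶ W) :
    imgOf (a ≫ h) ≤ imgOf a := by
  rintro _ ⟨y, rfl⟩
  rw [resOf_comp]
  exact ⟨_, rfl⟩

theorem spec_resOf {Z : Scheme.{u}} (a : Spec (CommRingCat.of Ω) ⟶ Z) :
    Spec.map (CommRingCat.ofHom (resOf a)) ≫ Z.fromSpecResidueField (ptOf a) = a :=
  Scheme.descResidueField_stalkClosedPointTo_fromSpecResidueField Ω Z a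

/-- A field-valued point is determined by its image point and residue field embedding. -/
theorem exists_resOf_eq {Z : Scheme.{u}} (x : Z) (e : Z.residueField x →+* Ω) :
    ∃ hx : ptOf (Spec.map (CommRingCat.ofHom e) ≫ Z.fromSpecResidueField x) = x,
      resOf (Spec.map (CommRingCat.ofHom e) ≫ Z.fromSpecResidueField x) =
        e.comp (Z.residueFieldCongr hx).hom.hom := by
  set a := Spec.map (CommRingCat.ofHom e) ≫ Z.fromSpecResidueField x with ha
  have h1 : (Scheme.SpecToEquivOfField Ω Z) a = ⟨x, CommRingCat.ofHom e⟩ := by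
    rw [← Equiv.eq_symm_apply]
    rfl
  rw [Scheme.SpecToEquivOfField_eq_iff] at h1
  obtain ⟨hx, h2⟩ := h1
  refine ⟨hx, ?_⟩
  exact congrArg CommRingCat.Hom.hom h2

theorem imgOf_specMap_fromSpecResidueField {Z : Scheme.{u}} (x : Z) (e : Z.residueField x →+* Ω) :
    imgOf (Spec.map (CommRingCat.ofHom e) ≫ Z.fromSpecResidueField x) = e.fieldRange := by
  obtain ⟨hx, h⟩ := exists_resOf_eq x e
  unfold imgOf
  rw [h]
  ext ω
  constructor
  · rintro ⟨y, rfl⟩
    exact ⟨_, rfl⟩
  · rintro ⟨y, rfl⟩
    refine ⟨(Z.residueFieldCongr hx).inv.hom y, ?_⟩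
    have := congrArg (fun k => k.hom y) (Z.residueFieldCongr hx).inv_hom_id
    simp only [CommRingCat.hom_comp, RingHom.coe_comp, Function.comp_apply, CommRingCat.hom_id,
      RingHom.id_apply] at this
    exact congrArg e this

/-- The images of the two legs generate a pushout of commutative rings (after helper13). -/
theorem closure_range_inl_inr_eq_top {R A B : CommRingCat.{u}} (f : R ⟶ A) (g : R ⟶ B) :
    Subring.closure (Set.range (pushout.inl f g).hom ∪ Set.range (pushout.inr f g).hom) = ⊤ := by
  set C := Subring.closure (Set.range (pushout.inl f g).hom ∪ Set.range (pushout.inr f g).hom)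
    with hC
  let inl' : A ⟶ CommRingCat.of C := CommRingCat.ofHom
    ((pushout.inl f g).hom.codRestrict C (fun a ↦ Subring.subset_closure (Or.inl ⟨a, rfl⟩)))
  let inr' : B ⟶ CommRingCat.of C := CommRingCat.ofHom
    ((pushout.inr f g).hom.codRestrict C (fun b ↦ Subring.subset_closure (Or.inr ⟨b, rfl⟩)))
  let ι : CommRingCat.of C ⟶ pushout f g := CommRingCat.ofHom C.subtype
  have h1 : inl' ≫ ι = pushout.inl f g := by ext; rfl
  have h2 : inr' ≫ ι = pushout.inr f g := by ext; rfl
  have hcond : f ≫ inl' = g ≫ inr' := by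
    ext r
    exact congrArg (fun k ↦ k.hom r) (pushout.condition (f := f) (g := g))
  let d : pushout f g ⟶ CommRingCat.of C := pushout.desc inl' inr' hcond
  have hd : d ≫ ι = 𝟙 _ := by
    apply pushout.hom_ext
    · rw [← Category.assoc, pushout.inl_desc, h1, Category.comp_id]
    · rw [← Category.assoc, pushout.inr_desc, h2, Category.comp_id]
  rw [eq_top_iff]
  intro z _
  have : ι (d z) = z := congrArg (fun k ↦ k.hom z) hd
  rw [← this]
  exact (d z).2

open Scheme.Pullback in
/-- The residue field of a point of a fibre product is generated, as a field, by the residue fields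
of its two projections. -/
theorem closure_range_residueFieldMap_eq_top {X Y S : Scheme.{u}} (f : X ⟶ S) (g : Y ⟶ S)
    (z : ↑(pullback f g)) :
    Subfield.closure (Set.range ((pullback.fst f g).residueFieldMap z).hom ∪
      Set.range ((pullback.snd f g).residueFieldMap z).hom) = ⊤ := by
  set F := Subfield.closure (Set.range ((pullback.fst f g).residueFieldMap z).hom ∪
      Set.range ((pullback.snd f g).residueFieldMap z).hom) with hF
  set T := Triplet.ofPoint z with hT
  -- the image of the tensor product lies in `F`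
  have hW : ∀ w : T.tensor, (ofPointTensor z).hom w ∈ F := by
    intro w
    have hw : w ∈ Subring.closure (Set.range T.tensorInl.hom ∪ Set.range T.tensorInr.hom) := by
      have := closure_range_inl_inr_eq_top
        ((S.residueFieldCongr T.hx).inv ≫ f.residueFieldMap T.x)
        ((S.residueFieldCongr T.hy).inv ≫ g.residueFieldMap T.y)
      exact this ▸ Subring.mem_top w
    have hle : (Subring.closure (Set.range T.tensorInl.hom ∪ Set.range T.tensorInr.hom)).map
        (ofPointTensor z).hom ≤ F.toSubring := by
      rw [RingHom.map_closure, Subring.closure_le]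
      rintro _ ⟨_, (⟨a, rfl⟩ | ⟨b, rfl⟩), rfl⟩
      · apply Subfield.subset_closure
        left
        refine ⟨a, ?_⟩
        have : T.tensorInl ≫ ofPointTensor z = (pullback.fst f g).residueFieldMap z :=
          pushout.inl_desc _ _ _
        exact (congrArg (fun k => k.hom a) this).symm
      · apply Subfield.subset_closure
        right
        refine ⟨b, ?_⟩
        have : T.tensorInr ≫ ofPointTensor z = (pullback.snd f g).residueFieldMap z :=
          pushout.inr_desc _ _ _
        exact (congrArg (fun k => k.hom b) this).symm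
    exact hle ⟨w, hw, rfl⟩
  let w : T.tensor →+* F := (ofPointTensor z).hom.codRestrict F.toSubring hW
  let φ : Spec (CommRingCat.of F) ⟶ pullback f g := Spec.map (CommRingCat.ofHom w) ≫ T.SpecTensorTo
  have h1 : Spec.map (CommRingCat.ofHom F.subtype) ≫ φ = (pullback f g).fromSpecResidueField z := by
    rw [← ofPointTensor_SpecTensorTo z, ← Category.assoc, ← Spec.map_comp]
    rfl
  have h2 := spec_resOf φ
  rw [← h2, ← Category.assoc, ← Spec.map_comp] at h1
  -- compare the two descriptions of the canonical point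
  have h0 : (pullback f g).fromSpecResidueField z =
      Spec.map (𝟙 ((pullback f g).residueField z)) ≫ (pullback f g).fromSpecResidueField z := by
    rw [Spec.map_id, Category.id_comp]
  have h3 : (Scheme.SpecToEquivOfField ((pullback f g).residueField z) (pullback f g)).symm
      ⟨ptOf φ, CommRingCat.ofHom (resOf φ) ≫ CommRingCat.ofHom F.subtype⟩ =
      (Scheme.SpecToEquivOfField ((pullback f g).residueField z) (pullback f g)).symm
      ⟨z, 𝟙 _⟩ := h1.trans h0
  have h4 := (Scheme.SpecToEquivOfField _ _).symm.injective h3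
  rw [Scheme.SpecToEquivOfField_eq_iff] at h4
  obtain ⟨e, h5⟩ := h4
  rw [eq_top_iff]
  intro y _
  have h6 := congrArg (fun k => k.hom ((Scheme.residueFieldCongr e).inv.hom y)) h5
  have h7 := congrArg (fun k => k.hom y) (Scheme.residueFieldCongr e).inv_hom_id
  simp only [CommRingCat.hom_comp, RingHom.coe_comp, Function.comp_apply, CommRingCat.hom_id,
    RingHom.id_apply] at h6 h7
  rw [h7] at h6
  have h8 : y = ((resOf φ) (((Scheme.residueFieldCongr e).inv.hom y)) : F) := h6.symm
  rw [h8]
  exact (resOf φ _).2

theorem coe_imgOf_comp {Z W : Scheme.{u}} (a : Spec (CommRingCat.of Ω) ⟶ Z) (h : Z ⟶ W) :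
    (imgOf (a ≫ h) : Set Ω) = resOf a '' Set.range (h.residueFieldMap (ptOf a)).hom := by
  unfold imgOf
  rw [resOf_comp]
  ext ω
  constructor
  · rintro ⟨y, rfl⟩
    exact ⟨_, ⟨y, rfl⟩, rfl⟩
  · rintro ⟨_, ⟨y, rfl⟩, rfl⟩
    exact ⟨y, rfl⟩

/-- For a field-valued point of a fibre product, the residue field of the image point is generated
by those of the two projections (inside `Ω`). -/
theorem imgOf_pullback {X Y S : Scheme.{u}} (f : X ⟶ S) (g : Y ⟶ S)
    (c : Spec (CommRingCat.of Ω) ⟶ pullback f g) :
    imgOf c = imgOf (c ≫ pullback.fst f g) ⊔ imgOf (c ≫ pullback.snd f g) := by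
  have h1 := closure_range_residueFieldMap_eq_top f g (ptOf c)
  have h2 : imgOf c = Subfield.map (resOf c) ⊤ := by
    unfold imgOf
    rw [RingHom.fieldRange_eq_map]
  rw [h2, ← h1, RingHom.map_field_closure, Set.image_union, Subfield.closure_union,
    ← coe_imgOf_comp, ← coe_imgOf_comp, Subfield.closure_eq, Subfield.closure_eq]

theorem imgOf_comp_of_isIso {Z W : Scheme.{u}} (a : Spec (CommRingCat.of Ω) ⟶ Z) (h : Z ⟶ W)
    [IsIso h] : imgOf (a ≫ h) = imgOf a := by
  apply le_antisymm (imgOf_comp_le a h)
  have := imgOf_comp_le (a ≫ h) (inv h)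
  rwa [Category.assoc, IsIso.hom_inv_id, Category.comp_id] at this

theorem imgOf_isPullback {P X Y S : Scheme.{u}} {fst : P ⟶ X} {snd : P ⟶ Y} {f : X ⟶ S}
    {g : Y ⟶ S} (h : IsPullback fst snd f g) (c : Spec (CommRingCat.of Ω) ⟶ P) :
    imgOf c = imgOf (c ≫ fst) ⊔ imgOf (c ≫ snd) := by
  have h1 := imgOf_pullback f g (c ≫ h.isoPullback.hom)
  rw [imgOf_comp_of_isIso, Category.assoc, Category.assoc, h.isoPullback_hom_fst,
    h.isoPullback_hom_snd] at h1
  exact h1

end Groth.Agent.Lib.helper15.ResGen
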