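import Groth.Agent.Lib.Helper15.ResGen
import Groth.Agent.Lib.Helper15.PerfBC2

/-!
# Field-valued points and residue fields of fibre products, II (helper15)

* `resMapTo h z w hw : κ(w) →+* κ(z)` for `hw : h z = w`, characterised by
  `Spec.map (resMapTo ..) ≫ W.fromSpecResidueField w = Z.fromSpecResidueField z ≫ h`.
* `specMap_fromSpecResidueField_injective`, `resMapTo_comm` (commutative squares).
* `closure_range_residueFieldMap_of_isPullback`: residue fields of a fibre product are generated by
  those of the projections.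
* `trdeg_ptOf`: the residual transcendence degree at the image of a field-valued point, computed
  inside the field.
-/

set_option autoImplicit false
set_option linter.style.haveILetI false
universe u
open CategoryTheory CategoryTheory.Limits AlgebraicGeometry IsLocalRing

namespace Groth.Agent.Lib.helper15.ResGen

variable {Ω : Type u} [Field Ω]

theorem specMap_comp_fromSpecResidueField_comp {Z W : Scheme.{u}} (x : Z)
    (e : Z.residueField x →+* Ω) (h : Z ⟶ W) :
    (Spec.map (CommRingCat.ofHom e) ≫ Z.fromSpecResidueField x) ≫ h =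
      Spec.map (CommRingCat.ofHom (e.comp (h.residueFieldMap x).hom)) ≫
        W.fromSpecResidueField (h x) := by
  rw [Category.assoc, ← Scheme.Hom.SpecMap_residueFieldMap_fromSpecResidueField, ← Category.assoc,
    ← Spec.map_comp]
  rfl

theorem imgOf_specMap_fromSpecResidueField_comp {Z W : Scheme.{u}} (x : Z)
    (e : Z.residueField x →+* Ω) (h : Z ⟶ W) :
    imgOf ((Spec.map (CommRingCat.ofHom e) ≫ Z.fromSpecResidueField x) ≫ h) =
      (e.comp (h.residueFieldMap x).hom).fieldRange := by
  rw [specMap_comp_fromSpecResidueField_comp, imgOf_specMap_fromSpecResidueField]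

/-- The map of residue fields `κ(w) → κ(z)` for `h z = w`. -/
noncomputable def resMapToHom {Z W : Scheme.{u}} (h : Z ⟶ W) (z : Z) (w : W) (hw : h z = w) :
    W.residueField w ⟶ Z.residueField z :=
  (W.residueFieldCongr hw.symm).hom ≫ h.residueFieldMap z

theorem resMapToHom_rfl {Z W : Scheme.{u}} (h : Z ⟶ W) (z : Z) :
    resMapToHom h z (h z) rfl = h.residueFieldMap z := by
  simp [resMapToHom]

theorem specMap_resMapToHom {Z W : Scheme.{u}} (h : Z ⟶ W) (z : Z) (w : W) (hw : h z = w) :
    Spec.map (resMapToHom h z w hw) ≫ W.fromSpecResidueField w =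
      Z.fromSpecResidueField z ≫ h := by
  subst hw
  rw [resMapToHom_rfl]
  exact Scheme.Hom.SpecMap_residueFieldMap_fromSpecResidueField h z

theorem range_resMapToHom {Z W : Scheme.{u}} (h : Z ⟶ W) (z : Z) (w : W) (hw : h z = w) :
    Set.range (resMapToHom h z w hw).hom = Set.range (h.residueFieldMap z).hom := by
  subst hw
  rw [resMapToHom_rfl]

theorem specMap_fromSpecResidueField_injective {Z : Scheme.{u}} (z : Z)
    (φ ψ : Z.residueField z ⟶ CommRingCat.of Ω)
    (h : Spec.map φ ≫ Z.fromSpecResidueField z = Spec.map ψ ≫ Z.fromSpecResidueField z) :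
    φ = ψ := by
  have h1 : (Scheme.SpecToEquivOfField Ω Z).symm ⟨z, φ⟩ =
      (Scheme.SpecToEquivOfField Ω Z).symm ⟨z, ψ⟩ := h
  have h2 := (Scheme.SpecToEquivOfField Ω Z).symm.injective h1
  rw [Scheme.SpecToEquivOfField_eq_iff] at h2
  obtain ⟨e, h3⟩ := h2
  dsimp only at e h3
  rw [h3]
  simp

theorem resMapToHom_comm {X' X S' S : Scheme.{u}} {g' : X' ⟶ X} {f' : X' ⟶ S'} {f : X ⟶ S}
    {g : S' ⟶ S} (hw : g' ≫ f = f' ≫ g) (x' : X') (x : X) (hx : g' x' = x)
    (hs : g (f' x') = f x) :
    f.residueFieldMap x ≫ resMapToHom g' x' x hx =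
      resMapToHom g (f' x') (f x) hs ≫ f'.residueFieldMap x' := by
  apply specMap_fromSpecResidueField_injective (Ω := ↑(X'.residueField x')) (f x)
  have e1 : Spec.map (f.residueFieldMap x ≫ resMapToHom g' x' x hx) ≫ S.fromSpecResidueField (f x) =
      X'.fromSpecResidueField x' ≫ g' ≫ f := by
    rw [Spec.map_comp, Category.assoc, Scheme.Hom.SpecMap_residueFieldMap_fromSpecResidueField,
      ← Category.assoc, specMap_resMapToHom, Category.assoc]
  have e2 : Spec.map (resMapToHom g (f' x') (f x) hs ≫ f'.residueFieldMap x') ≫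
      S.fromSpecResidueField (f x) = X'.fromSpecResidueField x' ≫ f' ≫ g := by
    rw [Spec.map_comp, Category.assoc, specMap_resMapToHom, ← Category.assoc,
      Scheme.Hom.SpecMap_residueFieldMap_fromSpecResidueField, Category.assoc]
  exact e1.trans ((congrArg (fun k => X'.fromSpecResidueField x' ≫ k) hw).trans e2.symm)

/-- The residue field of a point of a fibre product is generated by the residue fields of its two
projections. -/
theorem closure_range_residueFieldMap_of_isPullback {P X Y S : Scheme.{u}} {fst : P ⟶ X}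
    {snd : P ⟶ Y} {f : X ⟶ S} {g : Y ⟶ S} (h : IsPullback fst snd f g) (z : P) :
    Subfield.closure (Set.range (fst.residueFieldMap z).hom ∪
      Set.range (snd.residueFieldMap z).hom) = ⊤ := by
  have h1 := imgOf_isPullback h
    (Spec.map (CommRingCat.ofHom (RingHom.id (P.residueField z))) ≫ P.fromSpecResidueField z)
  rw [imgOf_specMap_fromSpecResidueField, imgOf_specMap_fromSpecResidueField_comp,
    imgOf_specMap_fromSpecResidueField_comp, RingHom.id_comp, RingHom.id_comp] at h1
  rw [Subfield.closure_union, ← RingHom.coe_fieldRange, ← RingHom.coe_fieldRange,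
    Subfield.closure_eq, Subfield.closure_eq, ← h1]
  rw [_root_.eq_top_iff]
  intro y _
  exact ⟨y, rfl⟩

/-- The residual transcendence degree at the image of a field-valued point, computed inside the
field. -/
theorem trdeg_ptOf {Z W : Scheme.{u}} (a : Spec (CommRingCat.of Ω) ⟶ Z) (h : Z ⟶ W) :
    (letI := (h.residueFieldMap (ptOf a)).hom.toAlgebra
     Algebra.trdeg (W.residueField (h (ptOf a))) (Z.residueField (ptOf a))) =
    (letI := (Subfield.inclusion (imgOf_comp_le a h)).toAlgebra
     Algebra.trdeg (imgOf (a ≫ h)) (imgOf a)) := by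
  refine PerfBC.trdeg_square (h.residueFieldMap (ptOf a)).hom (resOf a).rangeRestrictField
    (resOf (a ≫ h)).rangeRestrictField (Subfield.inclusion (imgOf_comp_le a h)) ?_ ?_ ?_
  · ext y
    change resOf a ((h.residueFieldMap (ptOf a)).hom y) = resOf (a ≫ h) y
    rw [resOf_comp]
    rfl
  · apply PerfBC.isPurelyInseparable_of_surjective
    exact RingHom.rangeRestrictField_bijective _ |>.2
  · apply PerfBC.isPurelyInseparable_of_surjective
    exact RingHom.rangeRestrictField_bijective _ |>.2

end Groth.Agent.Lib.helper15.ResGen
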