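import Mathlib
import Groth.Prelude.Def_HopfRep
import Groth.Prelude.Def_Hoch
import Groth.Prelude.Def_ComodTens
import Groth.Prelude.Def_ComodSub
import Groth.Agent.Lib.Helper15.SerreFin

/-!
# Comodules as quotients of subcomodules of cofree comodules (helper15)

* `K C g`: for a linear map `g : M → X` out of a comodule, the largest subcomodule inside `ker g`
  (`K_le_ker`, `isSubcomod_K` for `C` flat).
* `exists_fg_subcomod_le`: local finiteness inside a subcomodule (`R` Noetherian, `C` flat).
* `gOf`, `eq_on_K`, `mem_K_gOf`: the largest subcomodule on which a linear map is a comodule map.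
* `stage1`: a finitely generated comodule `E` is the image, under a comodule map, of a finitely
  generated subcomodule `G` of a cofree comodule `L ⊗ C` on a finite free module; the comodule map is
  the restriction of a linear map `L ⊗ C → E`.
-/

set_option autoImplicit false
set_option linter.unusedSectionVars false
set_option linter.style.haveILetI false

namespace Groth.Agent.Lib.helper15.SerreQuot

open TensorProduct

universe u

/-- shorthand for the coaction of a right comodule -/
noncomputable abbrev coa (R : Type u) [CommRing R] (C : Type u) [AddCommGroup C] [Module R C]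
    [Coalgebra R C] (M : Type u) [AddCommGroup M] [Module R M] [HopfRep.Comod R C M] :
    M →ₗ[R] M ⊗[R] C :=
  HopfRep.Comod.coact (k := R) (A := C) (V := M)

section K

variable {R : Type u} [CommRing R] (C : Type u) [AddCommGroup C] [Module R C] [Coalgebra R C]
  {M : Type u} [AddCommGroup M] [Module R M] [HopfRep.Comod R C M]
  {X : Type u} [AddCommGroup X] [Module R X]

/-- the largest subcomodule contained in the kernel of `g` -/
noncomputable def K (g : M →ₗ[R] X) : Submodule R M :=
  LinearMap.ker (g.rTensor C ∘ₗ coa R C M)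

theorem mem_K (g : M →ₗ[R] X) (x : M) : x ∈ K C g ↔ g.rTensor C (coa R C M x) = 0 := Iff.rfl

theorem coact_injective : Function.Injective (coa R C M) := by
  intro x y hxy
  have hx := LinearMap.congr_fun (HopfRep.Comod.counit_comp (k := R) (A := C) (V := M)) x
  have hy := LinearMap.congr_fun (HopfRep.Comod.counit_comp (k := R) (A := C) (V := M)) y
  simp only [LinearMap.comp_apply, LinearMap.flip_apply, TensorProduct.mk_apply] at hx hy
  have h : x ⊗ₜ[R] (1 : R) = y ⊗ₜ[R] (1 : R) := by
    rw [← hx, ← hy]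
    exact congrArg _ hxy
  have := congrArg (TensorProduct.rid R M) h
  simpa using this

theorem K_le_ker (g : M →ₗ[R] X) : K C g ≤ LinearMap.ker g := by
  intro x hx
  have h1 : g.rTensor C (coa R C M x) = 0 := hx
  have h2 := ComodTens.lTensor_rTensor_comm (Coalgebra.counit (R := R) (A := C)) g (coa R C M x)
  rw [h1, map_zero] at h2
  have h3 := LinearMap.congr_fun (HopfRep.Comod.counit_comp (k := R) (A := C) (V := M)) x
  simp only [LinearMap.comp_apply, LinearMap.flip_apply, TensorProduct.mk_apply] at h3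
  rw [h3, LinearMap.rTensor_tmul] at h2
  have := congrArg (TensorProduct.rid R X) h2
  rw [LinearMap.mem_ker]
  simpa using this.symm

theorem isSubcomod_K [Module.Flat R C] (g : M →ₗ[R] X) :
    HopfRep.IsSubcomod (k := R) (A := C) (K C g) := by
  intro x hx
  set ρ := coa R C M with hρ
  set θ : M →ₗ[R] X ⊗[R] C := g.rTensor C ∘ₗ ρ with hθ
  have hex : Function.Exact ((LinearMap.ker θ).subtype.rTensor C) (θ.rTensor C) :=
    Module.Flat.rTensor_exact C (LinearMap.exact_subtype_ker_map θ)
  have hx0 : g.rTensor C (ρ x) = 0 := hx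
  have hc := LinearMap.congr_fun (HopfRep.Comod.coassoc (k := R) (A := C) (V := M)) x
  simp only [LinearMap.comp_apply, LinearEquiv.coe_coe] at hc
  have key : θ.rTensor C (ρ x) = 0 := by
    have e1 : θ.rTensor C (ρ x) = (g.rTensor C).rTensor C (ρ.rTensor C (ρ x)) := by
      rw [hθ, LinearMap.rTensor_comp]
      rfl
    rw [e1]
    apply (TensorProduct.assoc R X C C).injective
    rw [ComodTens.assoc_rTensor_rTensor, hc, ← ComodTens.lTensor_rTensor_comm, hx0, map_zero,
      map_zero]
  obtain ⟨y, hy⟩ := (hex (ρ x)).1 key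
  exact ⟨y, hy⟩

theorem mem_K_mkQ (N : Submodule R M) (x : M)
    (hx : coa R C M x ∈ LinearMap.range (N.subtype.rTensor C)) : x ∈ K C N.mkQ := by
  obtain ⟨t, ht⟩ := hx
  rw [mem_K, ← ht, ← LinearMap.rTensor_comp_apply]
  have h0 : N.mkQ ∘ₗ N.subtype = 0 := by
    apply LinearMap.ext
    intro y
    simp
  rw [h0, LinearMap.rTensor_zero, LinearMap.zero_apply]

theorem exists_fg_le_of_mem (W : Submodule R M)
    (x : M) (hx : coa R C M x ∈ LinearMap.range (W.subtype.rTensor C)) :
    ∃ N : Submodule R M, N ≤ W ∧ N.FG ∧ coa R C M x ∈ LinearMap.range (N.subtype.rTensor C) := by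
  obtain ⟨t, ht⟩ := hx
  obtain ⟨N', hN'fg, ⟨v, hv⟩⟩ :=
    Groth.Agent.Lib.helper15.SerreFin.exists_fg_range_rTensor (R := R) (A := W) (B := C) t
  refine ⟨N'.map W.subtype, ?_, hN'fg.map _, ?_⟩
  · rintro _ ⟨y, -, rfl⟩
    exact y.2
  · let ι : N' →ₗ[R] (N'.map W.subtype : Submodule R M) :=
      LinearMap.codRestrict _ (W.subtype ∘ₗ N'.subtype)
        (fun n => Submodule.mem_map_of_mem n.2)
    have hι : (N'.map W.subtype).subtype ∘ₗ ι = W.subtype ∘ₗ N'.subtype := by
      apply LinearMap.ext
      intro n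
      rfl
    refine ⟨ι.rTensor C v, ?_⟩
    rw [← LinearMap.rTensor_comp_apply, hι, LinearMap.rTensor_comp_apply, hv, ht]

theorem exists_fg_le_of_finset (W : Submodule R M)
    (F : Finset M) (hF : ∀ x ∈ F, coa R C M x ∈ LinearMap.range (W.subtype.rTensor C)) :
    ∃ N : Submodule R M, N ≤ W ∧ N.FG ∧
      ∀ x ∈ F, coa R C M x ∈ LinearMap.range (N.subtype.rTensor C) := by
  classical
  induction F using Finset.induction_on with
  | empty => exact ⟨⊥, bot_le, Submodule.fg_bot, fun x hx => by simp at hx⟩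
  | insert a F' _ ih =>
    obtain ⟨N₁, h1le, h1fg, h1⟩ := ih (fun x hx => hF x (Finset.mem_insert_of_mem hx))
    obtain ⟨N₂, h2le, h2fg, h2⟩ := exists_fg_le_of_mem C W a (hF a (Finset.mem_insert_self a F'))
    refine ⟨N₁ ⊔ N₂, sup_le h1le h2le, h1fg.sup h2fg, fun x hx => ?_⟩
    rcases Finset.mem_insert.1 hx with rfl | hx'
    · exact Groth.Agent.Lib.helper15.SerreFin.range_rTensor_mono le_sup_right h2
    · exact Groth.Agent.Lib.helper15.SerreFin.range_rTensor_mono le_sup_left (h1 x hx')

/-- local finiteness inside a subcomodule -/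
theorem exists_fg_subcomod_le [IsNoetherianRing R] [Module.Flat R C] (W : Submodule R M)
    (hW : HopfRep.IsSubcomod (k := R) (A := C) W) (F : Finset M) (hF : ∀ x ∈ F, x ∈ W) :
    ∃ G : Submodule R M, G ≤ W ∧ (∀ x ∈ F, x ∈ G) ∧ G.FG ∧
      HopfRep.IsSubcomod (k := R) (A := C) G := by
  obtain ⟨N, hNle, hNfg, hN⟩ := exists_fg_le_of_finset C W F (fun x hx => hW x (hF x hx))
  have hKN : K C N.mkQ ≤ N := by
    intro x hx
    have := K_le_ker C N.mkQ hx
    rwa [Submodule.ker_mkQ] at this
  exact ⟨K C N.mkQ, hKN.trans hNle, fun x hx => mem_K_mkQ C N x (hN x hx), hNfg.of_le hKN,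
    isSubcomod_K C N.mkQ⟩

end K

section Hom

variable {R : Type u} [CommRing R] (C : Type u) [AddCommGroup C] [Module R C] [Coalgebra R C]
  {M : Type u} [AddCommGroup M] [Module R M] [HopfRep.Comod R C M]
  {E : Type u} [AddCommGroup E] [Module R E] [HopfRep.Comod R C E]

/-- the defect of `φ₀` from being a comodule map -/
noncomputable def gOf (φ₀ : M →ₗ[R] E) : M →ₗ[R] E ⊗[R] C :=
  φ₀.rTensor C ∘ₗ coa R C M - coa R C E ∘ₗ φ₀

theorem eq_on_K (φ₀ : M →ₗ[R] E) (x : M) (hx : x ∈ K C (gOf C φ₀)) :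
    coa R C E (φ₀ x) = φ₀.rTensor C (coa R C M x) := by
  have h := K_le_ker C (gOf C φ₀) hx
  rw [LinearMap.mem_ker, gOf, LinearMap.sub_apply, sub_eq_zero] at h
  exact h.symm

theorem mem_K_gOf (φ₀ : M →ₗ[R] E) (x : M) (e : E)
    (hxe : φ₀.rTensor C (coa R C M x) = coa R C E e) : x ∈ K C (gOf C φ₀) := by
  rw [mem_K, gOf, LinearMap.rTensor_sub, LinearMap.sub_apply, sub_eq_zero]
  have hcM := LinearMap.congr_fun (HopfRep.Comod.coassoc (k := R) (A := C) (V := M)) x
  have hcE := LinearMap.congr_fun (HopfRep.Comod.coassoc (k := R) (A := C) (V := E)) e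
  simp only [LinearMap.comp_apply, LinearEquiv.coe_coe] at hcM hcE
  apply (TensorProduct.assoc R E C C).injective
  rw [LinearMap.rTensor_comp_apply, LinearMap.rTensor_comp_apply, ComodTens.assoc_rTensor_rTensor,
    hcM, ← ComodTens.lTensor_rTensor_comm, hxe, hcE]

end Hom

section Cofree

variable {R : Type u} [CommRing R] (C : Type u) [AddCommGroup C] [Module R C] [Coalgebra R C]
  (L : Type u) [AddCommGroup L] [Module R L] {E : Type u} [AddCommGroup E] [Module R E]

/-- `l ⊗ c ↦ ε(c) π(l)` -/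
noncomputable def phi0 (π : L →ₗ[R] E) : L ⊗[R] C →ₗ[R] E :=
  π ∘ₗ (TensorProduct.rid R L).toLinearMap ∘ₗ (Coalgebra.counit (R := R) (A := C)).lTensor L

theorem phi0_tmul (π : L →ₗ[R] E) (l : L) (c : C) :
    phi0 C L π (l ⊗ₜ[R] c) = Coalgebra.counit (R := R) c • π l := by
  simp [phi0]

theorem phi0_aux (π : L →ₗ[R] E) (l : L) (x : C ⊗[R] C) :
    (phi0 C L π).rTensor C ((TensorProduct.assoc R L C C).symm (l ⊗ₜ[R] x)) =
      π l ⊗ₜ[R] TensorProduct.lid R C ((Coalgebra.counit (R := R) (A := C)).rTensor C x) := by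
  induction x with
  | zero => simp
  | tmul a b =>
    rw [TensorProduct.assoc_symm_tmul, LinearMap.rTensor_tmul, phi0_tmul, LinearMap.rTensor_tmul,
      TensorProduct.lid_tmul, TensorProduct.smul_tmul]
  | add x y hx hy =>
    simp only [TensorProduct.tmul_add, map_add, hx, hy]

theorem psi_eq (π : L →ₗ[R] E) :
    (phi0 C L π).rTensor C ∘ₗ Hoch.Ind.coactAux R C L = π.rTensor C := by
  refine TensorProduct.ext' fun l c => ?_
  rw [LinearMap.comp_apply, Hoch.Ind.coactAux_tmul, phi0_aux, Coalgebra.rTensor_counit_comul,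
    TensorProduct.lid_tmul, one_smul, LinearMap.rTensor_tmul]

end Cofree

/-- **Stage 1**: a finitely generated comodule is the image under a comodule map of a finitely
generated subcomodule of a cofree comodule on a finite free module; the map is the restriction of
a linear map defined on the whole cofree comodule. -/
theorem stage1 (R : Type u) [CommRing R] [IsNoetherianRing R] (C : Type u) [AddCommGroup C]
    [Module R C] [Coalgebra R C] [Module.Projective R C] (E : Type u) [AddCommGroup E] [Module R E]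
    [HopfRep.Comod R C E] [Module.Finite R E] :
    ∃ (G : Type u) (_ : AddCommGroup G) (_ : Module R G) (_ : HopfRep.Comod R C G)
      (Mo : Type u) (_ : AddCommGroup Mo) (_ : Module R Mo) (j : G →ₗ[R] Mo) (φ₀ : Mo →ₗ[R] E),
      Module.Finite R G ∧ Module.Projective R Mo ∧ Function.Injective j ∧
      Function.Surjective (φ₀ ∘ₗ j) ∧
      coa R C E ∘ₗ (φ₀ ∘ₗ j) = (φ₀ ∘ₗ j).rTensor C ∘ₗ coa R C G := by
  classical
  obtain ⟨n, π, hπ⟩ := Module.Finite.exists_fin' R E
  letI cM : HopfRep.Comod R C ((Fin n → R) ⊗[R] C) := Hoch.Ind.comod R C (Fin n → R)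
  set φ₀ : (Fin n → R) ⊗[R] C →ₗ[R] E := phi0 C (Fin n → R) π with hφ₀
  have hψ : φ₀.rTensor C ∘ₗ coa R C ((Fin n → R) ⊗[R] C) = π.rTensor C := psi_eq C (Fin n → R) π
  have hψsurj : Function.Surjective (π.rTensor C) := LinearMap.rTensor_surjective C hπ
  obtain ⟨m, gen, hgen⟩ := Module.Finite.exists_fin (R := R) (M := E)
  choose x hx using fun a => hψsurj (coa R C E (gen a))
  have hx' : ∀ a, φ₀.rTensor C (coa R C ((Fin n → R) ⊗[R] C) (x a)) = coa R C E (gen a) := by
    intro a
    rw [← hx a, ← hψ]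
    rfl
  have hxK : ∀ a, x a ∈ K C (gOf C φ₀) := fun a => mem_K_gOf C φ₀ (x a) (gen a) (hx' a)
  obtain ⟨G', hG'le, hG'x, hG'fg, hG'sub⟩ := exists_fg_subcomod_le C (K C (gOf C φ₀))
    (isSubcomod_K C _) (Finset.univ.image x) (by
      intro y hy
      obtain ⟨a, -, rfl⟩ := Finset.mem_image.1 hy
      exact hxK a)
  refine ⟨G', inferInstance, inferInstance, ComodSub.Comod.restr cM G' hG'sub,
    (Fin n → R) ⊗[R] C, inferInstance, inferInstance, G'.subtype, φ₀,
    Module.Finite.iff_fg.2 hG'fg, inferInstance, G'.injective_subtype, ?_, ?_⟩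
  · have hr : LinearMap.range (φ₀ ∘ₗ G'.subtype) = ⊤ := by
      rw [eq_top_iff, ← hgen, Submodule.span_le]
      rintro _ ⟨a, rfl⟩
      refine ⟨⟨x a, hG'x _ (Finset.mem_image_of_mem _ (Finset.mem_univ a))⟩, ?_⟩
      have h1 := eq_on_K C φ₀ (x a) (hxK a)
      apply coact_injective (R := R) C
      rw [LinearMap.comp_apply, Submodule.subtype_apply, h1, hx' a]
    exact LinearMap.range_eq_top.1 hr
  · apply LinearMap.ext
    intro g
    have h1 := eq_on_K C φ₀ (g : (Fin n → R) ⊗[R] C) (hG'le g.2)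
    have h2 := ComodSub.restr_coact_coe cM G' hG'sub g
    rw [LinearMap.comp_apply, LinearMap.comp_apply, LinearMap.comp_apply, Submodule.subtype_apply,
      h1, LinearMap.rTensor_comp_apply]
    exact congrArg _ h2.symm

end Groth.Agent.Lib.helper15.SerreQuot
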