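import Mathlib
import Groth.Prelude.Def_HopfRep
import Groth.Prelude.Def_Hoch
import Groth.Prelude.Def_ComodTens
import Groth.Prelude.Def_ComodSub
import Groth.Agent.Lib.Helper15.SerreQuot1
import Groth.Agent.Lib.Helper15.DualTensorFlat
import Groth.Agent.Lib.Helper15.DualProjReg

/-!
# Comodules as quotients of finite projective comodules, stage 2 (helper15)

* `Sep R W`: `W` is separated by its linear functionals (`sep_of_projective`, `Sep.of_injective`).
* `star`: two linear maps `G^{∨∨} → W` into a separated module which agree on the image of `G`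
  are equal (when `G^∨` is finite projective).
* `rhoV`, `comodV`: the comodule structure on the double dual of a finitely presented comodule
  whose dual is finite projective; `rhoV_eval`: the evaluation map `G → G^{∨∨}` is a comodule map.
* `exists_extension`: a linear map from a finite module `G` to a projective module extends along
  `G → G^{∨∨}`.
* `stage2`: over a regular ring of dimension at most 2, a comodule map `G → E` that is the
  restriction of a linear map defined on a projective module containing `G` extends to a comodule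
  map `G^{∨∨} → E` (for `E ⊗ C` separated).
-/

set_option autoImplicit false
set_option linter.unusedSectionVars false
set_option linter.style.haveILetI false

namespace Groth.Agent.Lib.helper15.SerreQuot

open TensorProduct
open Groth.Agent.Lib.helper15.DualTensorFlat

universe u

section Sep

variable (R : Type u) [CommRing R]

/-- separated by linear functionals -/
def Sep (W : Type u) [AddCommGroup W] [Module R W] : Prop :=
  ∀ w : W, (∀ μ : W →ₗ[R] R, μ w = 0) → w = 0

theorem sep_of_projective (W : Type u) [AddCommGroup W] [Module R W] [Module.Projective R W] :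
    Sep R W := by
  intro w hw
  obtain ⟨s, hs⟩ := Module.projective_def'.1 (inferInstance : Module.Projective R W)
  have h0 : s w = 0 := by
    apply Finsupp.ext
    intro i
    have := hw ((Finsupp.lapply i) ∘ₗ s)
    simpa using this
  have := LinearMap.congr_fun hs w
  rw [LinearMap.comp_apply, h0, map_zero] at this
  simpa using this.symm

variable {R}

theorem Sep.of_injective {W W' : Type u} [AddCommGroup W] [Module R W] [AddCommGroup W']
    [Module R W'] (f : W →ₗ[R] W') (hf : Function.Injective f) (h : Sep R W') : Sep R W := by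
  intro w hw
  apply hf
  rw [map_zero]
  apply h
  intro μ
  exact hw (μ ∘ₗ f)

end Sep

section Star

variable {R : Type u} [CommRing R] (G : Type u) [AddCommGroup G] [Module R G]
  [Module.Finite R (Module.Dual R G)] [Module.Projective R (Module.Dual R G)]

theorem dual_eq_zero_of_eval (ξ : Module.Dual R (Module.Dual R (Module.Dual R G)))
    (h : ∀ g : G, ξ (Module.Dual.eval R G g) = 0) : ξ = 0 := by
  obtain ⟨l, rfl⟩ := (Module.bijective_dual_eval R (Module.Dual R G)).2 ξ
  have hl : l = 0 := by
    apply LinearMap.ext
    intro g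
    have := h g
    rw [Module.Dual.eval_apply, Module.Dual.eval_apply] at this
    exact this
  rw [hl, map_zero]

theorem star {W : Type u} [AddCommGroup W] [Module R W] (hW : Sep R W)
    (a b : Module.Dual R (Module.Dual R G) →ₗ[R] W)
    (h : ∀ g : G, a (Module.Dual.eval R G g) = b (Module.Dual.eval R G g)) : a = b := by
  apply LinearMap.ext
  intro v
  rw [← sub_eq_zero]
  apply hW
  intro μ
  have h0 : μ ∘ₗ (a - b) = 0 := by
    apply dual_eq_zero_of_eval G
    intro g
    rw [LinearMap.comp_apply, LinearMap.sub_apply, h g, sub_self, map_zero]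
  have := LinearMap.congr_fun h0 v
  rw [LinearMap.comp_apply, LinearMap.sub_apply] at this
  exact this

end Star

theorem finite_dual (R : Type u) [CommRing R] [IsNoetherianRing R] (E : Type u) [AddCommGroup E]
    [Module R E] [Module.Finite R E] : Module.Finite R (Module.Dual R E) := by
  obtain ⟨a, π, hπ⟩ := Module.Finite.exists_fin' R E
  exact Module.Finite.of_injective π.dualMap (LinearMap.dualMap_injective_of_surjective hπ)

section Coaction

variable {R : Type u} [CommRing R] (C : Type u) [AddCommGroup C] [Module R C] [Coalgebra R C]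
  [Module.Projective R C]
  (G : Type u) [AddCommGroup G] [Module R G] [HopfRep.Comod R C G]

/-- `l ↦ (l ⊗ id) ∘ ρ : G → C` -/
noncomputable def Lam : Module.Dual R G →ₗ[R] (G →ₗ[R] C) where
  toFun l := (TensorProduct.lid R C).toLinearMap ∘ₗ l.rTensor C ∘ₗ coa R C G
  map_add' l l' := by
    rw [LinearMap.rTensor_add, LinearMap.add_comp, LinearMap.comp_add]
  map_smul' r l := by
    rw [LinearMap.rTensor_smul, LinearMap.smul_comp, LinearMap.comp_smul, RingHom.id_apply]

theorem Lam_apply (l : Module.Dual R G) (g : G) :
    Lam C G l g = TensorProduct.lid R C (l.rTensor C (coa R C G g)) := rfl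

/-- `v ↦ pair v : N ⊗ C → C` -/
noncomputable def pairL (N : Type u) [AddCommGroup N] [Module R N] :
    Module.Dual R N →ₗ[R] (N ⊗[R] C →ₗ[R] C) where
  toFun v := pair v
  map_add' v v' := by
    apply TensorProduct.ext'
    intro n c
    rw [LinearMap.add_apply, pair_tmul, pair_tmul, pair_tmul, LinearMap.add_apply, add_smul]
  map_smul' r v := by
    apply TensorProduct.ext'
    intro n c
    rw [RingHom.id_apply, LinearMap.smul_apply, pair_tmul, pair_tmul, LinearMap.smul_apply,
      smul_assoc]

theorem pair_eval (g : G) (s : Module.Dual R G ⊗[R] C) :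
    pair (Module.Dual.eval R G g) s = dualTensorHom R G C s g := by
  induction s with
  | zero => simp
  | tmul l c => rw [pair_tmul, dualTensorHom_apply, Module.Dual.eval_apply]
  | add x y hx hy => rw [map_add, map_add, LinearMap.add_apply, hx, hy]

theorem dualTensorHom_rTensor_eval (t : G ⊗[R] C) (l : Module.Dual R G) :
    dualTensorHom R (Module.Dual R G) C ((Module.Dual.eval R G).rTensor C t) l =
      TensorProduct.lid R C (l.rTensor C t) := by
  induction t with
  | zero => simp
  | tmul g c =>
    rw [LinearMap.rTensor_tmul, dualTensorHom_apply, Module.Dual.eval_apply,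
      LinearMap.rTensor_tmul, TensorProduct.lid_tmul]
  | add x y hx hy => simp only [map_add, LinearMap.add_apply, hx, hy]

variable [Module.FinitePresentation R G]

/-- the coaction on the dual, in the form `G^∨ → G^∨ ⊗ C` -/
noncomputable def lco : Module.Dual R G →ₗ[R] Module.Dual R G ⊗[R] C :=
  (dualTensorEquiv R G C).symm.toLinearMap ∘ₗ Lam C G

theorem dualTensorHom_lco (l : Module.Dual R G) (g : G) :
    dualTensorHom R G C (lco C G l) g = TensorProduct.lid R C (l.rTensor C (coa R C G g)) := by
  show dualTensorHom R G C ((dualTensorEquiv R G C).symm (Lam C G l)) g = _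
  rw [dualTensorHom_symm_apply]
  rfl

variable [Module.FinitePresentation R (Module.Dual R G)]

/-- the coaction on the double dual -/
noncomputable def rhoV : Module.Dual R (Module.Dual R G) →ₗ[R]
    Module.Dual R (Module.Dual R G) ⊗[R] C :=
  (dualTensorEquiv R (Module.Dual R G) C).symm.toLinearMap ∘ₗ
    (LinearMap.lcomp R C (lco C G)) ∘ₗ pairL C (Module.Dual R G)

theorem dualTensorHom_rhoV (v : Module.Dual R (Module.Dual R G)) (l : Module.Dual R G) :
    dualTensorHom R (Module.Dual R G) C (rhoV C G v) l = pair v (lco C G l) := by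
  show dualTensorHom R (Module.Dual R G) C ((dualTensorEquiv R (Module.Dual R G) C).symm
    ((pair v) ∘ₗ lco C G)) l = _
  rw [dualTensorHom_symm_apply]
  rfl

theorem rhoV_eval (g : G) :
    rhoV C G (Module.Dual.eval R G g) = (Module.Dual.eval R G).rTensor C (coa R C G g) := by
  apply dualTensorHom_injective (R := R) (E := Module.Dual R G) (M := C)
  apply LinearMap.ext
  intro l
  rw [dualTensorHom_rhoV, pair_eval, dualTensorHom_lco, dualTensorHom_rTensor_eval]

theorem rhoV_comp_eval :
    rhoV C G ∘ₗ Module.Dual.eval R G = (Module.Dual.eval R G).rTensor C ∘ₗ coa R C G :=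
  LinearMap.ext fun g => rhoV_eval C G g

variable [Module.Projective R (Module.Dual R G)]

/-- the comodule structure on the double dual -/
@[reducible] noncomputable def comodV : HopfRep.Comod R C (Module.Dual R (Module.Dual R G)) where
  coact := rhoV C G
  coassoc := by
    refine star G (W := Module.Dual R (Module.Dual R G) ⊗[R] (C ⊗[R] C))
      (sep_of_projective R _) _ _ ?_
    intro g
    exact ComodTens.coassoc_apply_of_hom (inferInstance : HopfRep.Comod R C G) (rhoV C G)
      (Module.Dual.eval R G) (rhoV_comp_eval C G) g
  counit_comp := by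
    refine star G (W := Module.Dual R (Module.Dual R G) ⊗[R] R)
      (sep_of_projective R _) _ _ ?_
    intro g
    exact ComodTens.counit_apply_of_hom (inferInstance : HopfRep.Comod R C G) (rhoV C G)
      (Module.Dual.eval R G) (rhoV_comp_eval C G) g

end Coaction

theorem exists_extension {R : Type u} [CommRing R] (G : Type u) [AddCommGroup G] [Module R G]
    [Module.Finite R G] (Mo : Type u) [AddCommGroup Mo] [Module R Mo] [Module.Projective R Mo]
    (j : G →ₗ[R] Mo) :
    ∃ jh : Module.Dual R (Module.Dual R G) →ₗ[R] Mo,
      ∀ g, jh (Module.Dual.eval R G g) = j g := by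
  classical
  obtain ⟨s, hs⟩ := Module.projective_def'.1 (inferInstance : Module.Projective R Mo)
  obtain ⟨n, gen, hgen⟩ := Module.Finite.exists_fin (R := R) (M := G)
  set J : Finset Mo := Finset.univ.biUnion fun a : Fin n => (s (j (gen a))).support with hJ
  have hle : (⊤ : Submodule R G) ≤ (Finsupp.supported R R (J : Set Mo)).comap (s ∘ₗ j) := by
    rw [← hgen, Submodule.span_le]
    rintro _ ⟨a, rfl⟩
    rw [SetLike.mem_coe, Submodule.mem_comap, LinearMap.comp_apply, Finsupp.mem_supported]
    intro i hi
    rw [Finset.mem_coe] at hi ⊢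
    exact Finset.mem_biUnion.2 ⟨a, Finset.mem_univ a, hi⟩
  have hsupp : ∀ g : G, (s (j g)).support ⊆ J := by
    intro g
    have := hle (Submodule.mem_top (x := g))
    rw [Submodule.mem_comap, LinearMap.comp_apply, Finsupp.mem_supported] at this
    exact Finset.coe_subset.1 this
  let c : Mo → Module.Dual R G := fun i => (Finsupp.lapply i) ∘ₗ s ∘ₗ j
  refine ⟨∑ i ∈ J, (LinearMap.toSpanSingleton R Mo i) ∘ₗ (LinearMap.applyₗ (c i)), ?_⟩
  intro g
  rw [LinearMap.sum_apply]
  have h1 : ∀ i ∈ J, ((LinearMap.toSpanSingleton R Mo i) ∘ₗ (LinearMap.applyₗ (c i)))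
      (Module.Dual.eval R G g) = (s (j g)) i • i := by
    intro i _
    rfl
  rw [Finset.sum_congr rfl h1]
  have h2 := LinearMap.congr_fun hs (j g)
  rw [LinearMap.comp_apply, LinearMap.id_apply, Finsupp.linearCombination_apply] at h2
  refine Eq.trans ?_ h2
  exact (Finsupp.sum_of_support_subset (s (j g)) (hsupp g) (fun i a => a • id i)
    (fun i _ => zero_smul _ _)).symm

/-- **Stage 2**. -/
theorem stage2 (R : Type u) [CommRing R] [IsRegularRing R] (hdim : ringKrullDim R ≤ 2)
    (C : Type u) [AddCommGroup C] [Module R C] [Coalgebra R C] [Module.Projective R C]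
    (G : Type u) [AddCommGroup G] [Module R G] [HopfRep.Comod R C G] [Module.Finite R G]
    (E : Type u) [AddCommGroup E] [Module R E] [HopfRep.Comod R C E] (hE : Sep R (E ⊗[R] C))
    (Mo : Type u) [AddCommGroup Mo] [Module R Mo] [Module.Projective R Mo]
    (j : G →ₗ[R] Mo) (φ₀ : Mo →ₗ[R] E)
    (hq : coa R C E ∘ₗ (φ₀ ∘ₗ j) = (φ₀ ∘ₗ j).rTensor C ∘ₗ coa R C G) :
    ∃ (cV : HopfRep.Comod R C (Module.Dual R (Module.Dual R G)))
      (φ : Module.Dual R (Module.Dual R G) →ₗ[R] E),
      Module.Finite R (Module.Dual R (Module.Dual R G)) ∧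
      Module.Projective R (Module.Dual R (Module.Dual R G)) ∧
      (∀ g, φ (Module.Dual.eval R G g) = φ₀ (j g)) ∧
      coa R C E ∘ₗ φ = φ.rTensor C ∘ₗ cV.coact := by
  haveI : Module.FinitePresentation R G := Module.finitePresentation_of_finite R G
  haveI : Module.Finite R (Module.Dual R G) := finite_dual R G
  haveI : Module.Projective R (Module.Dual R G) := DualProjReg.projective_dual R hdim G
  haveI : Module.FinitePresentation R (Module.Dual R G) :=
    Module.finitePresentation_of_finite R _
  obtain ⟨jh, hjh⟩ := exists_extension G Mo j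
  refine ⟨comodV C G, φ₀ ∘ₗ jh, inferInstance, inferInstance, ?_, ?_⟩
  · intro g
    rw [LinearMap.comp_apply, hjh]
  · apply star G hE
    intro g
    have h1 := LinearMap.congr_fun hq g
    have h2 : (φ₀ ∘ₗ jh) ∘ₗ Module.Dual.eval R G = φ₀ ∘ₗ j := by
      apply LinearMap.ext
      intro x
      rw [LinearMap.comp_apply, LinearMap.comp_apply, LinearMap.comp_apply, hjh]
    show coa R C E (φ₀ (jh (Module.Dual.eval R G g))) =
      (φ₀ ∘ₗ jh).rTensor C (rhoV C G (Module.Dual.eval R G g))
    rw [hjh, rhoV_eval, ← LinearMap.rTensor_comp_apply, h2]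
    exact h1

end Groth.Agent.Lib.helper15.SerreQuot
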