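import Mathlib

/-!
# Formal smoothness near a section forces `K = Sp * K`

Step C of S18961 (abstract form).
-/

set_option autoImplicit false

namespace Groth.Agent.Lib.helper15.SmoothZero

open Algebra

section

variable {A S B : Type*} [CommRing A] [CommRing S] [CommRing B] [Algebra A S] [Algebra A B]

/-- Two algebra maps to `D` agreeing modulo a square-zero ideal `I` killed by `q Sp` agree on
`Sp * Sp`. -/
lemma eq_on_sq {D : Type*} [CommRing D] [Algebra A D] (τ q : S →ₐ[A] D) (I : Ideal D)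
    (Sp : Ideal S) (h1 : ∀ f, τ f - q f ∈ I) (h2 : ∀ a ∈ Sp, ∀ z ∈ I, q a * z = 0)
    (h3 : ∀ z ∈ I, ∀ z' ∈ I, z * z' = 0) {f : S} (hf : f ∈ Sp * Sp) : τ f = q f := by
  refine Submodule.mul_induction_on hf (fun a ha b hb => ?_) (fun x y hx hy => ?_)
  · have e : τ (a * b) - q (a * b) =
        (τ a - q a) * (τ b - q b) + q b * (τ a - q a) + q a * (τ b - q b) := by
      rw [map_mul, map_mul]; ring
    rw [← sub_eq_zero, e, h3 _ (h1 a) _ (h1 b), h2 b hb _ (h1 a), h2 a ha _ (h1 b)]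
    simp
  · rw [map_add, map_add, hx, hy]

/-- If `B` is formally smooth over `A` after inverting `φ g` with `g ≡ 1 mod Sp`, and the kernel
`K` of `φ : S → B` lies in `Sp²`, then `K ≤ Sp * K`. -/
theorem ker_le_mul (φ : S →ₐ[A] B) (hφ : Function.Surjective φ) (Sp : Ideal S)
    (hK : RingHom.ker φ ≤ Sp * Sp) (g : S) (hg : g - 1 ∈ Sp)
    (Bg : Type*) [CommRing Bg] [Algebra B Bg] [Algebra A Bg] [IsScalarTower A B Bg]
    [IsLocalization.Away (φ g) Bg] [Algebra.FormallySmooth A Bg] :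
    RingHom.ker φ ≤ Sp * RingHom.ker φ := by
  set K : Ideal S := RingHom.ker φ with hKdef
  set L : Ideal S := Sp * K with hL
  have hLK : L ≤ K := Ideal.mul_le_right
  have hKSp : K ≤ Sp := hK.trans Ideal.mul_le_left
  let C := S ⧸ L
  let q₀ : S →ₐ[A] C := Ideal.Quotient.mkₐ A L
  let φb : C →ₐ[A] B := Ideal.Quotient.liftₐ L φ (fun a ha => hLK ha)
  have hφb : ∀ x, φb (q₀ x) = φ x := fun x => rfl
  let c : C := q₀ g
  let D := Localization.Away c
  have : IsLocalization.Away (φb c) Bg := by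
    have : φb c = φ g := rfl
    rw [this]; infer_instance
  let ψ : D →ₐ[A] Bg := IsLocalization.Away.mapₐ D Bg φb c
  have hφbsurj : Function.Surjective φb := fun b => by
    obtain ⟨x, rfl⟩ := hφ b
    exact ⟨q₀ x, rfl⟩
  have hψsurj : Function.Surjective ψ :=
    IsLocalization.Away.mapₐ_surjective_of_surjective c hφbsurj
  have hψalg : ∀ x : C, ψ (algebraMap C D x) = algebraMap B Bg (φb x) := fun x => by
    simp only [ψ, IsLocalization.Away.mapₐ_apply, IsLocalization.Away.map, IsLocalization.map_eq]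
    rfl
  -- description of ker ψ
  have hker : ∀ z : D, ψ z = 0 → ∃ k ∈ K, ∃ w : D, z = w * algebraMap C D (q₀ k) := by
    intro z hz
    obtain ⟨x, s, rfl⟩ := IsLocalization.exists_mk'_eq (Submonoid.powers c) z
    obtain ⟨x', rfl⟩ := Ideal.Quotient.mk_surjective x
    simp only [ψ, IsLocalization.Away.mapₐ_apply, IsLocalization.Away.map,
      IsLocalization.map_mk'] at hz
    rw [IsLocalization.mk'_eq_zero_iff] at hz
    obtain ⟨⟨m, l, hl⟩, hm⟩ := hz
    simp only at hl hm
    -- m = (φb c)^l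
    have hk : g ^ l * x' ∈ K := by
      rw [hKdef, RingHom.mem_ker, map_mul, map_pow]
      rw [← hl] at hm
      exact hm
    have hunit : IsUnit (algebraMap C D c) := IsLocalization.Away.algebraMap_isUnit c
    have hs : IsUnit (algebraMap C D (s : C)) := IsLocalization.map_units D s
    refine ⟨g ^ l * x', hk, ((hunit.pow l).unit⁻¹ : Dˣ) * (hs.unit⁻¹ : Dˣ), ?_⟩
    have e1 : IsLocalization.mk' D (Ideal.Quotient.mk L x') s * algebraMap C D (s : C) =
        algebraMap C D (Ideal.Quotient.mk L x') := IsLocalization.mk'_spec D _ s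
    have e2 : algebraMap C D (q₀ (g ^ l * x')) =
        (algebraMap C D c) ^ l * algebraMap C D (Ideal.Quotient.mk L x') := by
      rw [map_mul, map_pow, map_mul, map_pow]; rfl
    rw [e2, ← e1]
    have u1 : ((hunit.pow l).unit⁻¹ : Dˣ) * (algebraMap C D c) ^ l = (1 : D) := by
      have := (hunit.pow l).unit.inv_mul
      rwa [IsUnit.unit_spec] at this
    have u2 : ((hs.unit⁻¹ : Dˣ) : D) * algebraMap C D (s : C) = 1 := by
      have := hs.unit.inv_mul
      rwa [IsUnit.unit_spec] at this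
    calc IsLocalization.mk' D (Ideal.Quotient.mk L x') s
        = (((hunit.pow l).unit⁻¹ : Dˣ) * (algebraMap C D c) ^ l) *
          (((hs.unit⁻¹ : Dˣ) : D) * algebraMap C D (s : C)) *
            IsLocalization.mk' D (Ideal.Quotient.mk L x') s := by rw [u1, u2]; ring
      _ = _ := by ring
  let I : Ideal D := RingHom.ker (ψ : D →+* Bg)
  have hq₀L : ∀ x ∈ L, q₀ x = 0 := fun x hx => Ideal.Quotient.eq_zero_iff_mem.2 hx
  have h3 : ∀ z ∈ I, ∀ z' ∈ I, z * z' = 0 := by
    intro z hz z' hz'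
    obtain ⟨k, hk, w, rfl⟩ := hker z hz
    obtain ⟨k', hk', w', rfl⟩ := hker z' hz'
    have : q₀ k * q₀ k' = 0 := by
      rw [← map_mul]; exact hq₀L _ (Ideal.mul_mem_mul (hKSp hk) hk')
    calc w * algebraMap C D (q₀ k) * (w' * algebraMap C D (q₀ k'))
        = w * w' * algebraMap C D (q₀ k * q₀ k') := by rw [map_mul]; ring
      _ = 0 := by rw [this, map_zero, mul_zero]
  have hInil : IsNilpotent I := by
    refine ⟨2, ?_⟩
    rw [pow_two, Ideal.zero_eq_bot, eq_bot_iff, Ideal.mul_le]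
    intro z hz z' hz'
    rw [Ideal.mem_bot]; exact h3 z hz z' hz'
  let σ : Bg →ₐ[A] D :=
    Algebra.FormallySmooth.liftOfSurjective (AlgHom.id A Bg) ψ hψsurj hInil
  have hσ : ∀ y, ψ (σ y) = y := fun y =>
    Algebra.FormallySmooth.liftOfSurjective_apply (AlgHom.id A Bg) ψ hψsurj hInil y
  let τ : S →ₐ[A] D := σ.comp ((IsScalarTower.toAlgHom A B Bg).comp φ)
  let q : S →ₐ[A] D := (IsScalarTower.toAlgHom A C D).comp q₀
  have h1 : ∀ f, τ f - q f ∈ I := by
    intro f
    change ψ (τ f - q f) = 0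
    rw [map_sub, sub_eq_zero]
    change ψ (σ (algebraMap B Bg (φ f))) = ψ (algebraMap C D (q₀ f))
    rw [hσ, hψalg, hφb]
  have h2 : ∀ a ∈ Sp, ∀ z ∈ I, q a * z = 0 := by
    intro a ha z hz
    obtain ⟨k, hk, w, rfl⟩ := hker z hz
    have : q₀ a * q₀ k = 0 := by
      rw [← map_mul]; exact hq₀L _ (Ideal.mul_mem_mul ha hk)
    change algebraMap C D (q₀ a) * (w * algebraMap C D (q₀ k)) = 0
    calc algebraMap C D (q₀ a) * (w * algebraMap C D (q₀ k))
        = w * algebraMap C D (q₀ a * q₀ k) := by rw [map_mul]; ring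
      _ = 0 := by rw [this, map_zero, mul_zero]
  intro f hf
  have hτq : τ f = q f := eq_on_sq τ q I Sp h1 h2 h3 (hK hf)
  have hτ0 : τ f = 0 := by
    change σ (algebraMap B Bg (φ f)) = 0
    rw [(RingHom.mem_ker).1 hf, map_zero, map_zero]
  have hq0 : algebraMap C D (q₀ f) = 0 := by
    rw [← hτ0, hτq]; rfl
  rw [IsLocalization.map_eq_zero_iff (Submonoid.powers c)] at hq0
  obtain ⟨⟨m, l, hl⟩, hm⟩ := hq0
  simp only at hl hm
  rw [← hl] at hm
  have hgl : g ^ l * f ∈ L := by
    rw [← Ideal.Quotient.eq_zero_iff_mem]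
    rw [map_mul, map_pow]; exact hm
  have hg1 : g ^ l - 1 ∈ Sp := by
    obtain ⟨e, he⟩ := sub_dvd_pow_sub_pow g 1 l
    rw [one_pow] at he
    rw [he]; exact Ideal.mul_mem_right _ _ hg
  have : f = g ^ l * f - (g ^ l - 1) * f := by ring
  rw [this]
  exact sub_mem hgl (Ideal.mul_mem_mul hg1 hf)

end

end Groth.Agent.Lib.helper15.SmoothZero
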