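import Mathlib
import Groth.Agent.Lib.Helper23.JH2
import Groth.Agent.Lib.Helper21.SSWeakSerre
import Groth.Agent.Lib.Helper7.FilObjElem

/-!
# Subquotients of subobject lattices in abelian categories (helper15)

* `weakSerre_of_five`: the five-term form of a weak Serre class gives helper21's `WeakSerre`.
* `tripleSES`: for `S ≤ T ≤ U` the short exact sequence `0 → T/S → U/S → U/T → 0`.
* `prop_kernel_step`, `prop_cokernel_step`: closure steps used for passing to the next page of a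
  spectral sequence.
* `nonempty_iso_of_epi_of_kernel_eq`, `nonempty_subquot_iso_of_correspondence`: two subquotients
  are isomorphic when a common object maps onto both with the same kernel.
-/

set_option autoImplicit false
universe v u

open CategoryTheory CategoryTheory.Limits

namespace Groth.Agent.Lib.helper15.SubQuot

open Groth.Agent.Lib.helper21.SSWeakSerre Groth.Agent.Lib.helper23.JH

variable {C : Type u} [Category.{v} C] [Abelian C]

open ComposableArrows in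
theorem weakSerre_of_five (P : ObjectProperty C) [P.IsClosedUnderIsomorphisms]
    (h0 : ∃ Z : C, IsZero Z ∧ P Z)
    (hP : ∀ S : ComposableArrows C 4, S.Exact → P (S.obj 0) → P (S.obj 1) → P (S.obj 3) →
      P (S.obj 4) → P (S.obj 2)) : WeakSerre (C := C) P := by
  obtain ⟨Z, hZ, hPZ⟩ := h0
  refine ⟨fun e h => P.prop_of_iso e h, fun W hW => P.prop_of_iso (hZ.iso hW) hPZ, ?_, ?_, ?_⟩
  · intro A B f hA hB
    let S : ComposableArrows C 4 := mk₄ (0 : Z ⟶ Z) (0 : Z ⟶ kernel f) (kernel.ι f) f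
    have e1 : (ShortComplex.mk (0 : Z ⟶ Z) (0 : Z ⟶ kernel f) comp_zero).Exact :=
      ShortComplex.exact_of_isZero_X₂ _ hZ
    have e2 : (ShortComplex.mk (0 : Z ⟶ kernel f) (kernel.ι f) zero_comp).Exact := by
      rw [ShortComplex.exact_iff_mono _ rfl]
      dsimp
      infer_instance
    have e3 : (ShortComplex.mk (kernel.ι f) f (kernel.condition f)).Exact :=
      ShortComplex.exact_of_f_is_kernel _ (kernelIsKernel f)
    have hS : S.Exact :=
      exact_of_δ₀ e1.exact_toComposableArrows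
        (exact_of_δ₀ e2.exact_toComposableArrows e3.exact_toComposableArrows)
    exact hP S hS hPZ hPZ hA hB
  · intro A B f hA hB
    let S : ComposableArrows C 4 := mk₄ f (cokernel.π f) (0 : cokernel f ⟶ Z) (0 : Z ⟶ Z)
    have e1 : (ShortComplex.mk f (cokernel.π f) (cokernel.condition f)).Exact :=
      ShortComplex.exact_of_g_is_cokernel _ (cokernelIsCokernel f)
    have e2 : (ShortComplex.mk (cokernel.π f) (0 : cokernel f ⟶ Z) comp_zero).Exact := by
      rw [ShortComplex.exact_iff_epi _ rfl]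
      dsimp
      infer_instance
    have e3 : (ShortComplex.mk (0 : cokernel f ⟶ Z) (0 : Z ⟶ Z) comp_zero).Exact :=
      ShortComplex.exact_of_isZero_X₂ _ hZ
    have hS : S.Exact :=
      exact_of_δ₀ e1.exact_toComposableArrows
        (exact_of_δ₀ e2.exact_toComposableArrows e3.exact_toComposableArrows)
    exact hP S hS hA hB hPZ hPZ
  · intro T hT h1 h3
    let S : ComposableArrows C 4 := mk₄ (0 : Z ⟶ T.X₁) T.f T.g (0 : T.X₃ ⟶ Z)
    have e1 : (ShortComplex.mk (0 : Z ⟶ T.X₁) T.f zero_comp).Exact := by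
      rw [ShortComplex.exact_iff_mono _ rfl]
      exact hT.mono_f
    have e2 : (ShortComplex.mk T.f T.g T.zero).Exact := hT.exact
    have e3 : (ShortComplex.mk T.g (0 : T.X₃ ⟶ Z) comp_zero).Exact := by
      rw [ShortComplex.exact_iff_epi _ rfl]
      exact hT.epi_g
    have hS : S.Exact :=
      exact_of_δ₀ e1.exact_toComposableArrows
        (exact_of_δ₀ e2.exact_toComposableArrows e3.exact_toComposableArrows)
    exact hP S hS hPZ h1 h3 hPZ

variable {X : C}

/-- notation-free subquotient `T/S`. -/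
noncomputable abbrev sq (S T : Subobject X) (h : S ≤ T) : C := cokernel (Subobject.ofLE S T h)

lemma sq_π_eq_zero_iff {S T : Subobject X} (h : S ≤ T) {V : C} (x : V ⟶ (T : C)) :
    x ≫ cokernel.π (Subobject.ofLE S T h) = 0 ↔ S.Factors (x ≫ T.arrow) := by
  constructor
  · intro hx
    obtain ⟨t, ht⟩ := exists_lift_ofLE h x hx
    rw [← ht, Category.assoc, Subobject.ofLE_arrow]
    exact Subobject.factors_comp_arrow _
  · intro hx
    have : x = S.factorThru _ hx ≫ Subobject.ofLE S T h := by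
      rw [← cancel_mono T.arrow]
      simp
    rw [this, Category.assoc, cokernel.condition, comp_zero]

/-- the inclusion `T/S ⟶ U/S`. -/
noncomputable def sqι (S T U : Subobject X) (h1 : S ≤ T) (h2 : T ≤ U) :
    sq S T h1 ⟶ sq S U (h1.trans h2) :=
  cokernel.desc _ (Subobject.ofLE T U h2 ≫ cokernel.π _) (by
    rw [← Category.assoc, Subobject.ofLE_comp_ofLE, cokernel.condition])

/-- the projection `U/S ⟶ U/T`. -/
noncomputable def sqπ (S T U : Subobject X) (h1 : S ≤ T) (h2 : T ≤ U) :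
    sq S U (h1.trans h2) ⟶ sq T U h2 :=
  cokernel.desc _ (cokernel.π _) (by
    rw [← Subobject.ofLE_comp_ofLE S T U h1 h2, Category.assoc, cokernel.condition, comp_zero])

@[reassoc (attr := simp)]
lemma π_sqι (S T U : Subobject X) (h1 : S ≤ T) (h2 : T ≤ U) :
    cokernel.π (Subobject.ofLE S T h1) ≫ sqι S T U h1 h2 =
      Subobject.ofLE T U h2 ≫ cokernel.π _ := cokernel.π_desc _ _ _

@[reassoc (attr := simp)]
lemma π_sqπ (S T U : Subobject X) (h1 : S ≤ T) (h2 : T ≤ U) :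
    cokernel.π (Subobject.ofLE S U (h1.trans h2)) ≫ sqπ S T U h1 h2 = cokernel.π _ :=
  cokernel.π_desc _ _ _

@[reassoc (attr := simp)]
lemma sqι_sqπ (S T U : Subobject X) (h1 : S ≤ T) (h2 : T ≤ U) :
    sqι S T U h1 h2 ≫ sqπ S T U h1 h2 = 0 := by
  rw [← cancel_epi (cokernel.π (Subobject.ofLE S T h1))]
  simp

instance mono_sqι (S T U : Subobject X) (h1 : S ≤ T) (h2 : T ≤ U) : Mono (sqι S T U h1 h2) := by
  apply Preadditive.mono_of_cancel_zero
  intro V g hg
  obtain ⟨V₁, π₁, hπ₁, g', fac⟩ := surjective_up_to_refinements_of_epi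
    (cokernel.π (Subobject.ofLE S T h1)) g
  have h0 : (g' ≫ Subobject.ofLE T U h2) ≫ cokernel.π (Subobject.ofLE S U (h1.trans h2)) = 0 := by
    rw [Category.assoc, ← π_sqι S T U h1 h2, ← Category.assoc, ← fac, Category.assoc, hg,
      comp_zero]
  rw [sq_π_eq_zero_iff] at h0
  have h0' : S.Factors (g' ≫ T.arrow) := by simpa using h0
  have : π₁ ≫ g = 0 := by
    rw [fac, sq_π_eq_zero_iff]
    exact h0'
  rw [← cancel_epi π₁, this, comp_zero]

instance epi_sqπ (S T U : Subobject X) (h1 : S ≤ T) (h2 : T ≤ U) : Epi (sqπ S T U h1 h2) :=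
  epi_of_epi_fac (π_sqπ S T U h1 h2)

/-- the short complex `T/S ⟶ U/S ⟶ U/T`. -/
noncomputable def tripleSC (S T U : Subobject X) (h1 : S ≤ T) (h2 : T ≤ U) : ShortComplex C :=
  ShortComplex.mk (sqι S T U h1 h2) (sqπ S T U h1 h2) (sqι_sqπ S T U h1 h2)

lemma tripleSC_exact (S T U : Subobject X) (h1 : S ≤ T) (h2 : T ≤ U) :
    (tripleSC S T U h1 h2).Exact := by
  change (ShortComplex.mk (sqι S T U h1 h2) (sqπ S T U h1 h2) (sqι_sqπ S T U h1 h2)).Exact
  rw [ShortComplex.exact_iff_exact_up_to_refinements]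
  intro V x hx
  dsimp only at x hx
  obtain ⟨V₁, π₁, hπ₁, x', fac⟩ := surjective_up_to_refinements_of_epi
    (cokernel.π (Subobject.ofLE S U (h1.trans h2))) x
  have h0 : x' ≫ cokernel.π (Subobject.ofLE T U h2) = 0 := by
    rw [← π_sqπ S T U h1 h2, ← Category.assoc, ← fac, Category.assoc, hx, comp_zero]
  obtain ⟨t, ht⟩ := exists_lift_ofLE h2 x' h0
  refine ⟨V₁, π₁, hπ₁, t ≫ cokernel.π _, ?_⟩
  dsimp only
  rw [Category.assoc, π_sqι, ← Category.assoc, ht, fac]

lemma tripleSC_shortExact (S T U : Subobject X) (h1 : S ≤ T) (h2 : T ≤ U) :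
    (tripleSC S T U h1 h2).ShortExact :=
  { exact := tripleSC_exact S T U h1 h2
    mono_f := mono_sqι S T U h1 h2
    epi_g := epi_sqπ S T U h1 h2 }

/-- `T/S ≅ ker (U/S ⟶ U/T)`. -/
noncomputable def sqIsoKernel (S T U : Subobject X) (h1 : S ≤ T) (h2 : T ≤ U) :
    sq S T h1 ≅ kernel (sqπ S T U h1 h2) :=
  (IsLimit.conePointUniqueUpToIso (tripleSC_shortExact S T U h1 h2).fIsKernel
    (kernelIsKernel (sqπ S T U h1 h2)) :
    (KernelFork.ofι (tripleSC S T U h1 h2).f (tripleSC S T U h1 h2).zero).pt ≅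
      (KernelFork.ofι (kernel.ι (sqπ S T U h1 h2)) (kernel.condition _)).pt)

/-- `U/T ≅ coker (T/S ⟶ U/S)`. -/
noncomputable def sqIsoCokernel (S T U : Subobject X) (h1 : S ≤ T) (h2 : T ≤ U) :
    sq T U h2 ≅ cokernel (sqι S T U h1 h2) :=
  (IsColimit.coconePointUniqueUpToIso (tripleSC_shortExact S T U h1 h2).gIsCokernel
    (cokernelIsCokernel (sqι S T U h1 h2)) :
    (CokernelCofork.ofπ (tripleSC S T U h1 h2).g (tripleSC S T U h1 h2).zero).pt ≅
      (CokernelCofork.ofπ (cokernel.π (sqι S T U h1 h2)) (cokernel.condition _)).pt)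

section steps

variable {P : C → Prop} (hP : WeakSerre P)
include hP

/-- kernel step: `B ≤ Z' ≤ Z` in `X`, `B₁ ≤ B₂ ≤ Z₂` in `Y`, `Z/Z' ≅ B₂/B₁`,
`P (Z/B)`, `P (Z₂/B₁)` imply `P (Z'/B)`. -/
lemma prop_kernel_step {Y : C} (B Z' Z : Subobject X) (h1 : B ≤ Z') (h2 : Z' ≤ Z)
    (B₁ B₂ Z₂ : Subobject Y) (k1 : B₁ ≤ B₂) (k2 : B₂ ≤ Z₂)
    (e : sq Z' Z h2 ≅ sq B₁ B₂ k1)
    (hZB : P (sq B Z (h1.trans h2))) (hZ₂ : P (sq B₁ Z₂ (k1.trans k2))) :
    P (sq B Z' h1) := by
  let φ : sq B Z (h1.trans h2) ⟶ sq B₁ Z₂ (k1.trans k2) :=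
    sqπ B Z' Z h1 h2 ≫ (e.hom ≫ sqι B₁ B₂ Z₂ k1 k2)
  have hk : P (kernel φ) := hP.ker φ hZB hZ₂
  have e1 : kernel φ ≅ kernel (sqπ B Z' Z h1 h2) := kernelCompMono _ _
  exact hP.iso (e1 ≪≫ (sqIsoKernel B Z' Z h1 h2).symm) hk

/-- cokernel step: `B ≤ B' ≤ Z'` in `X`, `B₁ ≤ Z₁' ≤ Z₁` in `W`, `Z₁/Z₁' ≅ B'/B`,
`P (Z₁/B₁)`, `P (Z'/B)` imply `P (Z'/B')`. -/
lemma prop_cokernel_step {W : C} (B B' Z' : Subobject X) (h1 : B ≤ B') (h2 : B' ≤ Z')
    (B₁ Z₁' Z₁ : Subobject W) (k1 : B₁ ≤ Z₁') (k2 : Z₁' ≤ Z₁)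
    (e : sq Z₁' Z₁ k2 ≅ sq B B' h1)
    (hZ₁ : P (sq B₁ Z₁ (k1.trans k2))) (hZB : P (sq B Z' (h1.trans h2))) :
    P (sq B' Z' h2) := by
  let ψ : sq B₁ Z₁ (k1.trans k2) ⟶ sq B Z' (h1.trans h2) :=
    (sqπ B₁ Z₁' Z₁ k1 k2 ≫ e.hom) ≫ sqι B B' Z' h1 h2
  have hk : P (cokernel ψ) := hP.coker ψ hZ₁ hZB
  have e1 : cokernel ψ ≅ cokernel (sqι B B' Z' h1 h2) := cokernelEpiComp _ _
  exact hP.iso (e1 ≪≫ (sqIsoCokernel B B' Z' h1 h2).symm) hk

end steps

/-- Two quotients of `W` with the same kernel are isomorphic. -/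
theorem nonempty_iso_of_epi_of_kernel_eq {W Q Q' : C} (α : W ⟶ Q) (β : W ⟶ Q') [Epi α] [Epi β]
    (h : ∀ (V : C) (w : V ⟶ W), w ≫ α = 0 ↔ w ≫ β = 0) : Nonempty (Q ≅ Q') := by
  have h1 : kernel.ι α ≫ β = 0 := (h _ _).1 (kernel.condition α)
  have h2 : kernel.ι β ≫ α = 0 := (h _ _).2 (kernel.condition β)
  refine ⟨⟨Abelian.epiDesc α β h1, Abelian.epiDesc β α h2, ?_, ?_⟩⟩
  · rw [← cancel_epi α, ← Category.assoc, Abelian.comp_epiDesc, Abelian.comp_epiDesc,
      Category.comp_id]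
  · rw [← cancel_epi β, ← Category.assoc, Abelian.comp_epiDesc, Abelian.comp_epiDesc,
      Category.comp_id]

/-- Correspondence lemma: if `W` maps to `X` and `Y`, onto `S/S'` and `T/T'`, and an element of
`W` goes to `S'` iff it goes to `T'`, then `S/S' ≅ T/T'`. -/
theorem nonempty_subquot_iso_of_correspondence {Y W : C} (S' S : Subobject X) (hS : S' ≤ S)
    (T' T : Subobject Y) (hT : T' ≤ T) (a : W ⟶ X) (b : W ⟶ Y)
    (h1a : S.Factors a) (h1b : T.Factors b)
    (h2a : ∀ (V : C) (x : V ⟶ X), S.Factors x → ∃ (V' : C) (π : V' ⟶ V) (_ : Epi π)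
      (w : V' ⟶ W) (y : V' ⟶ X), S'.Factors y ∧ π ≫ x = w ≫ a + y)
    (h2b : ∀ (V : C) (x : V ⟶ Y), T.Factors x → ∃ (V' : C) (π : V' ⟶ V) (_ : Epi π)
      (w : V' ⟶ W) (y : V' ⟶ Y), T'.Factors y ∧ π ≫ x = w ≫ b + y)
    (h3 : ∀ (V : C) (w : V ⟶ W), S'.Factors (w ≫ a) ↔ T'.Factors (w ≫ b)) :
    Nonempty (sq S' S hS ≅ sq T' T hT) := by
  let α : W ⟶ sq S' S hS := S.factorThru a h1a ≫ cokernel.π _
  let β : W ⟶ sq T' T hT := T.factorThru b h1b ≫ cokernel.π _
  have hα : ∀ (V : C) (w : V ⟶ W), w ≫ α = 0 ↔ S'.Factors (w ≫ a) := by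
    intro V w
    change w ≫ S.factorThru a h1a ≫ cokernel.π _ = 0 ↔ _
    rw [← Category.assoc, sq_π_eq_zero_iff, Category.assoc, Subobject.factorThru_arrow]
  have hβ : ∀ (V : C) (w : V ⟶ W), w ≫ β = 0 ↔ T'.Factors (w ≫ b) := by
    intro V w
    change w ≫ T.factorThru b h1b ≫ cokernel.π _ = 0 ↔ _
    rw [← Category.assoc, sq_π_eq_zero_iff, Category.assoc, Subobject.factorThru_arrow]
  have epiα : Epi α := by
    rw [epi_iff_surjective_up_to_refinements]
    intro V z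
    obtain ⟨V₁, π₁, hπ₁, z', fac⟩ := surjective_up_to_refinements_of_epi
      (cokernel.π (Subobject.ofLE S' S hS)) z
    obtain ⟨V₂, π₂, hπ₂, w, y, hy, hxy⟩ := h2a V₁ (z' ≫ S.arrow) (Subobject.factors_comp_arrow _)
    refine ⟨V₂, π₂ ≫ π₁, epi_comp _ _, w, ?_⟩
    have h4 : π₂ ≫ z' = w ≫ S.factorThru a h1a + S'.factorThru y hy ≫ Subobject.ofLE S' S hS := by
      rw [← cancel_mono S.arrow]
      simp only [Category.assoc, Preadditive.add_comp, Subobject.factorThru_arrow,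
        Subobject.ofLE_arrow]
      exact hxy
    change _ = w ≫ S.factorThru a h1a ≫ cokernel.π _
    rw [Category.assoc, fac, ← Category.assoc, h4, Preadditive.add_comp, Category.assoc,
      Category.assoc, cokernel.condition, comp_zero, add_zero]
  have epiβ : Epi β := by
    rw [epi_iff_surjective_up_to_refinements]
    intro V z
    obtain ⟨V₁, π₁, hπ₁, z', fac⟩ := surjective_up_to_refinements_of_epi
      (cokernel.π (Subobject.ofLE T' T hT)) z
    obtain ⟨V₂, π₂, hπ₂, w, y, hy, hxy⟩ := h2b V₁ (z' ≫ T.arrow) (Subobject.factors_comp_arrow _)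
    refine ⟨V₂, π₂ ≫ π₁, epi_comp _ _, w, ?_⟩
    have h4 : π₂ ≫ z' = w ≫ T.factorThru b h1b + T'.factorThru y hy ≫ Subobject.ofLE T' T hT := by
      rw [← cancel_mono T.arrow]
      simp only [Category.assoc, Preadditive.add_comp, Subobject.factorThru_arrow,
        Subobject.ofLE_arrow]
      exact hxy
    change _ = w ≫ T.factorThru b h1b ≫ cokernel.π _
    rw [Category.assoc, fac, ← Category.assoc, h4, Preadditive.add_comp, Category.assoc,
      Category.assoc, cokernel.condition, comp_zero, add_zero]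
  exact nonempty_iso_of_epi_of_kernel_eq α β (fun V w => by rw [hα, hβ, h3])

/-- transport of subquotients along equalities of subobjects. -/
lemma nonempty_sq_iso_of_eq {S T S' T' : Subobject X} (h : S ≤ T) (h' : S' ≤ T')
    (hS : S = S') (hT : T = T') : Nonempty (sq S T h ≅ sq S' T' h') := by
  subst hS hT
  exact ⟨Iso.refl _⟩

end Groth.Agent.Lib.helper15.SubQuot
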