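import Mathlib
import Groth.Agent.Lib.Helper15.SubQuotA
import Groth.Agent.Lib.Helper7.FilCxBasic

/-!
# Pages of the spectral sequence of a filtered complex: the step `E_r ⇒ E_{r+1}` (helper15)

For a filtered complex `K : SpSeq.FilCx A`:
* `zg`, `bg`: the subobjects `F^p K^i ∩ d⁻¹ F^q K^j` and `F^q K^j ∩ d (F^p K^i)`;
* `delta_iso`: `Z_r/Z_{r+1} ≅ B_{r+1}/B_r` (induced by the differential), for general indices;
* `delta_iso'`: the same for `ZSub`, `BSub`;
* `prop_page_succ`, `prop_page_of_le`: a weak Serre class passes from one page to the later ones.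
-/

set_option autoImplicit false
universe v u

open CategoryTheory CategoryTheory.Limits SpSeq SpSeq.FilCx

namespace Groth.Agent.Lib.helper15.SubQuot

open Groth.Agent.Lib.helper21.SSWeakSerre Groth.Agent.Lib.helper23.JH
open Groth.Agent.Lib.helper7

variable {A : Type u} [Category.{v} A] [Abelian A]

lemma mk_factors_iff' {X Y V : A} (f : Y ⟶ X) [Mono f] (x : V ⟶ X) :
    (Subobject.mk f).Factors x ↔ ∃ u : V ⟶ Y, u ≫ f = x := Iff.rfl

lemma factors_sub {X V : A} (S : Subobject X) (x y : V ⟶ X) (hx : S.Factors x)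
    (hy : S.Factors y) : S.Factors (x - y) := by
  rw [FilObjElem.factors_iff_comp_cokernel] at hx hy ⊢
  rw [Preadditive.sub_comp, hx, hy, sub_zero]

variable (K : FilCx A)

lemma filX_factors_iff (p n : ℤ) {V : A} (x : V ⟶ K.obj.X n) :
    (K.filX p n).Factors x ↔
      ∃ u : V ⟶ (K.fil p : CochainComplex A ℤ).X n, u ≫ (K.fil p).arrow.f n = x :=
  Iff.rfl

lemma filX_factors_comp_d (p i j : ℤ) {V : A} (x : V ⟶ K.obj.X i)
    (hx : (K.filX p i).Factors x) : (K.filX p j).Factors (x ≫ K.obj.d i j) := by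
  rw [filX_factors_iff] at hx ⊢
  obtain ⟨u, rfl⟩ := hx
  exact ⟨u ≫ (K.fil p : CochainComplex A ℤ).d i j, by
    rw [Category.assoc, Category.assoc, HomologicalComplex.Hom.comm]⟩

lemma filX_factors_of_le {p q : ℤ} (h : p ≤ q) (n : ℤ) {V : A} (x : V ⟶ K.obj.X n)
    (hx : (K.filX q n).Factors x) : (K.filX p n).Factors x :=
  Subobject.factors_of_le x (K.filX_anti n h) hx

/-- `F^p K^i ∩ d⁻¹ F^q K^j`. -/
noncomputable def zg (p q i j : ℤ) : Subobject (K.obj.X i) :=
  K.filX p i ⊓ (Subobject.pullback (K.obj.d i j)).obj (K.filX q j)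

/-- `F^q K^j ∩ d (F^p K^i)`. -/
noncomputable def bg (q p i j : ℤ) : Subobject (K.obj.X j) :=
  K.filX q j ⊓ imageSubobject ((K.filX p i).arrow ≫ K.obj.d i j)

lemma zg_factors_iff (p q i j : ℤ) {V : A} (x : V ⟶ K.obj.X i) :
    (zg K p q i j).Factors x ↔
      (K.filX p i).Factors x ∧ (K.filX q j).Factors (x ≫ K.obj.d i j) := by
  rw [zg, Subobject.inf_factors, pullback_factors_iff]

lemma bg_factors_iff (q p i j : ℤ) {V : A} (y : V ⟶ K.obj.X j) :
    (bg K q p i j).Factors y ↔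
      (K.filX q j).Factors y ∧ ∃ (V' : A) (π : V' ⟶ V) (_ : Epi π) (x : V' ⟶ K.obj.X i),
        (K.filX p i).Factors x ∧ π ≫ y = x ≫ K.obj.d i j := by
  rw [bg, Subobject.inf_factors, FilObjElem.imageSubobject_factors_iff]
  constructor
  · rintro ⟨h1, V', π, hπ, u, hu⟩
    exact ⟨h1, V', π, hπ, u ≫ (K.filX p i).arrow, Subobject.factors_comp_arrow _, by
      rw [hu, Category.assoc]⟩
  · rintro ⟨h1, V', π, hπ, x, hx, hu⟩
    exact ⟨h1, V', π, hπ, (K.filX p i).factorThru x hx, by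
      rw [← Category.assoc, Subobject.factorThru_arrow, hu]⟩

lemma zg_anti (p q q' i j : ℤ) (h : q ≤ q') : zg K p q' i j ≤ zg K p q i j := by
  rw [FilObjElem.le_iff_factors]
  intro V x hx
  rw [zg_factors_iff] at hx ⊢
  exact ⟨hx.1, filX_factors_of_le K h j _ hx.2⟩

lemma bg_anti (q p p' i j : ℤ) (h : p ≤ p') : bg K q p' i j ≤ bg K q p i j := by
  rw [FilObjElem.le_iff_factors]
  intro V y hy
  rw [bg_factors_iff] at hy ⊢
  obtain ⟨h1, V', π, hπ, x, hx, hu⟩ := hy
  exact ⟨h1, V', π, hπ, x, filX_factors_of_le K h i _ hx, hu⟩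

/-- `Z_r/Z_{r+1} ≅ B_{r+1}/B_r`, general indices. -/
theorem delta_iso (p q i j : ℤ) :
    Nonempty (sq (zg K p (q + 1) i j ⊔ K.filX (p + 1) i) (zg K p q i j ⊔ K.filX (p + 1) i)
        (sup_le_sup_right (zg_anti K p q (q + 1) i j (by omega)) _) ≅
      sq (bg K q (p + 1) i j ⊔ K.filX (q + 1) j) (bg K q p i j ⊔ K.filX (q + 1) j)
        (sup_le_sup_right (bg_anti K q p (p + 1) i j (by omega)) _)) := by
  have hW : (K.filX p i).Factors (zg K p q i j).arrow ∧
      (K.filX q j).Factors ((zg K p q i j).arrow ≫ K.obj.d i j) :=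
    (zg_factors_iff K p q i j _).1 (Subobject.factors_self _)
  refine nonempty_subquot_iso_of_correspondence _ _ _ _ _ _
    (zg K p q i j).arrow ((zg K p q i j).arrow ≫ K.obj.d i j) ?_ ?_ ?_ ?_ ?_
  · exact Subobject.sup_factors_of_factors_left (Subobject.factors_self _)
  · apply Subobject.sup_factors_of_factors_left
    rw [bg_factors_iff]
    exact ⟨hW.2, _, 𝟙 _, inferInstance, (zg K p q i j).arrow, hW.1, by rw [Category.id_comp]⟩
  · intro V x hx
    obtain ⟨V', π, hπ, a₁, a₂, h1, h2, fac⟩ := (sup_factors_iff _ _ x).1 hx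
    refine ⟨V', π, hπ, (zg K p q i j).factorThru a₁ h1, a₂,
      Subobject.sup_factors_of_factors_right h2, ?_⟩
    rw [Subobject.factorThru_arrow, fac]
  · intro V y hy
    obtain ⟨V', π, hπ, y₁, y₂, h1, h2, fac⟩ := (sup_factors_iff _ _ y).1 hy
    rw [bg_factors_iff] at h1
    obtain ⟨h1a, V'', π', hπ', x, hx, hxy⟩ := h1
    have hxz : (zg K p q i j).Factors x := by
      rw [zg_factors_iff]
      refine ⟨hx, ?_⟩
      rw [← hxy]
      exact Subobject.factors_of_factors_right _ h1a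
    refine ⟨V'', π' ≫ π, epi_comp _ _, (zg K p q i j).factorThru x hxz, π' ≫ y₂,
      Subobject.sup_factors_of_factors_right (Subobject.factors_of_factors_right _ h2), ?_⟩
    rw [← Category.assoc, Subobject.factorThru_arrow, Category.assoc, fac, Preadditive.comp_add,
      hxy]
  · intro V w
    have hx : (K.filX p i).Factors (w ≫ (zg K p q i j).arrow) ∧
        (K.filX q j).Factors ((w ≫ (zg K p q i j).arrow) ≫ K.obj.d i j) :=
      (zg_factors_iff K p q i j _).1 (Subobject.factors_comp_arrow _)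
    constructor
    · intro h
      obtain ⟨V', π, hπ, x₁, x₂, h1, h2, fac⟩ := (sup_factors_iff _ _ _).1 h
      rw [zg_factors_iff] at h1
      apply factors_of_epi_comp _ π
      have e : π ≫ w ≫ (zg K p q i j).arrow ≫ K.obj.d i j =
          x₂ ≫ K.obj.d i j + x₁ ≫ K.obj.d i j := by
        rw [← Category.assoc w, ← Category.assoc π, fac, Preadditive.add_comp, add_comm]
      rw [e]
      refine Subobject.factors_add _ _ (Subobject.sup_factors_of_factors_left ?_)
        (Subobject.sup_factors_of_factors_right h1.2)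
      rw [bg_factors_iff]
      refine ⟨?_, V', 𝟙 _, inferInstance, x₂, h2, by rw [Category.id_comp]⟩
      refine Subobject.factors_left_of_factors_add (x₂ ≫ K.obj.d i j) (x₁ ≫ K.obj.d i j) ?_
        (filX_factors_of_le K (show q ≤ q + 1 by omega) j _ h1.2)
      rw [← e]
      exact Subobject.factors_of_factors_right _ (by simpa using hx.2)
    · intro h
      obtain ⟨V', π, hπ, y₁, y₂, h1, h2, fac⟩ := (sup_factors_iff _ _ _).1 h
      rw [bg_factors_iff] at h1
      obtain ⟨h1a, V'', π', hπ', x', hx', hxy⟩ := h1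
      apply factors_of_epi_comp _ (π' ≫ π)
      have e : (π' ≫ π) ≫ w ≫ (zg K p q i j).arrow =
          ((π' ≫ π) ≫ w ≫ (zg K p q i j).arrow - x') + x' := by abel
      rw [e]
      refine Subobject.factors_add _ _ (Subobject.sup_factors_of_factors_left ?_)
        (Subobject.sup_factors_of_factors_right hx')
      rw [zg_factors_iff]
      constructor
      · exact factors_sub _ _ _ (Subobject.factors_of_factors_right _ hx.1)
          (filX_factors_of_le K (show p ≤ p + 1 by omega) i _ hx')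
      · have e3 : ((π' ≫ π) ≫ w ≫ (zg K p q i j).arrow - x') ≫ K.obj.d i j = π' ≫ y₂ := by
          have e4 : (π' ≫ π) ≫ (w ≫ (zg K p q i j).arrow) ≫ K.obj.d i j =
              π' ≫ y₁ + π' ≫ y₂ := by
            simp only [Category.assoc]
            rw [fac, Preadditive.comp_add]
          rw [Preadditive.sub_comp, ← hxy]
          simp only [Category.assoc] at e4 ⊢
          rw [e4]
          abel
        rw [e3]
        exact Subobject.factors_of_factors_right _ h2

lemma ZSub_eq (r : ℕ) (p i j s : ℤ) (h : i + 1 = j) (hs : s = p + r) :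
    K.ZSub r p i = zg K p s i j ⊔ K.filX (p + 1) i := by
  subst h hs
  rfl

lemma BSub_eq (r : ℕ) (p i j s : ℤ) (h : i + 1 = j) (hs : s = p - r + 1) :
    K.BSub r p j = bg K p s i j ⊔ K.filX (p + 1) j := by
  obtain rfl : i = j - 1 := by omega
  subst hs
  rfl

lemma ZSub_anti (p n : ℤ) {r r' : ℕ} (h : r ≤ r') : K.ZSub r' p n ≤ K.ZSub r p n := by
  rw [ZSub_eq K r p n (n + 1) _ rfl rfl, ZSub_eq K r' p n (n + 1) _ rfl rfl]
  exact sup_le_sup_right (zg_anti K p _ _ n (n + 1) (by omega)) _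

lemma BSub_mono (p n : ℤ) {r r' : ℕ} (h : r ≤ r') : K.BSub r p n ≤ K.BSub r' p n := by
  rw [BSub_eq K r p (n - 1) n _ (by omega) rfl, BSub_eq K r' p (n - 1) n _ (by omega) rfl]
  exact sup_le_sup_right (bg_anti K p _ _ (n - 1) n (by omega)) _

lemma BBot_le_ZTop (p n : ℤ) : K.BBot p n ≤ K.ZTop p n :=
  sup_le_sup_right (inf_le_inf_left _ (image_le_kernel _ _ (K.obj.d_comp_d _ _ _))) _

lemma BSub_le_ZSub' (p n : ℤ) (r r' : ℕ) : K.BSub r p n ≤ K.ZSub r' p n :=
  ((FilCxBasic.BSub_le_BBot K r p n).trans (BBot_le_ZTop K p n)).trans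
    (FilCxBasic.ZTop_le_ZSub K r' p n)

/-- `Z_r^{p,n}/Z_{r+1}^{p,n} ≅ B_{r+1}^{q,m}/B_r^{q,m}` for `q = p + r`, `m = n + 1`. -/
theorem delta_iso' (r : ℕ) (p n q m : ℤ) (hq : q = p + r) (hm : m = n + 1) :
    Nonempty (sq (K.ZSub (r + 1) p n) (K.ZSub r p n) (ZSub_anti K p n (Nat.le_succ r)) ≅
      sq (K.BSub r q m) (K.BSub (r + 1) q m) (BSub_mono K q m (Nat.le_succ r))) := by
  subst hq hm
  obtain ⟨e⟩ := delta_iso K p (p + r) n (n + 1)
  obtain ⟨e1⟩ := nonempty_sq_iso_of_eq (ZSub_anti K p n (Nat.le_succ r))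
    (sup_le_sup_right (zg_anti K p (p + r) (p + r + 1) n (n + 1) (by omega)) _)
    (ZSub_eq K (r + 1) p n (n + 1) (p + r + 1) rfl (by push_cast; ring))
    (ZSub_eq K r p n (n + 1) (p + r) rfl rfl)
  obtain ⟨e2⟩ := nonempty_sq_iso_of_eq (BSub_mono K (p + r) (n + 1) (Nat.le_succ r))
    (sup_le_sup_right (bg_anti K (p + r) p (p + 1) n (n + 1) (by omega)) _)
    (BSub_eq K r (p + r) n (n + 1) (p + 1) rfl (by ring))
    (BSub_eq K (r + 1) (p + r) n (n + 1) p rfl (by push_cast; ring))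
  exact ⟨e1 ≪≫ e ≪≫ e2.symm⟩

section pages

variable {P : A → Prop} (hP : WeakSerre P)
include hP

/-- A weak Serre class passes from page `r` to page `r + 1`. -/
theorem prop_page_succ (r : ℕ) (hr : ∀ p n : ℤ, P (K.E r p n)) (p n : ℤ) :
    P (K.E (r + 1) p n) := by
  -- kernel step
  obtain ⟨e⟩ := delta_iso' K r p n (p + r) (n + 1) rfl rfl
  have hk : P (sq (K.BSub r p n) (K.ZSub (r + 1) p n) (BSub_le_ZSub' K p n r (r + 1))) :=
    prop_kernel_step hP (K.BSub r p n) (K.ZSub (r + 1) p n) (K.ZSub r p n)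
      (BSub_le_ZSub' K p n r (r + 1)) (ZSub_anti K p n (Nat.le_succ r))
      (K.BSub r (p + r) (n + 1)) (K.BSub (r + 1) (p + r) (n + 1)) (K.ZSub r (p + r) (n + 1))
      (BSub_mono K _ _ (Nat.le_succ r)) (BSub_le_ZSub' K _ _ (r + 1) r) e (hr p n)
      (hr (p + r) (n + 1))
  -- cokernel step
  obtain ⟨e'⟩ := delta_iso' K r (p - r) (n - 1) p n (by ring) (by ring)
  exact prop_cokernel_step hP (K.BSub r p n) (K.BSub (r + 1) p n) (K.ZSub (r + 1) p n)
    (BSub_mono K _ _ (Nat.le_succ r)) (BSub_le_ZSub' K p n (r + 1) (r + 1))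
    (K.BSub r (p - r) (n - 1)) (K.ZSub (r + 1) (p - r) (n - 1)) (K.ZSub r (p - r) (n - 1))
    (BSub_le_ZSub' K _ _ r (r + 1)) (ZSub_anti K _ _ (Nat.le_succ r)) e' (hr (p - r) (n - 1)) hk

theorem prop_page_of_le (r : ℕ) (hr : ∀ p n : ℤ, P (K.E r p n)) (r' : ℕ) (h : r ≤ r')
    (p n : ℤ) : P (K.E r' p n) := by
  induction r', h using Nat.le_induction generalizing p n with
  | base => exact hr p n
  | succ r' _ ih => exact prop_page_succ K hP r' ih p n

/-- If the filtrations of `K^{n-1}` and `K^{n+1}` are finite, the limit term `ZTop/BBot` is in the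
class. -/
theorem prop_limit_term (r : ℕ) (hr : ∀ p n : ℤ, P (K.E r p n)) (p n : ℤ)
    (hfin : ∀ n : ℤ, (K.XFil n).IsFinite) :
    P (sq (K.BBot p n) (K.ZTop p n) (BBot_le_ZTop K p n)) := by
  obtain ⟨⟨a, ha⟩, -⟩ := hfin (n - 1)
  obtain ⟨-, ⟨b, hb⟩⟩ := hfin (n + 1)
  change K.filX a (n - 1) = ⊤ at ha
  change K.filX b (n + 1) = ⊥ at hb
  let r' : ℕ := r + (b - p).toNat + (p + 1 - a).toNat
  have h1 : K.filX (p + r') (n + 1) = ⊥ :=
    FilCxBasic.filX_eq_bot_of_le K (n + 1) hb (by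
      have := Int.self_le_toNat (b - p)
      simp only [r']
      push_cast
      omega)
  have h2 : K.filX (p - r' + 1) (n - 1) = ⊤ :=
    FilCxBasic.filX_eq_top_of_le K (n - 1) ha (by
      have := Int.self_le_toNat (p + 1 - a)
      simp only [r']
      push_cast
      omega)
  have h3 : P (K.E r' p n) := prop_page_of_le K hP r hr r' (by simp only [r']; omega) p n
  obtain ⟨e⟩ := nonempty_sq_iso_of_eq (K.BSub_le_ZSub r' p n) (BBot_le_ZTop K p n)
    (FilCxBasic.BSub_eq_BBot K r' p n h2) (FilCxBasic.ZSub_eq_ZTop K r' p n h1)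
  exact hP.iso e h3

end pages

end Groth.Agent.Lib.helper15.SubQuot
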