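import Mathlib
import Groth.Agent.Lib.Helper15.SubQuotB

/-!
# The limit term of the spectral sequence of a filtered complex is `gr^p H^n` (helper15)

`grH_iso`: `ZTop/BBot ≅ F^p H^n / F^{p+1} H^n` for a filtered complex `K : SpSeq.FilCx A`.
`prop_homology`: a weak Serre class containing all terms of some page contains `H^n(K)` when the
filtrations of the `K^n` are finite.
-/

set_option autoImplicit false
universe v u

open CategoryTheory CategoryTheory.Limits SpSeq SpSeq.FilCx HomologicalComplex

namespace Groth.Agent.Lib.helper15.SubQuot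

open Groth.Agent.Lib.helper21.SSWeakSerre Groth.Agent.Lib.helper23.JH
open Groth.Agent.Lib.helper7

variable {A : Type u} [Category.{v} A] [Abelian A] (K : FilCx A)

/-- cycles of `F^p K` in degree `n`, mapped to `K^n`. -/
noncomputable def cycA (p n : ℤ) : (K.fil p : CochainComplex A ℤ).cycles n ⟶ K.obj.X n :=
  (K.fil p : CochainComplex A ℤ).iCycles n ≫ (K.fil p).arrow.f n

/-- cycles of `F^p K` in degree `n`, mapped to `H^n(K)`. -/
noncomputable def cycB (p n : ℤ) : (K.fil p : CochainComplex A ℤ).cycles n ⟶ K.obj.homology n :=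
  (K.fil p : CochainComplex A ℤ).homologyπ n ≫ homologyMap (K.fil p).arrow n

lemma cycB_eq (p n : ℤ) : cycB K p n = cyclesMap (K.fil p).arrow n ≫ K.obj.homologyπ n :=
  homologyπ_naturality _ _

lemma cyclesMap_i' (p n : ℤ) : cyclesMap (K.fil p).arrow n ≫ K.obj.iCycles n = cycA K p n :=
  cyclesMap_i _ _

lemma cycA_d (p n m : ℤ) : cycA K p n ≫ K.obj.d n m = 0 := by
  rw [cycA, Category.assoc, Hom.comm, ← Category.assoc, iCycles_d, zero_comp]

lemma filX_factors_cycA (p n : ℤ) : (K.filX p n).Factors (cycA K p n) :=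
  (filX_factors_iff K p n _).2 ⟨_, rfl⟩

lemma exists_lift_cyc (p n : ℤ) {V : A} (x : V ⟶ K.obj.X n) (hx : (K.filX p n).Factors x)
    (hd : x ≫ K.obj.d n (n + 1) = 0) :
    ∃ w : V ⟶ (K.fil p : CochainComplex A ℤ).cycles n, w ≫ cycA K p n = x := by
  obtain ⟨u, rfl⟩ := (filX_factors_iff K p n x).1 hx
  have hu : u ≫ (K.fil p : CochainComplex A ℤ).d n (n + 1) = 0 := by
    rw [← cancel_mono ((K.fil p).arrow.f (n + 1)), Category.assoc, ← Hom.comm, ← Category.assoc,
      hd, zero_comp]
  refine ⟨(K.fil p : CochainComplex A ℤ).liftCycles u (n + 1) (by simp) hu, ?_⟩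
  rw [cycA, ← Category.assoc, liftCycles_i]

theorem grH_iso (p n : ℤ) :
    Nonempty (sq (K.BBot p n) (K.ZTop p n) (BBot_le_ZTop K p n) ≅
      sq (K.filH (p + 1) n) (K.filH p n) (K.filH_anti n (by omega))) := by
  refine nonempty_subquot_iso_of_correspondence _ _ _ _ _ _ (cycA K p n) (cycB K p n)
    ?_ ?_ ?_ ?_ ?_
  · apply Subobject.sup_factors_of_factors_left
    rw [Subobject.inf_factors]
    exact ⟨filX_factors_cycA K p n, (kernelSubobject_factors_iff _ _).2 (cycA_d K p n _)⟩
  · exact imageSubobject_factors_comp_self _ _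
  · intro V x hx
    obtain ⟨V', π, hπ, x₁, x₂, h1, h2, fac⟩ := (sup_factors_iff _ _ x).1 hx
    rw [Subobject.inf_factors, kernelSubobject_factors_iff] at h1
    obtain ⟨w, hw⟩ := exists_lift_cyc K p n x₁ h1.1 h1.2
    exact ⟨V', π, hπ, w, x₂, Subobject.sup_factors_of_factors_right h2, by rw [hw, fac]⟩
  · intro V y hy
    obtain ⟨V', π, hπ, h, hh⟩ := (FilObjElem.imageSubobject_factors_iff _ _).1 hy
    obtain ⟨V'', π', hπ', w, hw⟩ := surjective_up_to_refinements_of_epi
      ((K.fil p : CochainComplex A ℤ).homologyπ n) h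
    refine ⟨V'', π' ≫ π, epi_comp _ _, w, 0, Subobject.factors_zero, ?_⟩
    rw [add_zero, Category.assoc, hh, ← Category.assoc, hw, Category.assoc]
    rfl
  · intro V w
    have hwa : (K.filX p n).Factors (w ≫ cycA K p n) :=
      Subobject.factors_of_factors_right _ (filX_factors_cycA K p n)
    have hex : (ShortComplex.mk (K.obj.toCycles (n - 1) n) (K.obj.homologyπ n)
        (K.obj.toCycles_comp_homologyπ (n - 1) n)).Exact :=
      ShortComplex.exact_of_g_is_cokernel _ (K.obj.homologyIsCokernel (n - 1) n (by simp))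
    constructor
    · intro h
      obtain ⟨V', π, hπ, y₁, y₂, h1, h2, fac⟩ := (sup_factors_iff _ _ _).1 h
      rw [Subobject.inf_factors, FilObjElem.imageSubobject_factors_iff] at h1
      obtain ⟨h1a, V'', π₁, hπ₁, v, hv⟩ := h1
      have hy₁d : y₁ ≫ K.obj.d n (n + 1) = 0 := by
        rw [← cancel_epi π₁, ← Category.assoc, hv, Category.assoc, d_comp_d, comp_zero,
          comp_zero]
      have hy₂d : y₂ ≫ K.obj.d n (n + 1) = 0 := by
        have := congr($fac ≫ K.obj.d n (n + 1))
        rw [Preadditive.add_comp, hy₁d, zero_add, Category.assoc, Category.assoc, cycA_d,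
          comp_zero, comp_zero] at this
        exact this.symm
      obtain ⟨w₂, hw₂⟩ := exists_lift_cyc K (p + 1) n y₂ h2 hy₂d
      apply factors_of_epi_comp _ (π₁ ≫ π)
      have key : (π₁ ≫ π) ≫ w ≫ cyclesMap (K.fil p).arrow n =
          v ≫ K.obj.toCycles (n - 1) n + (π₁ ≫ w₂) ≫ cyclesMap (K.fil (p + 1)).arrow n := by
        rw [← cancel_mono (K.obj.iCycles n)]
        simp only [Category.assoc, Preadditive.add_comp, cyclesMap_i', toCycles_i]
        rw [hw₂, ← hv, ← Preadditive.comp_add, ← fac]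
      have e2 : (π₁ ≫ π) ≫ w ≫ cycB K p n = (π₁ ≫ w₂) ≫ cycB K (p + 1) n := by
        rw [cycB_eq, cycB_eq]
        have := congr($key ≫ K.obj.homologyπ n)
        simp only [Category.assoc, Preadditive.add_comp, toCycles_comp_homologyπ, comp_zero,
          zero_add] at this ⊢
        exact this
      rw [e2]
      exact Subobject.factors_of_factors_right _ (imageSubobject_factors_comp_self _ _)
    · intro h
      obtain ⟨V', π, hπ, hh, hfac⟩ := (FilObjElem.imageSubobject_factors_iff _ _).1 h
      obtain ⟨V'', π', hπ', w₂, hw₂⟩ := surjective_up_to_refinements_of_epi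
        ((K.fil (p + 1) : CochainComplex A ℤ).homologyπ n) hh
      have e1 : ((π' ≫ π) ≫ w ≫ cyclesMap (K.fil p).arrow n -
          w₂ ≫ cyclesMap (K.fil (p + 1)).arrow n) ≫ K.obj.homologyπ n = 0 := by
        rw [Preadditive.sub_comp, sub_eq_zero]
        simp only [Category.assoc]
        rw [← cycB_eq, ← cycB_eq, hfac, ← Category.assoc π', hw₂, Category.assoc]
        rfl
      obtain ⟨V₃, π₃, hπ₃, v, hv⟩ := hex.exact_up_to_refinements _ e1
      apply factors_of_epi_comp _ (π₃ ≫ π' ≫ π)
      have key : (π₃ ≫ π' ≫ π) ≫ w ≫ cycA K p n =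
          v ≫ K.obj.d (n - 1) n + (π₃ ≫ w₂) ≫ cycA K (p + 1) n := by
        have := congr($hv ≫ K.obj.iCycles n)
        simp only [Category.assoc, Preadditive.sub_comp, Preadditive.comp_sub, cyclesMap_i',
          toCycles_i] at this
        rw [sub_eq_iff_eq_add] at this
        simp only [Category.assoc]
        exact this
      have hF1 : (K.filX (p + 1) n).Factors ((π₃ ≫ w₂) ≫ cycA K (p + 1) n) :=
        Subobject.factors_of_factors_right _ (filX_factors_cycA K (p + 1) n)
      have e3 : v ≫ K.obj.d (n - 1) n =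
          (π₃ ≫ π' ≫ π) ≫ w ≫ cycA K p n - (π₃ ≫ w₂) ≫ cycA K (p + 1) n := by
        rw [key]
        abel
      rw [key]
      refine Subobject.factors_add _ _ (Subobject.sup_factors_of_factors_left ?_)
        (Subobject.sup_factors_of_factors_right hF1)
      rw [Subobject.inf_factors]
      refine ⟨?_, imageSubobject_factors_comp_self _ _⟩
      rw [e3]
      exact factors_sub _ _ _ (Subobject.factors_of_factors_right _ hwa)
        (filX_factors_of_le K (show p ≤ p + 1 by omega) n _ hF1)

/-- A weak Serre class containing all terms of some page of the spectral sequence of a filtered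
complex with degreewise finite filtration contains the cohomology objects. -/
theorem prop_homology {P : A → Prop} (hP : WeakSerre P) (hfin : ∀ n : ℤ, (K.XFil n).IsFinite)
    (r : ℕ) (hr : ∀ p n : ℤ, P (K.E r p n)) (n : ℤ) : P (K.obj.homology n) := by
  obtain ⟨⟨a1, ha1⟩, -⟩ := hfin (n - 1)
  obtain ⟨⟨a2, ha2⟩, ⟨b, hb⟩⟩ := hfin n
  obtain ⟨⟨a3, ha3⟩, -⟩ := hfin (n + 1)
  change K.filX a1 (n - 1) = ⊤ at ha1
  change K.filX a2 n = ⊤ at ha2
  change K.filX a3 (n + 1) = ⊤ at ha3
  change K.filX b n = ⊥ at hb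
  have hta : K.filH (min a1 (min a2 a3)) n = ⊤ := by
    apply FilCxBasic.filH_eq_top K n
    · rw [CochainComplex.prev]
      exact FilCxBasic.filX_eq_top_of_le K (n - 1) ha1 (min_le_left _ _)
    · exact FilCxBasic.filX_eq_top_of_le K n ha2
        ((min_le_right _ _).trans (min_le_left _ _))
    · rw [CochainComplex.next]
      exact FilCxBasic.filX_eq_top_of_le K (n + 1) ha3
        ((min_le_right _ _).trans (min_le_right _ _))
  have hbb : K.filH b n = ⊥ := FilCxBasic.filH_eq_bot K n b hb
  refine prop_of_filtration hP (fun p => K.filH p n) (K.filH_anti n) _ b hta hbb (fun p => ?_)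
  obtain ⟨e⟩ := grH_iso K p n
  exact hP.iso e (prop_limit_term K hP r hr p n hfin)

end Groth.Agent.Lib.helper15.SubQuot
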