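import Mathlib
import Groth.Agent.Lib.Helper15.SubQuotC

/-!
# Cohomological hypotheses on the steps of a filtered complex, elementwise (helper15)

For `K : SpSeq.FilCx A`, generalized-element consequences of `H^n(F^p K) = 0` and of
`H^n(F^p K) ⟶ H^n(K)` being mono/epi, and the resulting stabilisation of `ZSub`, `BSub`
and vanishing of `E_1`.
-/

set_option autoImplicit false
universe v u

open CategoryTheory CategoryTheory.Limits SpSeq SpSeq.FilCx HomologicalComplex

namespace Groth.Agent.Lib.helper15.SubQuot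

open Groth.Agent.Lib.helper21.SSWeakSerre Groth.Agent.Lib.helper23.JH
open Groth.Agent.Lib.helper7

variable {A : Type u} [Category.{v} A] [Abelian A] (K : FilCx A)

lemma exact_toCycles_homologyπ (L : CochainComplex A ℤ) (n : ℤ) :
    (ShortComplex.mk (L.toCycles (n - 1) n) (L.homologyπ n)
      (L.toCycles_comp_homologyπ (n - 1) n)).Exact :=
  ShortComplex.exact_of_g_is_cokernel _ (L.homologyIsCokernel (n - 1) n (by simp))

/-- a cycle of `F^p K` whose class in `H^n(F^p K)` vanishes is a boundary from `F^p K^{n-1}`. -/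
lemma boundary_of_class_zero (p n : ℤ) {V : A}
    (w : V ⟶ (K.fil p : CochainComplex A ℤ).cycles n)
    (hw : w ≫ (K.fil p : CochainComplex A ℤ).homologyπ n = 0) :
    ∃ (V' : A) (π : V' ⟶ V) (_ : Epi π) (v : V' ⟶ K.obj.X (n - 1)),
      (K.filX p (n - 1)).Factors v ∧ π ≫ w ≫ cycA K p n = v ≫ K.obj.d (n - 1) n := by
  obtain ⟨V', π, hπ, v', hv'⟩ :=
    (exact_toCycles_homologyπ (K.fil p : CochainComplex A ℤ) n).exact_up_to_refinements w hw
  refine ⟨V', π, hπ, v' ≫ (K.fil p).arrow.f (n - 1), (filX_factors_iff K p (n - 1) _).2 ⟨_, rfl⟩,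
    ?_⟩
  have := congr($hv' ≫ cycA K p n)
  simp only [Category.assoc] at this
  rw [this, cycA, ← Category.assoc (toCycles _ _ _), toCycles_i, Category.assoc, Hom.comm]

/-- (C1) if `H^n(F^p K) = 0`, cycles in `F^p K^n` are boundaries from `F^p K^{n-1}`. -/
lemma boundary_of_isZero (p n : ℤ) (h0 : IsZero ((K.fil p : CochainComplex A ℤ).homology n))
    {V : A} (x : V ⟶ K.obj.X n) (hx : (K.filX p n).Factors x) (hd : x ≫ K.obj.d n (n + 1) = 0) :
    ∃ (V' : A) (π : V' ⟶ V) (_ : Epi π) (v : V' ⟶ K.obj.X (n - 1)),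
      (K.filX p (n - 1)).Factors v ∧ π ≫ x = v ≫ K.obj.d (n - 1) n := by
  obtain ⟨w, hw⟩ := exists_lift_cyc K p n x hx hd
  obtain ⟨V', π, hπ, v, hv, fac⟩ := boundary_of_class_zero K p n w (h0.eq_of_tgt _ _)
  exact ⟨V', π, hπ, v, hv, by rw [← hw, fac]⟩

/-- (C2) if `H^n(F^p K) ⟶ H^n(K)` is mono, elements of `F^p K^n` which are boundaries in `K` are
boundaries from `F^p K^{n-1}`. -/
lemma boundary_of_mono (p n : ℤ) [Mono (homologyMap (K.fil p).arrow n)]
    {V : A} (x : V ⟶ K.obj.X n) (hx : (K.filX p n).Factors x) (v₀ : V ⟶ K.obj.X (n - 1))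
    (hv₀ : x = v₀ ≫ K.obj.d (n - 1) n) :
    ∃ (V' : A) (π : V' ⟶ V) (_ : Epi π) (v : V' ⟶ K.obj.X (n - 1)),
      (K.filX p (n - 1)).Factors v ∧ π ≫ x = v ≫ K.obj.d (n - 1) n := by
  have hd : x ≫ K.obj.d n (n + 1) = 0 := by rw [hv₀, Category.assoc, d_comp_d, comp_zero]
  obtain ⟨w, hw⟩ := exists_lift_cyc K p n x hx hd
  have h1 : w ≫ cyclesMap (K.fil p).arrow n = v₀ ≫ K.obj.toCycles (n - 1) n := by
    rw [← cancel_mono (K.obj.iCycles n), Category.assoc, cyclesMap_i', hw, Category.assoc,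
      toCycles_i, hv₀]
  have h2 : (w ≫ (K.fil p : CochainComplex A ℤ).homologyπ n) ≫
      homologyMap (K.fil p).arrow n = 0 := by
    rw [Category.assoc, homologyπ_naturality, ← Category.assoc, h1, Category.assoc,
      toCycles_comp_homologyπ, comp_zero]
  have h3 : w ≫ (K.fil p : CochainComplex A ℤ).homologyπ n = 0 :=
    (cancel_mono (homologyMap (K.fil p).arrow n)).1 (by rw [h2, zero_comp])
  obtain ⟨V', π, hπ, v, hv, fac⟩ := boundary_of_class_zero K p n w h3
  exact ⟨V', π, hπ, v, hv, by rw [← hw, fac]⟩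

/-- (C3) if `H^n(F^p K) ⟶ H^n(K)` is epi, every cycle of `K^n` is an element of `F^p K^n` plus
a boundary. -/
lemma decomp_of_epi (p n : ℤ) [Epi (homologyMap (K.fil p).arrow n)]
    {V : A} (x : V ⟶ K.obj.X n) (hd : x ≫ K.obj.d n (n + 1) = 0) :
    ∃ (V' : A) (π : V' ⟶ V) (_ : Epi π) (z : V' ⟶ K.obj.X n) (v : V' ⟶ K.obj.X (n - 1)),
      (K.filX p n).Factors z ∧ π ≫ x = z + v ≫ K.obj.d (n - 1) n := by
  let c : V ⟶ K.obj.cycles n := K.obj.liftCycles x (n + 1) (by simp) hd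
  have hc : c ≫ K.obj.iCycles n = x := liftCycles_i _ _ _ _ _
  have : Epi (cycB K p n) := by
    unfold cycB
    infer_instance
  obtain ⟨V₁, π₁, hπ₁, w, hw⟩ := surjective_up_to_refinements_of_epi (cycB K p n)
    (c ≫ K.obj.homologyπ n)
  have e1 : (π₁ ≫ c - w ≫ cyclesMap (K.fil p).arrow n) ≫ K.obj.homologyπ n = 0 := by
    rw [Preadditive.sub_comp, sub_eq_zero, Category.assoc, Category.assoc, hw, cycB_eq]
  obtain ⟨V₂, π₂, hπ₂, v, hv⟩ := (exact_toCycles_homologyπ K.obj n).exact_up_to_refinements _ e1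
  refine ⟨V₂, π₂ ≫ π₁, epi_comp _ _, (π₂ ≫ w) ≫ cycA K p n, v,
    Subobject.factors_of_factors_right _ (filX_factors_cycA K p n), ?_⟩
  have := congr($hv ≫ K.obj.iCycles n)
  simp only [Category.assoc, Preadditive.sub_comp, Preadditive.comp_sub, cyclesMap_i',
    toCycles_i, hc] at this
  rw [sub_eq_iff_eq_add] at this
  rw [Category.assoc, this, add_comm, Category.assoc]

lemma boundary_of_isZero' (p m n : ℤ) (hmn : m + 1 = n)
    (h0 : IsZero ((K.fil p : CochainComplex A ℤ).homology n))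
    {V : A} (x : V ⟶ K.obj.X n) (hx : (K.filX p n).Factors x) (hd : x ≫ K.obj.d n (n + 1) = 0) :
    ∃ (V' : A) (π : V' ⟶ V) (_ : Epi π) (v : V' ⟶ K.obj.X m),
      (K.filX p m).Factors v ∧ π ≫ x = v ≫ K.obj.d m n := by
  obtain rfl : m = n - 1 := by omega
  exact boundary_of_isZero K p n h0 x hx hd

lemma boundary_of_mono' (p m n : ℤ) (hmn : m + 1 = n) [Mono (homologyMap (K.fil p).arrow n)]
    {V : A} (x : V ⟶ K.obj.X n) (hx : (K.filX p n).Factors x) (v₀ : V ⟶ K.obj.X m)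
    (hv₀ : x = v₀ ≫ K.obj.d m n) :
    ∃ (V' : A) (π : V' ⟶ V) (_ : Epi π) (v : V' ⟶ K.obj.X m),
      (K.filX p m).Factors v ∧ π ≫ x = v ≫ K.obj.d m n := by
  obtain rfl : m = n - 1 := by omega
  exact boundary_of_mono K p n x hx v₀ hv₀

/-- `ZSub r = ZTop` when `H^{n+1}(F^{p+r} K) = 0` and `r ≥ 1`. -/
lemma ZSub_eq_ZTop_of_isZero (r : ℕ) (hr : 1 ≤ r) (p n : ℤ)
    (h0 : IsZero ((K.fil (p + r) : CochainComplex A ℤ).homology (n + 1))) :
    K.ZSub r p n = K.ZTop p n := by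
  apply le_antisymm _ (FilCxBasic.ZTop_le_ZSub K r p n)
  rw [ZSub_eq K r p n (n + 1) (p + r) rfl rfl]
  apply sup_le _ le_sup_right
  rw [FilObjElem.le_iff_factors]
  intro V x hx
  rw [zg_factors_iff] at hx
  obtain ⟨V', π, hπ, y, hy, fac⟩ := boundary_of_isZero' K (p + r) n (n + 1) rfl h0
    (x ≫ K.obj.d n (n + 1)) hx.2 (by rw [Category.assoc, d_comp_d, comp_zero])
  apply factors_of_epi_comp _ π
  have e : π ≫ x = (π ≫ x - y) + y := by abel
  rw [e]
  refine Subobject.factors_add _ _ (Subobject.sup_factors_of_factors_left ?_)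
    (Subobject.sup_factors_of_factors_right
      (filX_factors_of_le K (show p + 1 ≤ p + r by omega) n _ hy))
  rw [Subobject.inf_factors, kernelSubobject_factors_iff]
  refine ⟨factors_sub _ _ _ (Subobject.factors_of_factors_right _ hx.1)
    (filX_factors_of_le K (show p ≤ p + r by omega) n _ hy), ?_⟩
  rw [Preadditive.sub_comp, Category.assoc, fac, sub_self]

/-- `BSub r = BBot` when `H^n(F^{p-r+1} K) ⟶ H^n(K)` is mono and `r ≥ 1`. -/
lemma BSub_eq_BBot_of_mono (r : ℕ) (hr : 1 ≤ r) (p n : ℤ)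
    [Mono (homologyMap (K.fil (p - r + 1)).arrow n)] :
    K.BSub r p n = K.BBot p n := by
  apply le_antisymm (FilCxBasic.BSub_le_BBot K r p n)
  rw [BSub_eq K r p (n - 1) n (p - r + 1) (by omega) rfl]
  apply sup_le _ le_sup_right
  rw [FilObjElem.le_iff_factors]
  intro V x hx
  rw [Subobject.inf_factors, FilObjElem.imageSubobject_factors_iff] at hx
  obtain ⟨hx1, V₁, π₁, hπ₁, v₀, hv₀⟩ := hx
  obtain ⟨V', π, hπ, v, hv, fac⟩ := boundary_of_mono' K (p - r + 1) (n - 1) n (by omega)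
    (π₁ ≫ x) (Subobject.factors_of_factors_right _
      (filX_factors_of_le K (show p - r + 1 ≤ p by omega) n _ hx1)) v₀ hv₀
  apply factors_of_epi_comp _ (π ≫ π₁)
  apply Subobject.sup_factors_of_factors_left
  rw [bg_factors_iff]
  exact ⟨Subobject.factors_of_factors_right _ hx1, _, 𝟙 _, inferInstance, v, hv, by
    rw [Category.id_comp, Category.assoc, fac]⟩

/-- `E_1^{p,n} = 0` when `H^{n+1}(F^{p+1})` and `H^n(F^p)` vanish. -/
lemma isZero_E_one_of_isZero (p n : ℤ)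
    (h1 : IsZero ((K.fil (p + 1) : CochainComplex A ℤ).homology (n + 1)))
    (h2 : IsZero ((K.fil p : CochainComplex A ℤ).homology n)) : IsZero (K.E 1 p n) := by
  apply FilCxBasic.isZero_subquot_of_eq
  apply le_antisymm _ (K.BSub_le_ZSub 1 p n)
  rw [ZSub_eq K 1 p n (n + 1) (p + 1) rfl (by norm_num),
    BSub_eq K 1 p (n - 1) n p (by omega) (by norm_num)]
  apply sup_le _ le_sup_right
  rw [FilObjElem.le_iff_factors]
  intro V x hx
  rw [zg_factors_iff] at hx
  obtain ⟨V₁, π₁, hπ₁, y, hy, fac₁⟩ := boundary_of_isZero' K (p + 1) n (n + 1) rfl h1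
    (x ≫ K.obj.d n (n + 1)) hx.2 (by rw [Category.assoc, d_comp_d, comp_zero])
  have hxy : (K.filX p n).Factors (π₁ ≫ x - y) :=
    factors_sub _ _ _ (Subobject.factors_of_factors_right _ hx.1)
      (filX_factors_of_le K (show p ≤ p + 1 by omega) n _ hy)
  obtain ⟨V₂, π₂, hπ₂, v, hv, fac₂⟩ := boundary_of_isZero K p n h2 (π₁ ≫ x - y) hxy (by
    rw [Preadditive.sub_comp, Category.assoc, fac₁, sub_self])
  apply factors_of_epi_comp _ (π₂ ≫ π₁)
  have e : (π₂ ≫ π₁) ≫ x = v ≫ K.obj.d (n - 1) n + π₂ ≫ y := by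
    rw [← fac₂, Preadditive.comp_sub, Category.assoc]
    abel
  rw [e]
  refine Subobject.factors_add _ _ (Subobject.sup_factors_of_factors_left ?_)
    (Subobject.sup_factors_of_factors_right (Subobject.factors_of_factors_right _ hy))
  rw [bg_factors_iff]
  refine ⟨?_, _, 𝟙 _, inferInstance, v, hv, by rw [Category.id_comp]⟩
  rw [← fac₂]
  exact Subobject.factors_of_factors_right _ hxy

/-- `E_1^{p,n} = 0` when `H^{n+1}(F^{p+1}) ⟶ H^{n+1}(K)` and `H^n(F^p) ⟶ H^n(K)` are mono and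
`H^n(F^{p+1}) ⟶ H^n(K)` is epi. -/
lemma isZero_E_one_of_iso (p n : ℤ)
    [Mono (homologyMap (K.fil (p + 1)).arrow (n + 1))]
    [Mono (homologyMap (K.fil p).arrow n)]
    [Epi (homologyMap (K.fil (p + 1)).arrow n)] : IsZero (K.E 1 p n) := by
  apply FilCxBasic.isZero_subquot_of_eq
  apply le_antisymm _ (K.BSub_le_ZSub 1 p n)
  rw [ZSub_eq K 1 p n (n + 1) (p + 1) rfl (by norm_num),
    BSub_eq K 1 p (n - 1) n p (by omega) (by norm_num)]
  apply sup_le _ le_sup_right
  rw [FilObjElem.le_iff_factors]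
  intro V x hx
  rw [zg_factors_iff] at hx
  -- dx = dy with y ∈ F^{p+1}
  obtain ⟨V₁, π₁, hπ₁, y, hy, fac₁⟩ := boundary_of_mono' K (p + 1) n (n + 1) rfl
    (x ≫ K.obj.d n (n + 1)) hx.2 x rfl
  -- x - y = z + dv
  obtain ⟨V₂, π₂, hπ₂, z, v, hz, fac₂⟩ := decomp_of_epi K (p + 1) n (π₁ ≫ x - y) (by
    rw [Preadditive.sub_comp, Category.assoc, fac₁, sub_self])
  -- dv ∈ F^p is a boundary in K
  have hdv : v ≫ K.obj.d (n - 1) n = π₂ ≫ (π₁ ≫ x - y) - z := by
    rw [fac₂]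
    abel
  have hdvF : (K.filX p n).Factors (v ≫ K.obj.d (n - 1) n) := by
    rw [hdv]
    refine factors_sub _ _ _ (Subobject.factors_of_factors_right _
      (factors_sub _ _ _ (Subobject.factors_of_factors_right _ hx.1)
        (filX_factors_of_le K (show p ≤ p + 1 by omega) n _ hy)))
      (filX_factors_of_le K (show p ≤ p + 1 by omega) n _ hz)
  obtain ⟨V₃, π₃, hπ₃, v', hv', fac₃⟩ := boundary_of_mono K p n (v ≫ K.obj.d (n - 1) n) hdvF v rfl
  apply factors_of_epi_comp _ (π₃ ≫ π₂ ≫ π₁)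
  have e : (π₃ ≫ π₂ ≫ π₁) ≫ x = v' ≫ K.obj.d (n - 1) n + (π₃ ≫ z + π₃ ≫ π₂ ≫ y) := by
    rw [← fac₃, hdv]
    simp only [Category.assoc, Preadditive.comp_sub]
    abel
  rw [e]
  refine Subobject.factors_add _ _ (Subobject.sup_factors_of_factors_left ?_)
    (Subobject.sup_factors_of_factors_right (Subobject.factors_add _ _
      (Subobject.factors_of_factors_right _ hz)
      (Subobject.factors_of_factors_right _ (Subobject.factors_of_factors_right _ hy))))
  rw [bg_factors_iff]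
  refine ⟨?_, _, 𝟙 _, inferInstance, v', hv', by rw [Category.id_comp]⟩
  rw [← fac₃]
  exact Subobject.factors_of_factors_right _ hdvF

end Groth.Agent.Lib.helper15.SubQuot
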