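import Mathlib
import Groth.Prelude.Def_HopfRep
import Groth.Prelude.Def_CoactBr2
import Groth.Agent.S3021
import Groth.Agent.Lib.Helper15.SerreQuot1

/-!
# Smallest subcomodule by faithfully flat descent (helper15)

`A → B` faithfully flat, `C` an `A`-coalgebra with `B ⊗ C` projective over `B`, `V` a `C`-comodule.
* `IsSubBC`: sub-`B ⊗ C`-comodules of the base-changed comodule `B ⊗ V` (`CoactBr.Comod.baseChange`).
* `isSubBC_baseChange`: the base change of a subcomodule is a subcomodule.
* `mem_of_tmul_mem_baseChange`: `1 ⊗ w ∈ B ⊗ W₂ → w ∈ W₂` (faithful flatness).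
* `exists_smallest`: the smallest subcomodule containing a given submodule exists (and is finitely
  generated if the submodule is), by descent from the projective case.
-/

set_option autoImplicit false
set_option linter.unusedSectionVars false
set_option linter.style.haveILetI false

namespace Groth.Agent.Lib.helper15.SubcomodBC

open TensorProduct
open Groth.Agent.Lib.helper15

universe u

section Aux

variable {A : Type u} [CommRing A] {C : Type u} [AddCommGroup C] [Module A C] [Coalgebra A C]
  {V : Type u} [AddCommGroup V] [Module A V] [HopfRep.Comod A C V]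
  {B : Type u} [CommRing B] [Algebra A B]

/-- subcomodules of the base-changed comodule -/
def IsSubBC (C : Type u) [AddCommGroup C] [Module A C] [Coalgebra A C] [HopfRep.Comod A C V]
    (W' : Submodule B (B ⊗[A] V)) : Prop :=
  ∀ w ∈ W', (CoactBr.Comod.baseChange A B C V).coact w ∈
    LinearMap.range (W'.subtype.rTensor (B ⊗[A] C))

theorem tttc_tmul (s : B) (v : V) (c : C) :
    AlgebraTensorModule.tensorTensorTensorComm A B A B B B V C
      (((1 : B) ⊗ₜ[B] s) ⊗ₜ[A] (v ⊗ₜ[A] c)) = ((1 : B) ⊗ₜ[A] v) ⊗ₜ[B] (s ⊗ₜ[A] c) := rfl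

theorem coact_tmul (s : B) (v : V) :
    (CoactBr.Comod.baseChange A B C V).coact (s ⊗ₜ[A] v) =
      AlgebraTensorModule.tensorTensorTensorComm A B A B B B V C
        (((1 : B) ⊗ₜ[B] s) ⊗ₜ[A] HopfRep.Comod.coact (k := A) (A := C) v) := rfl

theorem fact1 (W' : Submodule B (B ⊗[A] V)) (t : V ⊗[A] C) :
    AlgebraTensorModule.cancelBaseChange A B B ((B ⊗[A] V) ⧸ W') C
      ((W'.mkQ).rTensor (B ⊗[A] C)
        (AlgebraTensorModule.tensorTensorTensorComm A B A B B B V C
          (((1 : B) ⊗ₜ[B] (1 : B)) ⊗ₜ[A] t))) =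
    ((W'.mkQ.restrictScalars A) ∘ₗ (TensorProduct.mk A B V 1)).rTensor C t := by
  induction t with
  | zero => simp
  | tmul v c =>
    rw [tttc_tmul, LinearMap.rTensor_tmul, AlgebraTensorModule.cancelBaseChange_tmul, one_smul,
      LinearMap.rTensor_tmul]
    rfl
  | add x y hx hy =>
    rw [TensorProduct.tmul_add, map_add, map_add, map_add, map_add, hx, hy]

theorem fact2 (W₂ : Submodule A V) (s : B) (t' : W₂ ⊗[A] C) :
    AlgebraTensorModule.tensorTensorTensorComm A B A B B B V C
      (((1 : B) ⊗ₜ[B] s) ⊗ₜ[A] (W₂.subtype.rTensor C t')) ∈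
      LinearMap.range ((W₂.baseChange B).subtype.rTensor (B ⊗[A] C)) := by
  induction t' with
  | zero => simp
  | tmul w c =>
    rw [LinearMap.rTensor_tmul, Submodule.subtype_apply, tttc_tmul]
    refine ⟨(⟨(1 : B) ⊗ₜ[A] (w : V), Submodule.tmul_mem_baseChange_of_mem 1 w.2⟩ :
      W₂.baseChange B) ⊗ₜ[B] (s ⊗ₜ[A] c), ?_⟩
    rw [LinearMap.rTensor_tmul]
    rfl
  | add x y hx hy =>
    rw [map_add, TensorProduct.tmul_add, map_add]
    exact Submodule.add_mem _ hx hy

theorem isSubBC_baseChange (W₂ : Submodule A V)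
    (h : HopfRep.IsSubcomod (k := A) (A := C) W₂) : IsSubBC C (W₂.baseChange B) := by
  intro x hx
  obtain ⟨y, rfl⟩ := hx
  induction y with
  | zero =>
    rw [map_zero, map_zero]
    exact Submodule.zero_mem _
  | tmul s w =>
    rw [LinearMap.baseChange_tmul, Submodule.subtype_apply, coact_tmul]
    obtain ⟨t', ht'⟩ := h w w.2
    rw [← ht']
    exact fact2 W₂ s t'
  | add x y hx hy =>
    rw [map_add, map_add]
    exact Submodule.add_mem _ hx hy

theorem mem_of_tmul_mem_baseChange [Module.FaithfullyFlat A B] (W₂ : Submodule A V) (w : V)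
    (h : (1 : B) ⊗ₜ[A] w ∈ W₂.baseChange B) : w ∈ W₂ := by
  obtain ⟨y, hy⟩ := h
  have h1 : (W₂.mkQ.baseChange B) ((W₂.subtype.baseChange B) y) = 0 := by
    rw [← LinearMap.comp_apply, ← LinearMap.baseChange_comp]
    have h0 : W₂.mkQ ∘ₗ W₂.subtype = 0 := by
      apply LinearMap.ext
      intro z
      simp
    rw [h0, LinearMap.baseChange_zero, LinearMap.zero_apply]
  rw [hy, LinearMap.baseChange_tmul] at h1
  have h2 : TensorProduct.mk A B (V ⧸ W₂) 1 (W₂.mkQ w) = TensorProduct.mk A B (V ⧸ W₂) 1 0 := by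
    rw [map_zero]
    exact h1
  have h3 := Module.FaithfullyFlat.tensorProduct_mk_injective (A := A) (B := B) (V ⧸ W₂) h2
  rwa [Submodule.mkQ_apply, Submodule.Quotient.mk_eq_zero] at h3

theorem s3021_bc [Module.Projective B (B ⊗[A] C)] (M' : Submodule B (B ⊗[A] V)) :
    ∃ W' : Submodule B (B ⊗[A] V), IsSubBC C W' ∧ M' ≤ W' ∧
      (∀ W'' : Submodule B (B ⊗[A] V), IsSubBC C W'' → M' ≤ W'' → W' ≤ W'') ∧
      (M'.FG → W'.FG) := by
  letI := CoactBr.Comod.baseChange A B C V
  exact Groth.Agent.S3021.result B (B ⊗[A] C) (B ⊗[A] V) M'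

end Aux

theorem exists_smallest (A : Type u) [CommRing A] (C : Type u) [AddCommGroup C] [Module A C]
    [Coalgebra A C] (V : Type u) [AddCommGroup V] [Module A V] [HopfRep.Comod A C V]
    (M : Submodule A V) (B : Type u) [CommRing B] [Algebra A B] [Module.FaithfullyFlat A B]
    [Module.Projective B (B ⊗[A] C)] :
    ∃ W : Submodule A V, HopfRep.IsSubcomod (k := A) (A := C) W ∧ M ≤ W ∧
      (∀ W' : Submodule A V, HopfRep.IsSubcomod (k := A) (A := C) W' → M ≤ W' → W ≤ W') ∧
      (M.FG → W.FG) := by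
  classical
  haveI hCflat : Module.Flat A C := Module.Flat.of_flat_tensorProduct A C B
  obtain ⟨W', hW'sub, hMW', hW'min, hW'fg⟩ :=
    s3021_bc (A := A) (C := C) (V := V) (B := B) (M.baseChange B)
  set f : V →ₗ[A] (B ⊗[A] V) ⧸ W' :=
    (W'.mkQ.restrictScalars A) ∘ₗ (TensorProduct.mk A B V 1) with hf
  have hker : ∀ v : V, v ∈ LinearMap.ker f ↔ (1 : B) ⊗ₜ[A] v ∈ W' := by
    intro v
    rw [LinearMap.mem_ker]
    show W'.mkQ ((1 : B) ⊗ₜ[A] v) = 0 ↔ _
    rw [Submodule.mkQ_apply, Submodule.Quotient.mk_eq_zero]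
  have hKeq : SerreQuot.K C f = LinearMap.ker f := by
    apply le_antisymm (SerreQuot.K_le_ker C f)
    intro w hw
    rw [SerreQuot.mem_K]
    obtain ⟨z, hz⟩ := hW'sub _ ((hker w).1 hw)
    have h2 := fact1 (A := A) (C := C) (V := V) W' (HopfRep.Comod.coact (k := A) (A := C) w)
    have h0 : W'.mkQ ∘ₗ W'.subtype = 0 := by
      apply LinearMap.ext
      intro y
      simp
    rw [← coact_tmul, ← hz, ← LinearMap.rTensor_comp_apply, h0, LinearMap.rTensor_zero,
      LinearMap.zero_apply, map_zero] at h2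
    exact h2.symm
  have hWsub : HopfRep.IsSubcomod (k := A) (A := C) (LinearMap.ker f) := by
    rw [← hKeq]
    exact SerreQuot.isSubcomod_K C f
  have hMle : M ≤ LinearMap.ker f := by
    intro m hm
    rw [hker]
    exact hMW' (Submodule.tmul_mem_baseChange_of_mem 1 hm)
  refine ⟨LinearMap.ker f, hWsub, hMle, ?_, ?_⟩
  · intro W₂ hW₂ hMW₂ w hw
    have h1 : W' ≤ W₂.baseChange B :=
      hW'min _ (isSubBC_baseChange W₂ hW₂) (Submodule.baseChange_mono B hMW₂)
    exact mem_of_tmul_mem_baseChange W₂ w (h1 ((hker w).1 hw))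
  · intro hM
    have hMB : (M.baseChange B).FG := by
      obtain ⟨F, hF⟩ := hM
      rw [← hF, Submodule.baseChange_span]
      exact Submodule.fg_span ((Finset.finite_toSet F).image _)
    have hW'fg' := hW'fg hMB
    have hWB : (LinearMap.ker f).baseChange B = W' := by
      apply le_antisymm
      · rw [Submodule.baseChange_eq_span, Submodule.span_le]
        rintro _ ⟨w, hw, rfl⟩
        exact (hker w).1 hw
      · exact hW'min _ (isSubBC_baseChange _ hWsub) (Submodule.baseChange_mono B hMle)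
    have hfgB : ((LinearMap.ker f).baseChange B).FG := by
      rw [hWB]
      exact hW'fg'
    have hinj : Function.Injective ((LinearMap.ker f).subtype.baseChange B) := by
      rw [LinearMap.baseChange_eq_ltensor]
      exact Module.Flat.lTensor_preserves_injective_linearMap _ (Submodule.injective_subtype _)
    haveI : Module.Finite B (B ⊗[A] (LinearMap.ker f)) := by
      have e : (B ⊗[A] (LinearMap.ker f)) ≃ₗ[B]
          LinearMap.range ((LinearMap.ker f).subtype.baseChange B) :=
        LinearEquiv.ofInjective _ hinj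
      haveI : Module.Finite B (LinearMap.range ((LinearMap.ker f).subtype.baseChange B)) :=
        Module.Finite.iff_fg.2 hfgB
      exact Module.Finite.equiv e.symm
    have := Module.Finite.of_finite_tensorProduct_of_faithfullyFlat (R := A) B
      (M := LinearMap.ker f)
    exact Module.Finite.iff_fg.1 this

end Groth.Agent.Lib.helper15.SubcomodBC
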