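import Mathlib
import Groth.Agent.Lib.Helper15.TFCurv1

/-!
# `ℓ(M / x M) = rank(M) · ℓ(O / x O)` for torsion-free modules in dimension one (helper15)
-/

set_option autoImplicit false
set_option linter.style.haveILetI false
universe u v

namespace Groth.Agent.Lib.helper15.TFCurv

open Module

variable {O : Type u} [CommRing O]

theorem length_pi_quot_smul (n : ℕ) (x : O) :
    Module.length O ((Fin n → O) ⧸ LinearMap.range (LinearMap.lsmul O (Fin n → O) x)) =
      (n : ℕ∞) * Module.length O (O ⧸ LinearMap.range (LinearMap.lsmul O O x)) := by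
  have h1 : LinearMap.range (LinearMap.lsmul O (Fin n → O) x) =
      Submodule.pi Set.univ (fun _ : Fin n => LinearMap.range (LinearMap.lsmul O O x)) := by
    ext v
    simp only [LinearMap.mem_range, Submodule.mem_pi, Set.mem_univ, forall_true_left]
    constructor
    · rintro ⟨w, rfl⟩ i
      exact ⟨w i, rfl⟩
    · intro h
      choose w hw using h
      exact ⟨w, funext hw⟩
  rw [h1, (Submodule.quotientPi _).length_eq, Module.length_pi_of_fintype]
  simp

theorem length_quot_smul_of_finrank [IsDomain O] [IsNoetherianRing O] [Ring.KrullDimLE 1 O]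
    (M : Type v) [AddCommGroup M] [Module O M] [Module.Finite O M] [NoZeroSMulDivisors O M]
    (x : O) (hx : x ≠ 0) :
    Module.length O (M ⧸ LinearMap.range (LinearMap.lsmul O M x)) =
      (Module.finrank O M : ℕ∞) * Module.length O (O ⧸ LinearMap.range (LinearMap.lsmul O O x)) := by
  obtain ⟨n, hn⟩ : ∃ n, n = Module.finrank O M := ⟨_, rfl⟩
  obtain ⟨v, hv⟩ := exists_linearIndependent_of_le_finrank hn.le
  rw [← hn]
  let f : (Fin n → O) →ₗ[O] M := Fintype.linearCombination O v
  have hf : Function.Injective f :=
    linearIndependent_iff_injective_fintypeLinearCombination.mp hv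
  have hxM : Function.Injective (LinearMap.lsmul O M x) := by
    intro a b hab
    exact smul_right_injective M hx hab
  have htors : ∀ q : M ⧸ LinearMap.range f, ∃ a : O, a ≠ 0 ∧ a • q = 0 := by
    rw [← rank_eq_zero_iff]
    have h2 := rank_quotient_add_rank_of_isDomain (LinearMap.range f)
    have h3 : Module.rank O (LinearMap.range f) = n := by
      rw [← Module.finrank_eq_rank, LinearMap.finrank_range_of_inj hf, Module.finrank_fin_fun]
    have h4 : Module.rank O M = n := by
      rw [hn, Module.finrank_eq_rank]
    rw [h3, h4] at h2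
    have h5 : Module.rank O (M ⧸ LinearMap.range f) + (n : Cardinal) = 0 + (n : Cardinal) := by
      rw [h2, zero_add]
    exact Cardinal.eq_of_add_eq_add_right h5 (Cardinal.natCast_lt_aleph0)
  have h1 := length_quot_smul_eq f hf x hxM (length_ne_top_of_torsion _ htors)
  rw [← h1, length_pi_quot_smul]

/-- `ℓ(O / x O) = ℓ(Õ / x Õ)` -/
theorem length_quot_smul_integralClosure [IsDomain O] [IsNoetherianRing O] [Ring.KrullDimLE 1 O]
    (K : Type u) [Field K] [Algebra O K] [IsFractionRing O K]
    (hfin : Module.Finite O ↥(integralClosure O K)) (x : O) (hx : x ≠ 0) :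
    Module.length O (O ⧸ LinearMap.range (LinearMap.lsmul O O x)) =
      Module.length O (↥(integralClosure O K) ⧸
        LinearMap.range (LinearMap.lsmul O ↥(integralClosure O K) x)) := by
  let f : O →ₗ[O] ↥(integralClosure O K) := Algebra.linearMap O ↥(integralClosure O K)
  have hinj : Function.Injective (algebraMap O ↥(integralClosure O K)) := by
    intro a b hab
    apply IsFractionRing.injective O K
    exact congrArg (fun z : ↥(integralClosure O K) => (z : K)) hab
  have hxA : Function.Injective (LinearMap.lsmul O ↥(integralClosure O K) x) := by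
    intro a b hab
    have h1 : x • a = x • b := hab
    rw [Algebra.smul_def, Algebra.smul_def] at h1
    have h2 : algebraMap O ↥(integralClosure O K) x ≠ 0 := by
      rw [Ne, ← map_zero (algebraMap O ↥(integralClosure O K))]
      exact fun h => hx (hinj h)
    exact mul_left_cancel₀ h2 h1
  have htors : ∀ q : ↥(integralClosure O K) ⧸ LinearMap.range f, ∃ a : O, a ≠ 0 ∧ a • q = 0 := by
    intro q
    obtain ⟨y, rfl⟩ := Submodule.mkQ_surjective _ q
    obtain ⟨⟨a, b⟩, hab⟩ := IsLocalization.surj (nonZeroDivisors O) (y : K)
    refine ⟨b, nonZeroDivisors.ne_zero b.2, ?_⟩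
    rw [← map_smul, Submodule.mkQ_apply, Submodule.Quotient.mk_eq_zero]
    refine ⟨a, ?_⟩
    apply Subtype.ext
    change algebraMap O K a = ((b : O) • y : ↥(integralClosure O K))
    rw [← hab, mul_comm,
      show (((b : O) • y : ↥(integralClosure O K)) : K) = (b : O) • (y : K) from rfl,
      Algebra.smul_def]
  exact length_quot_smul_eq f hinj x hxA (length_ne_top_of_torsion _ htors)

end Groth.Agent.Lib.helper15.TFCurv
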