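import Mathlib
import Groth.Agent.Lib.Helper15.TFCurv2
import Groth.Agent.Lib.Helper15.TFCurv3

/-!
# Number of generators of torsion-free modules over a one-dimensional local domain (helper15)

`spanFinrank_le_rank_mul_multiplicity`: `μ(M) ≤ rank(M) · ℓ(Õ / 𝔪 Õ)`.
-/

set_option autoImplicit false
set_option linter.style.haveILetI false
set_option linter.unusedSectionVars false
universe u

namespace Groth.Agent.Lib.helper15.TFCurv

open IsLocalRing

variable (O : Type u) [CommRing O] [IsDomain O] [IsNoetherianRing O] [IsLocalRing O]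
  (K : Type u) [Field K] [Algebra O K] [IsFractionRing O K]

theorem maximalIdeal_ne_bot_of_dim (hdim : ringKrullDim O = 1) : maximalIdeal O ≠ ⊥ := by
  intro h
  have hf : IsField O := IsLocalRing.isField_iff_maximalIdeal_eq.mpr h
  rw [ringKrullDim_eq_zero_of_isField hf] at hdim
  exact zero_ne_one hdim

theorem spanFinrank_le_rank_mul_multiplicity (hdim : ringKrullDim O = 1)
    [Infinite (ResidueField O)] (hfin : Module.Finite O ↥(integralClosure O K))
    (M : Type u) [AddCommGroup M] [Module O M] [Module.Finite O M] [NoZeroSMulDivisors O M]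
    (n : ℕ) (hn : Module.finrank K (TensorProduct O K M) = n) :
    ((⊤ : Submodule O M).spanFinrank : ℕ∞) ≤ (n : ℕ∞) *
      Module.length O (↥(integralClosure O K) ⧸
        (maximalIdeal O) • (⊤ : Submodule O ↥(integralClosure O K))) := by
  haveI : Ring.KrullDimLE 1 O := Ring.krullDimLE_iff.mpr hdim.le
  obtain ⟨x, hxm, hx0, hx⟩ := exists_reduction O K (maximalIdeal_ne_bot_of_dim O hdim) hfin
  have hrank : Module.finrank O M = n := by
    rw [← hn]
    exact ((TensorProduct.isBaseChange O M K).finrank_eq).symm
  have h1 := spanFinrank_le_length_quot (O := O) M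
  have hle : LinearMap.range (LinearMap.lsmul O M x) ≤ maximalIdeal O • (⊤ : Submodule O M) := by
    rintro _ ⟨w, rfl⟩
    exact Submodule.smul_mem_smul hxm Submodule.mem_top
  have h2 : Module.length O (M ⧸ maximalIdeal O • (⊤ : Submodule O M)) ≤
      Module.length O (M ⧸ LinearMap.range (LinearMap.lsmul O M x)) :=
    Module.length_le_of_surjective (Submodule.factor hle) (Submodule.factor_surjective hle)
  have h3 := length_quot_smul_of_finrank M x hx0
  have h4 := length_quot_smul_integralClosure K hfin x hx0
  have h5 : LinearMap.range (LinearMap.lsmul O ↥(integralClosure O K) x) =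
      maximalIdeal O • (⊤ : Submodule O ↥(integralClosure O K)) := by
    apply le_antisymm
    · rintro _ ⟨w, rfl⟩
      exact Submodule.smul_mem_smul hxm Submodule.mem_top
    · rw [Submodule.smul_le]
      intro a ha w _
      obtain ⟨c, hc⟩ := hx a ha
      refine ⟨c * w, ?_⟩
      change x • (c * w) = a • w
      rw [Algebra.smul_def, Algebra.smul_def, hc, mul_assoc]
  rw [hrank, h4, h5] at h3
  exact h1.trans (h2.trans h3.le)

end Groth.Agent.Lib.helper15.TFCurv
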