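import Mathlib
import Groth.Prelude.Def_DefoConn
import Groth.Agent.Lib.Helper12.PullTensor

/-!
# Additivity and `k`-linearity of `KoszTw.tensorMap` in the first variable; connections on sections (helper15)

* `tmul_add_left`, `tmul_zero_right`: the section calculus of `SecTwist.tmul`.
* `tensorMap_add_left`, `tensorMap_smul_left`: `(f + g) ⊗ 1 = f ⊗ 1 + g ⊗ 1`, `(c • f) ⊗ 1 = c • (f ⊗ 1)`.
* `cRes k X U c`: the image of the scalar `c : k` in `Γ(X, U)`; `der_cRes`: a `k`-derivation kills it.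
* `secApp_toSheaf_map`, `secApp_comp`, `secApp_add`: `ConnSh.secApp` of composites and sums.
-/

set_option autoImplicit false
universe u
open CategoryTheory CategoryTheory.Limits AlgebraicGeometry Opposite TopologicalSpace

namespace Groth.Agent.Lib.helper15.TensorMapLin

variable {X : Scheme.{u}}

theorem tmul_add_left (M N : X.Modules) (U : X.Opens) (m m' : M.val.obj (op U))
    (n : N.val.obj (op U)) :
    SecTwist.tmul M N U (m + m') n = SecTwist.tmul M N U m n + SecTwist.tmul M N U m' n := by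
  unfold SecTwist.tmul
  rw [TensorProduct.add_tmul]
  exact map_add ((SecTwist.toTensor M N).app (op U)).hom _ _

theorem tmul_zero_right (M N : X.Modules) (U : X.Opens) (m : M.val.obj (op U)) :
    SecTwist.tmul M N U m 0 = 0 := by
  unfold SecTwist.tmul
  rw [TensorProduct.tmul_zero]
  exact map_zero ((SecTwist.toTensor M N).app (op U)).hom

theorem tmul_smul_left (M N : X.Modules) (U : X.Opens) (r : X.ringCatSheaf.obj.obj (op U))
    (m : M.val.obj (op U)) (n : N.val.obj (op U)) :
    SecTwist.tmul M N U (r • m) n = r • SecTwist.tmul M N U m n := by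
  unfold SecTwist.tmul
  exact ((SecTwist.toTensor M N).app (op U)).hom.map_smul r (m ⊗ₜ n)

theorem tensorMap_add_left {M M' : X.Modules} (N : X.Modules) (f g : M ⟶ M') :
    KoszTw.tensorMap (f + g) (𝟙 N) = KoszTw.tensorMap f (𝟙 N) + KoszTw.tensorMap g (𝟙 N) := by
  apply Groth.Agent.Lib.helper12.PullTensor.tensorMod_hom_ext
  intro U a b
  have h0 := KoszTw.tensorMap_tmul (f + g) (𝟙 N) U a b
  have h1 := KoszTw.tensorMap_tmul f (𝟙 N) U a b
  have h2 := KoszTw.tensorMap_tmul g (𝟙 N) U a b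
  have h3 : SecTwist.tmul M' N U ((f + g).app U a) ((𝟙 N : N ⟶ N).app U b) =
      SecTwist.tmul M' N U (f.app U a) ((𝟙 N : N ⟶ N).app U b) +
        SecTwist.tmul M' N U (g.app U a) ((𝟙 N : N ⟶ N).app U b) :=
    tmul_add_left M' N U (f.app U a) (g.app U a) _
  exact h0.trans (h3.trans (congrArg₂ (· + ·) h1.symm h2.symm))

theorem tensorMap_zero_left {M M' : X.Modules} (N : X.Modules) :
    KoszTw.tensorMap (0 : M ⟶ M') (𝟙 N) = 0 := by
  have h := tensorMap_add_left N (0 : M ⟶ M') 0
  rw [add_zero] at h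
  exact left_eq_add.mp h

section field

variable (k : Type u) [Field k] [X.Over (Spec (CommRingCat.of k))]

/-- the image of `c : k` in `Γ(X, U)` -/
noncomputable def cRes (U : X.Opens) (c : k) : Γ(X, U) :=
  X.presheaf.map (homOfLE (le_top : U ≤ ⊤)).op (Coh.toGlobal (X ↘ Spec (CommRingCat.of k)) c)

theorem tensorMap_smul_left {M M' : X.Modules} (N : X.Modules) (c : k) (f : M ⟶ M') :
    KoszTw.tensorMap (c • f) (𝟙 N) = c • KoszTw.tensorMap f (𝟙 N) := by
  apply Groth.Agent.Lib.helper12.PullTensor.tensorMod_hom_ext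
  intro U a b
  have h0 := KoszTw.tensorMap_tmul (c • f) (𝟙 N) U a b
  have h1 := KoszTw.tensorMap_tmul f (𝟙 N) U a b
  have h2 := KLin.smul_app_apply c f U a
  have h3 := KLin.smul_app_apply c (KoszTw.tensorMap f (𝟙 N)) U (SecTwist.tmul M N U a b)
  have h4 : SecTwist.tmul M' N U ((c • f).app U a) ((𝟙 N : N ⟶ N).app U b) =
      cRes k U c • SecTwist.tmul M' N U (f.app U a) ((𝟙 N : N ⟶ N).app U b) := by
    rw [h2]
    exact tmul_smul_left M' N U _ _ _
  exact h0.trans (h4.trans ((congrArg (fun z => cRes k U c • z) h1.symm).trans h3.symm))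

/-- a `k`-derivation kills the scalars -/
theorem der_cRes {Ω' : X.Modules} (δ : OmegaSh.Der (X ↘ Spec (CommRingCat.of k)) Ω') (U : X.Opens)
    (c : k) : δ.app U (cRes k U c) = 0 := by
  have h1 := δ.d_app (X := op (⊤ : (Spec (CommRingCat.of k)).Opens))
    ((Scheme.ΓSpecIso (CommRingCat.of k)).inv.hom c)
  have h2 := δ.d_map (homOfLE (le_top : U ≤ ⊤)).op
    (Coh.toGlobal (X ↘ Spec (CommRingCat.of k)) c)
  change δ.d (X := op U) (X.presheaf.map (homOfLE (le_top : U ≤ ⊤)).op
    (Coh.toGlobal (X ↘ Spec (CommRingCat.of k)) c)) = 0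
  have h3 : δ.d (X := op ⊤) (Coh.toGlobal (X ↘ Spec (CommRingCat.of k)) c) = 0 := h1
  rw [h2, h3]
  exact map_zero _

end field

end Groth.Agent.Lib.helper15.TensorMapLin
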