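import Mathlib
import Groth.Agent.Lib.Helper19.ExtLoc1
import Groth.Agent.Lib.Helper15.PSCan3

/-!
# `Ext¹_A(M, N)` for a two-generated module `M = A + A g` inside an overring `B` (helper15)

`A ⊆ B` a subalgebra, `x₀ ∈ B` a regular element with `x₀ B ⊆ A`, `Mm` an `A`-module embedded in `B`
by `ιM` and generated by `v₀ ↦ 1`, `v₁ ↦ g`; `Nm` an `A`-module embedded in `B` by `ιN`.  Then
`ℓ(B/Z) = ℓ(B/Y) + ℓ(Ext¹_A(Mm, Nm))` with `Y = {y | I y ⊆ x₀ N}`, `I = (A : g) ∩ A`,
`Z = x₀ (N + g N)` (`length_formula`).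
-/

set_option autoImplicit false
set_option linter.style.haveILetI false

universe u

namespace Groth.Agent.Lib.helper15.TwoGenExt

open CategoryTheory Groth.Agent.Lib.helper15.RelLen Groth.Agent.Lib.helper19.ExtLoc
  Groth.Agent.Lib.helper15.PSCan

variable {R B : Type u} [CommRing R] [CommRing B] [Algebra R B] {A : Subalgebra R B}

theorem smul_def (a : A) (b : B) : a • b = (a : B) * b := rfl

/-- the ideal `(A : g) ∩ A` of `A` -/
def II (A : Subalgebra R B) (g : B) : Submodule A A where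
  carrier := {a | (a : B) * g ∈ A}
  add_mem' := by
    intro a b ha hb
    change ((a + b : A) : B) * g ∈ A
    rw [Subalgebra.coe_add, add_mul]
    exact A.add_mem ha hb
  zero_mem' := by
    change ((0 : A) : B) * g ∈ A
    rw [Subalgebra.coe_zero, zero_mul]
    exact A.zero_mem
  smul_mem' := by
    intro c a ha
    change ((c • a : A) : B) * g ∈ A
    rw [_root_.smul_eq_mul, Subalgebra.coe_mul, mul_assoc]
    exact A.mul_mem c.2 ha

section

variable (g x₀ : B) (hxA : ∀ b : B, x₀ * b ∈ A)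
  {Mm Nm : Type u} [AddCommGroup Mm] [Module A Mm] [AddCommGroup Nm] [Module A Nm]
  (ιM : Mm →ₗ[A] B) (ιN : Nm →ₗ[A] B) (v₀ v₁ : Mm)

/-- `x ↦ x g` as a map `I → A` -/
def mulG : ↥(II A g) →ₗ[A] A where
  toFun x := ⟨((x : A) : B) * g, x.2⟩
  map_add' x y := Subtype.ext (by
    change (((x + y : ↥(II A g)) : A) : B) * g = _
    rw [Submodule.coe_add, Subalgebra.coe_add, add_mul]
    rfl)
  map_smul' c x := Subtype.ext (by
    change (((c • x : ↥(II A g)) : A) : B) * g = ((c : B) * (((x : A) : B) * g))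
    rw [Submodule.coe_smul, _root_.smul_eq_mul, Subalgebra.coe_mul, mul_assoc])

/-- the relation map `I → A × A` -/
def rho : ↥(II A g) →ₗ[A] (A × A) :=
  LinearMap.prod (-(mulG g)) (II A g).subtype

/-- the presentation map `A × A → Mm` -/
def pres : (A × A) →ₗ[A] Mm :=
  LinearMap.coprod (LinearMap.toSpanSingleton A Mm v₀) (LinearMap.toSpanSingleton A Mm v₁)

theorem pres_apply (a b : A) : pres v₀ v₁ (a, b) = a • v₀ + b • v₁ := by
  simp [pres]

theorem rho_injective : Function.Injective (rho (A := A) g) := by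
  intro x y hxy
  have := congrArg Prod.snd hxy
  exact Subtype.ext this

include ιM in
theorem exact_rho (hιM : Function.Injective ιM) (hv₀ : ιM v₀ = 1) (hv₁ : ιM v₁ = g) :
    Function.Exact (rho (A := A) g) (pres v₀ v₁) := by
  rintro ⟨a, b⟩
  rw [pres_apply]
  constructor
  · intro hab
    have h1 := congrArg ιM hab
    rw [map_add, map_smul, map_smul, hv₀, hv₁, map_zero, smul_def, smul_def, mul_one] at h1
    have hb : b ∈ II A g := by
      change (b : B) * g ∈ A
      have : (b : B) * g = -(a : B) := by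
        rw [eq_neg_iff_add_eq_zero, add_comm]
        exact h1
      rw [this]
      exact A.neg_mem a.2
    refine ⟨⟨b, hb⟩, ?_⟩
    apply Prod.ext
    · apply Subtype.ext
      change -(((b : A) : B) * g) = (a : B)
      rw [neg_eq_iff_add_eq_zero, add_comm]
      exact h1
    · rfl
  · rintro ⟨x, hx⟩
    have h1 : a = -(mulG g x) := (congrArg Prod.fst hx).symm
    have h2 : b = (x : A) := (congrArg Prod.snd hx).symm
    apply hιM
    rw [map_add, map_smul, map_smul, hv₀, hv₁, map_zero, smul_def, smul_def, mul_one, h1, h2]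
    change -(((x : A) : B) * g) + ((x : A) : B) * g = 0
    ring

theorem pres_surjective (hspan : Submodule.span A {v₀, v₁} = ⊤) :
    Function.Surjective (pres (A := A) v₀ v₁) := by
  intro m
  have hm : m ∈ Submodule.span A {v₀, v₁} := hspan ▸ Submodule.mem_top
  rw [Submodule.mem_span_pair] at hm
  obtain ⟨a, b, rfl⟩ := hm
  exact ⟨(a, b), pres_apply v₀ v₁ a b⟩

include hxA in
theorem x0_mem_II (b : B) : (⟨x₀ * b, hxA b⟩ : A) ∈ II A g := by
  change x₀ * b * g ∈ A
  rw [mul_assoc]
  exact hxA _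

/-- the element `x₀ b` of `I` -/
def X0 (b : B) : ↥(II A g) := ⟨⟨x₀ * b, hxA b⟩, x0_mem_II g x₀ hxA b⟩

/-- evaluation at `x₀` -/
def Theta : (↥(II A g) →ₗ[A] Nm) →ₗ[A] B where
  toFun ψ := ιN (ψ (X0 g x₀ hxA 1))
  map_add' ψ ψ' := by simp
  map_smul' c ψ := by simp

theorem Theta_apply (ψ : ↥(II A g) →ₗ[A] Nm) :
    Theta g x₀ hxA ιN ψ = ιN (ψ (X0 g x₀ hxA 1)) := rfl

theorem key (ψ : ↥(II A g) →ₗ[A] Nm) (x : ↥(II A g)) :
    x₀ * ιN (ψ x) = ((x : A) : B) * Theta g x₀ hxA ιN ψ := by
  have h1 : (⟨x₀ * 1, hxA 1⟩ : A) • x = (x : A) • X0 g x₀ hxA 1 := by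
    apply Subtype.ext
    apply Subtype.ext
    change x₀ * 1 * ((x : A) : B) = ((x : A) : B) * (x₀ * 1)
    ring
  have h2 := congrArg (fun z => ιN (ψ z)) h1
  simp only [map_smul, smul_def, mul_one] at h2
  rw [Theta_apply]
  exact h2

include hxA in
theorem Theta_injective (hx₀ : ∀ b b' : B, x₀ * b = x₀ * b' → b = b')
    (hιN : Function.Injective ιN) : Function.Injective (Theta g x₀ hxA ιN) := by
  intro ψ ψ' hψ
  apply LinearMap.ext
  intro x
  apply hιN
  apply hx₀
  rw [key g x₀ hxA ιN, key g x₀ hxA ιN, hψ]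

/-- the image of `Theta` -/
def YY : Submodule A B where
  carrier := {y | ∀ x : ↥(II A g), ∃ nn : Nm, x₀ * ιN nn = ((x : A) : B) * y}
  add_mem' := by
    intro y y' hy hy' x
    obtain ⟨n1, h1⟩ := hy x
    obtain ⟨n2, h2⟩ := hy' x
    exact ⟨n1 + n2, by rw [map_add, mul_add, mul_add, h1, h2]⟩
  zero_mem' := by
    intro x
    exact ⟨0, by rw [map_zero, mul_zero, mul_zero]⟩
  smul_mem' := by
    intro c y hy x
    obtain ⟨n1, h1⟩ := hy x
    refine ⟨c • n1, ?_⟩
    rw [map_smul, smul_def, smul_def, mul_left_comm, h1]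
    ring

theorem range_Theta (hx₀ : ∀ b b' : B, x₀ * b = x₀ * b' → b = b')
    (hιN : Function.Injective ιN) :
    LinearMap.range (Theta g x₀ hxA ιN) = YY g x₀ ιN := by
  apply le_antisymm
  · rintro _ ⟨ψ, rfl⟩ x
    exact ⟨ψ x, key g x₀ hxA ιN ψ x⟩
  · intro y hy
    choose f hf using hy
    have huniq : ∀ (x : ↥(II A g)) (nn : Nm), x₀ * ιN nn = ((x : A) : B) * y → nn = f x := by
      intro x nn hnn
      apply hιN
      apply hx₀
      rw [hnn, hf x]
    let ψ : ↥(II A g) →ₗ[A] Nm :=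
      { toFun := f
        map_add' := by
          intro x x'
          symm
          apply huniq
          rw [map_add, mul_add, hf x, hf x']
          change _ = (((x : A) : B) + ((x' : A) : B)) * y
          ring
        map_smul' := by
          intro c x
          symm
          apply huniq
          rw [map_smul, smul_def, mul_left_comm, hf x]
          simp only [RingHom.id_apply]
          change _ = ((c : B) * ((x : A) : B)) * y
          ring }
    refine ⟨ψ, ?_⟩
    rw [Theta_apply]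
    apply hx₀
    have := hf (X0 g x₀ hxA 1)
    refine this.trans ?_
    change x₀ * 1 * y = x₀ * y
    ring

/-- the map whose range is the image of the restriction `Hom(A², N) → Hom(I, N)` -/
def Lam : (Nm × Nm) →ₗ[A] B where
  toFun pq := x₀ * (ιN pq.2 - g * ιN pq.1)
  map_add' pq pq' := by
    simp only [Prod.fst_add, Prod.snd_add, map_add]
    ring
  map_smul' c pq := by
    simp only [Prod.smul_fst, Prod.smul_snd, map_smul, smul_def, RingHom.id_apply]
    ring

theorem Lam_apply (pq : Nm × Nm) : Lam g x₀ ιN pq = x₀ * (ιN pq.2 - g * ιN pq.1) := rfl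

theorem Theta_comp_rho (φ : (A × A) →ₗ[A] Nm) :
    Theta g x₀ hxA ιN (φ ∘ₗ rho g) = Lam g x₀ ιN (φ (1, 0), φ (0, 1)) := by
  rw [Theta_apply, Lam_apply, LinearMap.comp_apply]
  have hφ : ∀ a b : A, φ (a, b) = a • φ (1, 0) + b • φ (0, 1) := by
    intro a b
    rw [← map_smul, ← map_smul, ← map_add]
    congr 1
    apply Prod.ext <;> simp
  have h1 : rho g (X0 g x₀ hxA 1) = (-(mulG g (X0 g x₀ hxA 1)), ((X0 g x₀ hxA 1 : ↥(II A g)) : A)) :=
    rfl
  rw [h1, hφ, map_add, map_smul, map_smul, smul_def, smul_def]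
  change -(x₀ * 1 * g) * ιN (φ (1, 0)) + x₀ * 1 * ιN (φ (0, 1)) = _
  ring

end

end Groth.Agent.Lib.helper15.TwoGenExt
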