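import Mathlib
import Groth.Agent.Lib.Helper15.TwoGenExt1

/-!
# `Ext¹_A(M, N)` for a two-generated module, part 2: the length formula (helper15)
-/

set_option autoImplicit false
set_option linter.style.haveILetI false

universe u

namespace Groth.Agent.Lib.helper15.TwoGenExt

open CategoryTheory Groth.Agent.Lib.helper15.RelLen Groth.Agent.Lib.helper19.ExtLoc
  Groth.Agent.Lib.helper15.PSCan

variable {R B : Type u} [CommRing R] [CommRing B] [Algebra R B] {A : Subalgebra R B}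
  (g x₀ : B) (hxA : ∀ b : B, x₀ * b ∈ A)
  {Mm Nm : Type u} [AddCommGroup Mm] [Module A Mm] [AddCommGroup Nm] [Module A Nm]
  (ιM : Mm →ₗ[A] B) (ιN : Nm →ₗ[A] B) (v₀ v₁ : Mm)
  (hx₀ : ∀ b b' : B, x₀ * b = x₀ * b' → b = b')
  (hιM : Function.Injective ιM) (hιN : Function.Injective ιN)
  (hv₀ : ιM v₀ = 1) (hv₁ : ιM v₁ = g) (hspan : Submodule.span A {v₀, v₁} = ⊤)

include hx₀ hιN in
theorem ker_bdry :
    LinearMap.ker (bdry Nm (rho (A := A) g) (pres v₀ v₁) (rho_injective g)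
      (pres_surjective v₀ v₁ hspan) (exact_rho g ιM v₀ v₁ hιM hv₀ hv₁)) =
      (LinearMap.range (Lam g x₀ ιN)).comap (Theta g x₀ hxA ιN) := by
  ext ψ
  rw [LinearMap.mem_ker, bdry_eq_zero_iff, Submodule.mem_comap, LinearMap.mem_range]
  constructor
  · rintro ⟨φ, rfl⟩
    exact ⟨_, (Theta_comp_rho g x₀ hxA ιN φ).symm⟩
  · rintro ⟨⟨p, q⟩, hpq⟩
    refine ⟨LinearMap.coprod (LinearMap.toSpanSingleton A Nm p)
      (LinearMap.toSpanSingleton A Nm q), ?_⟩
    apply Theta_injective g x₀ hxA ιN hx₀ hιN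
    rw [Theta_comp_rho, ← hpq]
    congr 2 <;> simp

theorem Lam_le_YY : LinearMap.range (Lam (A := A) g x₀ ιN) ≤ YY g x₀ ιN := by
  rintro _ ⟨⟨p, q⟩, rfl⟩ x
  refine ⟨(x : A) • q - mulG g x • p, ?_⟩
  rw [Lam_apply, map_sub, map_smul, map_smul, smul_def, smul_def]
  change x₀ * (((x : A) : B) * ιN q - ((x : A) : B) * g * ιN p) = _
  ring

include hxA hx₀ hιN hιM hv₀ hv₁ hspan in
/-- the length formula -/
theorem length_formula :
    Module.length A (B ⧸ LinearMap.range (Lam (A := A) g x₀ ιN)) =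
      Module.length A (B ⧸ YY g x₀ ιN) +
        Module.length A (Abelian.Ext.{u} (ModuleCat.of A Mm) (ModuleCat.of A Nm) 1) := by
  have hsurj := bdry_surjective Nm (rho (A := A) g) (pres v₀ v₁) (rho_injective g)
    (pres_surjective v₀ v₁ hspan) (exact_rho g ιM v₀ v₁ hιM hv₀ hv₁)
  have e1 := (LinearMap.quotKerEquivOfSurjective _ hsurj).length_eq
  rw [← e1, ker_bdry g x₀ hxA ιM ιN v₀ v₁ hx₀ hιM hιN hv₀ hv₁ hspan, ← rl_top', ← rl_top',
    ← rl_top', rl_map, Submodule.map_top, range_Theta g x₀ hxA ιN hx₀ hιN]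
  exact rl_add (Lam_le_YY g x₀ ιN) le_top

end Groth.Agent.Lib.helper15.TwoGenExt
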