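import Mathlib
import Groth.Agent.Lib.Helper15.TwoGenExt2

/-!
# `Ext¹_A(M, N)` for a three-generated module `M = A + A g₁ + A g₂` inside an overring `B` (helper15)

Same set-up as `TwoGenExt`: `A ⊆ B` a subalgebra, `x₀ ∈ B` regular with `x₀ B ⊆ A`.  Then
`ℓ(B²/Z) = ℓ(B²/Y) + ℓ(Ext¹_A(Mm, Nm))` with
`Y = {(y₁,y₂) | ∀ (b,c) ∈ K, b y₁ + c y₂ ∈ x₀ N}`, `K = {(b,c) ∈ A² | b g₁ + c g₂ ∈ A}`,
`Z = {x₀ (q - g₁ p, r - g₂ p)}` (`length_formula`).
-/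

set_option autoImplicit false
set_option linter.style.haveILetI false

universe u

namespace Groth.Agent.Lib.helper15.ThreeGenExt

open CategoryTheory Groth.Agent.Lib.helper15.RelLen Groth.Agent.Lib.helper19.ExtLoc
  Groth.Agent.Lib.helper15.PSCan

variable {R B : Type u} [CommRing R] [CommRing B] [Algebra R B] {A : Subalgebra R B}

theorem smul_def (a : A) (b : B) : a • b = (a : B) * b := rfl

/-- the relation module `{(b, c) ∈ A² | b g₁ + c g₂ ∈ A}` -/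
def KK (A : Subalgebra R B) (g₁ g₂ : B) : Submodule A (A × A) where
  carrier := {x | ((x.1 : A) : B) * g₁ + ((x.2 : A) : B) * g₂ ∈ A}
  add_mem' := by
    intro x y hx hy
    change (((x + y).1 : A) : B) * g₁ + (((x + y).2 : A) : B) * g₂ ∈ A
    rw [Prod.fst_add, Prod.snd_add, Subalgebra.coe_add, Subalgebra.coe_add]
    have : (((x.1 : A) : B) + ((y.1 : A) : B)) * g₁ + (((x.2 : A) : B) + ((y.2 : A) : B)) * g₂ =
      (((x.1 : A) : B) * g₁ + ((x.2 : A) : B) * g₂) +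
        (((y.1 : A) : B) * g₁ + ((y.2 : A) : B) * g₂) := by ring
    rw [this]
    exact A.add_mem hx hy
  zero_mem' := by
    change (((0 : A × A).1 : A) : B) * g₁ + (((0 : A × A).2 : A) : B) * g₂ ∈ A
    rw [Prod.fst_zero, Prod.snd_zero, Subalgebra.coe_zero, zero_mul, zero_mul, add_zero]
    exact A.zero_mem
  smul_mem' := by
    intro c x hx
    change (((c • x).1 : A) : B) * g₁ + (((c • x).2 : A) : B) * g₂ ∈ A
    rw [Prod.smul_fst, Prod.smul_snd, _root_.smul_eq_mul, _root_.smul_eq_mul, Subalgebra.coe_mul,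
      Subalgebra.coe_mul]
    have : (c : B) * ((x.1 : A) : B) * g₁ + (c : B) * ((x.2 : A) : B) * g₂ =
      (c : B) * (((x.1 : A) : B) * g₁ + ((x.2 : A) : B) * g₂) := by ring
    rw [this]
    exact A.mul_mem c.2 hx

section

variable (g₁ g₂ x₀ : B) (hxA : ∀ b : B, x₀ * b ∈ A)
  {Mm Nm : Type u} [AddCommGroup Mm] [Module A Mm] [AddCommGroup Nm] [Module A Nm]
  (ιM : Mm →ₗ[A] B) (ιN : Nm →ₗ[A] B) (v₀ v₁ v₂ : Mm)

/-- first coordinate of a relation, in `B` -/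
def c1 (x : ↥(KK A g₁ g₂)) : B := (((x : A × A).1 : A) : B)

/-- second coordinate of a relation, in `B` -/
def c2 (x : ↥(KK A g₁ g₂)) : B := (((x : A × A).2 : A) : B)

theorem c1_add (x y : ↥(KK A g₁ g₂)) : c1 g₁ g₂ (x + y) = c1 g₁ g₂ x + c1 g₁ g₂ y := rfl
theorem c2_add (x y : ↥(KK A g₁ g₂)) : c2 g₁ g₂ (x + y) = c2 g₁ g₂ x + c2 g₁ g₂ y := rfl
theorem c1_smul (c : A) (x : ↥(KK A g₁ g₂)) : c1 g₁ g₂ (c • x) = (c : B) * c1 g₁ g₂ x := rfl
theorem c2_smul (c : A) (x : ↥(KK A g₁ g₂)) : c2 g₁ g₂ (c • x) = (c : B) * c2 g₁ g₂ x := rfl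

theorem KK_ext {x y : ↥(KK A g₁ g₂)} (h1 : c1 g₁ g₂ x = c1 g₁ g₂ y)
    (h2 : c2 g₁ g₂ x = c2 g₁ g₂ y) : x = y :=
  Subtype.ext (Prod.ext (Subtype.ext h1) (Subtype.ext h2))

/-- `x ↦ x₁ g₁ + x₂ g₂` as a map `K → A` -/
def comb : ↥(KK A g₁ g₂) →ₗ[A] A where
  toFun x := ⟨c1 g₁ g₂ x * g₁ + c2 g₁ g₂ x * g₂, x.2⟩
  map_add' x y := Subtype.ext (by
    change c1 g₁ g₂ (x + y) * g₁ + c2 g₁ g₂ (x + y) * g₂ =
      (c1 g₁ g₂ x * g₁ + c2 g₁ g₂ x * g₂) + (c1 g₁ g₂ y * g₁ + c2 g₁ g₂ y * g₂)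
    rw [c1_add, c2_add]
    ring)
  map_smul' c x := Subtype.ext (by
    change c1 g₁ g₂ (c • x) * g₁ + c2 g₁ g₂ (c • x) * g₂ =
      (c : B) * (c1 g₁ g₂ x * g₁ + c2 g₁ g₂ x * g₂)
    rw [c1_smul, c2_smul]
    ring)

theorem coe_comb (x : ↥(KK A g₁ g₂)) :
    ((comb g₁ g₂ x : A) : B) = c1 g₁ g₂ x * g₁ + c2 g₁ g₂ x * g₂ := rfl

/-- the relation map `K → A × A × A` -/
def rho : ↥(KK A g₁ g₂) →ₗ[A] (A × A × A) :=
  LinearMap.prod (-(comb g₁ g₂)) (KK A g₁ g₂).subtype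

/-- the presentation map `A × A × A → Mm` -/
def pres : (A × A × A) →ₗ[A] Mm :=
  LinearMap.coprod (LinearMap.toSpanSingleton A Mm v₀)
    (LinearMap.coprod (LinearMap.toSpanSingleton A Mm v₁) (LinearMap.toSpanSingleton A Mm v₂))

theorem pres_apply (a b c : A) : pres v₀ v₁ v₂ (a, b, c) = a • v₀ + (b • v₁ + c • v₂) := by
  simp [pres]

theorem rho_injective : Function.Injective (rho (A := A) g₁ g₂) := by
  intro x y hxy
  have := congrArg Prod.snd hxy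
  exact Subtype.ext this

include ιM in
theorem exact_rho (hιM : Function.Injective ιM) (hv₀ : ιM v₀ = 1) (hv₁ : ιM v₁ = g₁)
    (hv₂ : ιM v₂ = g₂) :
    Function.Exact (rho (A := A) g₁ g₂) (pres v₀ v₁ v₂) := by
  rintro ⟨a, b, c⟩
  rw [pres_apply]
  constructor
  · intro habc
    have h1 := congrArg ιM habc
    rw [map_add, map_add, map_smul, map_smul, map_smul, hv₀, hv₁, hv₂, map_zero, smul_def,
      smul_def, smul_def, mul_one] at h1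
    have hbc : (b, c) ∈ KK A g₁ g₂ := by
      change (b : B) * g₁ + (c : B) * g₂ ∈ A
      have : (b : B) * g₁ + (c : B) * g₂ = -(a : B) := by
        rw [eq_neg_iff_add_eq_zero, add_comm]
        exact h1
      rw [this]
      exact A.neg_mem a.2
    refine ⟨⟨(b, c), hbc⟩, ?_⟩
    apply Prod.ext
    · apply Subtype.ext
      change -((b : B) * g₁ + (c : B) * g₂) = (a : B)
      rw [neg_eq_iff_add_eq_zero, add_comm]
      exact h1
    · rfl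
  · rintro ⟨x, hx⟩
    have h1 : a = -(comb g₁ g₂ x) := (congrArg Prod.fst hx).symm
    have h2 : b = (x : A × A).1 := (congrArg (fun z => z.2.1) hx).symm
    have h3 : c = (x : A × A).2 := (congrArg (fun z => z.2.2) hx).symm
    apply hιM
    rw [map_add, map_add, map_smul, map_smul, map_smul, hv₀, hv₁, hv₂, map_zero, smul_def,
      smul_def, smul_def, mul_one, h1, h2, h3]
    change -(c1 g₁ g₂ x * g₁ + c2 g₁ g₂ x * g₂) + (c1 g₁ g₂ x * g₁ + c2 g₁ g₂ x * g₂) = 0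
    ring

theorem pres_surjective (hspan : Submodule.span A {v₀, v₁, v₂} = ⊤) :
    Function.Surjective (pres (A := A) v₀ v₁ v₂) := by
  intro m
  have hm : m ∈ Submodule.span A {v₀, v₁, v₂} := hspan ▸ Submodule.mem_top
  rw [Submodule.mem_span_triple] at hm
  obtain ⟨a, b, c, rfl⟩ := hm
  exact ⟨(a, b, c), by rw [pres_apply, add_assoc]⟩

include hxA in
theorem k1_mem (b : B) : ((⟨x₀ * b, hxA b⟩ : A), (0 : A)) ∈ KK A g₁ g₂ := by
  change x₀ * b * g₁ + ((0 : A) : B) * g₂ ∈ A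
  rw [Subalgebra.coe_zero, zero_mul, add_zero, mul_assoc]
  exact hxA _

include hxA in
theorem k2_mem (b : B) : ((0 : A), (⟨x₀ * b, hxA b⟩ : A)) ∈ KK A g₁ g₂ := by
  change ((0 : A) : B) * g₁ + x₀ * b * g₂ ∈ A
  rw [Subalgebra.coe_zero, zero_mul, zero_add, mul_assoc]
  exact hxA _

/-- the relation `(x₀ b, 0)` -/
def K1 (b : B) : ↥(KK A g₁ g₂) := ⟨(⟨x₀ * b, hxA b⟩, 0), k1_mem g₁ g₂ x₀ hxA b⟩

/-- the relation `(0, x₀ b)` -/
def K2 (b : B) : ↥(KK A g₁ g₂) := ⟨(0, ⟨x₀ * b, hxA b⟩), k2_mem g₁ g₂ x₀ hxA b⟩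

/-- evaluation at `(x₀, 0)` and `(0, x₀)` -/
def Theta : (↥(KK A g₁ g₂) →ₗ[A] Nm) →ₗ[A] (B × B) where
  toFun ψ := (ιN (ψ (K1 g₁ g₂ x₀ hxA 1)), ιN (ψ (K2 g₁ g₂ x₀ hxA 1)))
  map_add' ψ ψ' := by simp
  map_smul' c ψ := by simp

theorem Theta_apply (ψ : ↥(KK A g₁ g₂) →ₗ[A] Nm) :
    Theta g₁ g₂ x₀ hxA ιN ψ = (ιN (ψ (K1 g₁ g₂ x₀ hxA 1)), ιN (ψ (K2 g₁ g₂ x₀ hxA 1))) := rfl

theorem key (ψ : ↥(KK A g₁ g₂) →ₗ[A] Nm) (x : ↥(KK A g₁ g₂)) :
    x₀ * ιN (ψ x) = c1 g₁ g₂ x * (Theta g₁ g₂ x₀ hxA ιN ψ).1 +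
      c2 g₁ g₂ x * (Theta g₁ g₂ x₀ hxA ιN ψ).2 := by
  have h1 : (⟨x₀ * 1, hxA 1⟩ : A) • x =
      ((x : A × A).1 : A) • K1 g₁ g₂ x₀ hxA 1 + ((x : A × A).2 : A) • K2 g₁ g₂ x₀ hxA 1 := by
    apply KK_ext
    · rw [c1_smul, c1_add, c1_smul, c1_smul]
      change x₀ * 1 * c1 g₁ g₂ x = c1 g₁ g₂ x * (x₀ * 1) + c2 g₁ g₂ x * ((0 : A) : B)
      rw [Subalgebra.coe_zero]
      ring
    · rw [c2_smul, c2_add, c2_smul, c2_smul]
      change x₀ * 1 * c2 g₁ g₂ x = c1 g₁ g₂ x * ((0 : A) : B) + c2 g₁ g₂ x * (x₀ * 1)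
      rw [Subalgebra.coe_zero]
      ring
  have h2 := congrArg (fun z => ιN (ψ z)) h1
  simp only [map_smul, map_add, smul_def, mul_one] at h2
  rw [Theta_apply]
  exact h2

include hxA in
theorem Theta_injective (hx₀ : ∀ b b' : B, x₀ * b = x₀ * b' → b = b')
    (hιN : Function.Injective ιN) : Function.Injective (Theta g₁ g₂ x₀ hxA ιN) := by
  intro ψ ψ' hψ
  apply LinearMap.ext
  intro x
  apply hιN
  apply hx₀
  rw [key g₁ g₂ x₀ hxA ιN, key g₁ g₂ x₀ hxA ιN, hψ]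

/-- the image of `Theta` -/
def YY : Submodule A (B × B) where
  carrier := {y | ∀ x : ↥(KK A g₁ g₂), ∃ nn : Nm,
    x₀ * ιN nn = c1 g₁ g₂ x * y.1 + c2 g₁ g₂ x * y.2}
  add_mem' := by
    intro y y' hy hy' x
    obtain ⟨n1, h1⟩ := hy x
    obtain ⟨n2, h2⟩ := hy' x
    refine ⟨n1 + n2, ?_⟩
    rw [map_add, mul_add, h1, h2, Prod.fst_add, Prod.snd_add]
    ring
  zero_mem' := by
    intro x
    exact ⟨0, by rw [map_zero, mul_zero, Prod.fst_zero, Prod.snd_zero, mul_zero, mul_zero,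
      add_zero]⟩
  smul_mem' := by
    intro c y hy x
    obtain ⟨n1, h1⟩ := hy x
    refine ⟨c • n1, ?_⟩
    rw [map_smul, smul_def, mul_left_comm, h1, Prod.smul_fst, Prod.smul_snd, smul_def, smul_def]
    ring

theorem mem_YY {y : B × B} : y ∈ YY (A := A) g₁ g₂ x₀ ιN ↔ ∀ x : ↥(KK A g₁ g₂), ∃ nn : Nm,
    x₀ * ιN nn = c1 g₁ g₂ x * y.1 + c2 g₁ g₂ x * y.2 := Iff.rfl

theorem range_Theta (hx₀ : ∀ b b' : B, x₀ * b = x₀ * b' → b = b')
    (hιN : Function.Injective ιN) :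
    LinearMap.range (Theta g₁ g₂ x₀ hxA ιN) = YY g₁ g₂ x₀ ιN := by
  apply le_antisymm
  · rintro _ ⟨ψ, rfl⟩ x
    exact ⟨ψ x, key g₁ g₂ x₀ hxA ιN ψ x⟩
  · intro y hy
    choose f hf using hy
    have huniq : ∀ (x : ↥(KK A g₁ g₂)) (nn : Nm),
        x₀ * ιN nn = c1 g₁ g₂ x * y.1 + c2 g₁ g₂ x * y.2 → nn = f x := by
      intro x nn hnn
      apply hιN
      apply hx₀
      rw [hnn, hf x]
    let ψ : ↥(KK A g₁ g₂) →ₗ[A] Nm :=
      { toFun := f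
        map_add' := by
          intro x x'
          symm
          apply huniq
          rw [map_add, mul_add, hf x, hf x', c1_add, c2_add]
          ring
        map_smul' := by
          intro c x
          symm
          apply huniq
          rw [map_smul, smul_def, mul_left_comm, hf x, c1_smul, c2_smul]
          simp only [RingHom.id_apply]
          ring }
    refine ⟨ψ, ?_⟩
    rw [Theta_apply]
    apply Prod.ext
    · apply hx₀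
      have := hf (K1 g₁ g₂ x₀ hxA 1)
      refine this.trans ?_
      change x₀ * 1 * y.1 + ((0 : A) : B) * y.2 = x₀ * y.1
      rw [Subalgebra.coe_zero]
      ring
    · apply hx₀
      have := hf (K2 g₁ g₂ x₀ hxA 1)
      refine this.trans ?_
      change ((0 : A) : B) * y.1 + x₀ * 1 * y.2 = x₀ * y.2
      rw [Subalgebra.coe_zero]
      ring

/-- the map whose range is the image of the restriction `Hom(A³, N) → Hom(K, N)` -/
def Lam : (Nm × Nm × Nm) →ₗ[A] (B × B) where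
  toFun pqr := (x₀ * (ιN pqr.2.1 - g₁ * ιN pqr.1), x₀ * (ιN pqr.2.2 - g₂ * ιN pqr.1))
  map_add' pqr pqr' := by
    apply Prod.ext
    · simp only [Prod.fst_add, Prod.snd_add, map_add]
      ring
    · simp only [Prod.fst_add, Prod.snd_add, map_add]
      ring
  map_smul' c pqr := by
    apply Prod.ext
    · simp only [Prod.smul_fst, Prod.smul_snd, map_smul, smul_def, RingHom.id_apply]
      ring
    · simp only [Prod.smul_fst, Prod.smul_snd, map_smul, smul_def, RingHom.id_apply]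
      ring

theorem Lam_apply (pqr : Nm × Nm × Nm) : Lam (A := A) g₁ g₂ x₀ ιN pqr =
    (x₀ * (ιN pqr.2.1 - g₁ * ιN pqr.1), x₀ * (ιN pqr.2.2 - g₂ * ιN pqr.1)) := rfl

theorem Theta_comp_rho (φ : (A × A × A) →ₗ[A] Nm) :
    Theta g₁ g₂ x₀ hxA ιN (φ ∘ₗ rho g₁ g₂) =
      Lam g₁ g₂ x₀ ιN (φ (1, 0, 0), φ (0, 1, 0), φ (0, 0, 1)) := by
  rw [Theta_apply, Lam_apply]
  have hφ : ∀ a b c : A, φ (a, b, c) = a • φ (1, 0, 0) + b • φ (0, 1, 0) + c • φ (0, 0, 1) := by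
    intro a b c
    rw [← map_smul, ← map_smul, ← map_smul, ← map_add, ← map_add]
    congr 1
    apply Prod.ext
    · simp
    · apply Prod.ext <;> simp
  have h1 : rho g₁ g₂ (K1 g₁ g₂ x₀ hxA 1) =
      (-(comb g₁ g₂ (K1 g₁ g₂ x₀ hxA 1)), (⟨x₀ * 1, hxA 1⟩ : A), (0 : A)) := rfl
  have h2 : rho g₁ g₂ (K2 g₁ g₂ x₀ hxA 1) =
      (-(comb g₁ g₂ (K2 g₁ g₂ x₀ hxA 1)), (0 : A), (⟨x₀ * 1, hxA 1⟩ : A)) := rfl
  apply Prod.ext
  · change ιN (φ (rho g₁ g₂ (K1 g₁ g₂ x₀ hxA 1))) = _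
    rw [h1, hφ, map_add, map_add, map_smul, map_smul, map_smul, smul_def, smul_def, smul_def]
    change -(x₀ * 1 * g₁ + ((0 : A) : B) * g₂) * ιN (φ (1, 0, 0)) + x₀ * 1 * ιN (φ (0, 1, 0)) +
      ((0 : A) : B) * ιN (φ (0, 0, 1)) = x₀ * (ιN (φ (0, 1, 0)) - g₁ * ιN (φ (1, 0, 0)))
    rw [Subalgebra.coe_zero]
    ring
  · change ιN (φ (rho g₁ g₂ (K2 g₁ g₂ x₀ hxA 1))) = _
    rw [h2, hφ, map_add, map_add, map_smul, map_smul, map_smul, smul_def, smul_def, smul_def]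
    change -(((0 : A) : B) * g₁ + x₀ * 1 * g₂) * ιN (φ (1, 0, 0)) +
      ((0 : A) : B) * ιN (φ (0, 1, 0)) + x₀ * 1 * ιN (φ (0, 0, 1)) =
      x₀ * (ιN (φ (0, 0, 1)) - g₂ * ιN (φ (1, 0, 0)))
    rw [Subalgebra.coe_zero]
    ring

end

section formula

variable (g₁ g₂ x₀ : B) (hxA : ∀ b : B, x₀ * b ∈ A)
  {Mm Nm : Type u} [AddCommGroup Mm] [Module A Mm] [AddCommGroup Nm] [Module A Nm]
  (ιM : Mm →ₗ[A] B) (ιN : Nm →ₗ[A] B) (v₀ v₁ v₂ : Mm)
  (hx₀ : ∀ b b' : B, x₀ * b = x₀ * b' → b = b')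
  (hιM : Function.Injective ιM) (hιN : Function.Injective ιN)
  (hv₀ : ιM v₀ = 1) (hv₁ : ιM v₁ = g₁) (hv₂ : ιM v₂ = g₂)
  (hspan : Submodule.span A {v₀, v₁, v₂} = ⊤)

include hx₀ hιN in
theorem ker_bdry :
    LinearMap.ker (bdry Nm (rho (A := A) g₁ g₂) (pres v₀ v₁ v₂) (rho_injective g₁ g₂)
      (pres_surjective v₀ v₁ v₂ hspan) (exact_rho g₁ g₂ ιM v₀ v₁ v₂ hιM hv₀ hv₁ hv₂)) =
      (LinearMap.range (Lam g₁ g₂ x₀ ιN)).comap (Theta g₁ g₂ x₀ hxA ιN) := by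
  ext ψ
  rw [LinearMap.mem_ker, bdry_eq_zero_iff, Submodule.mem_comap, LinearMap.mem_range]
  constructor
  · rintro ⟨φ, rfl⟩
    exact ⟨_, (Theta_comp_rho g₁ g₂ x₀ hxA ιN φ).symm⟩
  · rintro ⟨⟨p, q, r⟩, hpq⟩
    refine ⟨LinearMap.coprod (LinearMap.toSpanSingleton A Nm p)
      (LinearMap.coprod (LinearMap.toSpanSingleton A Nm q) (LinearMap.toSpanSingleton A Nm r)), ?_⟩
    apply Theta_injective g₁ g₂ x₀ hxA ιN hx₀ hιN
    rw [Theta_comp_rho, ← hpq]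
    congr 2
    · simp
    · congr 1 <;> simp

theorem Lam_le_YY : LinearMap.range (Lam (A := A) g₁ g₂ x₀ ιN) ≤ YY g₁ g₂ x₀ ιN := by
  rintro _ ⟨⟨p, q, r⟩, rfl⟩ x
  refine ⟨((x : A × A).1 : A) • q + ((x : A × A).2 : A) • r - comb g₁ g₂ x • p, ?_⟩
  rw [Lam_apply, map_sub, map_add, map_smul, map_smul, map_smul, smul_def, smul_def, smul_def,
    coe_comb]
  change x₀ * (c1 g₁ g₂ x * ιN q + c2 g₁ g₂ x * ιN r -
    (c1 g₁ g₂ x * g₁ + c2 g₁ g₂ x * g₂) * ιN p) = _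
  ring

include hxA hx₀ hιN hιM hv₀ hv₁ hv₂ hspan in
/-- the length formula -/
theorem length_formula :
    Module.length A ((B × B) ⧸ LinearMap.range (Lam (A := A) g₁ g₂ x₀ ιN)) =
      Module.length A ((B × B) ⧸ YY g₁ g₂ x₀ ιN) +
        Module.length A (Abelian.Ext.{u} (ModuleCat.of A Mm) (ModuleCat.of A Nm) 1) := by
  have hsurj := bdry_surjective Nm (rho (A := A) g₁ g₂) (pres v₀ v₁ v₂) (rho_injective g₁ g₂)
    (pres_surjective v₀ v₁ v₂ hspan) (exact_rho g₁ g₂ ιM v₀ v₁ v₂ hιM hv₀ hv₁ hv₂)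
  have e1 := (LinearMap.quotKerEquivOfSurjective _ hsurj).length_eq
  rw [← e1, ker_bdry g₁ g₂ x₀ hxA ιM ιN v₀ v₁ v₂ hx₀ hιM hιN hv₀ hv₁ hv₂ hspan, ← rl_top',
    ← rl_top', ← rl_top', rl_map, Submodule.map_top, range_Theta g₁ g₂ x₀ hxA ιN hx₀ hιN]
  exact rl_add (Lam_le_YY g₁ g₂ x₀ ιN) le_top

/-- length of a quotient of a product by a product -/
theorem length_quot_prod {S : Type*} [Ring S] {M₁ M₂ : Type*} [AddCommGroup M₁] [Module S M₁]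
    [AddCommGroup M₂] [Module S M₂] (p : Submodule S M₁) (q : Submodule S M₂) :
    Module.length S ((M₁ × M₂) ⧸ p.prod q) =
      Module.length S (M₁ ⧸ p) + Module.length S (M₂ ⧸ q) := by
  have hsurj : Function.Surjective (LinearMap.prodMap p.mkQ q.mkQ) :=
    Function.Surjective.prodMap (Submodule.mkQ_surjective p) (Submodule.mkQ_surjective q)
  have hker : LinearMap.ker (LinearMap.prodMap p.mkQ q.mkQ) = p.prod q := by
    rw [LinearMap.ker_prodMap, Submodule.ker_mkQ, Submodule.ker_mkQ]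
  have e1 := (LinearMap.quotKerEquivOfSurjective _ hsurj).length_eq
  rw [← Module.length_prod, ← e1]
  exact (Submodule.quotEquivOfEq _ _ hker.symm).length_eq

end formula

end Groth.Agent.Lib.helper15.ThreeGenExt
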