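import Mathlib

/-!
# Composita with controlled transcendence degree (helper15)

* `algebraicIndependent_of_isAlgebraic`: a family algebraically independent over a domain `R` stays so
  over any field mapping into the elements algebraic over `R`.
* `algebraicIndependent_of_sumElim`: for a tower `K → L → E`, `t` a transcendence basis of `L/K`:
  if `y ⊔ t` is algebraically independent over `K` then `y` is algebraically independent over `L`.
* `exists_compositum`: the compositum construction used for points of fibre products.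
-/

set_option autoImplicit false
set_option linter.style.haveILetI false
universe u
open Algebra

namespace Groth.Agent.Lib.helper15.TrdegComp

/-- A family algebraically independent over a domain `R` is algebraically independent over any
field `L` whose image consists of elements algebraic over `R`. -/
theorem algebraicIndependent_of_isAlgebraic {R Ω L ι : Type*} [CommRing R] [IsDomain R] [Field Ω]
    [Algebra R Ω] [Field L] [Algebra L Ω] {x : ι → Ω} (hx : AlgebraicIndependent R x)
    (hψ : ∀ l : L, IsAlgebraic R (algebraMap L Ω l)) :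
    AlgebraicIndependent L x := by
  have h1 := hx.subalgebraAlgebraicClosure
  let f : L →+* ↥(Subalgebra.algebraicClosure R Ω) := (algebraMap L Ω).codRestrict _ hψ
  refine AlgebraicIndependent.of_ringHom_of_comp_eq (S := ↥(Subalgebra.algebraicClosure R Ω))
    (B := Ω) f (RingHom.id Ω) h1 ?_ ?_
  · intro a b hab
    exact (algebraMap L Ω).injective (congrArg Subtype.val hab)
  · ext l
    rfl

/-- For a tower `K → L → E` with `t` a transcendence basis of `L/K`: if `y ⊔ t` is algebraically
independent over `K`, then `y` is algebraically independent over `L`. -/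
theorem algebraicIndependent_of_sumElim {K L E ι ι' : Type*} [Field K] [Field L] [Field E]
    [Algebra K L] [Algebra L E] [Algebra K E] [IsScalarTower K L E]
    {t : ι → L} (ht : IsTranscendenceBasis K t) {y : ι' → E}
    (h : AlgebraicIndependent K (Sum.elim y (algebraMap L E ∘ t))) : AlgebraicIndependent L y := by
  have h1 := (AlgebraicIndependent.sumElim_iff.mp h).2
  refine algebraicIndependent_of_isAlgebraic h1 ?_
  intro l
  have hl : IsAlgebraic (adjoin K (Set.range t)) l := ht.isAlgebraic.1 l
  let φ : L →ₐ[K] E := IsScalarTower.toAlgHom K L E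
  have hmem : ∀ a : adjoin K (Set.range t), φ a ∈ adjoin K (Set.range (algebraMap L E ∘ t)) := by
    intro a
    have : φ a ∈ (adjoin K (Set.range t)).map φ := ⟨a, a.2, rfl⟩
    rw [AlgHom.map_adjoin, ← Set.range_comp] at this
    exact this
  let f : ↥(adjoin K (Set.range t)) →+* ↥(adjoin K (Set.range (algebraMap L E ∘ t))) :=
    (φ.toRingHom.comp (adjoin K (Set.range t)).val.toRingHom).codRestrict _ hmem
  refine IsAlgebraic.ringHom_of_comp_eq f (algebraMap L E) hl ?_ ?_
  · intro a b hab
    have := congrArg Subtype.val hab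
    exact Subtype.ext ((algebraMap L E).injective this)
  · ext a
    rfl

/-- An algebraically closed extension with a prescribed algebraically independent family. -/
theorem exists_algClosed_indep (L₁ : Type u) [Field L₁] (s : Type u) :
    ∃ (Ω : Type u) (_ : Field Ω) (_ : Algebra L₁ Ω) (_ : IsAlgClosed Ω) (v : s → Ω),
      AlgebraicIndependent L₁ v := by
  refine ⟨AlgebraicClosure (FractionRing (MvPolynomial s L₁)), inferInstance, inferInstance,
    inferInstance,
    ((IsScalarTower.toAlgHom L₁ (FractionRing (MvPolynomial s L₁))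
      (AlgebraicClosure (FractionRing (MvPolynomial s L₁)))).comp
      (IsScalarTower.toAlgHom L₁ (MvPolynomial s L₁) (FractionRing (MvPolynomial s L₁)))) ∘
      MvPolynomial.X, ?_⟩
  refine (MvPolynomial.algebraicIndependent_X s L₁).map' ?_
  rw [AlgHom.coe_comp]
  refine Function.Injective.comp ?_ ?_
  · exact (algebraMap (FractionRing (MvPolynomial s L₁))
      (AlgebraicClosure (FractionRing (MvPolynomial s L₁)))).injective
  · exact IsFractionRing.injective (MvPolynomial s L₁) (FractionRing (MvPolynomial s L₁))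

/-- An extension `Ω` of `L₁` receiving `L₂` over `L`, in which a transcendence basis `y` of `L₂/L`
becomes algebraically independent over `L₁`. -/
theorem exists_embedding {L L₁ L₂ : Type u} [Field L] [Field L₁] [Field L₂] [Algebra L L₁]
    [Algebra L L₂] {s : Type u} (y : s → L₂) (hy : AlgebraicIndependent L y)
    (halg : Algebra.IsAlgebraic (IntermediateField.adjoin L (Set.range y)) L₂) :
    ∃ (Ω : Type u) (_ : Field Ω) (e₁ : L₁ →+* Ω) (e₂ : L₂ →+* Ω) (v : s → Ω),
      e₁.comp (algebraMap L L₁) = e₂.comp (algebraMap L L₂) ∧ (∀ j, e₂ (y j) = v j) ∧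
      (letI := e₁.toAlgebra
       AlgebraicIndependent L₁ v) := by
  classical
  obtain ⟨Ω, _, _, _, v, hv⟩ := exists_algClosed_indep L₁ s
  letI : Algebra L Ω := ((algebraMap L₁ Ω).comp (algebraMap L L₁)).toAlgebra
  haveI : IsScalarTower L L₁ Ω := IsScalarTower.of_algebraMap_eq fun _ => rfl
  have hvL : AlgebraicIndependent L v := hv.restrictScalars (algebraMap L L₁).injective
  set F₂ := IntermediateField.adjoin L (Set.range y) with hF₂
  let g₀ : FractionRing (MvPolynomial s L) →ₐ[L] Ω :=
    IsFractionRing.liftAlgHom (g := MvPolynomial.aeval v) hvL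
  let e₀ : F₂ →ₐ[L] Ω := g₀.comp (hy.aevalEquivField.symm : F₂ ≃ₐ[L] _).toAlgHom
  letI : Algebra F₂ Ω := e₀.toRingHom.toAlgebra
  let e₂' : L₂ →ₐ[F₂] Ω := IsAlgClosed.lift
  refine ⟨Ω, inferInstance, algebraMap L₁ Ω, e₂'.toRingHom, v, ?_, ?_, ?_⟩
  · ext l
    have h4 : algebraMap L L₂ l = algebraMap F₂ L₂ (algebraMap L F₂ l) := rfl
    change algebraMap L₁ Ω (algebraMap L L₁ l) = e₂' (algebraMap L L₂ l)
    rw [h4, e₂'.commutes]
    change _ = e₀ (algebraMap L F₂ l)
    rw [e₀.commutes]
    rfl
  · intro j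
    have h5 : y j = algebraMap F₂ L₂ ⟨y j, IntermediateField.subset_adjoin L _ ⟨j, rfl⟩⟩ := rfl
    change e₂' (y j) = v j
    rw [h5, e₂'.commutes]
    change g₀ (hy.aevalEquivField.symm _) = v j
    have h6 : hy.aevalEquivField.symm ⟨y j, IntermediateField.subset_adjoin L _ ⟨j, rfl⟩⟩ =
        algebraMap (MvPolynomial s L) (FractionRing (MvPolynomial s L)) (MvPolynomial.X j) := by
      rw [AlgEquiv.symm_apply_eq]
      apply Subtype.ext
      rw [AlgebraicIndependent.aevalEquivField_apply_coe]
      have h7 := IsFractionRing.lift_algebraMap (K := FractionRing (MvPolynomial s L))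
        (algebraicIndependent_iff_injective_aeval.2 hy) (MvPolynomial.X j)
      rw [h7]
      simp
    rw [h6]
    have h8 := IsFractionRing.lift_algebraMap (K := FractionRing (MvPolynomial s L))
      (g := (MvPolynomial.aeval v : MvPolynomial s L →ₐ[L] Ω).toRingHom) hvL (MvPolynomial.X j)
    have h9 : g₀ (algebraMap (MvPolynomial s L) (FractionRing (MvPolynomial s L))
        (MvPolynomial.X j)) = IsFractionRing.lift (K := FractionRing (MvPolynomial s L))
        (g := (MvPolynomial.aeval v : MvPolynomial s L →ₐ[L] Ω).toRingHom) hvL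
        (algebraMap (MvPolynomial s L) (FractionRing (MvPolynomial s L))
        (MvPolynomial.X j)) := rfl
    rw [h9, h8]
    simp
  · convert hv using 2
    exact Algebra.algebra_ext _ _ (fun _ => rfl)

/-- The compositum construction. -/
theorem exists_compositum {K L K₁ K₂ L₁ L₂ : Type u} [Field K] [Field L] [Field K₁] [Field K₂]
    [Field L₁] [Field L₂] (κ : K →+* L) (κ₁ : K →+* K₁) (κ₂ : K →+* K₂) (lam₁ : L →+* L₁)
    (lam₂ : L →+* L₂) (mu₁ : K₁ →+* L₁) (mu₂ : K₂ →+* L₂)
    (hcomm₁ : lam₁.comp κ = mu₁.comp κ₁) (hcomm₂ : lam₂.comp κ = mu₂.comp κ₂)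
    {ι : Type*} (t : ι → L)
    (ht : letI := κ.toAlgebra; IsTranscendenceBasis K t)
    (h1 : letI := mu₁.toAlgebra; AlgebraicIndependent K₁ (lam₁ ∘ t))
    (h2 : Subfield.closure (Set.range lam₂ ∪ Set.range mu₂) = ⊤)
    (h3 : letI := mu₂.toAlgebra; AlgebraicIndependent K₂ (lam₂ ∘ t)) :
    ∃ (Ω : Type u) (_ : Field Ω) (e₁ : L₁ →+* Ω) (e₂ : L₂ →+* Ω), e₁.comp lam₁ = e₂.comp lam₂ ∧
      AlgebraicIndependent ↥(Subfield.closure (Set.range (e₁.comp mu₁) ∪ Set.range (e₂.comp mu₂)))
        (e₁ ∘ lam₁ ∘ t) := by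
  classical
  letI := κ.toAlgebra
  letI := κ₁.toAlgebra
  letI := κ₂.toAlgebra
  letI := lam₁.toAlgebra
  letI := lam₂.toAlgebra
  letI := mu₁.toAlgebra
  letI := mu₂.toAlgebra
  letI : Algebra K L₁ := (lam₁.comp κ).toAlgebra
  letI : Algebra K L₂ := (lam₂.comp κ).toAlgebra
  haveI : IsScalarTower K L L₁ := IsScalarTower.of_algebraMap_eq fun _ => rfl
  haveI : IsScalarTower K L L₂ := IsScalarTower.of_algebraMap_eq fun _ => rfl
  haveI : IsScalarTower K K₁ L₁ := IsScalarTower.of_algebraMap_eq fun x => by
    change (lam₁.comp κ) x = (mu₁.comp κ₁) x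
    rw [hcomm₁]
  haveI : IsScalarTower K K₂ L₂ := IsScalarTower.of_algebraMap_eq fun x => by
    change (lam₂.comp κ) x = (mu₂.comp κ₂) x
    rw [hcomm₂]
  obtain ⟨s, hs⟩ := exists_isTranscendenceBasis K K₂
  let y : s → L₂ := fun j => algebraMap K₂ L₂ (j : K₂)
  -- Step 1: `y` is algebraically independent over `L`
  have hsum : AlgebraicIndependent K (Sum.elim (lam₂ ∘ t) (algebraMap K₂ L₂ ∘ ((↑) : s → K₂))) :=
    hs.1.sumElim_comp h3
  have hsum' : AlgebraicIndependent K (Sum.elim y (algebraMap L L₂ ∘ t)) := by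
    refine (algebraicIndependent_equiv' (Equiv.sumComm _ _) ?_).mpr hsum
    ext (_ | _) <;> rfl
  have hy : AlgebraicIndependent L y := algebraicIndependent_of_sumElim ht hsum'
  -- Step 2: `L₂` is algebraic over `F₂ = L(y)`
  -- `mu₂` maps `K[s]` into `K[y]`
  have hmem : ∀ a : adjoin K (Set.range ((↑) : s → K₂)),
      algebraMap K₂ L₂ a ∈ adjoin K (Set.range y) := by
    intro a
    have : (IsScalarTower.toAlgHom K K₂ L₂) a ∈
        (adjoin K (Set.range ((↑) : s → K₂))).map (IsScalarTower.toAlgHom K K₂ L₂) :=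
      ⟨a, a.2, rfl⟩
    rw [AlgHom.map_adjoin, ← Set.range_comp] at this
    exact this
  have hyF : adjoin K (Set.range y) ≤
      (IntermediateField.adjoin L (Set.range y)).toSubalgebra.restrictScalars K := by
    apply Algebra.adjoin_le
    intro z hz
    exact IntermediateField.subset_adjoin L _ hz
  have halg₂ : Algebra.IsAlgebraic (IntermediateField.adjoin L (Set.range y)) L₂ := by
    rw [← algebraicClosure.eq_top_iff]
    rw [_root_.eq_top_iff]
    intro z _
    have hz : z ∈ Subfield.closure (Set.range lam₂ ∪ Set.range mu₂) := h2 ▸ Subfield.mem_top z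
    have hle : Subfield.closure (Set.range lam₂ ∪ Set.range mu₂) ≤
        (algebraicClosure (IntermediateField.adjoin L (Set.range y)) L₂).toSubfield := by
      rw [Subfield.closure_le]
      rintro _ (⟨l, rfl⟩ | ⟨u, rfl⟩)
      · apply mem_algebraicClosure_iff.mpr
        exact isAlgebraic_algebraMap (R := IntermediateField.adjoin L (Set.range y))
          (algebraMap L (IntermediateField.adjoin L (Set.range y)) l)
      · apply mem_algebraicClosure_iff.mpr
        have hu : IsAlgebraic (adjoin K (Set.range ((↑) : s → K₂))) u := hs.isAlgebraic.1 u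
        let f : ↥(adjoin K (Set.range ((↑) : s → K₂))) →+*
            ↥(IntermediateField.adjoin L (Set.range y)) :=
          ((algebraMap K₂ L₂).comp (adjoin K (Set.range ((↑) : s → K₂))).val.toRingHom).codRestrict
            (IntermediateField.adjoin L (Set.range y)).toSubfield.toSubring
            (fun a => hyF (hmem a))
        refine IsAlgebraic.ringHom_of_comp_eq f (algebraMap K₂ L₂) hu ?_ ?_
        · intro a b hab
          have := congrArg Subtype.val hab
          exact Subtype.ext ((algebraMap K₂ L₂).injective this)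
        · ext a
          rfl
    exact hle hz
  -- Step 3: the embedding
  obtain ⟨Ω, _, e₁, e₂, v, hcomp, hveq, hvind⟩ :=
    exists_embedding (L := L) (L₁ := L₁) (L₂ := L₂) y hy halg₂
  refine ⟨Ω, inferInstance, e₁, e₂, hcomp, ?_⟩
  letI : Algebra L₁ Ω := e₁.toAlgebra
  letI : Algebra K₁ Ω := (e₁.comp mu₁).toAlgebra
  haveI : IsScalarTower K₁ L₁ Ω := IsScalarTower.of_algebraMap_eq fun _ => rfl
  have hA : AlgebraicIndependent K₁ (Sum.elim v (algebraMap L₁ Ω ∘ (lam₁ ∘ t))) :=
    h1.sumElim_comp hvind
  have hA' : AlgebraicIndependent K₁ (Sum.elim (e₁ ∘ lam₁ ∘ t) v) := by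
    refine (algebraicIndependent_equiv' (Equiv.sumComm _ _) ?_).mpr hA
    ext (_ | _) <;> rfl
  have hB : AlgebraicIndependent (adjoin K₁ (Set.range v)) (e₁ ∘ lam₁ ∘ t) :=
    (AlgebraicIndependent.sumElim_iff.mp hA').2
  refine algebraicIndependent_of_isAlgebraic hB ?_
  let A : Subfield Ω :=
    { carrier := {z | IsAlgebraic (adjoin K₁ (Set.range v)) z}
      mul_mem' := fun ha hb => IsAlgebraic.mul ha hb
      one_mem' := isAlgebraic_one
      add_mem' := fun ha hb => IsAlgebraic.add ha hb
      zero_mem' := isAlgebraic_zero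
      neg_mem' := fun ha => IsAlgebraic.neg ha
      inv_mem' := fun _ ha => IsAlgebraic.inv ha }
  have hK : ∀ k : K, e₂ (mu₂ (κ₂ k)) = e₁ (mu₁ (κ₁ k)) := by
    intro k
    have e1 : mu₂ (κ₂ k) = lam₂ (κ k) := (RingHom.congr_fun hcomm₂ k).symm
    have e2 : mu₁ (κ₁ k) = lam₁ (κ k) := (RingHom.congr_fun hcomm₁ k).symm
    rw [e1, e2]
    exact (RingHom.congr_fun hcomp (κ k)).symm
  have hmemR : ∀ a ∈ adjoin K (Set.range ((↑) : s → K₂)),
      e₂ (mu₂ a) ∈ adjoin K₁ (Set.range v) := by
    intro a ha
    induction ha using Algebra.adjoin_induction with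
    | mem x hx =>
      obtain ⟨j, rfl⟩ := hx
      rw [show e₂ (mu₂ (j : K₂)) = v j from hveq j]
      exact Algebra.subset_adjoin ⟨j, rfl⟩
    | algebraMap r =>
      rw [show algebraMap K K₂ r = κ₂ r from rfl, hK]
      exact (adjoin K₁ (Set.range v)).algebraMap_mem (κ₁ r)
    | add x y _ _ hx hy =>
      rw [map_add, map_add]
      exact add_mem hx hy
    | mul x y _ _ hx hy =>
      rw [map_mul, map_mul]
      exact mul_mem hx hy
  have hle : Subfield.closure (Set.range (e₁.comp mu₁) ∪ Set.range (e₂.comp mu₂)) ≤ A := by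
    rw [Subfield.closure_le]
    rintro _ (⟨a, rfl⟩ | ⟨u, rfl⟩)
    · exact isAlgebraic_algebraMap (R := adjoin K₁ (Set.range v))
        (algebraMap K₁ (adjoin K₁ (Set.range v)) a)
    · have hu : IsAlgebraic (adjoin K (Set.range ((↑) : s → K₂))) u := hs.isAlgebraic.1 u
      let f : ↥(adjoin K (Set.range ((↑) : s → K₂))) →+* ↥(adjoin K₁ (Set.range v)) :=
        ((e₂.comp mu₂).comp (adjoin K (Set.range ((↑) : s → K₂))).val.toRingHom).codRestrict
          (adjoin K₁ (Set.range v)) (fun a => hmemR a a.2)
      refine IsAlgebraic.ringHom_of_comp_eq f (e₂.comp mu₂) hu ?_ ?_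
      · intro a b hab
        have := congrArg Subtype.val hab
        exact Subtype.ext ((e₂.comp mu₂).injective this)
      · ext a
        rfl
  intro l
  exact hle l.2

end Groth.Agent.Lib.helper15.TrdegComp
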