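import Groth.Agent.Lib.Helper15.TrdegComp

/-!
# Composita with controlled transcendence degree, II (helper15)

`exists_compositum_trdeg`: the algebra behind "two points of `X'` over the same point of `X` with
full residual transcendence degree are the projections of a point of `X''` with full residual
transcendence degree".
-/

set_option autoImplicit false
set_option linter.style.haveILetI false
universe u
open Algebra Cardinal

namespace Groth.Agent.Lib.helper15.TrdegComp

/-- The subfield of elements algebraic over a domain `R`. -/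
def algSubfield (R Ω : Type*) [CommRing R] [IsDomain R] [Field Ω] [Algebra R Ω] : Subfield Ω where
  carrier := {z | IsAlgebraic R z}
  mul_mem' := fun ha hb => IsAlgebraic.mul ha hb
  one_mem' := isAlgebraic_one
  add_mem' := fun ha hb => IsAlgebraic.add ha hb
  zero_mem' := isAlgebraic_zero
  neg_mem' := fun ha => IsAlgebraic.neg ha
  inv_mem' := fun _ ha => IsAlgebraic.inv ha

theorem mem_algSubfield {R Ω : Type*} [CommRing R] [IsDomain R] [Field Ω] [Algebra R Ω] {z : Ω} :
    z ∈ algSubfield R Ω ↔ IsAlgebraic R z := Iff.rfl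

/-- Transport of algebraicity over an adjoined subalgebra along a ring homomorphism. -/
theorem isAlgebraic_map_adjoin {K A K' B : Type*} [Field K] [Field A] [Algebra K A] [CommRing K']
    [Field B] [Algebra K' B] (g : A →+* B) (s : Set A) (S : Subalgebra K' B)
    (hK : ∀ k : K, g (algebraMap K A k) ∈ S) (hs : ∀ x ∈ s, g x ∈ S) {a : A}
    (ha : IsAlgebraic (adjoin K s) a) : IsAlgebraic S (g a) := by
  have hmem : ∀ x ∈ adjoin K s, g x ∈ S := by
    intro x hx
    induction hx using Algebra.adjoin_induction with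
    | mem x hx => exact hs x hx
    | algebraMap r => exact hK r
    | add x y _ _ hx hy =>
      rw [map_add]
      exact add_mem hx hy
    | mul x y _ _ hx hy =>
      rw [map_mul]
      exact mul_mem hx hy
  let f : ↥(adjoin K s) →+* ↥S :=
    (g.comp (adjoin K s).val.toRingHom).codRestrict S (fun x => hmem x x.2)
  refine IsAlgebraic.ringHom_of_comp_eq f g ha ?_ ?_
  · intro x y hxy
    have := congrArg Subtype.val hxy
    exact Subtype.ext (g.injective this)
  · ext x
    rfl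

/-- If `L₁` is generated by `L` and `K₁`, a finite transcendence basis of `L/K` whose cardinality
is the transcendence degree of `L₁/K₁` maps to a transcendence basis of `L₁/K₁`. -/
theorem isTranscendenceBasis_comp_of_closure {K L K₁ L₁ : Type u} [Field K] [Field L] [Field K₁]
    [Field L₁] (κ : K →+* L) (κ₁ : K →+* K₁) (lam₁ : L →+* L₁) (mu₁ : K₁ →+* L₁)
    (hcomm : lam₁.comp κ = mu₁.comp κ₁) {ι : Type u} [Finite ι] (t : ι → L)
    (ht : letI := κ.toAlgebra; IsTranscendenceBasis K t)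
    (hg : Subfield.closure (Set.range lam₁ ∪ Set.range mu₁) = ⊤)
    (hr : (letI := mu₁.toAlgebra; Algebra.trdeg K₁ L₁) = #ι) :
    letI := mu₁.toAlgebra; IsTranscendenceBasis K₁ (lam₁ ∘ t) := by
  letI := κ.toAlgebra
  letI := mu₁.toAlgebra
  have hle : Subfield.closure (Set.range lam₁ ∪ Set.range mu₁) ≤
      algSubfield (adjoin K₁ (Set.range (lam₁ ∘ t))) L₁ := by
    rw [Subfield.closure_le]
    rintro _ (⟨l, rfl⟩ | ⟨a, rfl⟩)
    · have hl : IsAlgebraic (adjoin K (Set.range t)) l := ht.isAlgebraic.1 l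
      refine isAlgebraic_map_adjoin lam₁ (Set.range t) (adjoin K₁ (Set.range (lam₁ ∘ t))) ?_ ?_ hl
      · intro k
        have : lam₁ (algebraMap K L k) = algebraMap K₁ L₁ (κ₁ k) := RingHom.congr_fun hcomm k
        rw [this]
        exact (adjoin K₁ (Set.range (lam₁ ∘ t))).algebraMap_mem (κ₁ k)
      · rintro _ ⟨i, rfl⟩
        exact Algebra.subset_adjoin ⟨i, rfl⟩
    · exact isAlgebraic_algebraMap (R := adjoin K₁ (Set.range (lam₁ ∘ t)))
        (algebraMap K₁ (adjoin K₁ (Set.range (lam₁ ∘ t))) a)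
  haveI : Algebra.IsAlgebraic (adjoin K₁ (Set.range (lam₁ ∘ t))) L₁ :=
    ⟨fun z => hle (hg ▸ Subfield.mem_top z)⟩
  exact Algebra.IsAlgebraic.isTranscendenceBasis_of_le_trdeg_of_finite K₁ (lam₁ ∘ t) hr.ge

/-- The compositum construction with control of the transcendence degree. -/
theorem exists_compositum_trdeg {K L K₁ K₂ L₁ L₂ : Type u} [Field K] [Field L] [Field K₁]
    [Field K₂] [Field L₁] [Field L₂] (κ : K →+* L) (κ₁ : K →+* K₁) (κ₂ : K →+* K₂)
    (lam₁ : L →+* L₁) (lam₂ : L →+* L₂) (mu₁ : K₁ →+* L₁) (mu₂ : K₂ →+* L₂)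
    (hcomm₁ : lam₁.comp κ = mu₁.comp κ₁) (hcomm₂ : lam₂.comp κ = mu₂.comp κ₂) (r : ℕ)
    (hr : (letI := κ.toAlgebra; Algebra.trdeg K L) = r)
    (hr₁ : (letI := mu₁.toAlgebra; Algebra.trdeg K₁ L₁) = r)
    (hr₂ : (letI := mu₂.toAlgebra; Algebra.trdeg K₂ L₂) = r)
    (hg₁ : Subfield.closure (Set.range lam₁ ∪ Set.range mu₁) = ⊤)
    (hg₂ : Subfield.closure (Set.range lam₂ ∪ Set.range mu₂) = ⊤) :
    ∃ (Ω : Type u) (_ : Field Ω) (e₁ : L₁ →+* Ω) (e₂ : L₂ →+* Ω), e₁.comp lam₁ = e₂.comp lam₂ ∧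
      ∀ (M N : Subfield Ω), M = (e₁.comp mu₁).fieldRange ⊔ (e₂.comp mu₂).fieldRange →
        N = e₁.fieldRange ⊔ M → ∀ hle : M ≤ N,
        (letI := (Subfield.inclusion hle).toAlgebra; Algebra.trdeg M N) = r := by
  classical
  obtain ⟨ι, t, ht⟩ : ∃ (ι : Type u) (t : ι → L), letI := κ.toAlgebra; IsTranscendenceBasis K t := by
    letI := κ.toAlgebra
    exact exists_isTranscendenceBasis' K L
  have hcard : #ι = r := by
    letI := κ.toAlgebra
    rw [ht.cardinalMk_eq_trdeg]
    exact hr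
  haveI : Finite ι := by
    rw [← Cardinal.mk_lt_aleph0_iff, hcard]
    exact Cardinal.natCast_lt_aleph0
  have hb₁ := isTranscendenceBasis_comp_of_closure κ κ₁ lam₁ mu₁ hcomm₁ t ht hg₁
    (hr₁.trans hcard.symm)
  have hb₂ := isTranscendenceBasis_comp_of_closure κ κ₂ lam₂ mu₂ hcomm₂ t ht hg₂
    (hr₂.trans hcard.symm)
  obtain ⟨Ω, _, e₁, e₂, hcomp, hAI⟩ := exists_compositum κ κ₁ κ₂ lam₁ lam₂ mu₁ mu₂ hcomm₁ hcomm₂ t
    ht hb₁.1 hg₂ hb₂.1
  refine ⟨Ω, inferInstance, e₁, e₂, hcomp, ?_⟩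
  intro M N hM hN hle
  have hM0 : Subfield.closure (Set.range (e₁.comp mu₁) ∪ Set.range (e₂.comp mu₂)) = M := by
    rw [hM, Subfield.closure_union, ← RingHom.coe_fieldRange, ← RingHom.coe_fieldRange,
      Subfield.closure_eq, Subfield.closure_eq]
  rw [hM0] at hAI
  letI := (Subfield.inclusion hle).toAlgebra
  change Algebra.trdeg M N = r
  letI := mu₁.toAlgebra
  -- the family in `N`
  have hTN : ∀ i, e₁ (lam₁ (t i)) ∈ N := by
    intro i
    rw [hN]
    exact (le_sup_left : e₁.fieldRange ≤ _) ⟨_, rfl⟩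
  let tN : ι → N := fun i => ⟨e₁ (lam₁ (t i)), hTN i⟩
  let φ : N →ₐ[M] Ω := { N.subtype with commutes' := fun _ => rfl }
  have hAIN : AlgebraicIndependent M tN := AlgebraicIndependent.of_comp φ hAI
  -- `N` is algebraic over `M[tN]`
  have hgen : N ≤ (algSubfield (adjoin M (Set.range tN)) N).map N.subtype := by
    refine hN.le.trans (sup_le ?_ ?_)
    · rintro _ ⟨l₁, rfl⟩
      have hmemN : ∀ l : L₁, e₁ l ∈ N := by
        intro l
        rw [hN]
        exact (le_sup_left : e₁.fieldRange ≤ _) ⟨_, rfl⟩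
      refine ⟨⟨e₁ l₁, hmemN l₁⟩, ?_, rfl⟩
      have hl₁ : IsAlgebraic (adjoin K₁ (Set.range (lam₁ ∘ t))) l₁ := hb₁.isAlgebraic.1 l₁
      refine isAlgebraic_map_adjoin (e₁.codRestrict N hmemN) (Set.range (lam₁ ∘ t))
        (adjoin M (Set.range tN)) ?_ ?_ hl₁
      · intro k
        have hk : e₁ (mu₁ k) ∈ M := by
          rw [hM]
          exact (le_sup_left : (e₁.comp mu₁).fieldRange ≤ _) ⟨k, rfl⟩
        exact (adjoin M (Set.range tN)).algebraMap_mem ⟨e₁ (mu₁ k), hk⟩
      · rintro _ ⟨i, rfl⟩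
        exact Algebra.subset_adjoin ⟨i, rfl⟩
    · intro ω hω
      refine ⟨⟨ω, hle hω⟩, ?_, rfl⟩
      exact isAlgebraic_algebraMap (R := adjoin M (Set.range tN))
        (algebraMap M (adjoin M (Set.range tN)) ⟨ω, hω⟩)
  haveI : Algebra.IsAlgebraic (adjoin M (Set.range tN)) N := by
    refine ⟨fun z => ?_⟩
    obtain ⟨a, ha, haz⟩ := hgen z.2
    have : a = z := Subtype.ext haz
    rw [← this]
    exact ha
  have hbN : IsTranscendenceBasis M tN := hAIN.isTranscendenceBasis_iff_isAlgebraic.mpr inferInstance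
  rw [← hbN.cardinalMk_eq_trdeg, hcard]

end Groth.Agent.Lib.helper15.TrdegComp
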