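import Mathlib
import Groth.Agent.Lib.Helper15.AddPoly

/-!
# Additive truncated polynomials in characteristic `p` (helper15)

For a commutative ring `A` of characteristic `p`:
* `eq_of_additive`: `q` of degree `< p²` with `q(Y+Z) - q(Y) - q(Z) ∈ (Y^{p²}, Z^{p²})` is `a₁ X + a_p X^p`.
* `additive_mem`: the converse.
* `bij_iff`: an endomorphism of `A[X]/(X^{p²})` with `X ↦ a₁ X + a_p X^p` is bijective iff `a₁` is a unit.
-/

set_option autoImplicit false
set_option linter.unusedSectionVars false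

namespace Groth.Agent.Lib.helper15.TruncAdd

open Polynomial

variable (p : ℕ) [hp : Fact p.Prime] (A : Type*) [CommRing A] [CharP A p]

theorem isUnit_natCast (m : ℕ) (hm : ¬ p ∣ m) : IsUnit (m : A) := by
  have h : (m : A) = ZMod.castHom (dvd_refl p) A (m : ZMod p) := (map_natCast _ m).symm
  rw [h]
  refine IsUnit.map _ (IsUnit.mk0 _ ?_)
  rwa [Ne, ZMod.natCast_eq_zero_iff]

omit hp [CharP A p] in
theorem coeff_coeff_aeval_add (q : A[X]) (i j : ℕ) :
    ((aeval (C (X : A[X]) + (X : A[X][X])) q).coeff i).coeff j =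
      ((j + i).choose i : A) * q.coeff (j + i) := by
  have h1 : aeval (C (X : A[X]) + (X : A[X][X])) q = taylor (X : A[X]) (q.map C) := by
    rw [taylor_apply, comp, eval₂_map, aeval_def, add_comm]
    rfl
  rw [h1, taylor_coeff]
  have h2 : hasseDeriv i (q.map (C : A →+* A[X])) = (hasseDeriv i q).map C := by
    refine Polynomial.ext fun n => ?_
    rw [hasseDeriv_coeff, coeff_map, coeff_map, hasseDeriv_coeff]
    simp
  rw [h2, eval_map, eval₂_C_X, hasseDeriv_coeff]

omit hp [CharP A p] in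
theorem coeff_eq_of_mem (q : A[X])
    (hmem : aeval (MvPolynomial.X 0 + MvPolynomial.X 1 : MvPolynomial (Fin 2) A) q -
            aeval (MvPolynomial.X 0 : MvPolynomial (Fin 2) A) q -
            aeval (MvPolynomial.X 1 : MvPolynomial (Fin 2) A) q ∈
          Ideal.span ({MvPolynomial.X 0 ^ p ^ 2, MvPolynomial.X 1 ^ p ^ 2} :
            Set (MvPolynomial (Fin 2) A)))
    (i j : ℕ) (hi : i < p ^ 2) (hj : j < p ^ 2) :
    ((j + i).choose i : A) * q.coeff (j + i) - ((if i = 0 then q else 0 : A[X]).coeff j) -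
      (if j = 0 then q.coeff i else 0) = 0 := by
  obtain ⟨a, b, hab⟩ := Ideal.mem_span_pair.1 hmem
  let ψ : MvPolynomial (Fin 2) A →ₐ[A] A[X][X] :=
    MvPolynomial.aeval ![C (X : A[X]), (X : A[X][X])]
  have hψ0 : ψ (MvPolynomial.X 0) = C X := by simp [ψ]
  have hψ1 : ψ (MvPolynomial.X 1) = X := by simp [ψ]
  have h := congrArg ψ hab
  rw [map_add, map_mul, map_mul, map_pow, map_pow, hψ0, hψ1, map_sub, map_sub,
    ← aeval_algHom_apply, ← aeval_algHom_apply, ← aeval_algHom_apply, map_add, hψ0, hψ1] at h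
  have hT2 : (aeval (C (X : A[X]) : A[X][X]) q) = C q := by
    have h3 := aeval_algebraMap_apply (R := A) (A := A[X]) A[X][X] (X : A[X]) q
    rw [aeval_X_left_apply] at h3
    simpa [← C_eq_algebraMap] using h3
  have hT3 : (aeval (X : A[X][X]) q) = q.map (C : A →+* A[X]) := by
    rw [aeval_X_left_eq_map, algebraMap_eq]
  have h2 := congrArg (fun F : A[X][X] => (F.coeff i).coeff j) h
  simp only [coeff_add, coeff_sub] at h2
  rw [coeff_coeff_aeval_add, hT2, hT3, ← C_pow, coeff_mul_C, coeff_mul_X_pow', coeff_mul_X_pow',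
    if_neg (not_le.2 hj), if_neg (not_le.2 hi), coeff_zero, add_zero, coeff_C, coeff_map,
    coeff_C] at h2
  exact h2.symm

theorem eq_of_additive (q : A[X]) (hq : q.natDegree < p ^ 2)
    (hmem : aeval (MvPolynomial.X 0 + MvPolynomial.X 1 : MvPolynomial (Fin 2) A) q -
            aeval (MvPolynomial.X 0 : MvPolynomial (Fin 2) A) q -
            aeval (MvPolynomial.X 1 : MvPolynomial (Fin 2) A) q ∈
          Ideal.span ({MvPolynomial.X 0 ^ p ^ 2, MvPolynomial.X 1 ^ p ^ 2} :
            Set (MvPolynomial (Fin 2) A))) :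
    ∃ a₁ ap : A, q = C a₁ * X + C ap * X ^ p := by
  have key := coeff_eq_of_mem p A q hmem
  have hp2 : 0 < p ^ 2 := pow_pos hp.out.pos 2
  have h0 : q.coeff 0 = 0 := by
    have := key 0 0 hp2 hp2
    simpa using this
  have hc : ∀ n, q.coeff n ≠ 0 → n = 1 ∨ n = p := by
    intro n hn
    have hn0 : n ≠ 0 := fun h => hn (h ▸ h0)
    have hnlt : n < p ^ 2 := lt_of_le_of_lt (le_natDegree_of_ne_zero hn) hq
    obtain ⟨e, he⟩ := AddPoly.exists_pow_of_dvd_choose p n (Nat.pos_of_ne_zero hn0) (by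
      intro j hj0 hjn
      by_contra hdvd
      have hk := key j (n - j) (by omega) (by omega)
      have e1 : n - j + j = n := by omega
      simp only [e1, if_neg hj0.ne', if_neg (show n - j ≠ 0 by omega), coeff_zero,
        sub_zero] at hk
      exact hn ((isUnit_natCast p A _ hdvd).mul_right_eq_zero.1 hk))
    subst he
    have he2 : e < 2 := (Nat.pow_lt_pow_iff_right hp.out.one_lt).1 hnlt
    interval_cases e
    · left; simp
    · right; simp
  refine ⟨q.coeff 1, q.coeff p, ?_⟩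
  refine Polynomial.ext fun n => ?_
  rw [coeff_add, coeff_C_mul, coeff_C_mul, coeff_X, coeff_X_pow]
  by_cases h1 : n = 1
  · subst h1
    have : (1 : ℕ) ≠ p := hp.out.one_lt.ne
    simp [this]
  · by_cases hpn : n = p
    · subst hpn
      simp [Ne.symm h1]
    · have : q.coeff n = 0 := by
        by_contra h
        rcases hc n h with h | h <;> contradiction
      simp [this, hpn, Ne.symm h1]

theorem additive_mem (a₁ ap : A) :
    aeval (MvPolynomial.X 0 + MvPolynomial.X 1 : MvPolynomial (Fin 2) A)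
        (C a₁ * X + C ap * X ^ p : A[X]) -
      aeval (MvPolynomial.X 0 : MvPolynomial (Fin 2) A) (C a₁ * X + C ap * X ^ p : A[X]) -
      aeval (MvPolynomial.X 1 : MvPolynomial (Fin 2) A) (C a₁ * X + C ap * X ^ p : A[X]) ∈
    Ideal.span ({MvPolynomial.X 0 ^ p ^ 2, MvPolynomial.X 1 ^ p ^ 2} :
      Set (MvPolynomial (Fin 2) A)) := by
  have h : aeval (MvPolynomial.X 0 + MvPolynomial.X 1 : MvPolynomial (Fin 2) A)
        (C a₁ * X + C ap * X ^ p : A[X]) -
      aeval (MvPolynomial.X 0 : MvPolynomial (Fin 2) A) (C a₁ * X + C ap * X ^ p : A[X]) -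
      aeval (MvPolynomial.X 1 : MvPolynomial (Fin 2) A) (C a₁ * X + C ap * X ^ p : A[X]) = 0 := by
    simp only [map_add, map_mul, aeval_C, aeval_X, map_pow]
    rw [add_pow_char]
    ring
  rw [h]
  exact Ideal.zero_mem _

theorem bij_iff' (a₁ ap : A) (I : Ideal A[X]) (hI : I = Ideal.span ({X ^ p ^ 2} : Set A[X]))
    (φ : (A[X] ⧸ I) →ₐ[A] (A[X] ⧸ I))
    (hφ : φ (Ideal.Quotient.mk I X) = Ideal.Quotient.mk I (C a₁ * X + C ap * X ^ p)) :
    Function.Bijective φ ↔ IsUnit a₁ := by
  set g : A[X] := C a₁ * X + C ap * X ^ p with hg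
  have H : φ.comp (Ideal.Quotient.mkₐ A I) = (Ideal.Quotient.mkₐ A I).comp (aeval g) :=
    Polynomial.algHom_ext (by
      simp only [AlgHom.comp_apply, Ideal.Quotient.mkₐ_eq_mk, aeval_X]
      exact hφ)
  have hp1 : 1 < p := hp.out.one_lt
  have hp0 : p ≠ 0 := hp.out.ne_zero
  constructor
  · intro hb
    obtain ⟨z, hz⟩ := hb.2 (Ideal.Quotient.mk I X)
    obtain ⟨f, rfl⟩ := Ideal.Quotient.mk_surjective z
    have h1 : Ideal.Quotient.mk I (aeval g f) = Ideal.Quotient.mk I X := by
      have := AlgHom.congr_fun H f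
      simp only [AlgHom.comp_apply, Ideal.Quotient.mkₐ_eq_mk] at this
      rw [← this, hz]
    rw [Ideal.Quotient.eq, hI, Ideal.mem_span_singleton] at h1
    obtain ⟨h, hh⟩ := h1
    have h2 : f.comp g = X + X ^ p ^ 2 * h := by
      rw [comp_eq_aeval, ← hh]; ring
    have h3 := congrArg (fun F : A[X] => (derivative F).eval 0) h2
    simp only [derivative_comp, eval_mul, eval_comp, derivative_add, derivative_X,
      derivative_mul, derivative_X_pow, eval_add, eval_one, eval_pow, eval_X, eval_C,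
      eval_natCast] at h3
    have hg0 : g.eval 0 = 0 := by
      simp [hg, zero_pow hp0]
    have hg1 : (derivative g).eval 0 = a₁ := by
      simp [hg, derivative_X_pow, CharP.cast_eq_zero]
    rw [hg0, hg1] at h3
    have hp20 : p ^ 2 ≠ 0 := pow_ne_zero 2 hp0
    have hc : ((p ^ 2 : ℕ) : A) = 0 := by
      rw [Nat.cast_pow, CharP.cast_eq_zero, zero_pow two_ne_zero]
    rw [hc, zero_pow hp20] at h3
    simp only [zero_mul, add_zero] at h3
    exact IsUnit.of_mul_eq_one _ h3
  · intro hu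
    obtain ⟨u, hua⟩ := hu.exists_left_inv
    set z₀ : A[X] := C u * X - C (ap * u ^ (p + 1)) * X ^ p with hz₀
    have hz : aeval g z₀ = X - C (ap * u ^ (p + 1) * ap ^ p) * X ^ p ^ 2 := by
      have e1 : g ^ p = C (a₁ ^ p) * X ^ p + C (ap ^ p) * X ^ p ^ 2 := by
        rw [hg, add_pow_char, mul_pow, mul_pow, ← C_pow, ← C_pow, ← pow_mul, sq]
      have e2 : C u * C a₁ = (1 : A[X]) := by rw [← C_mul, hua, C_1]
      have e3 : C u ^ p * C a₁ ^ p = (1 : A[X]) := by rw [← mul_pow, e2, one_pow]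
      simp only [hz₀, map_sub, map_mul, aeval_C, aeval_X, map_pow, ← C_eq_algebraMap]
      rw [e1, hg]
      simp only [C_mul, C_pow]
      linear_combination (X : A[X]) * e2 - C ap * X ^ p * C u * e3
    have K : φ.comp ((Ideal.Quotient.mkₐ A I).comp (aeval z₀)) = Ideal.Quotient.mkₐ A I := by
      refine Polynomial.algHom_ext ?_
      have := AlgHom.congr_fun H z₀
      simp only [AlgHom.comp_apply, Ideal.Quotient.mkₐ_eq_mk, aeval_X] at this ⊢
      rw [this, hz, map_sub, sub_eq_self, Ideal.Quotient.eq_zero_iff_mem, hI]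
      exact Ideal.mul_mem_left _ _ (Ideal.subset_span rfl)
    have hsurj : Function.Surjective φ := by
      intro b
      obtain ⟨f, rfl⟩ := Ideal.Quotient.mk_surjective b
      exact ⟨_, AlgHom.congr_fun K f⟩
    have : Module.Finite A (A[X] ⧸ I) := by
      subst hI
      exact (monic_X_pow (R := A) (p ^ 2)).finite_adjoinRoot
    exact ⟨OrzechProperty.injective_of_surjective_endomorphism φ.toLinearMap hsurj, hsurj⟩

theorem bij_iff (a₁ ap : A)
    (φ : (A[X] ⧸ Ideal.span ({X ^ p ^ 2} : Set A[X])) →ₐ[A]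
      (A[X] ⧸ Ideal.span ({X ^ p ^ 2} : Set A[X])))
    (hφ : φ (Ideal.Quotient.mk (Ideal.span ({X ^ p ^ 2} : Set A[X])) X) =
      Ideal.Quotient.mk (Ideal.span ({X ^ p ^ 2} : Set A[X])) (C a₁ * X + C ap * X ^ p)) :
    Function.Bijective φ ↔ IsUnit a₁ :=
  bij_iff' p A a₁ ap _ rfl φ hφ

end Groth.Agent.Lib.helper15.TruncAdd
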