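import Mathlib
import Groth.Agent.Lib.Helper15.TwoGenExt2

/-!
# The two-branch ring `O = {(f, g) ∈ k[[t]]² | t^δ ∣ f - g}` (helper15)

Locality, `ℓ_O = ℓ_k`, the `O`-submodules `WW a b = {(f, g) | t^a ∣ f, t^a ∣ g, t^b ∣ f - g}` of
`k[[t]]²` and their colengths `a + b`.
-/

set_option autoImplicit false
set_option linter.style.haveILetI false

universe u

namespace Groth.Agent.Lib.helper15.TwoBranch

open PowerSeries

variable {k : Type u} [Field k]

/-- `O`-length equals `k`-length for a local `k`-algebra with residue field `k` -/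
theorem length_k_eq_of_residue {O : Type*} [CommRing O] [Algebra k O] [IsLocalRing O]
    (c : O → k) (hc : ∀ a : O, ¬ IsUnit (a - algebraMap k O (c a)))
    (N : Type*) [AddCommGroup N] [Module O N] [Module k N] [IsScalarTower k O N] :
    Module.length k N = Module.length O N := by
  have hres : Module.length (IsLocalRing.ResidueField k) (IsLocalRing.ResidueField O) = 1 := by
    apply le_antisymm
    · have hs : Function.Surjective
          (Algebra.linearMap (IsLocalRing.ResidueField k) (IsLocalRing.ResidueField O)) := by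
        intro x
        obtain ⟨a, rfl⟩ := IsLocalRing.residue_surjective x
        refine ⟨IsLocalRing.residue k (c a), ?_⟩
        have : IsLocalRing.residue O a = IsLocalRing.residue O (algebraMap k O (c a)) := by
          rw [← sub_eq_zero, ← map_sub, IsLocalRing.residue_eq_zero_iff]
          exact hc a
        rw [this]
        rfl
      have := Module.length_le_of_surjective _ hs
      rwa [Module.length_eq_one (IsLocalRing.ResidueField k) (IsLocalRing.ResidueField k)] at this
    · rw [Order.one_le_iff_ne_zero, Ne, Module.length_eq_zero_iff]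
      exact not_subsingleton _
  rw [IsLocalRing.length_restrictScalars k O N, hres, mul_one]

theorem le_order_iff_dvd (n : ℕ) (f : PowerSeries k) : (n : ℕ∞) ≤ order f ↔ X ^ n ∣ f := by
  rw [X_pow_dvd_iff]
  constructor
  · intro h m hm
    exact coeff_of_lt_order m (lt_of_lt_of_le (by exact_mod_cast hm) h)
  · intro h
    exact nat_le_order f n h

variable {O : Subalgebra k (PowerSeries k × PowerSeries k)} {δ : ℕ}

/-- `O` is the two-branch ring with contact order `δ` -/
def IsTB (O : Subalgebra k (PowerSeries k × PowerSeries k)) (δ : ℕ) : Prop :=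
  ∀ f : PowerSeries k × PowerSeries k, f ∈ O ↔ (δ : ℕ∞) ≤ order (f.1 - f.2)

theorem mem_iff (h : IsTB O δ) (f : PowerSeries k × PowerSeries k) :
    f ∈ O ↔ X ^ δ ∣ f.1 - f.2 := by
  rw [h, le_order_iff_dvd]

theorem smul_def (a : O) (b : PowerSeries k × PowerSeries k) :
    a • b = (a : PowerSeries k × PowerSeries k) * b := rfl

theorem not_isUnit_of_constantCoeff_eq_zero (a : O)
    (ha : constantCoeff (a : PowerSeries k × PowerSeries k).1 = 0) : ¬ IsUnit a := by
  intro hu
  have h1 : IsUnit (a : PowerSeries k × PowerSeries k) := hu.map O.val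
  have h2 : IsUnit (a : PowerSeries k × PowerSeries k).1 :=
    h1.map (RingHom.fst (PowerSeries k) (PowerSeries k))
  rw [PowerSeries.isUnit_iff_constantCoeff, ha] at h2
  exact not_isUnit_zero h2

theorem isUnit_of_constantCoeff_ne_zero (h : IsTB O δ) (hδ : 1 ≤ δ) (a : O)
    (ha : constantCoeff (a : PowerSeries k × PowerSeries k).1 ≠ 0) : IsUnit a := by
  obtain ⟨a1, ha1⟩ : ∃ a1 : PowerSeries k, a1 = (a : PowerSeries k × PowerSeries k).1 := ⟨_, rfl⟩
  obtain ⟨a2, ha2⟩ : ∃ a2 : PowerSeries k, a2 = (a : PowerSeries k × PowerSeries k).2 := ⟨_, rfl⟩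
  have h12 : X ^ δ ∣ a1 - a2 := by
    rw [ha1, ha2]
    exact (mem_iff h _).mp a.2
  have hX : (X : PowerSeries k) ∣ a1 - a2 := dvd_trans (dvd_pow_self X (by omega)) h12
  rw [X_dvd_iff, map_sub, sub_eq_zero] at hX
  rw [← ha1] at ha
  have hu1 : IsUnit a1 := by
    rw [PowerSeries.isUnit_iff_constantCoeff]
    exact isUnit_iff_ne_zero.mpr ha
  have hu2 : IsUnit a2 := by
    rw [PowerSeries.isUnit_iff_constantCoeff, ← hX]
    exact isUnit_iff_ne_zero.mpr ha
  obtain ⟨b1, hb1⟩ := isUnit_iff_exists_inv.mp hu1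
  obtain ⟨b2, hb2⟩ := isUnit_iff_exists_inv.mp hu2
  have hb : (b1, b2) ∈ O := by
    rw [mem_iff h]
    have : b1 - b2 = -(b1 * b2) * (a1 - a2) := by
      linear_combination b2 * hb1 - b1 * hb2
    change X ^ δ ∣ b1 - b2
    rw [this]
    exact Dvd.dvd.mul_left h12 _
  rw [isUnit_iff_exists_inv]
  refine ⟨⟨(b1, b2), hb⟩, Subtype.ext ?_⟩
  change (a : PowerSeries k × PowerSeries k) * (b1, b2) = 1
  apply Prod.ext
  · change (a : PowerSeries k × PowerSeries k).1 * b1 = 1
    rw [← ha1]
    exact hb1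
  · change (a : PowerSeries k × PowerSeries k).2 * b2 = 1
    rw [← ha2]
    exact hb2

theorem isLocalRing (h : IsTB O δ) (hδ : 1 ≤ δ) : IsLocalRing O := by
  haveI : Nontrivial O := ⟨⟨0, 1, fun h01 => by
    have := congrArg (fun z : O => (z : PowerSeries k × PowerSeries k).1) h01
    simp at this⟩⟩
  apply IsLocalRing.of_nonunits_add
  intro a b ha hb
  have ha0 : constantCoeff (a : PowerSeries k × PowerSeries k).1 = 0 := by
    by_contra hne
    exact ha (isUnit_of_constantCoeff_ne_zero h hδ a hne)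
  have hb0 : constantCoeff (b : PowerSeries k × PowerSeries k).1 = 0 := by
    by_contra hne
    exact hb (isUnit_of_constantCoeff_ne_zero h hδ b hne)
  apply not_isUnit_of_constantCoeff_eq_zero
  change constantCoeff ((a : PowerSeries k × PowerSeries k).1 +
    (b : PowerSeries k × PowerSeries k).1) = 0
  rw [map_add, ha0, hb0, add_zero]

theorem length_k_eq [IsLocalRing O] (N : Type*) [AddCommGroup N] [Module O N] [Module k N]
    [IsScalarTower k O N] : Module.length k N = Module.length O N := by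
  apply length_k_eq_of_residue (fun a : O => constantCoeff (a : PowerSeries k × PowerSeries k).1)
  intro a
  apply not_isUnit_of_constantCoeff_eq_zero
  change constantCoeff ((a : PowerSeries k × PowerSeries k).1 -
    (algebraMap k (PowerSeries k × PowerSeries k)
      (constantCoeff (a : PowerSeries k × PowerSeries k).1)).1) = 0
  rw [map_sub, Prod.algebraMap_apply]
  simp

/-- the submodule `{(f, g) | t^a ∣ f, t^a ∣ g, t^b ∣ f - g}` -/
def WW (h : IsTB O δ) (a b : ℕ) (hab : b ≤ a + δ) :
    Submodule O (PowerSeries k × PowerSeries k) where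
  carrier := {f | X ^ a ∣ f.1 ∧ X ^ a ∣ f.2 ∧ X ^ b ∣ f.1 - f.2}
  add_mem' := by
    rintro f g ⟨hf1, hf2, hf3⟩ ⟨hg1, hg2, hg3⟩
    refine ⟨dvd_add hf1 hg1, dvd_add hf2 hg2, ?_⟩
    have : (f + g).1 - (f + g).2 = (f.1 - f.2) + (g.1 - g.2) := by
      simp only [Prod.fst_add, Prod.snd_add]
      ring
    rw [this]
    exact dvd_add hf3 hg3
  zero_mem' := ⟨dvd_zero _, dvd_zero _, by simp⟩
  smul_mem' := by
    rintro o f ⟨hf1, hf2, hf3⟩
    have ho : X ^ δ ∣ (o : PowerSeries k × PowerSeries k).1 -
        (o : PowerSeries k × PowerSeries k).2 := (mem_iff h _).mp o.2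
    change X ^ a ∣ ((o : PowerSeries k × PowerSeries k) * f).1 ∧
      X ^ a ∣ ((o : PowerSeries k × PowerSeries k) * f).2 ∧
      X ^ b ∣ ((o : PowerSeries k × PowerSeries k) * f).1 -
        ((o : PowerSeries k × PowerSeries k) * f).2
    rw [Prod.fst_mul, Prod.snd_mul]
    refine ⟨Dvd.dvd.mul_left hf1 _, Dvd.dvd.mul_left hf2 _, ?_⟩
    have : (o : PowerSeries k × PowerSeries k).1 * f.1 -
        (o : PowerSeries k × PowerSeries k).2 * f.2 =
        (o : PowerSeries k × PowerSeries k).1 * (f.1 - f.2) +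
        ((o : PowerSeries k × PowerSeries k).1 - (o : PowerSeries k × PowerSeries k).2) * f.2 := by
      ring
    rw [this]
    apply dvd_add (Dvd.dvd.mul_left hf3 _)
    refine dvd_trans (pow_dvd_pow X (by omega : b ≤ δ + a)) ?_
    rw [pow_add]
    exact mul_dvd_mul ho hf2

theorem mem_WW (h : IsTB O δ) (a b : ℕ) (hab : b ≤ a + δ)
    (f : PowerSeries k × PowerSeries k) :
    f ∈ WW h a b hab ↔ X ^ a ∣ f.1 ∧ X ^ a ∣ f.2 ∧ X ^ b ∣ f.1 - f.2 := Iff.rfl

/-- truncation map computing the colength of `WW a b` -/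
noncomputable def TT (k : Type u) [Field k] (a b : ℕ) :
    (PowerSeries k × PowerSeries k) →ₗ[k] (Fin a → k) × (Fin b → k) where
  toFun f := (fun n => coeff (n : ℕ) f.2, fun n => coeff (n : ℕ) (f.1 - f.2))
  map_add' f g := by
    apply Prod.ext
    · funext n
      simp
    · funext n
      simp only [Prod.fst_add, Prod.snd_add, map_add, map_sub, Pi.add_apply]
      ring
  map_smul' c f := by
    apply Prod.ext
    · funext n
      simp
    · funext n
      simp [mul_sub]

theorem TT_surjective (a b : ℕ) : Function.Surjective (TT k a b) := by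
  rintro ⟨u, v⟩
  refine ⟨(PowerSeries.mk (fun n => if hn : n < a then u ⟨n, hn⟩ else 0) +
    PowerSeries.mk (fun n => if hn : n < b then v ⟨n, hn⟩ else 0),
    PowerSeries.mk (fun n => if hn : n < a then u ⟨n, hn⟩ else 0)), ?_⟩
  apply Prod.ext
  · funext n
    change coeff (n : ℕ) (PowerSeries.mk (fun n => if hn : n < a then u ⟨n, hn⟩ else 0)) = u n
    rw [coeff_mk, dif_pos n.2]
  · funext n
    change coeff (n : ℕ) (PowerSeries.mk (fun n => if hn : n < a then u ⟨n, hn⟩ else 0) +
      PowerSeries.mk (fun n => if hn : n < b then v ⟨n, hn⟩ else 0) -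
      PowerSeries.mk (fun n => if hn : n < a then u ⟨n, hn⟩ else 0)) = v n
    rw [add_sub_cancel_left, coeff_mk, dif_pos n.2]

theorem ker_TT (h : IsTB O δ) (a b : ℕ) (hab : b ≤ a + δ) (hle : a ≤ b) :
    LinearMap.ker (TT k a b) = (WW h a b hab).restrictScalars k := by
  ext f
  rw [LinearMap.mem_ker, Submodule.restrictScalars_mem, mem_WW, X_pow_dvd_iff, X_pow_dvd_iff]
  constructor
  · intro hf
    have h1 : ∀ n : Fin a, coeff (n : ℕ) f.2 = 0 := fun n => congrFun (congrArg Prod.fst hf) n
    have h2 : ∀ n : Fin b, coeff (n : ℕ) (f.1 - f.2) = 0 :=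
      fun n => congrFun (congrArg Prod.snd hf) n
    have h3 : ∀ m < a, coeff m f.2 = 0 := fun m hm => h1 ⟨m, hm⟩
    have h4 : ∀ m < b, coeff m (f.1 - f.2) = 0 := fun m hm => h2 ⟨m, hm⟩
    refine ⟨?_, h3, X_pow_dvd_iff.mpr h4⟩
    intro m hm
    have e : f.1 = f.2 + (f.1 - f.2) := by ring
    rw [e, map_add, h3 m hm, h4 m (by omega), add_zero]
  · rintro ⟨-, h3, h4⟩
    rw [X_pow_dvd_iff] at h4
    apply Prod.ext
    · funext n
      exact h3 n n.2
    · funext n
      exact h4 n n.2

theorem length_quot_WW (h : IsTB O δ) [IsLocalRing O] (a b : ℕ) (hab : b ≤ a + δ)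
    (hle : a ≤ b) :
    Module.length O ((PowerSeries k × PowerSeries k) ⧸ WW h a b hab) = ((a + b : ℕ) : ℕ∞) := by
  rw [← length_k_eq ((PowerSeries k × PowerSeries k) ⧸ WW h a b hab),
    ← (Submodule.Quotient.restrictScalarsEquiv k (WW h a b hab)).length_eq,
    ← (Submodule.quotEquivOfEq _ _ (ker_TT h a b hab hle)).length_eq,
    (LinearMap.quotKerEquivOfSurjective _ (TT_surjective a b)).length_eq]
  simp

end Groth.Agent.Lib.helper15.TwoBranch
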