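import Mathlib
import Groth.Agent.Lib.Helper15.TwoGenExt2

/-!
# `Ext¹_A(M, N)` for a two-generated module, part 5: generators `u`, `u g` with `u` regular (helper15)
-/

set_option autoImplicit false
set_option linter.style.haveILetI false

universe u

namespace Groth.Agent.Lib.helper15.TwoGenExt

open CategoryTheory Groth.Agent.Lib.helper15.RelLen Groth.Agent.Lib.helper19.ExtLoc
  Groth.Agent.Lib.helper15.PSCan

variable {R B : Type u} [CommRing R] [CommRing B] [Algebra R B] {A : Subalgebra R B}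
  (g x₀ : B) (hxA : ∀ b : B, x₀ * b ∈ A)
  {Mm Nm : Type u} [AddCommGroup Mm] [Module A Mm] [AddCommGroup Nm] [Module A Nm]
  (ιM : Mm →ₗ[A] B) (ιN : Nm →ₗ[A] B) (v₀ v₁ : Mm)
  (hx₀ : ∀ b b' : B, x₀ * b = x₀ * b' → b = b')
  (hιM : Function.Injective ιM) (hιN : Function.Injective ιN)
  (hspan : Submodule.span A {v₀, v₁} = ⊤)

include ιM in
theorem exact_rho' (u : B) (hu : ∀ b : B, u * b = 0 → b = 0) (hιM : Function.Injective ιM)
    (hv₀ : ιM v₀ = u) (hv₁ : ιM v₁ = u * g) :
    Function.Exact (rho (A := A) g) (pres v₀ v₁) := by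
  rintro ⟨a, b⟩
  rw [pres_apply]
  constructor
  · intro hab
    have h1 := congrArg ιM hab
    rw [map_add, map_smul, map_smul, hv₀, hv₁, map_zero, smul_def, smul_def] at h1
    have h2 : (a : B) + (b : B) * g = 0 := by
      apply hu
      rw [← h1]
      ring
    have hb : b ∈ II A g := by
      change (b : B) * g ∈ A
      have : (b : B) * g = -(a : B) := by
        rw [eq_neg_iff_add_eq_zero, add_comm]
        exact h2
      rw [this]
      exact A.neg_mem a.2
    refine ⟨⟨b, hb⟩, ?_⟩
    apply Prod.ext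
    · apply Subtype.ext
      change -(((b : A) : B) * g) = (a : B)
      rw [neg_eq_iff_add_eq_zero, add_comm]
      exact h2
    · rfl
  · rintro ⟨x, hx⟩
    have h1 : a = -(mulG g x) := (congrArg Prod.fst hx).symm
    have h2 : b = (x : A) := (congrArg Prod.snd hx).symm
    apply hιM
    rw [map_add, map_smul, map_smul, hv₀, hv₁, map_zero, smul_def, smul_def, h1, h2]
    change -(((x : A) : B) * g) * u + ((x : A) : B) * (u * g) = 0
    ring

include hx₀ hιN in
theorem ker_bdry' (hex : Function.Exact (rho (A := A) g) (pres v₀ v₁)) :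
    LinearMap.ker (bdry Nm (rho (A := A) g) (pres v₀ v₁) (rho_injective g)
      (pres_surjective v₀ v₁ hspan) hex) =
      (LinearMap.range (Lam g x₀ ιN)).comap (Theta g x₀ hxA ιN) := by
  ext ψ
  rw [LinearMap.mem_ker, bdry_eq_zero_iff, Submodule.mem_comap, LinearMap.mem_range]
  constructor
  · rintro ⟨φ, rfl⟩
    exact ⟨_, (Theta_comp_rho g x₀ hxA ιN φ).symm⟩
  · rintro ⟨⟨p, q⟩, hpq⟩
    refine ⟨LinearMap.coprod (LinearMap.toSpanSingleton A Nm p)
      (LinearMap.toSpanSingleton A Nm q), ?_⟩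
    apply Theta_injective g x₀ hxA ιN hx₀ hιN
    rw [Theta_comp_rho, ← hpq]
    congr 2 <;> simp

include hxA hx₀ hιN hspan in
/-- the length formula, for an arbitrary proof of exactness of the presentation -/
theorem length_formula' (hex : Function.Exact (rho (A := A) g) (pres v₀ v₁)) :
    Module.length A (B ⧸ LinearMap.range (Lam (A := A) g x₀ ιN)) =
      Module.length A (B ⧸ YY g x₀ ιN) +
        Module.length A (Abelian.Ext.{u} (ModuleCat.of A Mm) (ModuleCat.of A Nm) 1) := by
  have hsurj := bdry_surjective Nm (rho (A := A) g) (pres v₀ v₁) (rho_injective g)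
    (pres_surjective v₀ v₁ hspan) hex
  have e1 := (LinearMap.quotKerEquivOfSurjective _ hsurj).length_eq
  rw [← e1, ker_bdry' g x₀ hxA ιN v₀ v₁ hx₀ hιN hspan hex, ← rl_top', ← rl_top',
    ← rl_top', rl_map, Submodule.map_top, range_Theta g x₀ hxA ιN hx₀ hιN]
  exact rl_add (Lam_le_YY g x₀ ιN) le_top

end Groth.Agent.Lib.helper15.TwoGenExt
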