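import Mathlib
import Groth.Agent.Lib.Helper15.TwoBranch1
import Groth.Agent.Lib.Helper15.TwoGenExt5

/-!
# `Ext¹` between the rank one modules of the two-branch ring `A_{2δ-1}` (helper15)

The modules `Z`, `Y` of `TwoGenExt` for `M = I_i`, `N = I_j` over
`O = {(f, g) | t^δ ∣ f - g}`, and the resulting length of `Ext¹_O(I_i, I_j)`.
-/

set_option autoImplicit false
set_option linter.style.haveILetI false

universe u

namespace Groth.Agent.Lib.helper15.TwoBranch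

open PowerSeries CategoryTheory

variable {k : Type u} [Field k] {O : Subalgebra k (PowerSeries k × PowerSeries k)} {δ : ℕ}
  (h : IsTB O δ)

include h in
theorem diag_mem (c : PowerSeries k) : ((c, c) : PowerSeries k × PowerSeries k) ∈ O := by
  rw [mem_iff h]
  change X ^ δ ∣ c - c
  rw [sub_self]
  exact dvd_zero _

theorem pow_split {a b : ℕ} (hab : a ≤ b) : (X : PowerSeries k) ^ b = X ^ a * X ^ (b - a) := by
  rw [← pow_add]
  congr 1
  omega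

theorem cancel_pow {a : ℕ} {f g : PowerSeries k} (hfg : X ^ a * f = X ^ a * g) : f = g :=
  X_pow_mul_cancel hfg

/-- `I_j = WW j δ` -/
theorem span_eq_WW (j : ℕ) (hj : j ≤ δ) :
    Submodule.span O ({((X : PowerSeries k) ^ j, (X : PowerSeries k) ^ j),
      ((X : PowerSeries k) ^ δ, 0)} : Set (PowerSeries k × PowerSeries k)) =
      WW h j δ (by omega) := by
  apply le_antisymm
  · rw [Submodule.span_le]
    rintro _ (rfl | rfl)
    · refine ⟨dvd_rfl, dvd_rfl, ?_⟩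
      change X ^ δ ∣ (X : PowerSeries k) ^ j - X ^ j
      rw [sub_self]
      exact dvd_zero _
    · refine ⟨pow_dvd_pow X hj, dvd_zero _, ?_⟩
      change X ^ δ ∣ (X : PowerSeries k) ^ δ - 0
      rw [sub_zero]
  · rintro ⟨f₁, f₂⟩ ⟨⟨c₁, hc₁⟩, ⟨c₂, hc₂⟩, ⟨d, hd⟩⟩
    simp only at hc₁ hc₂ hd
    rw [Submodule.mem_span_pair]
    refine ⟨⟨(c₂, c₂), diag_mem h c₂⟩, ⟨(d, d), diag_mem h d⟩, ?_⟩
    rw [smul_def, smul_def]
    change ((c₂, c₂) : PowerSeries k × PowerSeries k) * (X ^ j, X ^ j) + (d, d) * (X ^ δ, 0) =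
      (f₁, f₂)
    rw [Prod.mk_mul_mk, Prod.mk_mul_mk, Prod.mk_add_mk]
    apply Prod.ext
    · change c₂ * X ^ j + d * X ^ δ = f₁
      linear_combination (-1 : PowerSeries k) * hc₂ - hd
    · change c₂ * X ^ j + d * 0 = f₂
      rw [hc₂]
      ring

include h in
/-- the ideal `(O : g) ∩ O` for `g = (t^{δ-i}, 0)` -/
theorem mem_II_iff (i : ℕ) (hi : i ≤ δ) (a : O) :
    a ∈ TwoGenExt.II O (((X : PowerSeries k) ^ (δ - i), 0) : PowerSeries k × PowerSeries k) ↔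
      X ^ i ∣ (a : PowerSeries k × PowerSeries k).1 := by
  change (a : PowerSeries k × PowerSeries k) * ((X : PowerSeries k) ^ (δ - i), 0) ∈ O ↔ _
  rw [mem_iff h, Prod.fst_mul, Prod.snd_mul]
  simp only [mul_zero, sub_zero]
  constructor
  · rintro ⟨d, hd⟩
    refine ⟨d, ?_⟩
    apply cancel_pow (a := δ - i)
    rw [mul_comm, hd, pow_split hi]
    ring
  · rintro ⟨c, hc⟩
    rw [hc, pow_split hi]
    exact ⟨c, by ring⟩

section NN

variable {Nm : Type u} [AddCommGroup Nm] [Module O Nm]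
  (ιN : Nm →ₗ[O] PowerSeries k × PowerSeries k) (j : ℕ)
  (hN : LinearMap.range ιN = WW h j δ (by omega))

include hN in
theorem ιN_mem (nn : Nm) : X ^ j ∣ (ιN nn).1 ∧ X ^ j ∣ (ιN nn).2 ∧
    X ^ δ ∣ (ιN nn).1 - (ιN nn).2 := by
  have : ιN nn ∈ WW h j δ (by omega) := hN ▸ LinearMap.mem_range_self ιN nn
  exact this

include hN in
theorem exists_ιN (f₁ f₂ : PowerSeries k) (h1 : X ^ j ∣ f₁) (h2 : X ^ j ∣ f₂)
    (h3 : X ^ δ ∣ f₁ - f₂) : ∃ nn : Nm, ιN nn = (f₁, f₂) := by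
  have : ((f₁, f₂) : PowerSeries k × PowerSeries k) ∈ LinearMap.range ιN := by
    rw [hN]
    exact ⟨h1, h2, h3⟩
  exact this

include hN in
theorem range_Lam_eq (m e : ℕ) (he1 : e ≤ δ) (he2 : e ≤ m + j) (he3 : e = δ ∨ e = m + j) :
    LinearMap.range (TwoGenExt.Lam (A := O)
      (((X : PowerSeries k) ^ m, 0) : PowerSeries k × PowerSeries k) (X ^ δ, X ^ δ) ιN) =
      WW h (δ + j) (δ + e) (by omega) := by
  apply le_antisymm
  · rintro _ ⟨⟨p, q⟩, rfl⟩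
    obtain ⟨hP1, hP2, hP3⟩ := ιN_mem h ιN j hN p
    obtain ⟨hQ1, hQ2, hQ3⟩ := ιN_mem h ιN j hN q
    rw [TwoGenExt.Lam_apply]
    obtain ⟨⟨P1, P2⟩, hPe⟩ : ∃ P : PowerSeries k × PowerSeries k, P = ιN p := ⟨_, rfl⟩
    obtain ⟨⟨Q1, Q2⟩, hQe⟩ : ∃ Q : PowerSeries k × PowerSeries k, Q = ιN q := ⟨_, rfl⟩
    rw [← hPe] at hP1 hP2 hP3
    rw [← hQe] at hQ1 hQ2 hQ3
    simp only at hP1 hP2 hP3 hQ1 hQ2 hQ3
    change ((X : PowerSeries k) ^ δ, (X : PowerSeries k) ^ δ) *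
      (ιN q - ((X : PowerSeries k) ^ m, 0) * ιN p) ∈ _
    rw [← hPe, ← hQe, Prod.mk_mul_mk, Prod.mk_sub_mk, Prod.mk_mul_mk]
    refine ⟨?_, ?_, ?_⟩
    · change X ^ (δ + j) ∣ X ^ δ * (Q1 - X ^ m * P1)
      rw [pow_add]
      exact mul_dvd_mul_left _ (dvd_sub hQ1 (Dvd.dvd.mul_left hP1 _))
    · change X ^ (δ + j) ∣ X ^ δ * (Q2 - 0 * P2)
      rw [pow_add, zero_mul, sub_zero]
      exact mul_dvd_mul_left _ hQ2
    · change X ^ (δ + e) ∣ X ^ δ * (Q1 - X ^ m * P1) - X ^ δ * (Q2 - 0 * P2)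
      have : (X : PowerSeries k) ^ δ * (Q1 - X ^ m * P1) - X ^ δ * (Q2 - 0 * P2) =
          X ^ δ * ((Q1 - Q2) - X ^ m * P1) := by ring
      rw [this, pow_add]
      apply mul_dvd_mul_left
      apply dvd_sub (dvd_trans (pow_dvd_pow X he1) hQ3)
      refine dvd_trans (pow_dvd_pow X he2) ?_
      rw [pow_add]
      exact mul_dvd_mul_left _ hP1
  · rintro ⟨f₁, f₂⟩ ⟨⟨c₁, hc₁⟩, ⟨c₂, hc₂⟩, ⟨d, hd⟩⟩
    simp only at hc₁ hc₂ hd
    rcases he3 with rfl | rfl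
    · -- `e = δ`
      have h3 : (X : PowerSeries k) ^ e ∣ X ^ j * c₁ - X ^ j * c₂ := by
        refine ⟨d, ?_⟩
        apply cancel_pow (a := e)
        linear_combination hd - hc₁ + hc₂
      obtain ⟨q, hq⟩ := exists_ιN h ιN j hN (X ^ j * c₁) (X ^ j * c₂) (Dvd.intro _ rfl)
        (Dvd.intro _ rfl) h3
      refine ⟨(0, q), ?_⟩
      rw [TwoGenExt.Lam_apply]
      change ((X : PowerSeries k) ^ e, (X : PowerSeries k) ^ e) *
        (ιN q - ((X : PowerSeries k) ^ m, 0) * ιN 0) = (f₁, f₂)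
      rw [hq, map_zero, mul_zero, sub_zero, Prod.mk_mul_mk, hc₁, hc₂]
      apply Prod.ext
      · change (X : PowerSeries k) ^ e * (X ^ j * c₁) = X ^ (e + j) * c₁
        ring
      · change (X : PowerSeries k) ^ e * (X ^ j * c₂) = X ^ (e + j) * c₂
        ring
    · -- `e = m + j`
      have h3 : c₁ - c₂ = X ^ m * d := by
        apply cancel_pow (a := δ + j)
        linear_combination hd - hc₁ + hc₂
      obtain ⟨q, hq⟩ := exists_ιN h ιN j hN (X ^ j * c₂) (X ^ j * c₂) (Dvd.intro _ rfl)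
        (Dvd.intro _ rfl) (by rw [sub_self]; exact dvd_zero _)
      obtain ⟨p, hp⟩ := exists_ιN h ιN j hN (-(X ^ j * d)) (-(X ^ j * d))
        ((Dvd.intro _ rfl).neg_right) ((Dvd.intro _ rfl).neg_right)
        (by rw [sub_self]; exact dvd_zero _)
      refine ⟨(p, q), ?_⟩
      rw [TwoGenExt.Lam_apply]
      change ((X : PowerSeries k) ^ δ, (X : PowerSeries k) ^ δ) *
        (ιN q - ((X : PowerSeries k) ^ m, 0) * ιN p) = (f₁, f₂)
      rw [hq, hp, Prod.mk_mul_mk, Prod.mk_sub_mk, Prod.mk_mul_mk, hc₁, hc₂]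
      apply Prod.ext
      · change (X : PowerSeries k) ^ δ * (X ^ j * c₂ - X ^ m * -(X ^ j * d)) = X ^ (δ + j) * c₁
        have : c₁ = c₂ + X ^ m * d := by rw [← h3]; ring
        rw [this]
        ring
      · change (X : PowerSeries k) ^ δ * (X ^ j * c₂ - 0 * -(X ^ j * d)) = X ^ (δ + j) * c₂
        ring

omit h in
/-- division by `x₀ = (t^δ, t^δ)` -/
theorem exists_x0_mul (a b : ℕ) (f₁ f₂ : PowerSeries k) (h1 : X ^ (δ + a) ∣ f₁)
    (h2 : X ^ (δ + a) ∣ f₂) (h3 : X ^ (δ + b) ∣ f₁ - f₂) :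
    ∃ n₁ n₂ : PowerSeries k, X ^ a ∣ n₁ ∧ X ^ a ∣ n₂ ∧ X ^ b ∣ n₁ - n₂ ∧
      X ^ δ * n₁ = f₁ ∧ X ^ δ * n₂ = f₂ := by
  obtain ⟨c₁, hc₁⟩ := h1
  obtain ⟨c₂, hc₂⟩ := h2
  obtain ⟨d, hd⟩ := h3
  refine ⟨X ^ a * c₁, X ^ a * c₂, Dvd.intro _ rfl, Dvd.intro _ rfl, ⟨d, ?_⟩, ?_, ?_⟩
  · apply cancel_pow (a := δ)
    linear_combination hd - hc₁ + hc₂
  · rw [hc₁]
    ring
  · rw [hc₂]
    ring

include hN in
theorem YY_eq (hj : j ≤ δ) (i a' : ℕ) (hi : i ≤ δ) (ha1 : δ ≤ a') (ha2 : δ + j ≤ a' + i)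
    (ha3 : a' = δ ∨ a' + i = δ + j) :
    TwoGenExt.YY (A := O)
      (((X : PowerSeries k) ^ (δ - i), 0) : PowerSeries k × PowerSeries k) (X ^ δ, X ^ δ) ιN =
      WW h a' (2 * δ - i) (by omega) := by
  apply le_antisymm
  · rintro ⟨y₁, y₂⟩ hy
    -- three test elements of `II`
    have hx1O : (((X : PowerSeries k) ^ i, (X : PowerSeries k) ^ i) :
        PowerSeries k × PowerSeries k) ∈ O := diag_mem h _
    have hx2O : (((X : PowerSeries k) ^ δ, 0) : PowerSeries k × PowerSeries k) ∈ O := by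
      rw [mem_iff h]
      change X ^ δ ∣ (X : PowerSeries k) ^ δ - 0
      rw [sub_zero]
    have hx3O : ((0, (X : PowerSeries k) ^ δ) : PowerSeries k × PowerSeries k) ∈ O := by
      rw [mem_iff h]
      change X ^ δ ∣ 0 - (X : PowerSeries k) ^ δ
      rw [zero_sub]
      exact (dvd_refl _).neg_right
    have hx1I : (⟨_, hx1O⟩ : O) ∈ TwoGenExt.II O
        (((X : PowerSeries k) ^ (δ - i), 0) : PowerSeries k × PowerSeries k) :=
      (mem_II_iff h i hi _).mpr dvd_rfl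
    have hx2I : (⟨_, hx2O⟩ : O) ∈ TwoGenExt.II O
        (((X : PowerSeries k) ^ (δ - i), 0) : PowerSeries k × PowerSeries k) :=
      (mem_II_iff h i hi _).mpr (pow_dvd_pow X hi)
    have hx3I : (⟨_, hx3O⟩ : O) ∈ TwoGenExt.II O
        (((X : PowerSeries k) ^ (δ - i), 0) : PowerSeries k × PowerSeries k) :=
      (mem_II_iff h i hi _).mpr (dvd_zero _)
    obtain ⟨n1, hn1⟩ := hy ⟨_, hx1I⟩
    obtain ⟨n2, hn2⟩ := hy ⟨_, hx2I⟩
    obtain ⟨n3, hn3⟩ := hy ⟨_, hx3I⟩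
    obtain ⟨⟨c1, hN1a⟩, -, ⟨d1, hN1c⟩⟩ := ιN_mem h ιN j hN n1
    obtain ⟨-, -, hN2c⟩ := ιN_mem h ιN j hN n2
    obtain ⟨-, -, hN3c⟩ := ιN_mem h ιN j hN n3
    obtain ⟨⟨A1, A2⟩, hAe⟩ : ∃ P : PowerSeries k × PowerSeries k, P = ιN n1 := ⟨_, rfl⟩
    obtain ⟨⟨B1, B2⟩, hBe⟩ : ∃ P : PowerSeries k × PowerSeries k, P = ιN n2 := ⟨_, rfl⟩
    obtain ⟨⟨C1, C2⟩, hCe⟩ : ∃ P : PowerSeries k × PowerSeries k, P = ιN n3 := ⟨_, rfl⟩
    rw [← hAe] at hN1a hN1c
    rw [← hBe] at hN2c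
    rw [← hCe] at hN3c
    simp only at hN1a hN1c hN2c hN3c
    change ((X : PowerSeries k) ^ δ, (X : PowerSeries k) ^ δ) * ιN n1 =
      ((X : PowerSeries k) ^ i, (X : PowerSeries k) ^ i) * (y₁, y₂) at hn1
    change ((X : PowerSeries k) ^ δ, (X : PowerSeries k) ^ δ) * ιN n2 =
      ((X : PowerSeries k) ^ δ, 0) * (y₁, y₂) at hn2
    change ((X : PowerSeries k) ^ δ, (X : PowerSeries k) ^ δ) * ιN n3 =
      (0, (X : PowerSeries k) ^ δ) * (y₁, y₂) at hn3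
    rw [← hAe, Prod.mk_mul_mk, Prod.mk_mul_mk, Prod.mk.injEq] at hn1
    rw [← hBe, Prod.mk_mul_mk, Prod.mk_mul_mk, Prod.mk.injEq] at hn2
    rw [← hCe, Prod.mk_mul_mk, Prod.mk_mul_mk, Prod.mk.injEq] at hn3
    obtain ⟨hn1a, hn1b⟩ := hn1
    obtain ⟨hn2a, hn2b⟩ := hn2
    obtain ⟨hn3a, hn3b⟩ := hn3
    -- consequences
    have hB1 : B1 = y₁ := cancel_pow hn2a
    have hB2 : B2 = 0 := cancel_pow (a := δ) (by rw [hn2b]; ring)
    have hC1 : C1 = 0 := cancel_pow (a := δ) (by rw [hn3a]; ring)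
    have hC2 : C2 = y₂ := cancel_pow hn3b
    have hy1δ : (X : PowerSeries k) ^ δ ∣ y₁ := by
      rw [hB1, hB2, sub_zero] at hN2c
      exact hN2c
    have hy2δ : (X : PowerSeries k) ^ δ ∣ y₂ := by
      rw [hC1, hC2, zero_sub] at hN3c
      exact (dvd_neg.mp hN3c)
    have hsplit : (X : PowerSeries k) ^ (δ + j) = X ^ i * X ^ (δ + j - i) :=
      pow_split (by omega)
    have hy1j : (X : PowerSeries k) ^ (δ + j - i) ∣ y₁ := by
      refine ⟨c1, ?_⟩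
      apply cancel_pow (a := i)
      rw [← hn1a, hN1a, ← mul_assoc, ← mul_assoc, ← pow_add, ← hsplit]
    have hdiff : (X : PowerSeries k) ^ (2 * δ - i) ∣ y₁ - y₂ := by
      refine ⟨d1, ?_⟩
      apply cancel_pow (a := i)
      have e2 : (X : PowerSeries k) ^ (2 * δ) = X ^ i * X ^ (2 * δ - i) := pow_split (by omega)
      have e3 : (X : PowerSeries k) ^ (2 * δ) = X ^ δ * X ^ δ := by
        rw [← pow_add]
        congr 1
        omega
      rw [← mul_assoc, ← e2, e3, mul_sub, ← hn1a, ← hn1b, ← mul_sub, hN1c]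
      ring
    have hy2j : (X : PowerSeries k) ^ (δ + j - i) ∣ y₂ := by
      have : y₂ = y₁ - (y₁ - y₂) := by ring
      rw [this]
      exact dvd_sub hy1j (dvd_trans (pow_dvd_pow X (by omega)) hdiff)
    refine ⟨?_, ?_, hdiff⟩
    · rcases ha3 with rfl | ha3
      · exact hy1δ
      · have : a' = δ + j - i := by omega
        rw [this]
        exact hy1j
    · rcases ha3 with rfl | ha3
      · exact hy2δ
      · have : a' = δ + j - i := by omega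
        rw [this]
        exact hy2j
  · rintro ⟨y₁, y₂⟩ ⟨hy1, hy2, hy3⟩
    simp only at hy1 hy2 hy3
    intro x
    have hxO : X ^ δ ∣ ((x : O) : PowerSeries k × PowerSeries k).1 -
        ((x : O) : PowerSeries k × PowerSeries k).2 := (mem_iff h _).mp (x : O).2
    have hxI : X ^ i ∣ ((x : O) : PowerSeries k × PowerSeries k).1 :=
      (mem_II_iff h i hi _).mp x.2
    obtain ⟨⟨x₁, x₂⟩, hxe⟩ : ∃ P : PowerSeries k × PowerSeries k,
      P = ((x : O) : PowerSeries k × PowerSeries k) := ⟨_, rfl⟩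
    rw [← hxe] at hxO hxI
    simp only at hxO hxI
    have hx2 : X ^ i ∣ x₂ := by
      have : x₂ = x₁ - (x₁ - x₂) := by ring
      rw [this]
      exact dvd_sub hxI (dvd_trans (pow_dvd_pow X hi) hxO)
    have h1 : X ^ (δ + j) ∣ x₁ * y₁ := by
      refine dvd_trans (pow_dvd_pow X (by omega : δ + j ≤ i + a')) ?_
      rw [pow_add]
      exact mul_dvd_mul hxI hy1
    have h2 : X ^ (δ + j) ∣ x₂ * y₂ := by
      refine dvd_trans (pow_dvd_pow X (by omega : δ + j ≤ i + a')) ?_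
      rw [pow_add]
      exact mul_dvd_mul hx2 hy2
    have h3 : X ^ (δ + δ) ∣ x₁ * y₁ - x₂ * y₂ := by
      have : x₁ * y₁ - x₂ * y₂ = x₁ * (y₁ - y₂) + (x₁ - x₂) * y₂ := by ring
      rw [this]
      apply dvd_add
      · refine dvd_trans (pow_dvd_pow X (by omega : δ + δ ≤ i + (2 * δ - i))) ?_
        rw [pow_add]
        exact mul_dvd_mul hxI hy3
      · refine dvd_trans (pow_dvd_pow X (by omega : δ + δ ≤ δ + a')) ?_
        rw [pow_add]
        exact mul_dvd_mul hxO hy2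
    obtain ⟨n₁, n₂, hn1, hn2, hn3, e1, e2⟩ := exists_x0_mul j δ _ _ h1 h2 h3
    obtain ⟨nn, hnn⟩ := exists_ιN h ιN j hN n₁ n₂ hn1 hn2 hn3
    refine ⟨nn, ?_⟩
    change ((X : PowerSeries k) ^ δ, (X : PowerSeries k) ^ δ) * ιN nn =
      ((x : O) : PowerSeries k × PowerSeries k) * (y₁, y₂)
    rw [hnn, ← hxe, Prod.mk_mul_mk, Prod.mk_mul_mk, e1, e2]

end NN

end Groth.Agent.Lib.helper15.TwoBranch
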