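import Mathlib
import Groth.Agent.Lib.Helper15.TwoGenExt2
import Groth.Agent.Lib.Helper15.CubExt4

/-!
# Monomial subalgebras of `k[[t]]` and their monomial modules (helper15)

`A ⊆ k[[t]]` with `f ∈ A ↔ supp f ⊆ Γ` (`IsMono A Γ`); `suppG h P hP` the `A`-submodule of power
series with support in `P`; lengths; the modules `Z`, `Y` of `TwoGenExt` for monomial data.
-/

set_option autoImplicit false
set_option linter.style.haveILetI false

universe u

namespace Groth.Agent.Lib.helper15.TwoGenExt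

open PowerSeries CategoryTheory Groth.Agent.Lib.helper15.RelLen Groth.Agent.Lib.helper15.PSCan

variable {k : Type u} [Field k] {A : Subalgebra k (PowerSeries k)} {Γ : ℕ → Prop}

/-- `A` is the monomial subalgebra with exponents in `Γ` -/
def IsMono (A : Subalgebra k (PowerSeries k)) (Γ : ℕ → Prop) : Prop :=
  ∀ f : PowerSeries k, f ∈ A ↔ ∀ m : ℕ, PowerSeries.coeff m f ≠ 0 → Γ m

theorem mem_of_le_order (h : IsMono A Γ) (c : ℕ) (hc : ∀ m, c ≤ m → Γ m) (f : PowerSeries k)
    (hf : (c : ℕ∞) ≤ order f) : f ∈ A := by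
  rw [h]
  intro m hm
  apply hc
  have h1 : order f ≤ m := order_le m hm
  exact_mod_cast hf.trans h1

theorem X_pow_mem (h : IsMono A Γ) {m : ℕ} (hm : Γ m) : (X : PowerSeries k) ^ m ∈ A := by
  rw [h]
  intro m' hm'
  rw [coeff_X_pow] at hm'
  by_cases hh : m' = m
  · rw [hh]
    exact hm
  · rw [if_neg hh] at hm'
    exact absurd rfl hm'

theorem finite_of_isMono (h : IsMono A Γ) (c : ℕ) (hc1 : 1 ≤ c) (hc : ∀ m, c ≤ m → Γ m) :
    Module.Finite A (PowerSeries k) := by
  obtain ⟨e, rfl⟩ : ∃ e, c = e + 1 := ⟨c - 1, by omega⟩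
  refine Module.Finite.of_surjective
    (Fintype.linearCombination A (fun j : Fin (e + 1) => (X : PowerSeries k) ^ (j : ℕ))) ?_
  intro f
  obtain ⟨g, hg⟩ := Groth.Agent.Lib.helper15.CubExt.exists_decomp
    (fun j : Fin (e + 1) => (j : ℕ)) Fin.val_injective (fun j => j.2) f
    (fun m hm _ => ⟨⟨m, hm⟩, rfl⟩)
  have hgA : X ^ (e + 1) * g ∈ A := by
    apply mem_of_le_order h (e + 1) hc
    rw [order_mul, order_X_pow]
    exact le_self_add
  refine ⟨fun j => ⟨C (coeff (j : ℕ) f) + (if j = 0 then X ^ (e + 1) * g else 0), ?_⟩, ?_⟩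
  · apply add_mem (Groth.Agent.Lib.helper15.CubExt.C_mem _)
    split_ifs
    · exact hgA
    · exact zero_mem _
  · rw [Fintype.linearCombination_apply]
    conv_rhs => rw [hg]
    change ∑ j : Fin (e + 1), (C (coeff (j : ℕ) f) + (if j = 0 then X ^ (e + 1) * g else 0)) *
      X ^ (j : ℕ) = _
    simp only [add_mul, Finset.sum_add_distrib]
    congr 1
    rw [Finset.sum_eq_single 0]
    · rw [if_pos rfl]
      simp
    · intro j _ hj
      rw [if_neg hj, zero_mul]
    · intro h0
      exact absurd (Finset.mem_univ 0) h0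

section suppG

variable (h : IsMono A Γ) (P : ℕ → Prop) (hP : ∀ m γ, P m → Γ γ → P (m + γ))

/-- the monomial submodule of power series whose support satisfies `P` -/
def suppG : Submodule A (PowerSeries k) where
  carrier := {f | ∀ m, coeff m f ≠ 0 → P m}
  add_mem' := by
    intro f g hf hg m hm
    rw [map_add] at hm
    by_cases h0 : coeff m f = 0
    · rw [h0, zero_add] at hm
      exact hg m hm
    · exact hf m h0
  zero_mem' := by
    intro m hm
    simp at hm
  smul_mem' := by
    intro a f hf m hm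
    rw [smul_def, coeff_mul] at hm
    obtain ⟨⟨p, q⟩, hpq, hne⟩ := Finset.exists_ne_zero_of_sum_ne_zero hm
    have hp : coeff p (a : PowerSeries k) ≠ 0 := left_ne_zero_of_mul hne
    have hq : coeff q f ≠ 0 := right_ne_zero_of_mul hne
    rw [Finset.HasAntidiagonal.mem_antidiagonal] at hpq
    rw [← hpq, add_comm]
    exact hP q p (hf q hq) ((h a).mp a.2 p hp)

theorem mem_suppG {f : PowerSeries k} : f ∈ suppG h P hP ↔ ∀ m, coeff m f ≠ 0 → P m := Iff.rfl

theorem X_pow_mem_suppG {m : ℕ} (hm : P m) : (X : PowerSeries k) ^ m ∈ suppG h P hP := by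
  intro m' hm'
  rw [coeff_X_pow] at hm'
  by_cases hh : m' = m
  · rw [hh]
    exact hm
  · rw [if_neg hh] at hm'
    exact absurd rfl hm'

theorem vA_suppG : vA A (suppG h P hP) = {m | P m} := by
  ext m
  constructor
  · rintro ⟨f, hf, hfm⟩
    exact hf m (Groth.Agent.Lib.helper27.PSLattice.coeff_ne_zero_of_order_eq hfm)
  · intro hm
    exact ⟨X ^ m, X_pow_mem_suppG h P hP hm, order_X_pow m⟩

theorem length_quot_suppG [Module.Finite A (PowerSeries k)] [IsLocalRing A] (c : ℕ)
    (hcΓ : ∀ m, c ≤ m → Γ m) (hc : ∀ m, c ≤ m → P m) :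
    Module.length A (PowerSeries k ⧸ suppG h P hP) = (({m | ¬ P m}.ncard : ℕ) : ℕ∞) := by
  have hbig : ∀ f : PowerSeries k, (c : ℕ∞) ≤ PowerSeries.order f → f ∈ A :=
    fun f hf => mem_of_le_order h c hcΓ f hf
  have hN : ∀ f : PowerSeries k, (c : ℕ∞) ≤ order f → f ∈ suppG h P hP := by
    intro f hf m hm
    apply hc
    have h1 : order f ≤ m := order_le m hm
    exact_mod_cast hf.trans h1
  have := (length_quot_eq A c hbig (suppG h P hP) hN).2
  rw [vA_suppG] at this
  exact this

/-- a power series with support in `c + P` is `X^c` times a power series with support in `P` -/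
theorem exists_eq_X_pow_mul (c : ℕ) (f : PowerSeries k)
    (hf : ∀ s, coeff s f ≠ 0 → c ≤ s ∧ P (s - c)) :
    ∃ z : PowerSeries k, f = X ^ c * z ∧ ∀ s, coeff s z ≠ 0 → P s := by
  have hdvd : X ^ c ∣ f := by
    rw [X_pow_dvd_iff]
    intro s hs
    by_contra hne
    have := (hf s hne).1
    omega
  obtain ⟨z, rfl⟩ := hdvd
  refine ⟨z, rfl, fun s hs => ?_⟩
  have := (hf (s + c) (by rw [coeff_X_pow_mul]; exact hs)).2
  rwa [Nat.add_sub_cancel] at this

end suppG

end Groth.Agent.Lib.helper15.TwoGenExt
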