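import Mathlib
import Groth.Agent.Lib.Helper15.TwoGenExt3

/-!
# `Ext¹` of monomial two-generated modules over monomial subalgebras of `k[[t]]` (helper15)

For `A ⊆ k[[t]]` monomial with semigroup `Γ`, conductor bound `c`, `M = A + A t^T`, and `N` the
monomial module with support `P`:
`#{s | ¬ ZP P c T s} = #{s | ¬ YP Γ P c T s} + ℓ(Ext¹_A(M, N))` (`length_ext_mono`).
-/

set_option autoImplicit false
set_option linter.style.haveILetI false

universe u

namespace Groth.Agent.Lib.helper15.TwoGenExt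

open PowerSeries CategoryTheory Groth.Agent.Lib.helper15.RelLen Groth.Agent.Lib.helper15.PSCan

variable {k : Type u} [Field k] {A : Subalgebra k (PowerSeries k)} {Γ : ℕ → Prop}

theorem isMono_zero (h : IsMono A Γ) : Γ 0 := by
  have h1 : (1 : PowerSeries k) ∈ A := A.one_mem
  rw [h] at h1
  apply h1 0
  rw [coeff_zero_one]
  exact one_ne_zero

theorem isMono_add (h : IsMono A Γ) {a b : ℕ} (ha : Γ a) (hb : Γ b) : Γ (a + b) := by
  have h1 : (X : PowerSeries k) ^ (a + b) ∈ A := by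
    rw [pow_add]
    exact A.mul_mem (X_pow_mem h ha) (X_pow_mem h hb)
  rw [h] at h1
  apply h1 (a + b)
  rw [coeff_X_pow, if_pos rfl]
  exact one_ne_zero

/-- split a power series with support in `P ∪ (m + Q)` -/
theorem exists_split (P Q : ℕ → Prop) (m : ℕ) (z : PowerSeries k)
    (hz : ∀ s, coeff s z ≠ 0 → P s ∨ (m ≤ s ∧ Q (s - m))) :
    ∃ z₁ w : PowerSeries k, z = z₁ + X ^ m * w ∧ (∀ s, coeff s z₁ ≠ 0 → P s) ∧
      (∀ s, coeff s w ≠ 0 → Q s) := by
  classical
  obtain ⟨w, hw, hwQ⟩ := exists_eq_X_pow_mul Q m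
    (z - PowerSeries.mk (fun s => if P s then coeff s z else 0)) (by
    intro s hs
    rw [map_sub, coeff_mk] at hs
    by_cases hPs : P s
    · rw [if_pos hPs, sub_self] at hs
      exact absurd rfl hs
    · rw [if_neg hPs, sub_zero] at hs
      rcases hz s hs with h1 | h1
      · exact absurd h1 hPs
      · exact h1)
  refine ⟨PowerSeries.mk (fun s => if P s then coeff s z else 0), w, ?_, ?_, hwQ⟩
  · rw [← hw]
    ring
  · intro s hs
    rw [coeff_mk] at hs
    by_contra hPs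
    rw [if_neg hPs] at hs
    exact hs rfl

/-- the support of `A + A t^T` -/
def PP (Γ : ℕ → Prop) (T : ℕ) (s : ℕ) : Prop := Γ s ∨ (T ≤ s ∧ Γ (s - T))

theorem hPP (h : IsMono A Γ) (T : ℕ) : ∀ m γ, PP Γ T m → Γ γ → PP Γ T (m + γ) := by
  rintro m γ (hm | ⟨hTm, hm⟩) hγ
  · exact Or.inl (isMono_add h hm hγ)
  · refine Or.inr ⟨by omega, ?_⟩
    have : m + γ - T = (m - T) + γ := by omega
    rw [this]
    exact isMono_add h hm hγ

theorem span_pair_eq (h : IsMono A Γ) (T : ℕ) :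
    Submodule.span A ({1, (X : PowerSeries k) ^ T} : Set (PowerSeries k)) =
      suppG h (PP Γ T) (hPP h T) := by
  apply le_antisymm
  · rw [Submodule.span_le]
    rintro _ (rfl | rfl)
    · have := X_pow_mem_suppG h (PP Γ T) (hPP h T) (m := 0) (Or.inl (isMono_zero h))
      rwa [pow_zero] at this
    · exact X_pow_mem_suppG h (PP Γ T) (hPP h T)
        (Or.inr ⟨le_rfl, by rw [Nat.sub_self]; exact isMono_zero h⟩)
  · intro f hf
    obtain ⟨z₁, w, rfl, hz₁, hw⟩ := exists_split Γ Γ T f hf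
    rw [Submodule.mem_span_pair]
    refine ⟨⟨z₁, (h z₁).mpr hz₁⟩, ⟨w, (h w).mpr hw⟩, ?_⟩
    rw [smul_def, smul_def]
    ring

/-- support of `t^c (N + t^m N)` -/
def ZP (P : ℕ → Prop) (c m s : ℕ) : Prop := c ≤ s ∧ (P (s - c) ∨ (m ≤ s - c ∧ P (s - c - m)))

/-- support of `{y | ((A : t^m) ∩ A) y ⊆ t^c N}` -/
def YP (Γ P : ℕ → Prop) (c m s : ℕ) : Prop :=
  ∀ γ, Γ γ → Γ (γ + m) → c ≤ s + γ ∧ P (s + γ - c)

section mono

variable (h : IsMono A Γ) (P : ℕ → Prop) (hP : ∀ m γ, P m → Γ γ → P (m + γ))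
  {Nm : Type u} [AddCommGroup Nm] [Module A Nm] (ιN : Nm →ₗ[A] PowerSeries k)
  (hN : LinearMap.range ιN = suppG h P hP) (c m : ℕ)

include hP in
theorem hZP : ∀ s γ, ZP P c m s → Γ γ → ZP P c m (s + γ) := by
  rintro s γ ⟨hcs, hs⟩ hγ
  refine ⟨by omega, ?_⟩
  rcases hs with hs | ⟨hms, hs⟩
  · left
    have : s + γ - c = (s - c) + γ := by omega
    rw [this]
    exact hP _ _ hs hγ
  · right
    refine ⟨by omega, ?_⟩
    have : s + γ - c - m = (s - c - m) + γ := by omega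
    rw [this]
    exact hP _ _ hs hγ

include h in
theorem hYP : ∀ s γ', YP Γ P c m s → Γ γ' → YP Γ P c m (s + γ') := by
  intro s γ' hs hγ' γ hγ hγm
  have h1 := hs (γ + γ') (isMono_add h hγ hγ') (by
    have : γ + γ' + m = (γ + m) + γ' := by omega
    rw [this]
    exact isMono_add h hγm hγ')
  have e : s + γ' + γ = s + (γ + γ') := by omega
  rw [e]
  exact h1

include hN in
theorem range_Lam_eq :
    LinearMap.range (Lam (A := A) ((X : PowerSeries k) ^ m) (X ^ c) ιN) =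
      suppG h (ZP P c m) (hZP P hP c m) := by
  have hmemN : ∀ nn : Nm, ∀ s, coeff s (ιN nn) ≠ 0 → P s := by
    intro nn
    have : ιN nn ∈ suppG h P hP := hN ▸ LinearMap.mem_range_self ιN nn
    exact this
  apply le_antisymm
  · rintro _ ⟨⟨p, q⟩, rfl⟩ s hs
    rw [Lam_apply, coeff_X_pow_mul'] at hs
    by_cases hcs : c ≤ s
    · rw [if_pos hcs, map_sub, coeff_X_pow_mul'] at hs
      refine ⟨hcs, ?_⟩
      by_cases hq : coeff (s - c) (ιN q) = 0
      · right
        rw [hq, zero_sub, neg_ne_zero] at hs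
        by_cases hms : m ≤ s - c
        · rw [if_pos hms] at hs
          exact ⟨hms, hmemN p _ hs⟩
        · rw [if_neg hms] at hs
          exact absurd rfl hs
      · left
        exact hmemN q _ hq
    · rw [if_neg hcs] at hs
      exact absurd rfl hs
  · intro f hf
    obtain ⟨z, rfl, hz⟩ := exists_eq_X_pow_mul (fun s => P s ∨ (m ≤ s ∧ P (s - m))) c f hf
    obtain ⟨z₁, w, rfl, hz₁, hw⟩ := exists_split P P m z hz
    have h1 : z₁ ∈ LinearMap.range ιN := by
      rw [hN]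
      exact hz₁
    have h2 : w ∈ LinearMap.range ιN := by
      rw [hN]
      exact hw
    obtain ⟨q, rfl⟩ := h1
    obtain ⟨p, rfl⟩ := h2
    refine ⟨(-p, q), ?_⟩
    rw [Lam_apply]
    simp only [map_neg]
    ring

include hN in
theorem YY_eq :
    YY (A := A) ((X : PowerSeries k) ^ m) (X ^ c) ιN =
      suppG h (YP Γ P c m) (hYP h P c m) := by
  have hmemN : ∀ nn : Nm, ∀ s, coeff s (ιN nn) ≠ 0 → P s := by
    intro nn
    have : ιN nn ∈ suppG h P hP := hN ▸ LinearMap.mem_range_self ιN nn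
    exact this
  apply le_antisymm
  · intro y hy s hs γ hγ hγm
    have hxA : (X : PowerSeries k) ^ γ ∈ A := X_pow_mem h hγ
    have hxI : (⟨X ^ γ, hxA⟩ : A) ∈ II A ((X : PowerSeries k) ^ m) := by
      change (X : PowerSeries k) ^ γ * X ^ m ∈ A
      rw [← pow_add]
      exact X_pow_mem h hγm
    obtain ⟨nn, hnn⟩ := hy ⟨⟨X ^ γ, hxA⟩, hxI⟩
    have h1 : coeff (s + γ) (X ^ c * ιN nn) ≠ 0 := by
      rw [hnn]
      change coeff (s + γ) (X ^ γ * y) ≠ 0
      rw [coeff_X_pow_mul]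
      exact hs
    rw [coeff_X_pow_mul'] at h1
    by_cases hcs : c ≤ s + γ
    · rw [if_pos hcs] at h1
      exact ⟨hcs, hmemN nn _ h1⟩
    · rw [if_neg hcs] at h1
      exact absurd rfl h1
  · intro y hy
    change ∀ x : ↥(II A ((X : PowerSeries k) ^ m)), ∃ nn : Nm,
      X ^ c * ιN nn = ((x : A) : PowerSeries k) * y
    intro x
    have hx1 : ∀ γ, coeff γ ((x : A) : PowerSeries k) ≠ 0 → Γ γ := (h _).mp (x : A).2
    have hx2 : ∀ γ, coeff γ ((x : A) : PowerSeries k) ≠ 0 → Γ (γ + m) := by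
      intro γ hγ
      have hxm : ((x : A) : PowerSeries k) * X ^ m ∈ A := x.2
      apply (h _).mp hxm
      rw [coeff_mul_X_pow]
      exact hγ
    obtain ⟨z, hz, hzP⟩ := exists_eq_X_pow_mul P c (((x : A) : PowerSeries k) * y) (by
      intro n hn
      rw [coeff_mul] at hn
      obtain ⟨⟨γ, s⟩, hpq, hne⟩ := Finset.exists_ne_zero_of_sum_ne_zero hn
      rw [Finset.HasAntidiagonal.mem_antidiagonal] at hpq
      have hγ := left_ne_zero_of_mul hne
      have hs := right_ne_zero_of_mul hne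
      have := hy s hs γ (hx1 γ hγ) (hx2 γ hγ)
      simp only at hpq
      rw [← hpq, add_comm]
      exact this)
    have h1 : z ∈ LinearMap.range ιN := by
      rw [hN]
      exact hzP
    obtain ⟨nn, rfl⟩ := h1
    exact ⟨nn, hz.symm⟩

end mono

/-- the length formula for monomial data -/
theorem length_ext_mono [Module.Finite A (PowerSeries k)] [IsLocalRing A]
    (h : IsMono A Γ) (c : ℕ) (hcΓ : ∀ s, c ≤ s → Γ s) (T : ℕ)
    (P : ℕ → Prop) (hP : ∀ m γ, P m → Γ γ → P (m + γ)) (c' : ℕ) (hc' : ∀ s, c' ≤ s → P s) :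
    (({s | ¬ ZP P c T s}.ncard : ℕ) : ℕ∞) = (({s | ¬ YP Γ P c T s}.ncard : ℕ) : ℕ∞) +
      Module.length A (Abelian.Ext.{u} (ModuleCat.of A ↥(suppG h (PP Γ T) (hPP h T)))
        (ModuleCat.of A ↥(suppG h P hP)) 1) := by
  have hxA : ∀ b : PowerSeries k, X ^ c * b ∈ A := fun b =>
    mem_of_le_order h c hcΓ _ (by
      rw [order_mul, order_X_pow]
      exact le_self_add)
  have hx₀ : ∀ b b' : PowerSeries k, X ^ c * b = X ^ c * b' → b = b' := fun b b' hbb =>
    X_pow_mul_cancel hbb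
  obtain ⟨ιM, hιM⟩ : ∃ ι : ↥(suppG h (PP Γ T) (hPP h T)) →ₗ[A] PowerSeries k,
      ι = (suppG h (PP Γ T) (hPP h T)).subtype := ⟨_, rfl⟩
  obtain ⟨ιN, hιN⟩ : ∃ ι : ↥(suppG h P hP) →ₗ[A] PowerSeries k,
      ι = (suppG h P hP).subtype := ⟨_, rfl⟩
  obtain ⟨v₀, hv₀⟩ : ∃ v : ↥(suppG h (PP Γ T) (hPP h T)), (v : PowerSeries k) = 1 :=
    ⟨⟨1, by
      have := X_pow_mem_suppG h (PP Γ T) (hPP h T) (m := 0) (Or.inl (isMono_zero h))
      rwa [pow_zero] at this⟩, rfl⟩
  obtain ⟨v₁, hv₁⟩ : ∃ v : ↥(suppG h (PP Γ T) (hPP h T)), (v : PowerSeries k) = X ^ T :=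
    ⟨⟨X ^ T, X_pow_mem_suppG h (PP Γ T) (hPP h T)
        (Or.inr ⟨le_rfl, by rw [Nat.sub_self]; exact isMono_zero h⟩)⟩, rfl⟩
  have hspan : Submodule.span A {v₀, v₁} = ⊤ := by
    rw [_root_.eq_top_iff]
    rintro ⟨f, hf⟩ -
    obtain ⟨z₁, w, hfz, hz₁, hw⟩ := exists_split Γ Γ T f hf
    rw [Submodule.mem_span_pair]
    refine ⟨⟨z₁, (h z₁).mpr hz₁⟩, ⟨w, (h w).mpr hw⟩, ?_⟩
    apply Subtype.ext
    rw [Submodule.coe_add, Submodule.coe_smul, Submodule.coe_smul, hv₀, hv₁, smul_def, smul_def]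
    change z₁ * 1 + w * X ^ T = f
    rw [hfz]
    ring
  have hιMinj : Function.Injective ιM := by
    rw [hιM]
    exact Subtype.val_injective
  have hιNinj : Function.Injective ιN := by
    rw [hιN]
    exact Subtype.val_injective
  have hv₀' : ιM v₀ = 1 := by
    rw [hιM]
    exact hv₀
  have hv₁' : ιM v₁ = X ^ T := by
    rw [hιM]
    exact hv₁
  have hNr : LinearMap.range ιN = suppG h P hP := by
    rw [hιN, Submodule.range_subtype]
  have hLF := length_formula (A := A) (Mm := ↥(suppG h (PP Γ T) (hPP h T)))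
    (Nm := ↥(suppG h P hP)) (X ^ T) (X ^ c) hxA ιM ιN v₀ v₁ hx₀ hιMinj hιNinj hv₀' hv₁' hspan
  rw [range_Lam_eq (Nm := ↥(suppG h P hP)) h P hP ιN hNr c T,
    YY_eq (Nm := ↥(suppG h P hP)) h P hP ιN hNr c T] at hLF
  have hcc : ∀ s, c + c' ≤ s → Γ s := fun s hs => hcΓ s (by omega)
  rw [length_quot_suppG h _ _ (c + c') hcc (fun s hs => ⟨by omega, Or.inl (hc' _ (by omega))⟩),
    length_quot_suppG h _ _ (c + c') hcc
      (fun s hs γ _ _ => ⟨by omega, hc' _ (by omega)⟩)] at hLF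
  exact hLF

/-- counting a set described by parity and bounds -/
theorem ncard_parity (Q : ℕ → Prop) (a b : ℕ)
    (hQ : ∀ s, ¬ Q s ↔ (s % 2 = 0 ∧ s < 2 * a) ∨ (s % 2 = 1 ∧ s < 2 * b)) :
    {s | ¬ Q s}.ncard = a + b := by
  classical
  have hset : {s | ¬ Q s} = ↑(((Finset.range a).image (fun t => 2 * t)) ∪
      ((Finset.range b).image (fun t => 2 * t + 1))) := by
    ext s
    rw [Set.mem_ofPred_eq, hQ]
    simp only [Finset.coe_union, Finset.coe_image, Finset.coe_range, Set.mem_union, Set.mem_image,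
      Set.mem_Iio]
    constructor
    · rintro (⟨h1, h2⟩ | ⟨h1, h2⟩)
      · exact Or.inl ⟨s / 2, by omega, by omega⟩
      · exact Or.inr ⟨s / 2, by omega, by omega⟩
    · rintro (⟨t, ht, rfl⟩ | ⟨t, ht, rfl⟩)
      · left
        omega
      · right
        omega
  rw [hset, Set.ncard_coe_finset, Finset.card_union_of_disjoint, Finset.card_image_of_injective,
    Finset.card_image_of_injective, Finset.card_range, Finset.card_range]
  · intro x y hxy
    simp only at hxy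
    omega
  · intro x y hxy
    simp only at hxy
    omega
  · rw [Finset.disjoint_left]
    intro s hs1 hs2
    rw [Finset.mem_image] at hs1 hs2
    obtain ⟨t, -, rfl⟩ := hs1
    obtain ⟨t', -, ht'⟩ := hs2
    omega

end Groth.Agent.Lib.helper15.TwoGenExt
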