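import Mathlib
import Groth.Agent.Lib.Helper15.MultMax

/-!
# The unipotent retraction of a commutative cocommutative Hopf algebra over an algebraically closed
field (helper15)

`E` commutative cocommutative Hopf algebra over an algebraically closed field `K`,
`PE = Punion K E` its conilpotent part, `IK = E · (glSub K E)⁺` the ideal generated by the `g - 1`,
`g` group-like.

* `exists_sub_mem`: `E = PE + IK`;
* `eq_zero_of_mem_Pfilt_of_mem_IK`: `PE ∩ IK = 0`;
* `tauK`: the bialgebra retraction `E → E` onto `PE` killing `IK`.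
-/

set_option autoImplicit false
set_option linter.style.haveILetI false
universe u v
open TensorProduct

namespace Groth.Agent.Lib.helper15.UnipSplit

open Groth.Agent.Lib.helper15.HopfSub Groth.Agent.Lib.helper15.Conilp
  Groth.Agent.Lib.helper15.PfiltOps

section Basic

variable (K : Type u) [Field K] (E : Type v) [CommRing E] [HopfAlgebra K E]

/-- the ideal generated by the `g - 1`, `g` group-like. -/
def IK : Ideal E := Takeuchi.augIdeal (Trig.glSub K E)

instance : (IK K E).IsHopfIdeal K := Trig.isHopfIdeal_augIdeal Trig.isHopfSub_glSub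

variable {K E}

lemma groupLike_sub_one_mem {g : E} (hg : IsGroupLikeElem K g) : g - 1 ∈ IK K E := by
  apply Ideal.subset_span
  refine ⟨Subalgebra.sub_mem _ (Algebra.subset_adjoin hg) (Subalgebra.one_mem _), ?_⟩
  rw [map_sub, hg.counit_eq_one, Bialgebra.counit_one, sub_self]

lemma counit_eq_zero_of_mem_IK {x : E} (hx : x ∈ IK K E) : Coalgebra.counit (R := K) x = 0 :=
  (Ideal.IsHopfIdeal.toIsCoideal (R := K) (I := IK K E)).counit_eq_zero hx

/-- `E = PE + IK`. -/
theorem exists_sub_mem [IsAlgClosed K] [Coalgebra.IsCocomm K E] (x : E) :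
    ∃ u ∈ Punion K E, x - u ∈ IK K E := by
  have hx : x ∈ Submodule.span K (CocommDecomp.GU K E) := by
    rw [CocommDecomp.span_GU_eq_top]; trivial
  induction hx using Submodule.span_induction with
  | mem x hx =>
    obtain ⟨g, u, hg, hu, rfl⟩ := hx
    refine ⟨u, hu, ?_⟩
    have : g * u - u = (g - 1) * u := by ring
    rw [this]
    exact Ideal.mul_mem_right _ _ (groupLike_sub_one_mem hg)
  | zero => exact ⟨0, Subalgebra.zero_mem _, by simp⟩
  | add x y _ _ hx hy =>
    obtain ⟨u, hu, hxu⟩ := hx
    obtain ⟨v, hv, hyv⟩ := hy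
    refine ⟨u + v, Subalgebra.add_mem _ hu hv, ?_⟩
    have : x + y - (u + v) = (x - u) + (y - v) := by ring
    rw [this]
    exact add_mem hxu hyv
  | smul c x _ hx =>
    obtain ⟨u, hu, hxu⟩ := hx
    refine ⟨c • u, Subalgebra.smul_mem _ hu c, ?_⟩
    rw [← smul_sub]
    exact Submodule.smul_of_tower_mem _ c hxu

/-- a primitive element of `IK` vanishes. -/
lemma primitive_eq_zero_of_mem_IK (y : E)
    (hy : Coalgebra.comul (R := K) y = y ⊗ₜ[K] 1 + 1 ⊗ₜ[K] y) (hyI : y ∈ IK K E) : y = 0 := by
  have hB := Trig.isHopfSub_glSub (k := K) (A := E)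
  have hmem : y ∈ Trig.glSub K E := by
    apply Takeuchi.mem_of_comul_sub_mem hB
    rw [hy, add_sub_cancel_left]
    exact Submodule.subset_span ⟨1, y, hyI, rfl⟩
  letI := HopfSubalg.hopfAlgebraB hB
  have hspan : Submodule.span K {a : Trig.glSub K E | IsGroupLikeElem K a} = ⊤ :=
    Trig.isDiagonalizable_glSub
  have h0 := UnipMult.primitive_eq_zero_of_span_groupLike hspan ⟨y, hmem⟩ (by
    apply HopfSubalg.T_injective
    rw [HopfSubalg.comulB_eq, HopfSubalg.T_comulB, map_add, HopfSubalg.T_tmul, HopfSubalg.T_tmul]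
    exact hy)
  exact congrArg Subtype.val h0

/-- the reduced comultiplication is symmetric (cocommutative case). -/
lemma comm_redComul [Coalgebra.IsCocomm K E] (a : E) :
    TensorProduct.comm K E E (redComul K E a) = redComul K E a := by
  rw [redComul_apply, map_add, map_sub, map_sub, map_smul, Coalgebra.comm_comul,
    TensorProduct.comm_tmul, TensorProduct.comm_tmul, TensorProduct.comm_tmul]
  abel

lemma redComul_mem_T [Coalgebra.IsCocomm K E] {n : ℕ} {a : E} (ha : a ∈ Pfilt K E (n + 1)) :
    redComul K E a ∈ T (Pfilt K E n) (Pfilt K E n) := by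
  apply T_inf_le
  have h1 : redComul K E a ∈ T (Pfilt K E n) ⊤ := by
    rw [← range_rTensor_eq_T]
    exact (mem_Pfilt_succ K E n a).1 ha
  refine ⟨h1, ?_⟩
  rw [← comm_redComul]
  have hle : T (Pfilt K E n) ⊤ ≤ (T ⊤ (Pfilt K E n)).comap (TensorProduct.comm K E E).toLinearMap := by
    refine T_le fun u hu v hv => ?_
    rw [Submodule.mem_comap, LinearEquiv.coe_coe, TensorProduct.comm_tmul]
    exact tmul_mem_T hv hu
  exact hle h1

/-- `PE ∩ IK = 0`. -/
theorem eq_zero_of_mem_Pfilt_of_mem_IK [Coalgebra.IsCocomm K E] :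
    ∀ (n : ℕ) (a : E), a ∈ Pfilt K E n → a ∈ IK K E → a = 0 := by
  intro n
  induction n with
  | zero =>
    intro a ha haI
    rw [Pfilt_zero, Submodule.mem_span_singleton] at ha
    obtain ⟨c, rfl⟩ := ha
    have h0 := counit_eq_zero_of_mem_IK haI
    rw [map_smul, Bialgebra.counit_one, smul_eq_mul, mul_one] at h0
    rw [h0, zero_smul]
  | succ n ih =>
    intro a ha haI
    set q : E →ₐc[K] E ⧸ IK K E := Bialgebra.Quotient.mkBialgHom (IK K E) with hq
    have hqa : q a = 0 := Ideal.Quotient.eq_zero_iff_mem.2 haI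
    -- the reduced comultiplication of `a` vanishes
    have hred : redComul K E a = 0 := by
      have h1 := PfiltInj.redComul_bialgHom q a
      rw [hqa, map_zero] at h1
      have h2 := redComul_mem_T ha
      set P := Pfilt K E n with hP
      set f : P →ₗ[K] E ⧸ IK K E := (q : E →ₗ[K] E ⧸ IK K E) ∘ₗ P.subtype with hf
      have hfinj : Function.Injective f := by
        rw [← LinearMap.ker_eq_bot, LinearMap.ker_eq_bot']
        intro x hx
        have hx' : (x : E) ∈ IK K E := Ideal.Quotient.eq_zero_iff_mem.1 hx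
        exact Subtype.ext (ih x x.2 hx')
      have hinj := TensorProduct.map_injective_of_flat_flat f f hfinj hfinj
      have hrange : T P P = LinearMap.range (TensorProduct.map P.subtype P.subtype) := by
        rw [TensorProduct.range_map, Submodule.range_subtype]
        rfl
      rw [hrange] at h2
      obtain ⟨s, hs⟩ := h2
      have h3 : TensorProduct.map f f s = 0 := by
        rw [hf, TensorProduct.map_comp, LinearMap.comp_apply, hs]
        exact h1.symm
      have h4 : s = 0 := hinj (h3.trans (map_zero _).symm)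
      rw [← hs, h4, map_zero]
    have hε := counit_eq_zero_of_mem_IK haI
    apply primitive_eq_zero_of_mem_IK a ?_ haI
    have h5 := redComul_apply (R := K) (H := E) a
    rw [hred, hε, zero_smul, add_zero] at h5
    have h6 : Coalgebra.comul (R := K) a =
        (Coalgebra.comul (R := K) a - a ⊗ₜ[K] (1 : E) - (1 : E) ⊗ₜ[K] a) +
          a ⊗ₜ[K] (1 : E) + (1 : E) ⊗ₜ[K] a := by abel
    rw [h6, ← h5, zero_add]

end Basic

section Tau

variable (K : Type u) [Field K] (E : Type v) [CommRing E] [HopfAlgebra K E]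
  [IsAlgClosed K] [Coalgebra.IsCocomm K E]

/-- the bialgebra retraction onto the conilpotent part. -/
theorem exists_tauK : ∃ τ : E →ₐc[K] E, (∀ x, τ x ∈ Punion K E) ∧ (∀ x, x - τ x ∈ IK K E) := by
  have hP := isHopfSub_Punion (k := K) (A := E)
  letI := HopfSubalg.hopfAlgebraB hP
  set q : E →ₐc[K] E ⧸ IK K E := Bialgebra.Quotient.mkBialgHom (IK K E) with hq
  set β : Punion K E →ₐc[K] E ⧸ IK K E := q.comp (HopfSubalg.incl hP) with hβ
  have hβbij : Function.Bijective β := by
    constructor
    · intro x y hxy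
      have h1 : β (x - y) = 0 := by rw [map_sub, hxy, sub_self]
      have h2 : ((x - y : Punion K E) : E) ∈ IK K E := Ideal.Quotient.eq_zero_iff_mem.1 h1
      obtain ⟨n, hn⟩ := (x - y).2
      have h3 := eq_zero_of_mem_Pfilt_of_mem_IK n _ hn h2
      exact sub_eq_zero.1 (Subtype.ext h3)
    · intro z
      obtain ⟨x, rfl⟩ := Ideal.Quotient.mk_surjective z
      obtain ⟨u, hu, hxu⟩ := exists_sub_mem (K := K) x
      refine ⟨⟨u, hu⟩, ?_⟩
      have h1 : Ideal.Quotient.mk (IK K E) (x - u) = 0 := Ideal.Quotient.eq_zero_iff_mem.2 hxu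
      rw [map_sub, sub_eq_zero] at h1
      exact h1.symm
  set e := BialgEquiv.ofBijective β hβbij with he
  refine ⟨(HopfSubalg.incl hP).comp ((e.symm : (E ⧸ IK K E) →ₐc[K] Punion K E).comp q), ?_, ?_⟩
  · intro x
    exact (e.symm (q x)).2
  · intro x
    have h1 : β (e.symm (q x)) = q x := e.apply_symm_apply (q x)
    have h2 : Ideal.Quotient.mk (IK K E) (x - ((e.symm (q x) : Punion K E) : E)) = 0 := by
      rw [map_sub, sub_eq_zero]
      exact h1.symm
    exact Ideal.Quotient.eq_zero_iff_mem.1 h2

/-- the bialgebra retraction onto the conilpotent part. -/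
noncomputable def tauK : E →ₐc[K] E := (exists_tauK K E).choose

variable {K E}

lemma tauK_mem (x : E) : tauK K E x ∈ Punion K E := (exists_tauK K E).choose_spec.1 x

lemma sub_tauK_mem (x : E) : x - tauK K E x ∈ IK K E := (exists_tauK K E).choose_spec.2 x

lemma eq_tauK {x u : E} (hu : u ∈ Punion K E) (hxu : x - u ∈ IK K E) : u = tauK K E x := by
  have h1 : u - tauK K E x ∈ Punion K E := Subalgebra.sub_mem _ hu (tauK_mem x)
  have h2 : u - tauK K E x ∈ IK K E := by
    have : u - tauK K E x = (x - tauK K E x) - (x - u) := by ring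
    rw [this]
    exact sub_mem (sub_tauK_mem x) hxu
  obtain ⟨n, hn⟩ := h1
  exact sub_eq_zero.1 (eq_zero_of_mem_Pfilt_of_mem_IK n _ hn h2)

lemma tauK_of_mem {u : E} (hu : u ∈ Punion K E) : tauK K E u = u :=
  (eq_tauK hu (by rw [sub_self]; exact zero_mem _)).symm

lemma tauK_of_mem_IK {x : E} (hx : x ∈ IK K E) : tauK K E x = 0 :=
  (eq_tauK (Subalgebra.zero_mem _) (by rwa [sub_zero])).symm

end Tau

end Groth.Agent.Lib.helper15.UnipSplit
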