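import Mathlib
import Groth.Agent.Lib.Helper15.UnipSplit
import Groth.Agent.Lib.Helper15.MultIff

/-!
# Galois descent of the unipotent retraction (helper15)

`k` a perfect field, `K` its algebraic closure, `A` a commutative cocommutative Hopf algebra over `k`.
The retraction `tauK` of `K ⊗ A` commutes with the Galois action, hence descends to a bialgebra
retraction `τ : A → A` onto the conilpotent part.
-/

set_option autoImplicit false
set_option linter.style.haveILetI false
universe u v
open TensorProduct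

namespace Groth.Agent.Lib.helper15.UnipDescent

open Groth.Agent.Lib.helper15.HopfSub Groth.Agent.Lib.helper15.Conilp
  Groth.Agent.Lib.helper15.PfiltOps Groth.Agent.Lib.helper15.UnipSplit

section Fix

variable {k : Type u} [Field k] {K : Type u} [Field K] [Algebra k K]
  {V : Type u} [AddCommGroup V] [Module k V]

/-- coordinates of `(σ ⊗ id) y`. -/
lemma repr_rTensor {ι : Type*} (b : Module.Basis ι k V) (σ : K →ₐ[k] K) (y : K ⊗[k] V) (i : ι) :
    (Algebra.TensorProduct.basis K b).repr (σ.toLinearMap.rTensor V y) i =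
      σ ((Algebra.TensorProduct.basis K b).repr y i) := by
  induction y with
  | zero => simp
  | add x y hx hy => simp only [map_add, Finsupp.add_apply, hx, hy]
  | tmul c v =>
    rw [LinearMap.rTensor_tmul, Algebra.TensorProduct.basis_repr_tmul,
      Algebra.TensorProduct.basis_repr_tmul]
    simp

/-- Galois-fixed elements of `K ⊗ V` come from `V`. -/
theorem exists_of_fixed
    (hfix : ∀ c : K, (∀ σ : K ≃ₐ[k] K, σ c = c) → c ∈ Set.range (algebraMap k K))
    (y : K ⊗[k] V)
    (hy : ∀ σ : K ≃ₐ[k] K, (σ : K →ₐ[k] K).toLinearMap.rTensor V y = y) :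
    ∃ v : V, y = (1 : K) ⊗ₜ[k] v := by
  classical
  let b := Module.Basis.ofVectorSpace k V
  set bK := Algebra.TensorProduct.basis K b with hbK
  have hc : ∀ i, bK.repr y i ∈ Set.range (algebraMap k K) := by
    intro i
    apply hfix
    intro σ
    have h1 := repr_rTensor b (σ : K →ₐ[k] K) y i
    rw [hy σ] at h1
    exact h1.symm
  choose d hd using hc
  refine ⟨∑ i ∈ (bK.repr y).support, d i • b i, ?_⟩
  rw [TensorProduct.tmul_sum]
  conv_lhs => rw [← bK.linearCombination_repr y, Finsupp.linearCombination_apply, Finsupp.sum]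
  refine Finset.sum_congr rfl fun i _ => ?_
  rw [hbK, Algebra.TensorProduct.basis_apply, TensorProduct.tmul_smul, ← hbK, ← hd i,
    TensorProduct.smul_tmul', algebraMap_smul]
  rw [TensorProduct.smul_tmul']

end Fix

section Semi

variable {k : Type u} [Field k] (K : Type u) [Field K] [Algebra k K]
  {A : Type u} [CommRing A] [HopfAlgebra k A]

/-- the semilinear action of `σ` on `K ⊗ A`. -/
noncomputable def sE (σ : K →ₐ[k] K) : K ⊗[k] A →ₐ[k] K ⊗[k] A :=
  Algebra.TensorProduct.map σ (AlgHom.id k A)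

variable {K}

lemma sE_tmul (σ : K →ₐ[k] K) (c : K) (a : A) : sE K σ (c ⊗ₜ[k] a) = σ c ⊗ₜ[k] a := rfl

lemma sE_eq_rTensor (σ : K →ₐ[k] K) (x : K ⊗[k] A) :
    sE K σ x = σ.toLinearMap.rTensor A x := by
  induction x with
  | zero => simp
  | add x y hx hy => rw [map_add, map_add, hx, hy]
  | tmul c a => rfl

lemma sE_smul (σ : K →ₐ[k] K) (c : K) (x : K ⊗[k] A) : sE K σ (c • x) = σ c • sE K σ x := by
  induction x with
  | zero => simp
  | add x y hx hy => rw [smul_add, map_add, map_add, hx, hy, smul_add]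
  | tmul c' a =>
    rw [TensorProduct.smul_tmul', sE_tmul, sE_tmul, TensorProduct.smul_tmul', smul_eq_mul,
      smul_eq_mul, map_mul]

lemma counit_sE (σ : K →ₐ[k] K) (x : K ⊗[k] A) :
    Coalgebra.counit (R := K) (sE K σ x) = σ (Coalgebra.counit (R := K) x) := by
  induction x with
  | zero => simp
  | add x y hx hy => rw [map_add, map_add, map_add, map_add, hx, hy]
  | tmul c a =>
    rw [sE_tmul, TensorProduct.counit_tmul, TensorProduct.counit_tmul,
      CommSemiring.counit_apply, CommSemiring.counit_apply, Algebra.smul_def, Algebra.smul_def,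
      map_mul, AlgHom.commutes]

/-- the comultiplication of `K ⊗ A` in terms of that of `A`. -/
lemma comul_eq (x : K ⊗[k] A) :
    Coalgebra.comul (R := K) x =
      TensorProduct.AlgebraTensorModule.distribBaseChange k K A A
        ((Coalgebra.comul (R := k) (A := A)).lTensor K x) := by
  induction x with
  | zero => simp
  | add x y hx hy => rw [map_add, map_add, map_add, hx, hy]
  | tmul c a =>
    have h1 : c ⊗ₜ[k] a = c • ((Algebra.TensorProduct.includeRight : A →ₐ[k] K ⊗[k] A) a) := by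
      rw [Algebra.TensorProduct.includeRight_apply, TensorProduct.smul_tmul', smul_eq_mul, mul_one]
    conv_lhs => rw [h1, map_smul, (isSemiBialg_includeRight (R := k) K (H := A)).comul,
      MultIff.jmap_eq, ← map_smul, TensorProduct.smul_tmul', smul_eq_mul, mul_one]
    rw [LinearMap.lTensor_tmul]

lemma tmul_tmul_eq (c c' : K) (a a' : A) :
    (c ⊗ₜ[k] a) ⊗ₜ[K] (c' ⊗ₜ[k] a') =
      TensorProduct.AlgebraTensorModule.distribBaseChange k K A A
        ((c * c') ⊗ₜ[k] (a ⊗ₜ[k] a')) := by
  rw [TensorProduct.AlgebraTensorModule.distribBaseChange_tmul]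
  have h1 : c' ⊗ₜ[k] a' = c' • ((1 : K) ⊗ₜ[k] a') := by
    rw [TensorProduct.smul_tmul', smul_eq_mul, mul_one]
  rw [h1, TensorProduct.tmul_smul, TensorProduct.smul_tmul', TensorProduct.smul_tmul',
    smul_eq_mul, mul_comm]

lemma distrib_rTensor (σ : K →ₐ[k] K) (x y : K ⊗[k] A) :
    TensorProduct.AlgebraTensorModule.distribBaseChange k K A A
      (σ.toLinearMap.rTensor (A ⊗[k] A)
        ((TensorProduct.AlgebraTensorModule.distribBaseChange k K A A).symm (x ⊗ₜ[K] y))) =
      sE K σ x ⊗ₜ[K] sE K σ y := by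
  induction x with
  | zero => simp
  | add x x' hx hx' =>
    rw [TensorProduct.add_tmul, map_add, map_add, map_add, hx, hx', map_add,
      TensorProduct.add_tmul]
  | tmul c a =>
    induction y with
    | zero => simp
    | add y y' hy hy' =>
      rw [TensorProduct.tmul_add, map_add, map_add, map_add, hy, hy', map_add,
        TensorProduct.tmul_add]
    | tmul c' a' =>
      rw [tmul_tmul_eq, LinearEquiv.symm_apply_apply, LinearMap.rTensor_tmul, sE_tmul, sE_tmul,
        tmul_tmul_eq, AlgHom.toLinearMap_apply, map_mul]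

lemma isGroupLikeElem_sE (σ : K →ₐ[k] K) {g : K ⊗[k] A} (hg : IsGroupLikeElem K g) :
    IsGroupLikeElem K (sE K σ g) where
  counit_eq_one := by rw [counit_sE, hg.counit_eq_one, map_one]
  comul_eq_tmul_self := by
    have h1 : (Coalgebra.comul (R := k) (A := A)).lTensor K (sE K σ g) =
        σ.toLinearMap.rTensor (A ⊗[k] A) ((Coalgebra.comul (R := k) (A := A)).lTensor K g) := by
      rw [sE_eq_rTensor]
      generalize g = x
      induction x with
      | zero => simp
      | add x y hx hy => simp only [map_add, hx, hy]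
      | tmul c a => rfl
    have h2 : (Coalgebra.comul (R := k) (A := A)).lTensor K g =
        (TensorProduct.AlgebraTensorModule.distribBaseChange k K A A).symm (g ⊗ₜ[K] g) := by
      rw [LinearEquiv.eq_symm_apply, ← comul_eq, hg.comul_eq_tmul_self]
    rw [comul_eq, h1, h2, distrib_rTensor]

end Semi

section Stable

variable {k : Type u} [Field k] {K : Type u} [Field K] [Algebra k K]
  {A : Type u} [CommRing A] [HopfAlgebra k A]

lemma sE_includeRight (σ : K →ₐ[k] K) (a : A) :
    sE K σ ((1 : K) ⊗ₜ[k] a) = (1 : K) ⊗ₜ[k] a := by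
  rw [sE_tmul, map_one]

lemma sE_mem_Pfilt (σ : K →ₐ[k] K) {n : ℕ} {u : K ⊗[k] A} (hu : u ∈ Pfilt K (K ⊗[k] A) n) :
    sE K σ u ∈ Pfilt K (K ⊗[k] A) n := by
  have h1 := PfiltBC.mem_span_of_mem_Pfilt K n u hu
  clear hu
  induction h1 using Submodule.span_induction with
  | mem x hx =>
    obtain ⟨a, ha, rfl⟩ := hx
    rw [sE_includeRight]
    exact map_Pfilt (isSemiBialg_includeRight (R := k) K (H := A)) n a ha
  | zero => rw [map_zero]; exact zero_mem _
  | add x y _ _ hx hy => rw [map_add]; exact add_mem hx hy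
  | smul c x _ hx => rw [sE_smul]; exact Submodule.smul_mem _ _ hx

lemma sE_mem_Punion (σ : K →ₐ[k] K) {u : K ⊗[k] A} (hu : u ∈ Punion K (K ⊗[k] A)) :
    sE K σ u ∈ Punion K (K ⊗[k] A) := by
  obtain ⟨n, hn⟩ := hu
  exact ⟨n, sE_mem_Pfilt σ hn⟩

lemma sE_mem_glSub (σ : K →ₐ[k] K) {x : K ⊗[k] A} (hx : x ∈ Trig.glSub K (K ⊗[k] A)) :
    sE K σ x ∈ Trig.glSub K (K ⊗[k] A) := by
  unfold Trig.glSub at hx ⊢
  induction hx using Algebra.adjoin_induction with
  | mem x hx => exact Algebra.subset_adjoin (isGroupLikeElem_sE σ hx)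
  | algebraMap c =>
    rw [Algebra.algebraMap_eq_smul_one, sE_smul, map_one, ← Algebra.algebraMap_eq_smul_one]
    exact Subalgebra.algebraMap_mem _ _
  | add x y _ _ hx hy => rw [map_add]; exact Subalgebra.add_mem _ hx hy
  | mul x y _ _ hx hy => rw [map_mul]; exact Subalgebra.mul_mem _ hx hy

lemma sE_mem_IK (σ : K →ₐ[k] K) {x : K ⊗[k] A} (hx : x ∈ IK K (K ⊗[k] A)) :
    sE K σ x ∈ IK K (K ⊗[k] A) := by
  have hle : IK K (K ⊗[k] A) ≤ (IK K (K ⊗[k] A)).comap (sE K σ (A := A)).toRingHom := by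
    unfold IK Takeuchi.augIdeal
    rw [Ideal.span_le]
    rintro b ⟨hb, hb0⟩
    rw [SetLike.mem_coe, Ideal.mem_comap]
    apply Ideal.subset_span
    refine ⟨sE_mem_glSub σ hb, ?_⟩
    change Coalgebra.counit (R := K) (sE K σ b) = 0
    rw [counit_sE, hb0, map_zero]
  exact hle hx

variable [IsAlgClosed K] [Coalgebra.IsCocomm k A]

lemma sE_tauK (σ : K →ₐ[k] K) (x : K ⊗[k] A) :
    sE K σ (tauK K (K ⊗[k] A) x) = tauK K (K ⊗[k] A) (sE K σ x) := by
  apply eq_tauK (sE_mem_Punion σ (tauK_mem x))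
  rw [← map_sub]
  exact sE_mem_IK σ (sub_tauK_mem x)

end Stable

section Descent

variable (k : Type u) [Field k] [PerfectField k] (A : Type u) [CommRing A] [HopfAlgebra k A]
  [Coalgebra.IsCocomm k A]

lemma fixed_mem_range (c : AlgebraicClosure k)
    (hc : ∀ σ : AlgebraicClosure k ≃ₐ[k] AlgebraicClosure k, σ c = c) :
    c ∈ Set.range (algebraMap k (AlgebraicClosure k)) := by
  haveI : IsGalois k (AlgebraicClosure k) := ⟨⟩
  exact (InfiniteGalois.mem_range_algebraMap_iff_fixed c).2 hc

/-- the descended retraction. -/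
theorem exists_tau : ∃ τ : A →ₐc[k] A, (∀ a, τ a ∈ Punion k A) ∧ (∀ a ∈ Punion k A, τ a = a) ∧
    (∀ a, τ a = 0 → (1 : AlgebraicClosure k) ⊗ₜ[k] a ∈
      IK (AlgebraicClosure k) (AlgebraicClosure k ⊗[k] A)) := by
  set ι : A →ₐ[k] AlgebraicClosure k ⊗[k] A := Algebra.TensorProduct.includeRight with hι
  have hιinj : Function.Injective ι :=
    Algebra.TensorProduct.includeRight_injective (algebraMap k (AlgebraicClosure k)).injective
  have hιa : ∀ a, ι a = (1 : AlgebraicClosure k) ⊗ₜ[k] a := fun a => rfl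
  set tK := tauK (AlgebraicClosure k) (AlgebraicClosure k ⊗[k] A) with htK
  set ψ : A →ₐ[k] AlgebraicClosure k ⊗[k] A :=
    ((tK : AlgebraicClosure k ⊗[k] A →ₐ[AlgebraicClosure k] AlgebraicClosure k ⊗[k] A).restrictScalars
      k).comp ι with hψ
  have hψa : ∀ a, ψ a = tK (ι a) := fun a => rfl
  have hψr : ∀ a, ψ a ∈ ι.range := by
    intro a
    obtain ⟨a', ha'⟩ := exists_of_fixed (fixed_mem_range k) (tK (ι a)) (fun σ => by
      rw [← sE_eq_rTensor, htK, sE_tauK, hιa, sE_includeRight])
    exact ⟨a', ha'.symm⟩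
  set τ0 : A →ₐ[k] A :=
    ((AlgEquiv.ofInjective ι hιinj).symm : ι.range →ₐ[k] A).comp (ψ.codRestrict ι.range hψr)
    with hτ0
  have hτι : ∀ a, ι (τ0 a) = tK (ι a) := by
    intro a
    have h1 : ι (τ0 a) = ((AlgEquiv.ofInjective ι hιinj)
        ((AlgEquiv.ofInjective ι hιinj).symm (ψ.codRestrict ι.range hψr a)) : ι.range) := rfl
    rw [h1, AlgEquiv.apply_symm_apply]
    rfl
  have hsb := isSemiBialg_includeRight (R := k) (AlgebraicClosure k) (H := A)
  have hcounit : (Bialgebra.counitAlgHom k A).comp τ0 = Bialgebra.counitAlgHom k A := by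
    ext a
    apply (algebraMap k (AlgebraicClosure k)).injective
    change algebraMap k (AlgebraicClosure k) (Coalgebra.counit (R := k) (τ0 a)) =
      algebraMap k (AlgebraicClosure k) (Coalgebra.counit (R := k) a)
    rw [← hsb.counit, ← hsb.counit, hτι]
    exact CoalgHomClass.counit_comp_apply tK (ι a)
  have hjm : ∀ t : A ⊗[k] A,
      TensorProduct.map (tK : AlgebraicClosure k ⊗[k] A →ₗ[AlgebraicClosure k] _)
        (tK : AlgebraicClosure k ⊗[k] A →ₗ[AlgebraicClosure k] _)
        (jmap (R' := AlgebraicClosure k) ι t) =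
      jmap (R' := AlgebraicClosure k) ι (TensorProduct.map τ0.toLinearMap τ0.toLinearMap t) := by
    intro t
    induction t with
    | zero => simp
    | add x y hx hy => simp only [map_add, hx, hy]
    | tmul x y =>
      rw [jmap_tmul, TensorProduct.map_tmul, TensorProduct.map_tmul, jmap_tmul]
      change tK (ι x) ⊗ₜ[AlgebraicClosure k] tK (ι y) = ι (τ0 x) ⊗ₜ[AlgebraicClosure k] ι (τ0 y)
      rw [hτι, hτι]
  have hcomul : (Algebra.TensorProduct.map τ0 τ0).comp (Bialgebra.comulAlgHom k A) =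
      (Bialgebra.comulAlgHom k A).comp τ0 := by
    ext a
    apply MultIff.jmap_injective k A (AlgebraicClosure k)
    change jmap (R' := AlgebraicClosure k) ι
        (TensorProduct.map τ0.toLinearMap τ0.toLinearMap (Coalgebra.comul (R := k) a)) =
      jmap (R' := AlgebraicClosure k) ι (Coalgebra.comul (R := k) (τ0 a))
    rw [← hjm, ← hsb.comul, ← hsb.comul, hτι]
    exact CoalgHomClass.map_comp_comul_apply tK (ι a)
  refine ⟨BialgHom.ofAlgHom τ0 hcounit hcomul, ?_, ?_, ?_⟩
  · intro a
    change τ0 a ∈ Punion k A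
    obtain ⟨n, hn⟩ : tK (ι a) ∈ Punion (AlgebraicClosure k) (AlgebraicClosure k ⊗[k] A) :=
      tauK_mem (ι a)
    rw [← hτι] at hn
    obtain ⟨ℓ, hℓ⟩ := (Algebra.linearMap k (AlgebraicClosure k)).exists_leftInverse_of_injective
      (LinearMap.ker_eq_bot.2 (algebraMap k (AlgebraicClosure k)).injective)
    have h1 := PfiltBC.Lam_mem_Pfilt (AlgebraicClosure k) n ℓ _ hn
    rw [hιa, PfiltBC.Lam_tmul] at h1
    have h2 : ℓ (1 : AlgebraicClosure k) = 1 := by
      have := congrArg (fun f : k →ₗ[k] k => f 1) hℓ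
      simpa using this
    rw [h2, one_smul] at h1
    exact ⟨n, h1⟩
  · intro a ha
    change τ0 a = a
    apply hιinj
    rw [hτι]
    obtain ⟨n, hn⟩ := ha
    exact tauK_of_mem ⟨n, map_Pfilt hsb n a hn⟩
  · intro a ha
    have ha' : τ0 a = 0 := ha
    have h1 := sub_tauK_mem (K := AlgebraicClosure k) (ι a)
    rw [← htK, ← hτι, ha', map_zero, sub_zero] at h1
    exact h1

end Descent

end Groth.Agent.Lib.helper15.UnipDescent
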