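import Mathlib
import Groth.Agent.Lib.Helper15.UnipDescent
import Groth.Agent.Lib.Helper15.SplitDecomp
import Groth.Agent.Lib.Helper15.HopfImage

/-!
# A commutative affine group over a perfect field is the product of its multiplicative and
unipotent parts (helper15)
-/

set_option autoImplicit false
set_option linter.style.haveILetI false
set_option linter.unusedSectionVars false
universe u
open TensorProduct

namespace Groth.Agent.Lib.helper15.UnipProd

open Groth.Agent.Lib.helper15.HopfSub Groth.Agent.Lib.helper15.Conilp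
  Groth.Agent.Lib.helper15.PfiltOps Groth.Agent.Lib.helper15.UnipSplit
  Groth.Agent.Lib.helper15.UnipDescent Groth.Agent.Lib.helper15.SplitDecomp

variable {k : Type u} [Field k] {A : Type u} [CommRing A] [HopfAlgebra k A]
  [Coalgebra.IsCocomm k A]

/-- the ideal of the largest multiplicative subgroup is generated by the augmentation ideal of the
conilpotent part. -/
lemma J_eq (J : Ideal A) [J.IsHopfIdeal k] (hJ : SGA3b.IsMultTypeConst k (A ⧸ J))
    (hJmax : ∀ (I : Ideal A) [I.IsHopfIdeal k], SGA3b.IsMultTypeConst k (A ⧸ I) → J ≤ I) :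
    J = Takeuchi.augIdeal (Punion k A) := by
  haveI : (Takeuchi.augIdeal (Punion k A)).IsHopfIdeal k :=
    Trig.isHopfIdeal_augIdeal isHopfSub_Punion
  exact le_antisymm (hJmax _ MultMax.isMultTypeConst_quot_augIdeal_Punion)
    (MultMax.augIdeal_Punion_le J hJ)

section Exist

variable (τ : A →ₐc[k] A) (hτ1 : ∀ a, τ a ∈ Punion k A) (hτ2 : ∀ a ∈ Punion k A, τ a = a)

include hτ1 hτ2 in
lemma tau_tau (a : A) : τ (τ a) = τ a := hτ2 _ (hτ1 a)

include hτ1 hτ2 in
lemma pi_sigma : (Bialgebra.Quotient.mkBialgHom (HopfImage.kerIdeal τ)).comp (HopfImage.imHom τ) =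
    BialgHom.id k (A ⧸ HopfImage.kerIdeal τ) := by
  ext d
  obtain ⟨a, rfl⟩ := Ideal.Quotient.mk_surjective d
  change Ideal.Quotient.mk (HopfImage.kerIdeal τ) (τ a) = Ideal.Quotient.mk _ a
  rw [← sub_eq_zero, ← map_sub, Ideal.Quotient.eq_zero_iff_mem, HopfImage.mem_kerIdeal, map_sub,
    tau_tau τ hτ1 hτ2, sub_self]

include hτ1 in
lemma sigma_sub_mem (d : A ⧸ HopfImage.kerIdeal τ) :
    HopfImage.imHom τ d - algebraMap k A (Coalgebra.counit (R := k) d) ∈
      Takeuchi.augIdeal (Punion k A) := by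
  obtain ⟨a, rfl⟩ := Ideal.Quotient.mk_surjective d
  rw [HopfImage.imHom_mk, Bialgebra.Quotient.counit_mk]
  have h1 : Coalgebra.counit (R := k) a = Coalgebra.counit (R := k) (τ a) :=
    (CoalgHomClass.counit_comp_apply τ a).symm
  rw [h1]
  exact Takeuchi.sub_counit_mem_augIdeal (Punion k A) ⟨τ a, hτ1 a⟩

include hτ1 hτ2 in
lemma kappa_eq_zero (x : A) (hx : x ∈ Takeuchi.augIdeal (Punion k A)) :
    kappa (Bialgebra.Quotient.mkBialgHom (HopfImage.kerIdeal τ)) (HopfImage.imHom τ) x = 0 := by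
  have hle : Takeuchi.augIdeal (Punion k A) ≤ RingHom.ker
      ((kappa (Bialgebra.Quotient.mkBialgHom (HopfImage.kerIdeal τ)) (HopfImage.imHom τ) :
        A →ₐ[k] A) : A →+* A) := by
    unfold Takeuchi.augIdeal
    rw [Ideal.span_le]
    rintro b ⟨hb, hb0⟩
    rw [SetLike.mem_coe, RingHom.mem_ker]
    have h1 := kappa_sigma (Bialgebra.Quotient.mkBialgHom (HopfImage.kerIdeal τ))
      (HopfImage.imHom τ) (pi_sigma τ hτ1 hτ2) (Ideal.Quotient.mk _ b)
    rw [HopfImage.imHom_mk, hτ2 b hb, Bialgebra.Quotient.counit_mk, hb0, map_zero] at h1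
    exact h1
  exact hle hx

include hτ1 hτ2 in
set_option maxHeartbeats 400000 in
/-- the product decomposition. -/
theorem bijective_of_tau :
    Function.Bijective ((Algebra.TensorProduct.map
      (Ideal.Quotient.mkₐ k (Takeuchi.augIdeal (Punion k A)))
      (Ideal.Quotient.mkₐ k (HopfImage.kerIdeal τ))).comp (Bialgebra.comulAlgHom k A)) := by
  haveI : (Takeuchi.augIdeal (Punion k A)).IsHopfIdeal k :=
    Trig.isHopfIdeal_augIdeal isHopfSub_Punion
  have h0 := @theta_bijective k _ A (A ⧸ HopfImage.kerIdeal τ) _ _ _ _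
    (Bialgebra.Quotient.mkBialgHom (HopfImage.kerIdeal τ))
    (HopfImage.imHom τ) (Takeuchi.augIdeal (Punion k A)) _
  have hk : ∀ x ∈ Takeuchi.augIdeal (Punion k A),
      kappa (Bialgebra.Quotient.mkBialgHom (HopfImage.kerIdeal τ)) (HopfImage.imHom τ) x = 0 :=
    kappa_eq_zero τ hτ1 hτ2
  have h1 := h0 (pi_sigma τ hτ1 hτ2) (sigma_sub_mem τ hτ1) hk
  have h2 : ⇑((Algebra.TensorProduct.map
      (Ideal.Quotient.mkₐ k (Takeuchi.augIdeal (Punion k A)))
      (Ideal.Quotient.mkₐ k (HopfImage.kerIdeal τ))).comp (Bialgebra.comulAlgHom k A)) =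
      (TensorProduct.comm k _ _) ∘
        (theta (Bialgebra.Quotient.mkBialgHom (HopfImage.kerIdeal τ))
          (Takeuchi.augIdeal (Punion k A))) := by
    funext a
    change TensorProduct.map (Ideal.Quotient.mkₐ k (Takeuchi.augIdeal (Punion k A))).toLinearMap
        (Ideal.Quotient.mkₐ k (HopfImage.kerIdeal τ)).toLinearMap (Coalgebra.comul (R := k) a) =
      TensorProduct.comm k _ _ (TensorProduct.map
        (Ideal.Quotient.mkₐ k (HopfImage.kerIdeal τ)).toLinearMap
        (Ideal.Quotient.mkₐ k (Takeuchi.augIdeal (Punion k A))).toLinearMap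
        (Coalgebra.comul (R := k) a))
    conv_lhs => rw [← Coalgebra.comm_comul k a]
    rw [TensorProduct.map_comm]
  rw [h2]
  exact (TensorProduct.comm k _ _).bijective.comp h1

end Exist

section Unique

variable (K : Type u) [Field K] [Algebra k K]

omit [Coalgebra.IsCocomm k A] in
/-- group-likes die in a unipotent quotient. -/
lemma theta_eq_counit_of_mem_glSub (I' : Ideal A) [I'.IsHopfIdeal k]
    (hU : HopfRep.IsUnipotent k (A ⧸ I')) (b : K ⊗[k] A) (hb : b ∈ Trig.glSub K (K ⊗[k] A)) :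
    MultQuot.theta (R' := K) (K := K) (Bialgebra.Quotient.mkBialgHom I') b =
      algebraMap K (K ⊗[k] (A ⧸ I')) (Coalgebra.counit (R := K) b) := by
  unfold Trig.glSub at hb
  induction hb using Algebra.adjoin_induction with
  | mem g hg =>
    have h1 := MultQuot.isGroupLikeElem_theta (R' := K) (K := K)
      (Bialgebra.Quotient.mkBialgHom I') hg
    rw [UnipMult.groupLike_eq_one_of_unipotent K hU _ h1, hg.counit_eq_one, map_one]
  | algebraMap c =>
    rw [AlgHom.commutes, Bialgebra.counit_algebraMap]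
  | add x y _ _ hx hy => rw [map_add, map_add, map_add, hx, hy]
  | mul x y _ _ hx hy => rw [map_mul, Bialgebra.counit_mul, map_mul, hx, hy]

omit [Coalgebra.IsCocomm k A] in
lemma theta_eq_zero_of_mem_IK (I' : Ideal A) [I'.IsHopfIdeal k]
    (hU : HopfRep.IsUnipotent k (A ⧸ I')) (x : K ⊗[k] A) (hx : x ∈ IK K (K ⊗[k] A)) :
    MultQuot.theta (R' := K) (K := K) (Bialgebra.Quotient.mkBialgHom I') x = 0 := by
  have hle : IK K (K ⊗[k] A) ≤ RingHom.ker
      ((MultQuot.theta (R' := K) (K := K) (Bialgebra.Quotient.mkBialgHom I') :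
        K ⊗[k] A →ₐ[K] K ⊗[k] (A ⧸ I')) : K ⊗[k] A →+* K ⊗[k] (A ⧸ I')) := by
    unfold IK Takeuchi.augIdeal
    rw [Ideal.span_le]
    rintro b ⟨hb, hb0⟩
    rw [SetLike.mem_coe, RingHom.mem_ker]
    have h1 := theta_eq_counit_of_mem_glSub K I' hU b hb
    have hb0' : Coalgebra.counit (R := K) b = 0 := hb0
    rw [hb0', map_zero] at h1
    exact h1
  exact hle hx

omit [Coalgebra.IsCocomm k A] in
lemma ker_le_of_unipotent (τ : A →ₐc[k] A)
    (hτ3 : ∀ a, τ a = 0 → (1 : K) ⊗ₜ[k] a ∈ IK K (K ⊗[k] A))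
    (I' : Ideal A) [I'.IsHopfIdeal k] (hU : HopfRep.IsUnipotent k (A ⧸ I')) :
    HopfImage.kerIdeal τ ≤ I' := by
  intro x hx
  have h1 := theta_eq_zero_of_mem_IK K I' hU _ (hτ3 x hx)
  rw [MultQuot.theta_tmul, map_one] at h1
  have h2 : Function.Injective
      (Algebra.TensorProduct.includeRight : (A ⧸ I') →ₐ[k] K ⊗[k] (A ⧸ I')) :=
    Algebra.TensorProduct.includeRight_injective (algebraMap k K).injective
  have h3 : Bialgebra.Quotient.mkBialgHom (R := k) I' x = 0 := by
    apply h2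
    rw [map_zero]
    exact h1
  exact Ideal.Quotient.eq_zero_iff_mem.1 h3

omit [Coalgebra.IsCocomm k A] in
theorem le_of_bijective (J I I' : Ideal A) [J.IsHopfIdeal k] (hle : I ≤ I')
    (h : Function.Bijective ((Algebra.TensorProduct.map (Ideal.Quotient.mkₐ k J)
      (Ideal.Quotient.mkₐ k I)).comp (Bialgebra.comulAlgHom k A)))
    (h' : Function.Bijective ((Algebra.TensorProduct.map (Ideal.Quotient.mkₐ k J)
      (Ideal.Quotient.mkₐ k I')).comp (Bialgebra.comulAlgHom k A))) : I' ≤ I := by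
  set r : (A ⧸ I) →ₐ[k] (A ⧸ I') := Ideal.Quotient.factorₐ k hle with hr
  have hcomp : (Algebra.TensorProduct.map (AlgHom.id k (A ⧸ J)) r).comp
      ((Algebra.TensorProduct.map (Ideal.Quotient.mkₐ k J)
        (Ideal.Quotient.mkₐ k I)).comp (Bialgebra.comulAlgHom k A)) =
      (Algebra.TensorProduct.map (Ideal.Quotient.mkₐ k J)
        (Ideal.Quotient.mkₐ k I')).comp (Bialgebra.comulAlgHom k A) := by
    rw [← AlgHom.comp_assoc, ← Algebra.TensorProduct.map_comp]
    rfl
  have hinj : Function.Injective (Algebra.TensorProduct.map (AlgHom.id k (A ⧸ J)) r) := by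
    intro y z hyz
    obtain ⟨a, rfl⟩ := h.2 y
    obtain ⟨b, rfl⟩ := h.2 z
    have e : ∀ c : A, (Algebra.TensorProduct.map (AlgHom.id k (A ⧸ J)) r)
        (((Algebra.TensorProduct.map (Ideal.Quotient.mkₐ k J)
          (Ideal.Quotient.mkₐ k I)).comp (Bialgebra.comulAlgHom k A)) c) =
        ((Algebra.TensorProduct.map (Ideal.Quotient.mkₐ k J)
          (Ideal.Quotient.mkₐ k I')).comp (Bialgebra.comulAlgHom k A)) c :=
      fun c => congrArg (fun f : A →ₐ[k] _ => f c) hcomp
    rw [e a, e b] at hyz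
    rw [h'.1 hyz]
  have hrinj : Function.Injective r := by
    intro y z hyz
    have h1 : (Algebra.TensorProduct.map (AlgHom.id k (A ⧸ J)) r) ((1 : A ⧸ J) ⊗ₜ[k] y) =
        (Algebra.TensorProduct.map (AlgHom.id k (A ⧸ J)) r) ((1 : A ⧸ J) ⊗ₜ[k] z) := by
      rw [Algebra.TensorProduct.map_tmul, Algebra.TensorProduct.map_tmul, hyz]
    have h2 := hinj h1
    have h3 := congrArg ((Algebra.TensorProduct.lid k (A ⧸ I)).toAlgHom.comp
      (Algebra.TensorProduct.map (Bialgebra.counitAlgHom k (A ⧸ J)) (AlgHom.id k (A ⧸ I)))) h2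
    simpa using h3
  intro x hx
  have h1 : r (Ideal.Quotient.mk I x) = 0 := by
    change Ideal.Quotient.mk I' x = 0
    exact Ideal.Quotient.eq_zero_iff_mem.2 hx
  have h2 : Ideal.Quotient.mk I x = 0 := hrinj (h1.trans (map_zero r).symm)
  exact Ideal.Quotient.eq_zero_iff_mem.1 h2

end Unique

end Groth.Agent.Lib.helper15.UnipProd
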