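import Mathlib

/-!
# Differentials with single poles on the projective line (helper15)

Shared lemmas for the `W4c4effdivwronsk2` family: the space
`V = D·k[X]_{<b} + ∑ D_i·k[X]_{<a_i}` is the image of `k[X]_{≤N}` under
`F ↦ h` with `h·E = R·(F'E − FE')` ("`h dX / D = d(F/E)`").
-/

set_option autoImplicit false

namespace Groth.Agent.Lib.helper15.Wronsk

open Polynomial

variable {k : Type*} [Field k] {m : ℕ} (r : Fin m → k) (a : Fin m → ℕ)

/-- `E = ∏ (X - r_j)^{a_j}`. -/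
noncomputable def E : k[X] := ∏ j, (X - C (r j)) ^ a j
/-- `R = ∏ (X - r_j)`. -/
noncomputable def Rr : k[X] := ∏ j, (X - C (r j))
/-- `D = ∏ (X - r_j)^{a_j+1}`. -/
noncomputable def D : k[X] := ∏ j, (X - C (r j)) ^ (a j + 1)
/-- `D_i`: omit the `i`-th factor of `D`. -/
noncomputable def Di (i : Fin m) : k[X] := ∏ j ∈ Finset.univ.erase i, (X - C (r j)) ^ (a j + 1)
/-- `E_i`: omit the `i`-th factor of `E`. -/
noncomputable def Ei (i : Fin m) : k[X] := ∏ j ∈ Finset.univ.erase i, (X - C (r j)) ^ a j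
/-- `R_i`: omit the `i`-th factor of `R`. -/
noncomputable def Ri (i : Fin m) : k[X] := ∏ j ∈ Finset.univ.erase i, (X - C (r j))

lemma D_eq : D r a = Rr r * E r a := by
  unfold D Rr E
  rw [← Finset.prod_mul_distrib]
  exact Finset.prod_congr rfl fun _ _ => by rw [pow_succ, mul_comm]

lemma Di_eq (i : Fin m) : Di r a i = Ri r i * Ei r a i := by
  unfold Di Ri Ei
  rw [← Finset.prod_mul_distrib]
  exact Finset.prod_congr rfl fun _ _ => by rw [pow_succ, mul_comm]

lemma E_eq (i : Fin m) : E r a = (X - C (r i)) ^ a i * Ei r a i := by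
  unfold E Ei
  exact (Finset.mul_prod_erase Finset.univ (fun j => (X - C (r j)) ^ a j) (Finset.mem_univ i)).symm

lemma Rr_eq (i : Fin m) : Rr r = (X - C (r i)) * Ri r i := by
  unfold Rr Ri
  exact (Finset.mul_prod_erase Finset.univ (fun j => X - C (r j)) (Finset.mem_univ i)).symm

lemma E_monic : (E r a).Monic := monic_prod_of_monic _ _ fun _ _ => (monic_X_sub_C _).pow _
lemma Rr_monic : (Rr r).Monic := monic_prod_of_monic _ _ fun _ _ => monic_X_sub_C _
lemma Ei_monic (i : Fin m) : (Ei r a i).Monic :=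
  monic_prod_of_monic _ _ fun _ _ => (monic_X_sub_C _).pow _
lemma Ri_monic (i : Fin m) : (Ri r i).Monic := monic_prod_of_monic _ _ fun _ _ => monic_X_sub_C _

lemma E_ne_zero : E r a ≠ 0 := (E_monic r a).ne_zero
lemma Rr_ne_zero : Rr r ≠ 0 := (Rr_monic r).ne_zero

lemma natDegree_E : (E r a).natDegree = ∑ j, a j := by
  unfold E
  rw [natDegree_prod_of_monic _ _ fun _ _ => (monic_X_sub_C _).pow _]
  exact Finset.sum_congr rfl fun _ _ => by
    rw [(monic_X_sub_C _).natDegree_pow, natDegree_X_sub_C, mul_one]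

lemma natDegree_Rr : (Rr r).natDegree = m := by
  unfold Rr
  rw [natDegree_prod_of_monic _ _ fun _ _ => monic_X_sub_C _]
  simp

lemma eval_E_ne_zero {q : k} (hq : ∀ j, q ≠ r j) : (E r a).eval q ≠ 0 := by
  unfold E
  rw [eval_prod]
  refine Finset.prod_ne_zero_iff.mpr fun j _ => ?_
  simp [sub_eq_zero, hq j]

lemma eval_Rr_ne_zero {q : k} (hq : ∀ j, q ≠ r j) : (Rr r).eval q ≠ 0 := by
  unfold Rr
  rw [eval_prod]
  refine Finset.prod_ne_zero_iff.mpr fun j _ => ?_
  simp [sub_eq_zero, hq j]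

/-- The relation "`h dX / D = d(F / E)`", cleared of denominators. -/
def Rel (F h : k[X]) : Prop :=
  h * E r a = Rr r * (derivative F * E r a - F * derivative (E r a))

variable {r a}

lemma Rel.unique {F h₁ h₂ : k[X]} (h1 : Rel r a F h₁) (h2 : Rel r a F h₂) : h₁ = h₂ := by
  unfold Rel at h1 h2
  exact mul_right_cancel₀ (E_ne_zero r a) (h1.trans h2.symm)

lemma Rel.add {F₁ F₂ h₁ h₂ : k[X]} (h1 : Rel r a F₁ h₁) (h2 : Rel r a F₂ h₂) :
    Rel r a (F₁ + F₂) (h₁ + h₂) := by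
  unfold Rel at *
  rw [add_mul, h1, h2, derivative_add]; ring

lemma Rel.sub {F₁ F₂ h₁ h₂ : k[X]} (h1 : Rel r a F₁ h₁) (h2 : Rel r a F₂ h₂) :
    Rel r a (F₁ - F₂) (h₁ - h₂) := by
  unfold Rel at *
  rw [sub_mul, h1, h2, derivative_sub]; ring

lemma Rel.smul {F h : k[X]} (c : k) (h1 : Rel r a F h) : Rel r a (c • F) (c • h) := by
  unfold Rel at *
  rw [smul_mul_assoc, h1, derivative_smul, smul_mul_assoc, smul_mul_assoc, ← smul_sub,
    mul_smul_comm]

variable (r a)

lemma Rel.zero : Rel r a 0 0 := by unfold Rel; simp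

lemma Rel.self : Rel r a (E r a) 0 := by unfold Rel; ring

lemma Rel.sum {ι : Type*} (s : Finset ι) (F h : ι → k[X]) (hh : ∀ i ∈ s, Rel r a (F i) (h i)) :
    Rel r a (∑ i ∈ s, F i) (∑ i ∈ s, h i) := by
  classical
  induction s using Finset.induction_on with
  | empty => simpa using Rel.zero r a
  | insert i s hi ih =>
    rw [Finset.sum_insert hi, Finset.sum_insert hi]
    exact (hh i (Finset.mem_insert_self i s)).add (ih fun j hj => hh j (Finset.mem_insert_of_mem hj))

/-- `d(G) = G' dX`: the pole at infinity. -/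
lemma Rel.mulE (G : k[X]) : Rel r a (E r a * G) (D r a * derivative G) := by
  unfold Rel
  rw [D_eq, derivative_mul]; ring

/-- `d(ρ/(X - r_i)^{a_i})`: the pole at `r_i`. -/
lemma Rel.mulEi (i : Fin m) (hai : 1 ≤ a i) (ρ : k[X]) :
    Rel r a (ρ * Ei r a i)
      (Di r a i * (derivative ρ * (X - C (r i)) - (a i : k[X]) * ρ)) := by
  unfold Rel
  obtain ⟨n, hn⟩ : ∃ n, a i = n + 1 := ⟨a i - 1, by omega⟩
  rw [Di_eq, E_eq r a i, Rr_eq r i, derivative_mul, derivative_mul, derivative_X_sub_C_pow, hn]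
  simp only [Nat.add_sub_cancel, Nat.cast_add, Nat.cast_one, map_add, map_natCast, map_one]
  ring

/-- The image of `k[X]_{≤N}` under `F ↦ h`. -/
def Wsub (N : ℕ) : Submodule k k[X] where
  carrier := {h | ∃ F ∈ degreeLT k (N + 1), Rel r a F h}
  add_mem' := by
    rintro _ _ ⟨F₁, hF₁, h1⟩ ⟨F₂, hF₂, h2⟩
    exact ⟨F₁ + F₂, add_mem hF₁ hF₂, h1.add h2⟩
  zero_mem' := ⟨0, zero_mem _, Rel.zero r a⟩
  smul_mem' := by
    rintro c _ ⟨F, hF, h1⟩
    exact ⟨c • F, Submodule.smul_mem _ c hF, h1.smul c⟩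

lemma mem_Wsub {N : ℕ} {h : k[X]} :
    h ∈ Wsub r a N ↔ ∃ F ∈ degreeLT k (N + 1), Rel r a F h := Iff.rfl

/-- The space `V` of the statements. -/
noncomputable def Vsub (b : ℕ) : Submodule k k[X] :=
  (degreeLT k b).map (LinearMap.mulLeft k (D r a)) ⊔
    ⨆ i, (degreeLT k (a i)).map (LinearMap.mulLeft k (Di r a i))

lemma mem_degreeLT_of_natDegree_lt {f : k[X]} {n : ℕ} (h : f.natDegree < n) :
    f ∈ degreeLT k n := by
  rw [mem_degreeLT]
  exact degree_le_natDegree.trans_lt (by exact_mod_cast h)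

lemma natDegree_Ei (i : Fin m) : (Ei r a i).natDegree = ∑ j ∈ Finset.univ.erase i, a j := by
  unfold Ei
  rw [natDegree_prod_of_monic _ _ fun j _ => (monic_X_sub_C _).pow _]
  exact Finset.sum_congr rfl fun j _ => by
    rw [(monic_X_sub_C _).natDegree_pow, natDegree_X_sub_C, mul_one]

lemma natDegree_E_eq (i : Fin m) : (E r a).natDegree = a i + (Ei r a i).natDegree := by
  rw [natDegree_E, natDegree_Ei, Finset.add_sum_erase _ _ (Finset.mem_univ i)]

lemma degreeLT_le_span_shift (c : k) (n : ℕ) :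
    degreeLT k n ≤ Submodule.span k (Set.range fun l : Fin n => (X - C c) ^ (l : ℕ)) := by
  intro g hg
  rw [← sum_taylor_eq g c, Polynomial.sum]
  refine Submodule.sum_mem _ fun i hi => ?_
  have hg0 : g ≠ 0 := by
    rintro rfl
    simp at hi
  have hi' : i < n := by
    have h1 : i ≤ (taylor c g).natDegree := le_natDegree_of_mem_supp _ hi
    rw [natDegree_taylor] at h1
    have h2 : g.natDegree < n := by
      rw [mem_degreeLT] at hg
      exact (natDegree_lt_iff_degree_lt hg0).mpr hg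
    omega
  rw [← smul_eq_C_mul]
  exact Submodule.smul_mem _ _ (Submodule.subset_span ⟨⟨i, hi'⟩, rfl⟩)

section CharZero

variable [CharZero k]

lemma D_mul_mem_Wsub {N b : ℕ} (hN : N = (∑ j, a j) + b) {g : k[X]} (hg : g ∈ degreeLT k b) :
    D r a * g ∈ Wsub r a N := by
  classical
  rw [degreeLT_eq_span_X_pow] at hg
  induction hg using Submodule.span_induction with
  | mem x hx =>
    rw [Finset.coe_image] at hx
    obtain ⟨n, hn, rfl⟩ := hx
    have hn' : n < b := by simpa using hn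
    refine ⟨E r a * (C ((n + 1 : k)⁻¹) * X ^ (n + 1)), ?_, ?_⟩
    · apply mem_degreeLT_of_natDegree_lt
      have h1 : (E r a * (C ((n + 1 : k)⁻¹) * X ^ (n + 1))).natDegree ≤ (∑ j, a j) + (n + 1) := by
        refine natDegree_mul_le.trans ?_
        rw [natDegree_E]
        exact Nat.add_le_add_left ((natDegree_C_mul_le _ _).trans (by simp)) _
      omega
    · have h1 := Rel.mulE r a (C ((n + 1 : k)⁻¹) * X ^ (n + 1))
      have h2 : derivative (C ((n + 1 : k)⁻¹) * X ^ (n + 1) : k[X]) = X ^ n := by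
        rw [derivative_C_mul, derivative_X_pow, ← mul_assoc, ← C_mul]
        have : ((n + 1 : k)⁻¹) * ((n + 1 : ℕ) : k) = 1 := by
          rw [Nat.cast_add, Nat.cast_one]
          exact inv_mul_cancel₀ (Nat.cast_add_one_ne_zero n)
        rw [this, C_1, one_mul, Nat.add_sub_cancel]
      rwa [h2] at h1
  | zero => rw [mul_zero]; exact zero_mem _
  | add x y _ _ hx hy => rw [mul_add]; exact add_mem hx hy
  | smul c x _ hx => rw [mul_smul_comm]; exact Submodule.smul_mem _ c hx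

lemma derivative_shift_pow_mul (c : k) (l : ℕ) :
    derivative ((X - C c) ^ l) * (X - C c) = (l : k[X]) * (X - C c) ^ l := by
  cases l with
  | zero => simp
  | succ n =>
    rw [derivative_X_sub_C_pow, Nat.add_sub_cancel, map_natCast, pow_succ]; ring

lemma Di_mul_mem_Wsub {N b : ℕ} (hN : N = (∑ j, a j) + b) (ha : ∀ j, 1 ≤ a j) (i : Fin m)
    {g : k[X]} (hg : g ∈ degreeLT k (a i)) : Di r a i * g ∈ Wsub r a N := by
  have hg' := degreeLT_le_span_shift (r i) (a i) hg
  clear hg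
  induction hg' using Submodule.span_induction with
  | mem x hx =>
    obtain ⟨l, rfl⟩ := hx
    have hl : (l : ℕ) < a i := l.2
    have h1 := Rel.mulEi r a i (ha i) ((X - C (r i)) ^ (l : ℕ))
    rw [derivative_shift_pow_mul] at h1
    have hne : ((l : ℕ) : k) - (a i : k) ≠ 0 := by
      rw [sub_ne_zero]
      exact_mod_cast hl.ne
    have h2 : Di r a i * ((X - C (r i)) ^ (l : ℕ)) =
        (((l : ℕ) : k) - (a i : k))⁻¹ •
          (Di r a i * (((l : ℕ) : k[X]) * (X - C (r i)) ^ (l : ℕ) -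
            (a i : k[X]) * (X - C (r i)) ^ (l : ℕ))) := by
      rw [← sub_mul, ← map_natCast (C : k →+* k[X]), ← map_natCast (C : k →+* k[X]) (a i),
        ← C_sub, ← smul_eq_C_mul, mul_smul_comm, smul_smul, inv_mul_cancel₀ hne, one_smul]
    rw [h2]
    refine Submodule.smul_mem _ _ ⟨_, ?_, h1⟩
    apply mem_degreeLT_of_natDegree_lt
    have h3 : ((X - C (r i)) ^ (l : ℕ) * Ei r a i).natDegree ≤ (l : ℕ) + (Ei r a i).natDegree := by
      refine natDegree_mul_le.trans ?_
      rw [(monic_X_sub_C _).natDegree_pow, natDegree_X_sub_C, mul_one]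
    have h4 := natDegree_E_eq r a i
    rw [natDegree_E] at h4
    omega
  | zero => rw [mul_zero]; exact zero_mem _
  | add x y _ _ hx hy => rw [mul_add]; exact add_mem hx hy
  | smul c x _ hx => rw [mul_smul_comm]; exact Submodule.smul_mem _ c hx

lemma Vsub_le_Wsub {N b : ℕ} (hN : N = (∑ j, a j) + b) (ha : ∀ j, 1 ≤ a j) :
    Vsub r a b ≤ Wsub r a N := by
  unfold Vsub
  refine sup_le ?_ (iSup_le fun i => ?_)
  · rintro _ ⟨g, hg, rfl⟩
    exact D_mul_mem_Wsub r a hN hg
  · rintro _ ⟨g, hg, rfl⟩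
    exact Di_mul_mem_Wsub r a hN ha i hg

end CharZero

lemma mem_degreeLT_Phi (c : k) (n : ℕ) (hn : 1 ≤ n) {ρ : k[X]} (hρ : ρ ∈ degreeLT k n) :
    derivative ρ * (X - C c) - (n : k[X]) * ρ ∈ degreeLT k n := by
  rw [mem_degreeLT, degree_lt_iff_coeff_zero] at hρ ⊢
  intro l hl
  obtain ⟨l', rfl⟩ : ∃ l', l = l' + 1 := ⟨l - 1, by omega⟩
  rw [coeff_sub, coeff_mul_X_sub_C, coeff_natCast_mul, coeff_derivative, coeff_derivative,
    hρ (l' + 1) hl, hρ (l' + 1 + 1) (by omega)]
  simp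

lemma derivative_mem_degreeLT {q : k[X]} {b : ℕ} (hq : q.natDegree ≤ b) :
    derivative q ∈ degreeLT k b := by
  rw [mem_degreeLT, degree_lt_iff_coeff_zero]
  intro l hl
  rw [coeff_derivative, coeff_eq_zero_of_natDegree_lt (by omega), zero_mul]

lemma Wsub_le_Vsub {N b : ℕ} (hN : N = (∑ j, a j) + b) (ha : ∀ j, 1 ≤ a j)
    (hr : Function.Injective r) : Wsub r a N ≤ Vsub r a b := by
  classical
  rintro h ⟨F, hF, hrel⟩
  obtain ⟨q, ρ, hρ, hFeq⟩ := eq_quo_mul_prod_add_sum_rem_mul_prod (s := Finset.univ) F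
    (g := fun j => (X - C (r j)) ^ a j) (fun j _ => (monic_X_sub_C _).pow _)
    (fun i _ j _ hij => ((pairwise_coprime_X_sub_C hr) hij).pow)
  change F = q * E r a + ∑ i, ρ i * Ei r a i at hFeq
  have hdeg : ∀ i, (ρ i).degree < (a i : ℕ) := by
    intro i
    have := hρ i (Finset.mem_univ i)
    rwa [degree_pow, degree_X_sub_C, nsmul_one] at this
  -- the relation for the decomposition
  have hrel' : Rel r a F (D r a * derivative q +
      ∑ i, Di r a i * (derivative (ρ i) * (X - C (r i)) - (a i : k[X]) * ρ i)) := by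
    rw [hFeq, mul_comm q]
    exact (Rel.mulE r a q).add (Rel.sum r a _ _ _ fun i _ => Rel.mulEi r a i (ha i) (ρ i))
  rw [hrel.unique hrel']
  -- degree of q
  have hq : q.natDegree ≤ b := by
    by_cases hq0 : q = 0
    · simp [hq0]
    have hS : (∑ i, ρ i * Ei r a i).degree < ((E r a).natDegree : ℕ) := by
      refine (degree_sum_le _ _).trans_lt ?_
      rw [Finset.sup_lt_iff (by exact_mod_cast WithBot.bot_lt_coe _)]
      intro i _
      rw [natDegree_E_eq r a i, degree_mul, degree_eq_natDegree (Ei_monic r a i).ne_zero,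
        Nat.cast_add]
      exact WithBot.add_lt_add_right (WithBot.coe_ne_bot) (hdeg i)
    have hqE : (q * E r a).degree ≤ (N : ℕ) := by
      have : q * E r a = F - ∑ i, ρ i * Ei r a i := by rw [hFeq]; ring
      rw [this]
      refine (degree_sub_le _ _).trans (max_le ?_ ?_)
      · rw [mem_degreeLT] at hF
        exact Order.le_of_lt_succ (by exact_mod_cast hF)
      · refine hS.le.trans ?_
        rw [natDegree_E]
        exact_mod_cast (by omega : (∑ j, a j) ≤ N)
    have h1 : (q * E r a).natDegree ≤ N := natDegree_le_iff_degree_le.mpr hqE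
    rw [natDegree_mul hq0 (E_ne_zero r a), natDegree_E] at h1
    omega
  unfold Vsub
  refine add_mem (Submodule.mem_sup_left ⟨_, derivative_mem_degreeLT hq, rfl⟩)
    (Submodule.mem_sup_right (Submodule.sum_mem _ fun i _ => ?_))
  refine Submodule.mem_iSup_of_mem i ⟨_, mem_degreeLT_Phi (r i) (a i) (ha i) ?_, rfl⟩
  rw [mem_degreeLT]
  exact hdeg i

theorem Vsub_eq_Wsub [CharZero k] {N b : ℕ} (hN : N = (∑ j, a j) + b) (ha : ∀ j, 1 ≤ a j)
    (hr : Function.Injective r) : Vsub r a b = Wsub r a N :=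
  le_antisymm (Vsub_le_Wsub r a hN ha) (Wsub_le_Vsub r a hN ha hr)

section Key

variable {r a}

lemma isCoprime_pow_E {q : k} (hq : ∀ j, q ≠ r j) (n : ℕ) :
    IsCoprime ((X - C q) ^ n) (E r a) := by
  refine IsCoprime.pow_left ?_
  rw [(irreducible_X_sub_C q).coprime_iff_not_dvd, dvd_iff_isRoot]
  exact eval_E_ne_zero r a hq

lemma isCoprime_pow_Rr {q : k} (hq : ∀ j, q ≠ r j) (n : ℕ) :
    IsCoprime ((X - C q) ^ n) (Rr r) := by
  refine IsCoprime.pow_left ?_
  rw [(irreducible_X_sub_C q).coprime_iff_not_dvd, dvd_iff_isRoot]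
  exact eval_Rr_ne_zero r hq

/-- Normalise `F` at an unmarked point `q` by subtracting a multiple of `E`. -/
lemma Rel.exists_normalize {F h : k[X]} (hrel : Rel r a F h) {q : k} (hq : ∀ j, q ≠ r j) :
    ∃ c : k, Rel r a (F - c • E r a) h ∧ (F - c • E r a).IsRoot q := by
  refine ⟨F.eval q / (E r a).eval q, ?_, ?_⟩
  · have := hrel.sub ((Rel.self r a).smul (F.eval q / (E r a).eval q))
    simpa using this
  · simp [IsRoot, eval_sub, eval_smul, div_mul_cancel₀ _ (eval_E_ne_zero r a hq)]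

/-- If `(X-q)^{n+1} ∣ G` then `(X-q)^n ∣ h`. -/
lemma Rel.dvd_of_dvd {G h : k[X]} (hrel : Rel r a G h) {q : k} (hq : ∀ j, q ≠ r j) {n : ℕ}
    (hG : (X - C q) ^ (n + 1) ∣ G) : (X - C q) ^ n ∣ h := by
  obtain ⟨G₁, rfl⟩ := hG
  have h1 : (X - C q) ^ n ∣ derivative ((X - C q) ^ (n + 1) * G₁) := by
    rw [derivative_mul, derivative_X_sub_C_pow, Nat.add_sub_cancel, pow_succ]
    exact dvd_add ((dvd_mul_left _ _).mul_right _) ((dvd_mul_right _ _).mul_right _)
  have h2 : (X - C q) ^ n ∣ (X - C q) ^ (n + 1) * G₁ :=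
    (pow_dvd_pow _ (Nat.le_succ n)).mul_right _
  have h3 : (X - C q) ^ n ∣ h * E r a := by
    rw [hrel]
    exact (dvd_sub (h1.mul_right _) (h2.mul_right _)).mul_left _
  exact (isCoprime_pow_E hq n).dvd_of_dvd_mul_right h3

/-- If `G(q) = 0` and `(X-q)^n ∣ h` then `(X-q)^{n+1} ∣ G` (characteristic zero). -/
lemma Rel.dvd_of_dvd' [CharZero k] {G h : k[X]} (hrel : Rel r a G h) {q : k}
    (hq : ∀ j, q ≠ r j) (hroot : G.IsRoot q) {n : ℕ} (hh : (X - C q) ^ n ∣ h) :
    (X - C q) ^ (n + 1) ∣ G := by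
  by_cases hG0 : G = 0
  · rw [hG0]; exact dvd_zero _
  by_contra hnd
  set l := rootMultiplicity q G with hl
  have hl1 : 1 ≤ l := (rootMultiplicity_pos hG0).mpr hroot
  have hln : l ≤ n := by
    by_contra hcon
    exact hnd ((le_rootMultiplicity_iff hG0).mp (by omega))
  have hlG : (X - C q) ^ l ∣ G := pow_rootMultiplicity_dvd G q
  have hlh : (X - C q) ^ l ∣ h := (pow_dvd_pow _ hln).trans hh
  have hder0 : derivative G ≠ 0 := by
    intro h0
    have h1 := Polynomial.derivative_eq_zero.mp h0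
    rw [eq_C_of_natDegree_eq_zero h1] at hroot hG0
    simp only [IsRoot, eval_C] at hroot
    rw [hroot] at hG0
    simp at hG0
  have h3 : (X - C q) ^ l ∣ derivative G * (Rr r * E r a) := by
    have : derivative G * (Rr r * E r a) = h * E r a + Rr r * G * derivative (E r a) := by
      rw [hrel]; ring
    rw [this]
    exact dvd_add (hlh.mul_right _) ((hlG.mul_left _).mul_right _)
  have h4 : (X - C q) ^ l ∣ derivative G :=
    (IsCoprime.mul_right (isCoprime_pow_Rr hq l) (isCoprime_pow_E hq l)).dvd_of_dvd_mul_right h3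
  have h5 := (le_rootMultiplicity_iff hder0).mpr h4
  rw [derivative_rootMultiplicity_of_root hroot] at h5
  omega

lemma natDegree_E_le {N b : ℕ} (hN : N = (∑ j, a j) + b) : (E r a).natDegree ≤ N := by
  rw [natDegree_E]; omega

lemma E_mem_degreeLT {N b : ℕ} (hN : N = (∑ j, a j) + b) : E r a ∈ degreeLT k (N + 1) :=
  mem_degreeLT_of_natDegree_lt (Nat.lt_succ_of_le (natDegree_E_le hN))

/-- Members of `Wsub` divisible by `(X-q)^n` come from `G` divisible by `(X-q)^{n+1}`. -/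
lemma mem_Wsub_dvd_iff [CharZero k] {N b : ℕ} (hN : N = (∑ j, a j) + b) {q : k}
    (hq : ∀ j, q ≠ r j) {n : ℕ} {h : k[X]} :
    (h ∈ Wsub r a N ∧ (X - C q) ^ n ∣ h) ↔
      ∃ G ∈ degreeLT k (N + 1), (X - C q) ^ (n + 1) ∣ G ∧ Rel r a G h := by
  constructor
  · rintro ⟨⟨F, hF, hrel⟩, hdvd⟩
    obtain ⟨c, hrel', hroot⟩ := hrel.exists_normalize hq
    exact ⟨F - c • E r a, sub_mem hF (Submodule.smul_mem _ c (E_mem_degreeLT hN)),
      hrel'.dvd_of_dvd' hq hroot hdvd, hrel'⟩
  · rintro ⟨G, hG, hdvd, hrel⟩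
    exact ⟨⟨G, hG, hrel⟩, hrel.dvd_of_dvd hq hdvd⟩

/-- No nonzero member of `Wsub r a N` is divisible by `(X-q)^N`, `q` unmarked. -/
theorem eq_zero_of_mem_Wsub_of_pow_dvd [CharZero k] {N b : ℕ} (hN : N = (∑ j, a j) + b) {q : k}
    (hq : ∀ j, q ≠ r j) {h : k[X]} (hh : h ∈ Wsub r a N) (hdvd : (X - C q) ^ N ∣ h) : h = 0 := by
  obtain ⟨G, hG, hGd, hrel⟩ := (mem_Wsub_dvd_iff hN hq).mp ⟨hh, hdvd⟩
  have hG0 : G = 0 := by
    refine eq_zero_of_dvd_of_degree_lt hGd ?_
    rw [mem_degreeLT] at hG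
    rwa [degree_pow, degree_X_sub_C, nsmul_one]
  rw [hG0] at hrel
  exact hrel.unique (Rel.zero r a)

end Key

section Wmap

/-- `S = ∑ a_i R_i`, so that `E'/E = S/R`. -/
noncomputable def Ss : k[X] := ∑ i, (a i : k[X]) * Ri r i

lemma Ss_mul_E : Ss r a * E r a = Rr r * derivative (E r a) := by
  classical
  unfold Ss
  rw [Finset.sum_mul]
  conv_rhs => rw [E, derivative_prod_finset, Finset.mul_sum]
  refine Finset.sum_congr rfl fun i _ => ?_
  change _ = Rr r * (Ei r a i * derivative ((X - C (r i)) ^ a i))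
  rw [E_eq r a i, Rr_eq r i, derivative_X_sub_C_pow, map_natCast]
  rcases Nat.eq_zero_or_pos (a i) with h0 | hpos
  · simp [h0]
  · obtain ⟨n, hn⟩ : ∃ n, a i = n + 1 := ⟨a i - 1, by omega⟩
    rw [hn, Nat.add_sub_cancel, pow_succ]; ring

/-- The linear map `F ↦ F'R − F S`. -/
noncomputable def Wmap : k[X] →ₗ[k] k[X] :=
  (LinearMap.mulRight k (Rr r)).comp derivative - LinearMap.mulRight k (Ss r a)

lemma Wmap_apply (F : k[X]) : Wmap r a F = derivative F * Rr r - F * Ss r a := by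
  simp [Wmap]

lemma rel_Wmap (F : k[X]) : Rel r a F (Wmap r a F) := by
  unfold Rel
  rw [Wmap_apply]
  linear_combination (-F) * Ss_mul_E r a

lemma Rel.eq_Wmap {F h : k[X]} (hrel : Rel r a F h) : h = Wmap r a F :=
  hrel.unique (rel_Wmap r a F)

lemma Wsub_eq_map (N : ℕ) : Wsub r a N = (degreeLT k (N + 1)).map (Wmap r a) := by
  ext h
  constructor
  · rintro ⟨F, hF, hrel⟩
    exact ⟨F, hF, (hrel.eq_Wmap r a).symm⟩
  · rintro ⟨F, hF, rfl⟩
    exact ⟨F, hF, rel_Wmap r a F⟩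

lemma Wsub_mono {N N' : ℕ} (h : N ≤ N') : Wsub r a N ≤ Wsub r a N' := by
  rintro x ⟨F, hF, hrel⟩
  exact ⟨F, degreeLT_mono (Nat.succ_le_succ h) hF, hrel⟩

lemma finrank_degreeLT (n : ℕ) : Module.finrank k (degreeLT k n) = n := by
  rw [(degreeLTEquiv k n).finrank_eq, Module.finrank_fin_fun]

instance (n : ℕ) : FiniteDimensional k (degreeLT k n) :=
  Module.Finite.equiv (degreeLTEquiv k n).symm

lemma exists_unmarked [CharZero k] : ∃ q : k, ∀ j, q ≠ r j := by
  obtain ⟨q, hq⟩ := (Set.finite_range r).infinite_compl.nonempty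
  exact ⟨q, fun j hj => hq ⟨j, hj.symm⟩⟩

/-- The kernel of `Wmap` in degree `≤ N` is spanned by `E`. -/
lemma eq_smul_E_of_Wmap_eq_zero [CharZero k] {N : ℕ} (hE : (E r a).natDegree ≤ N) {F : k[X]}
    (hF : F ∈ degreeLT k (N + 1)) (h0 : Wmap r a F = 0) : ∃ c : k, F = c • E r a := by
  obtain ⟨q, hq⟩ := exists_unmarked r
  have hrel : Rel r a F 0 := h0 ▸ rel_Wmap r a F
  obtain ⟨c, hrel', hroot⟩ := hrel.exists_normalize hq
  refine ⟨c, ?_⟩
  have hdvd := hrel'.dvd_of_dvd' hq hroot (dvd_zero ((X - C q) ^ N))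
  have hG : F - c • E r a ∈ degreeLT k (N + 1) :=
    sub_mem hF (Submodule.smul_mem _ c (mem_degreeLT_of_natDegree_lt (Nat.lt_succ_of_le hE)))
  have : F - c • E r a = 0 := by
    refine eq_zero_of_dvd_of_degree_lt hdvd ?_
    rw [mem_degreeLT] at hG
    rwa [degree_pow, degree_X_sub_C, nsmul_one]
  exact sub_eq_zero.mp this

theorem finrank_Wsub [CharZero k] {N : ℕ} (hE : (E r a).natDegree ≤ N) :
    Module.finrank k (Wsub r a N) = N := by
  have hEmem : E r a ∈ degreeLT k (N + 1) := mem_degreeLT_of_natDegree_lt (Nat.lt_succ_of_le hE)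
  set f := (Wmap r a).domRestrict (degreeLT k (N + 1)) with hf
  have hrange : LinearMap.range f = Wsub r a N := by
    rw [hf, LinearMap.range_domRestrict, Wsub_eq_map]
  have hker : LinearMap.ker f = Submodule.span k {(⟨E r a, hEmem⟩ : degreeLT k (N + 1))} := by
    ext ⟨F, hF⟩
    rw [LinearMap.mem_ker, Submodule.mem_span_singleton]
    constructor
    · intro h0
      obtain ⟨c, hc⟩ := eq_smul_E_of_Wmap_eq_zero r a hE hF h0
      exact ⟨c, Subtype.ext hc.symm⟩
    · rintro ⟨c, hc⟩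
      have : F = c • E r a := (congrArg Subtype.val hc).symm
      change Wmap r a F = 0
      rw [this, map_smul, ← (Rel.self r a).eq_Wmap r a, smul_zero]
  have h1 := LinearMap.finrank_range_add_finrank_ker f
  rw [hrange, hker, finrank_degreeLT, finrank_span_singleton] at h1
  · omega
  · intro h0
    exact E_ne_zero r a (congrArg Subtype.val h0)

end Wmap

section TopTwo

lemma coeff_X_sub_C_pow (q : k) (n l : ℕ) :
    ((X - C q) ^ n).coeff l = (-q) ^ (n - l) * (n.choose l : k) := by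
  rw [sub_eq_add_neg, ← C_neg, coeff_X_add_C_pow]

/-- If a submodule contains `k[X]_{<N-1}` and two members of `k[X]_{≤N}` whose top two
coefficients are independent, it contains `k[X]_{≤N}`. -/
lemma degreeLT_le_of_top_two {N : ℕ} (hN1 : 1 ≤ N) (P : Submodule k k[X])
    (hP : degreeLT k (N - 1) ≤ P) {F₁ F₂ : k[X]} (h1 : F₁ ∈ P) (h2 : F₂ ∈ P)
    (hd1 : F₁ ∈ degreeLT k (N + 1)) (hd2 : F₂ ∈ degreeLT k (N + 1))
    (hdet : F₁.coeff N * F₂.coeff (N - 1) - F₁.coeff (N - 1) * F₂.coeff N ≠ 0) :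
    degreeLT k (N + 1) ≤ P := by
  intro F hF
  set c₁ := F₁.coeff N
  set d₁ := F₁.coeff (N - 1)
  set c₂ := F₂.coeff N
  set d₂ := F₂.coeff (N - 1)
  set det := c₁ * d₂ - d₁ * c₂ with hdet'
  set α := (F.coeff N * d₂ - F.coeff (N - 1) * c₂) / det with hα
  set β := (c₁ * F.coeff (N - 1) - d₁ * F.coeff N) / det with hβ
  have hF₀ : F - α • F₁ - β • F₂ ∈ degreeLT k (N - 1) := by
    rw [mem_degreeLT, degree_lt_iff_coeff_zero]
    rw [mem_degreeLT, degree_lt_iff_coeff_zero] at hF hd1 hd2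
    intro l hl
    rw [coeff_sub, coeff_sub, coeff_smul, coeff_smul, smul_eq_mul, smul_eq_mul]
    rcases lt_trichotomy l N with hlt | heq | hgt
    · have : l = N - 1 := by omega
      subst this
      rw [hα, hβ]
      field_simp
      ring
    · subst heq
      rw [hα, hβ]
      field_simp
      ring
    · rw [hF l (by omega), hd1 l (by omega), hd2 l (by omega)]; ring
  have : F = (F - α • F₁ - β • F₂) + α • F₁ + β • F₂ := by ring
  rw [this]
  exact add_mem (add_mem (hP hF₀) (P.smul_mem α h1)) (P.smul_mem β h2)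

lemma pow_mem_degreeLT (q : k) (n : ℕ) : (X - C q) ^ n ∈ degreeLT k (n + 1) := by
  apply mem_degreeLT_of_natDegree_lt
  rw [(monic_X_sub_C q).natDegree_pow, natDegree_X_sub_C, mul_one]
  exact Nat.lt_succ_self n

lemma pow_mul_X_mem_degreeLT (q : k) (n : ℕ) : (X - C q) ^ n * X ∈ degreeLT k (n + 2) := by
  apply mem_degreeLT_of_natDegree_lt
  refine natDegree_mul_le.trans_lt ?_
  rw [(monic_X_sub_C q).natDegree_pow, natDegree_X_sub_C, mul_one, natDegree_X]
  omega

/-- Members of `k[X]_{≤ n+1}` divisible by `(X-q)^n`. -/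
lemma mem_span_pair_of_pow_dvd (q : k) {n : ℕ} {G : k[X]} (hG : G ∈ degreeLT k (n + 2))
    (hdvd : (X - C q) ^ n ∣ G) :
    G ∈ Submodule.span k {(X - C q) ^ n, (X - C q) ^ n * X} := by
  obtain ⟨G₁, rfl⟩ := hdvd
  by_cases h0 : G₁ = 0
  · rw [h0, mul_zero]; exact zero_mem _
  have hdeg : G₁.natDegree ≤ 1 := by
    rw [mem_degreeLT] at hG
    have h1 : ((X - C q) ^ n * G₁).natDegree < n + 2 := by
      rw [natDegree_lt_iff_degree_lt (mul_ne_zero (pow_ne_zero _ (X_sub_C_ne_zero q)) h0)]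
      exact hG
    rw [natDegree_mul (pow_ne_zero _ (X_sub_C_ne_zero q)) h0, (monic_X_sub_C q).natDegree_pow,
      natDegree_X_sub_C, mul_one] at h1
    omega
  have hG₁ : G₁ = C (G₁.coeff 0) + C (G₁.coeff 1) * X := by
    conv_lhs => rw [eq_X_add_C_of_natDegree_le_one hdeg]
    ring
  have hG₂ : (X - C q) ^ n * G₁ =
      G₁.coeff 0 • (X - C q) ^ n + G₁.coeff 1 • ((X - C q) ^ n * X) := by
    conv_lhs => rw [hG₁]
    simp only [smul_eq_C_mul]
    ring
  rw [hG₂]
  exact add_mem (Submodule.smul_mem _ _ (Submodule.subset_span (by simp)))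
    (Submodule.smul_mem _ _ (Submodule.subset_span (by simp)))

/-- Members of `k[X]_{≤ n}` divisible by `(X-q)^n`. -/
lemma eq_smul_pow_of_pow_dvd (q : k) {n : ℕ} {G : k[X]} (hG : G ∈ degreeLT k (n + 1))
    (hdvd : (X - C q) ^ n ∣ G) : ∃ c : k, G = c • (X - C q) ^ n := by
  obtain ⟨G₁, rfl⟩ := hdvd
  by_cases h0 : G₁ = 0
  · exact ⟨0, by rw [h0, mul_zero, zero_smul]⟩
  have hdeg : G₁.natDegree = 0 := by
    rw [mem_degreeLT] at hG
    have h1 : ((X - C q) ^ n * G₁).natDegree < n + 1 := by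
      rw [natDegree_lt_iff_degree_lt (mul_ne_zero (pow_ne_zero _ (X_sub_C_ne_zero q)) h0)]
      exact hG
    rw [natDegree_mul (pow_ne_zero _ (X_sub_C_ne_zero q)) h0, (monic_X_sub_C q).natDegree_pow,
      natDegree_X_sub_C, mul_one] at h1
    omega
  refine ⟨G₁.coeff 0, ?_⟩
  conv_lhs => rw [eq_C_of_natDegree_eq_zero hdeg]
  rw [mul_comm, ← smul_eq_C_mul]

end TopTwo

section Hyperplane

variable [CharZero k] {r a} {N b : ℕ}

instance (N : ℕ) : FiniteDimensional k (Wsub r a N) := by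
  rw [Wsub_eq_map]; infer_instance

lemma Vsub_le_comap (hN : N = (∑ j, a j) + b) (hb : 1 ≤ b) (ha : ∀ j, 1 ≤ a j)
    (hr : Function.Injective r) {V₁ : Submodule k k[X]} (hU : Vsub r a (b - 2) ≤ V₁) :
    degreeLT k (N - 1) ≤ V₁.comap (Wmap r a) := by
  intro F hF
  rw [Submodule.mem_comap]
  apply hU
  rw [Vsub_eq_Wsub r a (N := (∑ j, a j) + (b - 2)) rfl ha hr]
  exact ⟨F, degreeLT_mono (by omega) hF, rel_Wmap r a F⟩

lemma not_degreeLT_le_comap (hN : N = (∑ j, a j) + b) (ha : ∀ j, 1 ≤ a j)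
    (hr : Function.Injective r) {V₁ : Submodule k k[X]} (hV₁ : V₁ ≤ Vsub r a b)
    (hfin : Module.finrank k V₁ + 1 = N) : ¬ degreeLT k (N + 1) ≤ V₁.comap (Wmap r a) := by
  intro hle
  rw [Vsub_eq_Wsub r a hN ha hr] at hV₁
  have : FiniteDimensional k V₁ := Submodule.finiteDimensional_of_le hV₁
  have h1 : Wsub r a N ≤ V₁ := by
    rw [Wsub_eq_map, Submodule.map_le_iff_le_comap]; exact hle
  have h2 := Submodule.finrank_mono h1
  rw [finrank_Wsub r a (natDegree_E_le hN)] at h2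
  omega

omit [CharZero k] in
lemma mem_span_restrictScalars {f h : k[X]} :
    h ∈ (Ideal.span {f}).restrictScalars k ↔ f ∣ h := by
  rw [Submodule.restrictScalars_mem]
  exact Ideal.mem_span_singleton

/-- At most a line of members of the hyperplane is divisible by `(X-q)^{N-2}`. -/
theorem finrank_hyperplane_le_one (hN : N = (∑ j, a j) + b) (hb : 1 ≤ b) (ha : ∀ j, 1 ≤ a j)
    (hr : Function.Injective r) {V₁ : Submodule k k[X]} (hV₁ : V₁ ≤ Vsub r a b)
    (hfin : Module.finrank k V₁ + 1 = N) (hU : Vsub r a (b - 2) ≤ V₁) {q : k}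
    (hq : ∀ j, q ≠ r j) :
    Module.finrank k ↥(V₁ ⊓ (Ideal.span {(X - C q) ^ (N - 2)}).restrictScalars k) ≤ 1 := by
  have hN1 : 1 ≤ N := by omega
  set S₂ : Submodule k k[X] :=
    Submodule.span k {(X - C q) ^ (N - 1), (X - C q) ^ (N - 1) * X} with hS₂
  set Q := V₁.comap (Wmap r a) ⊓ S₂ with hQ
  have hS₂fin : Module.finrank k S₂ ≤ 2 := by
    classical
    have hcoe : (({(X - C q) ^ (N - 1), (X - C q) ^ (N - 1) * X} : Finset k[X]) : Set k[X]) =
        {(X - C q) ^ (N - 1), (X - C q) ^ (N - 1) * X} := by simp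
    have := finrank_span_finset_le_card (R := k)
      ({(X - C q) ^ (N - 1), (X - C q) ^ (N - 1) * X} : Finset k[X])
    rw [Set.finrank, hcoe] at this
    exact this.trans Finset.card_le_two
  have hS₂fd : FiniteDimensional k S₂ := by
    rw [hS₂]
    exact FiniteDimensional.span_of_finite k (by simp)
  have hQfd : FiniteDimensional k Q := Submodule.finiteDimensional_of_le inf_le_right
  -- claim 1
  have hcl1 : V₁ ⊓ (Ideal.span {(X - C q) ^ (N - 2)}).restrictScalars k ≤ Q.map (Wmap r a) := by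
    rintro h ⟨hh1, hh2⟩
    have hdvd : (X - C q) ^ (N - 2) ∣ h := mem_span_restrictScalars.mp hh2
    have hW : h ∈ Wsub r a N := by
      rw [← Vsub_eq_Wsub r a hN ha hr]; exact hV₁ hh1
    obtain ⟨G, hG, hGd, hrel⟩ := (mem_Wsub_dvd_iff hN hq).mp ⟨hW, hdvd⟩
    have hGd' : (X - C q) ^ (N - 1) ∣ G := (pow_dvd_pow _ (by omega)).trans hGd
    have hGS : G ∈ S₂ := by
      have hG' : G ∈ degreeLT k (N - 1 + 2) := by
        have : N - 1 + 2 = N + 1 := by omega
        rw [this]; exact hG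
      exact mem_span_pair_of_pow_dvd q hG' hGd'
    refine ⟨G, ⟨?_, hGS⟩, (hrel.eq_Wmap r a).symm⟩
    change Wmap r a G ∈ V₁
    rw [← hrel.eq_Wmap r a]; exact hh1
  -- claim 2
  have hcl2 : Module.finrank k Q ≤ 1 := by
    have hlt : Q < S₂ := by
      refine lt_of_le_of_ne inf_le_right fun heq => ?_
      have hS₂le : S₂ ≤ V₁.comap (Wmap r a) := by
        rw [← heq]; exact inf_le_left
      have h1 : (X - C q) ^ (N - 1) ∈ V₁.comap (Wmap r a) :=
        hS₂le (Submodule.subset_span (by simp))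
      have h2 : (X - C q) ^ (N - 1) * X ∈ V₁.comap (Wmap r a) :=
        hS₂le (Submodule.subset_span (by simp))
      refine not_degreeLT_le_comap hN ha hr hV₁ hfin
        (degreeLT_le_of_top_two hN1 _ (Vsub_le_comap hN hb ha hr hU) h1 h2 ?_ ?_ ?_)
      · exact degreeLT_mono (by omega) (pow_mem_degreeLT q (N - 1))
      · have := pow_mul_X_mem_degreeLT q (N - 1)
        have h3 : N - 1 + 2 = N + 1 := by omega
        rwa [h3] at this
      · have e1 : ((X - C q) ^ (N - 1)).coeff N = 0 := by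
          apply coeff_eq_zero_of_natDegree_lt
          rw [(monic_X_sub_C q).natDegree_pow, natDegree_X_sub_C, mul_one]; omega
        have e2 : ((X - C q) ^ (N - 1)).coeff (N - 1) = 1 := by
          have := ((monic_X_sub_C q).pow (N - 1)).coeff_natDegree
          rwa [(monic_X_sub_C q).natDegree_pow, natDegree_X_sub_C, mul_one] at this
        have e3 : ((X - C q) ^ (N - 1) * X).coeff N = 1 := by
          obtain ⟨n, rfl⟩ : ∃ n, N = n + 1 := ⟨N - 1, by omega⟩
          rw [coeff_mul_X]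
          simpa using e2
        rw [e1, e2, e3]; simp
    have := Submodule.finrank_lt_finrank_of_lt hlt
    omega
  have hmapfd : FiniteDimensional k (Q.map (Wmap r a)) := inferInstance
  exact (Submodule.finrank_mono hcl1).trans ((Submodule.finrank_map_le _ _).trans hcl2)

/-- If a nonzero member of the hyperplane is divisible by `(X-q)^{N-1}` then `(X-q)^N`
lies in the preimage of the hyperplane. -/
lemma pow_mem_comap_of_ne_bot (hN : N = (∑ j, a j) + b) (hb : 1 ≤ b) (ha : ∀ j, 1 ≤ a j)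
    (hr : Function.Injective r) {V₁ : Submodule k k[X]} (hV₁ : V₁ ≤ Vsub r a b) {q : k}
    (hq : ∀ j, q ≠ r j)
    (hne : V₁ ⊓ (Ideal.span {(X - C q) ^ (N - 1)}).restrictScalars k ≠ ⊥) :
    (X - C q) ^ N ∈ V₁.comap (Wmap r a) := by
  have hN1 : 1 ≤ N := by omega
  obtain ⟨h, ⟨hh1, hh2⟩, hh0⟩ := (Submodule.ne_bot_iff _).mp hne
  have hdvd : (X - C q) ^ (N - 1) ∣ h := mem_span_restrictScalars.mp hh2
  have hW : h ∈ Wsub r a N := by
    rw [← Vsub_eq_Wsub r a hN ha hr]; exact hV₁ hh1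
  obtain ⟨G, hG, hGd, hrel⟩ := (mem_Wsub_dvd_iff hN hq).mp ⟨hW, hdvd⟩
  have hN' : N - 1 + 1 = N := by omega
  rw [hN'] at hGd
  obtain ⟨c, hc⟩ := eq_smul_pow_of_pow_dvd q hG hGd
  have hc0 : c ≠ 0 := by
    rintro rfl
    rw [zero_smul] at hc
    rw [hc] at hrel
    exact hh0 (hrel.unique (Rel.zero r a))
  have hGmem : G ∈ V₁.comap (Wmap r a) := by
    change Wmap r a G ∈ V₁
    rw [← hrel.eq_Wmap r a]; exact hh1
  have : (X - C q) ^ N = c⁻¹ • G := by
    rw [hc, smul_smul, inv_mul_cancel₀ hc0, one_smul]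
  rw [this]
  exact Submodule.smul_mem _ _ hGmem

/-- At most one unmarked point carries a nonzero member divisible by `(X-q)^{N-1}`. -/
theorem eq_of_hyperplane_ne_bot (hN : N = (∑ j, a j) + b) (hb : 1 ≤ b) (ha : ∀ j, 1 ≤ a j)
    (hr : Function.Injective r) {V₁ : Submodule k k[X]} (hV₁ : V₁ ≤ Vsub r a b)
    (hfin : Module.finrank k V₁ + 1 = N) (hU : Vsub r a (b - 2) ≤ V₁) {q q' : k}
    (hq : ∀ j, q ≠ r j) (hq' : ∀ j, q' ≠ r j)
    (hne : V₁ ⊓ (Ideal.span {(X - C q) ^ (N - 1)}).restrictScalars k ≠ ⊥)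
    (hne' : V₁ ⊓ (Ideal.span {(X - C q') ^ (N - 1)}).restrictScalars k ≠ ⊥) : q = q' := by
  have hN1 : 1 ≤ N := by omega
  by_contra hqq
  have h1 := pow_mem_comap_of_ne_bot hN hb ha hr hV₁ hq hne
  have h2 := pow_mem_comap_of_ne_bot hN hb ha hr hV₁ hq' hne'
  refine not_degreeLT_le_comap hN ha hr hV₁ hfin
    (degreeLT_le_of_top_two hN1 _ (Vsub_le_comap hN hb ha hr hU) h1 h2
      (pow_mem_degreeLT q N) (pow_mem_degreeLT q' N) ?_)
  obtain ⟨n, rfl⟩ : ∃ n, N = n + 1 := ⟨N - 1, by omega⟩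
  rw [coeff_X_sub_C_pow, coeff_X_sub_C_pow, coeff_X_sub_C_pow, coeff_X_sub_C_pow]
  simp only [Nat.add_sub_cancel, Nat.sub_self, pow_zero, Nat.choose_self, Nat.cast_one, one_mul,
    Nat.add_sub_cancel_left, pow_one, Nat.choose_succ_self_right]
  have hn : ((n + 1 : ℕ) : k) ≠ 0 := Nat.cast_ne_zero.mpr (Nat.succ_ne_zero n)
  intro h0
  apply hqq
  have : ((n + 1 : ℕ) : k) * (q - q') = 0 := by linear_combination h0
  rcases mul_eq_zero.mp this with h | h
  · exact absurd h hn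
  · exact sub_eq_zero.mp h

end Hyperplane

section Drop

variable [CharZero k] {r a} {N b : ℕ}

/-- `V(-p) = W((X-p)^2 k[X]_{≤N-2})`. -/
lemma mem_Wsub_inf_iff (hN : N = (∑ j, a j) + b) {p : k} (hp : ∀ j, p ≠ r j) {h : k[X]} :
    h ∈ Wsub r a N ⊓ (Ideal.span {X - C p}).restrictScalars k ↔
      ∃ G ∈ degreeLT k (N + 1), (X - C p) ^ 2 ∣ G ∧ Rel r a G h := by
  rw [Submodule.mem_inf, mem_span_restrictScalars]
  have := mem_Wsub_dvd_iff (r := r) (a := a) hN hp (n := 1) (h := h)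
  rw [pow_one] at this
  exact this

omit [CharZero k] in
lemma eval_eq_zero_of_sq_dvd {p : k} {u : k[X]} (h : (X - C p) ^ 2 ∣ u) :
    u.eval p = 0 ∧ (derivative u).eval p = 0 := by
  obtain ⟨v, rfl⟩ := h
  constructor
  · simp
  · rw [derivative_mul, derivative_X_sub_C_pow]
    simp

theorem finrank_drop (hN : N = (∑ j, a j) + b) (hb : 1 ≤ b) {p : k} (hp : ∀ j, p ≠ r j) :
    Module.finrank k ↥(Wsub r a N ⊓ (Ideal.span {X - C p}).restrictScalars k) + 1 = N := by
  have hN1 : 1 ≤ N := by omega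
  set g : k[X] →ₗ[k] k[X] := (Wmap r a).comp (LinearMap.mulLeft k ((X - C p) ^ 2)) with hg
  set f := g.domRestrict (degreeLT k (N - 1)) with hf
  have hrange : LinearMap.range f = Wsub r a N ⊓ (Ideal.span {X - C p}).restrictScalars k := by
    rw [hf, LinearMap.range_domRestrict]
    ext h
    rw [mem_Wsub_inf_iff hN hp]
    constructor
    · rintro ⟨G₁, hG₁, rfl⟩
      refine ⟨(X - C p) ^ 2 * G₁, ?_, dvd_mul_right _ _, rel_Wmap r a _⟩
      by_cases h0 : G₁ = 0
      · rw [h0, mul_zero]; exact zero_mem _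
      apply mem_degreeLT_of_natDegree_lt
      have h1 : G₁.natDegree < N - 1 := by
        rw [natDegree_lt_iff_degree_lt h0]; exact mem_degreeLT.mp hG₁
      rw [natDegree_mul (pow_ne_zero _ (X_sub_C_ne_zero p)) h0, (monic_X_sub_C p).natDegree_pow,
        natDegree_X_sub_C]
      omega
    · rintro ⟨G, hG, ⟨G₁, rfl⟩, hrel⟩
      refine ⟨G₁, ?_, (hrel.eq_Wmap r a).symm⟩
      by_cases h0 : G₁ = 0
      · rw [h0]; exact zero_mem _
      have h1 : ((X - C p) ^ 2 * G₁).natDegree < N + 1 := by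
        rw [natDegree_lt_iff_degree_lt (mul_ne_zero (pow_ne_zero _ (X_sub_C_ne_zero p)) h0)]
        exact mem_degreeLT.mp hG
      rw [natDegree_mul (pow_ne_zero _ (X_sub_C_ne_zero p)) h0, (monic_X_sub_C p).natDegree_pow,
        natDegree_X_sub_C] at h1
      exact mem_degreeLT_of_natDegree_lt (by omega)
  have hinj : Function.Injective f := by
    rw [← LinearMap.ker_eq_bot, eq_bot_iff]
    rintro ⟨G₁, hG₁⟩ hker
    rw [LinearMap.mem_ker, hf, LinearMap.domRestrict_apply, hg, LinearMap.comp_apply,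
      LinearMap.mulLeft_apply] at hker
    have hmem : (X - C p) ^ 2 * G₁ ∈ degreeLT k (N + 1) := by
      by_cases h0 : G₁ = 0
      · rw [h0, mul_zero]; exact zero_mem _
      apply mem_degreeLT_of_natDegree_lt
      have h1 : G₁.natDegree < N - 1 := by
        rw [natDegree_lt_iff_degree_lt h0]; exact mem_degreeLT.mp hG₁
      rw [natDegree_mul (pow_ne_zero _ (X_sub_C_ne_zero p)) h0, (monic_X_sub_C p).natDegree_pow,
        natDegree_X_sub_C]
      omega
    obtain ⟨c, hc⟩ := eq_smul_E_of_Wmap_eq_zero r a (natDegree_E_le hN) hmem hker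
    have hc0 : c = 0 := by
      have h1 := congrArg (eval p) hc
      rw [eval_mul, eval_pow, eval_sub, eval_X, eval_C, sub_self, eval_smul, smul_eq_mul] at h1
      have h2 : c * eval p (E r a) = 0 := by rw [← h1]; ring
      exact (mul_eq_zero.mp h2).resolve_right (eval_E_ne_zero r a hp)
    rw [hc0, zero_smul] at hc
    have hG₁0 : G₁ = 0 := (mul_eq_zero.mp hc).resolve_left (pow_ne_zero _ (X_sub_C_ne_zero p))
    rw [Submodule.mem_bot]
    exact Subtype.ext hG₁0
  have h1 := LinearMap.finrank_range_of_inj hinj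
  rw [hrange, finrank_degreeLT] at h1
  omega

end Drop

section Drop2

variable [CharZero k] {r a} {N b : ℕ}

lemma Rel.exists_sq_dvd {G h : k[X]} (hrel : Rel r a G h) {p : k} (hp : ∀ j, p ≠ r j)
    (hdvd : (X - C p) ∣ h) : ∃ c : k, (X - C p) ^ 2 ∣ G - c • E r a := by
  obtain ⟨c, hrel', hroot⟩ := hrel.exists_normalize hp
  refine ⟨c, ?_⟩
  have := hrel'.dvd_of_dvd' hp hroot (n := 1) (by rwa [pow_one])
  exact this

omit [CharZero k] in
lemma isCoprime_sq_pow {p q : k} (hpq : q ≠ p) (n : ℕ) :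
    IsCoprime ((X - C p) ^ 2) ((X - C q) ^ n) :=
  (isCoprime_X_sub_C_of_isUnit_sub (sub_ne_zero.mpr hpq.symm).isUnit).pow

theorem finrank_drop_le_one (hN : N = (∑ j, a j) + b) (hb : 1 ≤ b) {p : k}
    (hp : ∀ j, p ≠ r j) {q : k} (hq : ∀ j, q ≠ r j) (hqp : q ≠ p) :
    Module.finrank k ↥((Wsub r a N ⊓ (Ideal.span {X - C p}).restrictScalars k) ⊓
      (Ideal.span {(X - C q) ^ (N - 2)}).restrictScalars k) ≤ 1 := by
  have hN1 : 1 ≤ N := by omega
  set S₂ : Submodule k k[X] :=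
    Submodule.span k {(X - C q) ^ (N - 1), (X - C q) ^ (N - 1) * X} with hS₂
  set T₂ : Submodule k k[X] :=
    Submodule.span k {E r a} ⊔ (Ideal.span {(X - C p) ^ 2}).restrictScalars k with hT₂
  set Q := T₂ ⊓ S₂ with hQ
  have hS₂fin : Module.finrank k S₂ ≤ 2 := by
    classical
    have hcoe : (({(X - C q) ^ (N - 1), (X - C q) ^ (N - 1) * X} : Finset k[X]) : Set k[X]) =
        {(X - C q) ^ (N - 1), (X - C q) ^ (N - 1) * X} := by simp
    have := finrank_span_finset_le_card (R := k)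
      ({(X - C q) ^ (N - 1), (X - C q) ^ (N - 1) * X} : Finset k[X])
    rw [Set.finrank, hcoe] at this
    exact this.trans Finset.card_le_two
  have hS₂fd : FiniteDimensional k S₂ := by
    rw [hS₂]
    exact FiniteDimensional.span_of_finite k (by simp)
  have hQfd : FiniteDimensional k Q := Submodule.finiteDimensional_of_le inf_le_right
  have hcl1 : (Wsub r a N ⊓ (Ideal.span {X - C p}).restrictScalars k) ⊓
      (Ideal.span {(X - C q) ^ (N - 2)}).restrictScalars k ≤ Q.map (Wmap r a) := by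
    rintro h ⟨⟨hW, hh1⟩, hh2⟩
    have hdvd : (X - C q) ^ (N - 2) ∣ h := mem_span_restrictScalars.mp hh2
    have hdvdp : (X - C p) ∣ h := mem_span_restrictScalars.mp hh1
    obtain ⟨G, hG, hGd, hrel⟩ := (mem_Wsub_dvd_iff hN hq).mp ⟨hW, hdvd⟩
    have hGd' : (X - C q) ^ (N - 1) ∣ G := (pow_dvd_pow _ (by omega)).trans hGd
    have hGS : G ∈ S₂ := by
      have hG' : G ∈ degreeLT k (N - 1 + 2) := by
        have : N - 1 + 2 = N + 1 := by omega
        rw [this]; exact hG
      exact mem_span_pair_of_pow_dvd q hG' hGd'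
    obtain ⟨c, hc⟩ := hrel.exists_sq_dvd hp hdvdp
    have hGT : G ∈ T₂ := by
      have : G = c • E r a + (G - c • E r a) := by ring
      rw [this]
      exact add_mem (Submodule.mem_sup_left (Submodule.smul_mem _ c (Submodule.subset_span rfl)))
        (Submodule.mem_sup_right (mem_span_restrictScalars.mpr hc))
    exact ⟨G, ⟨hGT, hGS⟩, (hrel.eq_Wmap r a).symm⟩
  have hcl2 : Module.finrank k Q ≤ 1 := by
    have hlt : Q < S₂ := by
      refine lt_of_le_of_ne inf_le_right fun heq => ?_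
      have hS₂le : S₂ ≤ T₂ := by
        rw [← heq]; exact inf_le_left
      have h1 : (X - C q) ^ (N - 1) ∈ T₂ := hS₂le (Submodule.subset_span (by simp))
      have h2 : (X - C q) ^ (N - 1) * X ∈ T₂ := hS₂le (Submodule.subset_span (by simp))
      obtain ⟨e₁, he₁, u₁, hu₁, h1eq⟩ := Submodule.mem_sup.mp h1
      obtain ⟨e₂, he₂, u₂, hu₂, h2eq⟩ := Submodule.mem_sup.mp h2
      obtain ⟨c₁, rfl⟩ := Submodule.mem_span_singleton.mp he₁
      obtain ⟨c₂, rfl⟩ := Submodule.mem_span_singleton.mp he₂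
      have hu₁' : (X - C p) ^ 2 ∣ u₁ := mem_span_restrictScalars.mp hu₁
      have hu₂' : (X - C p) ^ 2 ∣ u₂ := mem_span_restrictScalars.mp hu₂
      have h3 : (X - C p) ^ 2 ∣ (X - C q) ^ (N - 1) * (C c₂ - C c₁ * X) := by
        have : (X - C q) ^ (N - 1) * (C c₂ - C c₁ * X) = C c₂ * u₁ - C c₁ * u₂ := by
          have e1 : c₁ • E r a = C c₁ * E r a := smul_eq_C_mul c₁
          have e2 : c₂ • E r a = C c₂ * E r a := smul_eq_C_mul c₂
          rw [e1] at h1eq
          rw [e2] at h2eq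
          linear_combination (-(C c₂)) * h1eq + (C c₁) * h2eq
        rw [this]
        exact dvd_sub (hu₁'.mul_left _) (hu₂'.mul_left _)
      have h4 : (X - C p) ^ 2 ∣ C c₂ - C c₁ * X :=
        (isCoprime_sq_pow hqp (N - 1)).dvd_of_dvd_mul_left h3
      have h5 : C c₂ - C c₁ * X = 0 := by
        refine eq_zero_of_dvd_of_degree_lt h4 ?_
        rw [degree_pow, degree_X_sub_C, nsmul_one]
        refine (degree_sub_le _ _).trans_lt (max_lt ?_ ?_)
        · exact degree_C_le.trans_lt (by norm_num)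
        · exact (degree_C_mul_X_le c₁).trans_lt (by norm_num)
      have hc₁ : c₁ = 0 := by
        have := congrArg (fun f => coeff f 1) h5
        simpa using this
      have hc₂ : c₂ = 0 := by
        have := congrArg (fun f => coeff f 0) h5
        simpa using this
      rw [hc₁, zero_smul, zero_add] at h1eq
      rw [h1eq] at hu₁'
      have h6 : IsUnit ((X - C p) ^ 2) :=
        (isCoprime_sq_pow hqp (N - 1)).isUnit_of_dvd' dvd_rfl hu₁'
      exact not_isUnit_X_sub_C p ((isUnit_pow_iff (by norm_num)).mp h6)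
    have := Submodule.finrank_lt_finrank_of_lt hlt
    omega
  have hmapfd : FiniteDimensional k (Q.map (Wmap r a)) := inferInstance
  exact (Submodule.finrank_mono hcl1).trans ((Submodule.finrank_map_le _ _).trans hcl2)

/-- The equation cutting out the possible ramification point of `V(-p)`. -/
lemma drop_point_eq (hN : N = (∑ j, a j) + b) (hb : 1 ≤ b) {p : k} (hp : ∀ j, p ≠ r j) {q : k}
    (hq : ∀ j, q ≠ r j) (hqp : q ≠ p)
    (hne : (Wsub r a N ⊓ (Ideal.span {X - C p}).restrictScalars k) ⊓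
      (Ideal.span {(X - C q) ^ (N - 1)}).restrictScalars k ≠ ⊥) :
    (N : k) * (E r a).eval p = (p - q) * (derivative (E r a)).eval p := by
  have hN1 : 1 ≤ N := by omega
  obtain ⟨h, ⟨⟨hW, hh1⟩, hh2⟩, hh0⟩ := (Submodule.ne_bot_iff _).mp hne
  have hdvd : (X - C q) ^ (N - 1) ∣ h := mem_span_restrictScalars.mp hh2
  have hdvdp : (X - C p) ∣ h := mem_span_restrictScalars.mp hh1
  obtain ⟨G, hG, hGd, hrel⟩ := (mem_Wsub_dvd_iff hN hq).mp ⟨hW, hdvd⟩
  have hN' : N - 1 + 1 = N := by omega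
  rw [hN'] at hGd
  obtain ⟨c, hc⟩ := eq_smul_pow_of_pow_dvd q hG hGd
  have hc0 : c ≠ 0 := by
    rintro rfl
    rw [zero_smul] at hc
    rw [hc] at hrel
    exact hh0 (hrel.unique (Rel.zero r a))
  obtain ⟨c', hc'⟩ := hrel.exists_sq_dvd hp hdvdp
  obtain ⟨e1, e2⟩ := eval_eq_zero_of_sq_dvd hc'
  rw [hc] at e1 e2
  obtain ⟨n, rfl⟩ : ∃ n, N = n + 1 := ⟨N - 1, by omega⟩
  rw [derivative_sub, derivative_smul, derivative_smul, derivative_X_sub_C_pow] at e2
  simp only [eval_sub, eval_smul, eval_pow, eval_X, eval_C, smul_eq_mul, eval_mul, eval_natCast,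
    Nat.add_sub_cancel, map_natCast] at e1 e2
  have hpq : p - q ≠ 0 := sub_ne_zero.mpr hqp.symm
  have hpow : (p - q) ^ n ≠ 0 := pow_ne_zero _ hpq
  have key : c * (p - q) ^ n * (((n + 1 : ℕ) : k) * (E r a).eval p -
      (p - q) * (derivative (E r a)).eval p) = 0 := by
    have e1' : c * (p - q) ^ (n + 1) = c' * (E r a).eval p := by linear_combination e1
    have e2' : c * (((n + 1 : ℕ) : k) * (p - q) ^ n) = c' * (derivative (E r a)).eval p := by
      linear_combination e2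
    rw [pow_succ] at e1'
    linear_combination (E r a).eval p * e2' - (derivative (E r a)).eval p * e1'
  have := (mul_eq_zero.mp key).resolve_left (mul_ne_zero hc0 hpow)
  exact sub_eq_zero.mp this

theorem eq_of_drop_ne_bot (hN : N = (∑ j, a j) + b) (hb : 1 ≤ b) {p : k} (hp : ∀ j, p ≠ r j)
    {q q' : k} (hq : ∀ j, q ≠ r j) (hqp : q ≠ p) (hq' : ∀ j, q' ≠ r j) (hqp' : q' ≠ p)
    (hne : (Wsub r a N ⊓ (Ideal.span {X - C p}).restrictScalars k) ⊓
      (Ideal.span {(X - C q) ^ (N - 1)}).restrictScalars k ≠ ⊥)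
    (hne' : (Wsub r a N ⊓ (Ideal.span {X - C p}).restrictScalars k) ⊓
      (Ideal.span {(X - C q') ^ (N - 1)}).restrictScalars k ≠ ⊥) : q = q' := by
  have h1 := drop_point_eq hN hb hp hq hqp hne
  have h2 := drop_point_eq hN hb hp hq' hqp' hne'
  by_contra hqq
  have h3 : (q' - q) * (derivative (E r a)).eval p = 0 := by linear_combination h2 - h1
  have h4 : (derivative (E r a)).eval p = 0 :=
    (mul_eq_zero.mp h3).resolve_left (sub_ne_zero.mpr (Ne.symm hqq))
  rw [h4, mul_zero] at h1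
  have hN0 : (N : k) ≠ 0 := Nat.cast_ne_zero.mpr (by omega)
  exact (mul_ne_zero hN0 (eval_E_ne_zero r a hp)) h1

end Drop2

end Groth.Agent.Lib.helper15.Wronsk
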