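import Groth.Agent.Lib.Helper15.Wronsk

/-!
# Vanishing sequences of the polar space `V` at the marked points (helper15)

Continuation of `Wronsk.lean`: with `V = Wsub N = Wmap (k[X]_{≤ N})`, we compute
`dim (V ⊓ ((X - r_i)^n))` and `dim (V ⊓ k[X]_{< N + m - n})`.
-/

set_option linter.style.haveILetI false

namespace Groth.Agent.Lib.helper15.Wronsk

open Polynomial

variable {k : Type*} [Field k] {m : ℕ} (r : Fin m → k) (a : Fin m → ℕ)

section Local

lemma dvd_Ri_of_ne {i j : Fin m} (h : i ≠ j) : (X - C (r i)) ∣ Ri r j :=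
  Finset.dvd_prod_of_mem _ (Finset.mem_erase.mpr ⟨h, Finset.mem_univ _⟩)

lemma exists_Ss_eq (i : Fin m) :
    ∃ T : k[X], Ss r a = (a i : k[X]) * Ri r i + (X - C (r i)) * T := by
  classical
  have h1 : (X - C (r i)) ∣ ∑ j ∈ Finset.univ.erase i, (a j : k[X]) * Ri r j := by
    refine Finset.dvd_sum fun j hj => ?_
    exact Dvd.dvd.mul_left (dvd_Ri_of_ne r (Finset.ne_of_mem_erase hj).symm) _
  obtain ⟨T, hT⟩ := h1
  refine ⟨T, ?_⟩
  rw [← hT, Ss]
  exact (Finset.add_sum_erase _ (fun j => (a j : k[X]) * Ri r j) (Finset.mem_univ i)).symm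

lemma Wmap_pow_mul (i : Fin m) (l : ℕ) (G : k[X]) :
    ∃ T : k[X], Wmap r a ((X - C (r i)) ^ l * G) =
      (X - C (r i)) ^ l *
        (((l : k[X]) - (a i : k[X])) * (G * Ri r i) + (X - C (r i)) * T) := by
  obtain ⟨T, hT⟩ := exists_Ss_eq r a i
  refine ⟨derivative G * Ri r i - G * T, ?_⟩
  rw [Wmap_apply, hT, Rr_eq r i, derivative_mul, derivative_X_sub_C_pow]
  rcases Nat.eq_zero_or_pos l with rfl | hl
  · simp only [Nat.cast_zero, map_zero, zero_mul, pow_zero, one_mul, zero_add]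
    ring
  · obtain ⟨n, rfl⟩ : ∃ n, l = n + 1 := ⟨l - 1, by omega⟩
    simp only [Nat.add_sub_cancel, Nat.cast_add, Nat.cast_one, map_add, map_natCast, map_one]
    ring

variable {r}

lemma eval_Ri_ne_zero (hr : Function.Injective r) (i : Fin m) : (Ri r i).eval (r i) ≠ 0 := by
  rw [Ri, eval_prod]
  refine Finset.prod_ne_zero_iff.mpr fun j hj => ?_
  rw [eval_sub, eval_X, eval_C, sub_ne_zero]
  exact fun h => (Finset.ne_of_mem_erase hj) (hr h).symm

lemma eval_Ei_ne_zero (hr : Function.Injective r) (i : Fin m) :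
    (Ei r a i).eval (r i) ≠ 0 := by
  rw [Ei, eval_prod]
  refine Finset.prod_ne_zero_iff.mpr fun j hj => ?_
  rw [eval_pow, eval_sub, eval_X, eval_C]
  exact pow_ne_zero _ (sub_ne_zero.mpr fun h => (Finset.ne_of_mem_erase hj) (hr h).symm)

lemma not_dvd_Ri (hr : Function.Injective r) (i : Fin m) : ¬ (X - C (r i)) ∣ Ri r i := by
  rw [dvd_iff_isRoot]
  exact eval_Ri_ne_zero hr i

lemma not_dvd_Ei (hr : Function.Injective r) (i : Fin m) : ¬ (X - C (r i)) ∣ Ei r a i := by
  rw [dvd_iff_isRoot]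
  exact eval_Ei_ne_zero a hr i

lemma pow_dvd_E_iff (hr : Function.Injective r) (i : Fin m) (n : ℕ) :
    (X - C (r i)) ^ n ∣ E r a ↔ n ≤ a i := by
  constructor
  · intro h
    by_contra hlt
    push Not at hlt
    have h1 : (X - C (r i)) ^ (a i + 1) ∣ E r a := (pow_dvd_pow _ hlt).trans h
    rw [E_eq r a i, pow_succ, mul_dvd_mul_iff_left (pow_ne_zero _ (X_sub_C_ne_zero _))] at h1
    exact not_dvd_Ei a hr i h1
  · intro h
    rw [E_eq r a i]
    exact Dvd.dvd.mul_right (pow_dvd_pow _ h) _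

lemma le_of_pow_dvd_Wmap [CharZero k] (hr : Function.Injective r) (i : Fin m) {l n : ℕ}
    {G : k[X]} (hl : l ≠ a i) (hG : ¬ (X - C (r i)) ∣ G)
    (hdvd : (X - C (r i)) ^ n ∣ Wmap r a ((X - C (r i)) ^ l * G)) : n ≤ l := by
  by_contra hlt
  push Not at hlt
  obtain ⟨T, hT⟩ := Wmap_pow_mul r a i l G
  have h1 : (X - C (r i)) ^ (l + 1) ∣ Wmap r a ((X - C (r i)) ^ l * G) :=
    (pow_dvd_pow _ hlt).trans hdvd
  rw [hT, pow_succ, mul_dvd_mul_iff_left (pow_ne_zero _ (X_sub_C_ne_zero _))] at h1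
  have h2 : (X - C (r i)) ∣ ((l : k[X]) - (a i : k[X])) * (G * Ri r i) :=
    (dvd_add_left (dvd_mul_right _ _)).mp h1
  have hp : Prime (X - C (r i)) := prime_X_sub_C _
  rcases hp.dvd_or_dvd h2 with h3 | h3
  · have h4 : ((l : k[X]) - (a i : k[X])) = C ((l : k) - (a i : k)) := by simp
    rw [h4, dvd_iff_isRoot, IsRoot.def, eval_C] at h3
    exact (sub_ne_zero.mpr (by exact_mod_cast hl)) h3
  · rcases hp.dvd_or_dvd h3 with h4 | h4
    · exact hG h4
    · exact not_dvd_Ri hr i h4

theorem exists_sub_smul_E_dvd [CharZero k] (hr : Function.Injective r) (i : Fin m) {n : ℕ}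
    {F : k[X]} (hdvd : (X - C (r i)) ^ n ∣ Wmap r a F) :
    ∃ c : k, (X - C (r i)) ^ n ∣ F - c • E r a := by
  have aux : ∀ F' : k[X], F' ≠ 0 → rootMultiplicity (r i) F' ≠ a i →
      (X - C (r i)) ^ n ∣ Wmap r a F' → (X - C (r i)) ^ n ∣ F' := by
    intro F' h0 hl hd
    obtain ⟨G, hG, hGn⟩ := exists_eq_pow_rootMultiplicity_mul_and_not_dvd F' h0 (r i)
    obtain ⟨l, hl'⟩ : ∃ l, l = rootMultiplicity (r i) F' := ⟨_, rfl⟩
    rw [← hl'] at hG hl
    rw [hG] at hd ⊢
    exact Dvd.dvd.mul_right (pow_dvd_pow _ (le_of_pow_dvd_Wmap a hr i hl hGn hd)) _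
  by_cases hE : (X - C (r i)) ^ (a i) ∣ F
  · obtain ⟨G₀, hG₀⟩ := hE
    obtain ⟨c, hc⟩ : ∃ c : k, c = G₀.eval (r i) / (Ei r a i).eval (r i) := ⟨_, rfl⟩
    refine ⟨c, ?_⟩
    have h1 : (X - C (r i)) ^ (a i + 1) ∣ F - c • E r a := by
      have h2 : (X - C (r i)) ∣ G₀ - c • Ei r a i := by
        rw [dvd_iff_isRoot, IsRoot.def, eval_sub, eval_smul, _root_.smul_eq_mul, hc,
          div_mul_cancel₀ _ (eval_Ei_ne_zero a hr i), sub_self]
      obtain ⟨Q, hQ⟩ := h2
      refine ⟨Q, ?_⟩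
      rw [hG₀, E_eq r a i, pow_succ, mul_assoc, ← hQ, mul_sub, mul_smul_comm]
    by_cases h0 : F - c • E r a = 0
    · rw [h0]; exact dvd_zero _
    · refine aux _ h0 ?_ ?_
      · have := (le_rootMultiplicity_iff h0).mpr h1
        omega
      · rw [map_sub, map_smul, ← (Rel.self r a).eq_Wmap r a, smul_zero, sub_zero]
        exact hdvd
  · refine ⟨0, ?_⟩
    rw [zero_smul, sub_zero]
    have h0 : F ≠ 0 := by rintro rfl; exact hE (dvd_zero _)
    refine aux F h0 ?_ hdvd
    intro hl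
    exact hE (hl ▸ pow_rootMultiplicity_dvd F (r i))

end Local

section Count

lemma degreeLT_inf_span (q : k) (M n : ℕ) :
    degreeLT k M ⊓ (Ideal.span {(X - C q) ^ n}).restrictScalars k =
      (degreeLT k (M - n)).map (LinearMap.mulLeft k ((X - C q) ^ n)) := by
  ext h
  rw [Submodule.mem_inf, mem_span_restrictScalars, Submodule.mem_map]
  constructor
  · rintro ⟨hdeg, g, rfl⟩
    refine ⟨g, ?_, rfl⟩
    rw [mem_degreeLT] at hdeg ⊢
    rcases eq_or_ne g 0 with rfl | hg
    · simp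
    · rw [degree_mul, degree_pow, degree_X_sub_C, nsmul_one, degree_eq_natDegree hg] at hdeg
      rw [degree_eq_natDegree hg]
      have h1 : n + g.natDegree < M := by exact_mod_cast hdeg
      exact_mod_cast (by omega : g.natDegree < M - n)
  · rintro ⟨g, hg, rfl⟩
    refine ⟨?_, g, rfl⟩
    rw [mem_degreeLT] at hg ⊢
    rw [LinearMap.mulLeft_apply, degree_mul, degree_pow, degree_X_sub_C, nsmul_one]
    rcases eq_or_ne g 0 with rfl | hg0
    · simp
    · rw [degree_eq_natDegree hg0] at hg ⊢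
      have h1 : g.natDegree < M - n := by exact_mod_cast hg
      exact_mod_cast (by omega : n + g.natDegree < M)

lemma finrank_degreeLT_inf_span (q : k) (M n : ℕ) :
    Module.finrank k ↥(degreeLT k M ⊓ (Ideal.span {(X - C q) ^ n}).restrictScalars k) =
      M - n := by
  rw [degreeLT_inf_span]
  have hinj : Function.Injective (LinearMap.mulLeft k ((X - C q) ^ n)) := by
    intro x y hxy
    exact mul_left_cancel₀ (pow_ne_zero _ (X_sub_C_ne_zero q)) hxy
  rw [← (Submodule.equivMapOfInjective _ hinj (degreeLT k (M - n))).finrank_eq, finrank_degreeLT]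

lemma finrank_map_Wmap_aux {N : ℕ}
    (U : Submodule k k[X]) (hU : U ≤ degreeLT k (N + 1)) :
    ∃ f : ↥U →ₗ[k] k[X], (∀ x : U, f x = Wmap r a x.1) ∧
      Module.finrank k ↥(U.map (Wmap r a)) + Module.finrank k ↥(LinearMap.ker f) =
        Module.finrank k ↥U := by
  haveI : FiniteDimensional k ↥U := Submodule.finiteDimensional_of_le hU
  obtain ⟨f, hf⟩ : ∃ f, f = (Wmap r a).domRestrict U := ⟨_, rfl⟩
  have hfa : ∀ x : U, f x = Wmap r a x.1 := fun x => by rw [hf]; rfl
  have hrange : LinearMap.range f = U.map (Wmap r a) := by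
    rw [hf, LinearMap.range_domRestrict]
  have h1 := LinearMap.finrank_range_add_finrank_ker f
  rw [hrange] at h1
  exact ⟨f, hfa, h1⟩

theorem finrank_map_Wmap_of_mem [CharZero k] {N : ℕ} (hE : (E r a).natDegree ≤ N)
    (U : Submodule k k[X]) (hU : U ≤ degreeLT k (N + 1)) (hEU : E r a ∈ U) :
    Module.finrank k ↥(U.map (Wmap r a)) + 1 = Module.finrank k ↥U := by
  obtain ⟨f, hfa, h1⟩ := finrank_map_Wmap_aux r a U hU
  rw [← h1]
  congr 1
  have hker : LinearMap.ker f = Submodule.span k {(⟨E r a, hEU⟩ : U)} := by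
    ext ⟨F, hF⟩
    rw [LinearMap.mem_ker, Submodule.mem_span_singleton, hfa]
    constructor
    · intro h0
      obtain ⟨c, hc⟩ := eq_smul_E_of_Wmap_eq_zero r a hE (hU hF) h0
      exact ⟨c, Subtype.ext hc.symm⟩
    · rintro ⟨c, hc⟩
      have : F = c • E r a := (congrArg Subtype.val hc).symm
      change Wmap r a F = 0
      rw [this, map_smul, ← (Rel.self r a).eq_Wmap r a, smul_zero]
  rw [hker, finrank_span_singleton]
  intro h0
  exact E_ne_zero r a (congrArg Subtype.val h0)

theorem finrank_map_Wmap_of_not_mem [CharZero k] {N : ℕ} (hE : (E r a).natDegree ≤ N)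
    (U : Submodule k k[X]) (hU : U ≤ degreeLT k (N + 1)) (hEU : E r a ∉ U) :
    Module.finrank k ↥(U.map (Wmap r a)) = Module.finrank k ↥U := by
  obtain ⟨f, hfa, h1⟩ := finrank_map_Wmap_aux r a U hU
  have hker : LinearMap.ker f = ⊥ := by
    rw [LinearMap.ker_eq_bot']
    rintro ⟨F, hF⟩ h0
    rw [hfa] at h0
    obtain ⟨c, hc⟩ := eq_smul_E_of_Wmap_eq_zero r a hE (hU hF) h0
    rcases eq_or_ne c 0 with rfl | hc0
    · ext1
      simpa using hc
    · exfalso
      apply hEU
      have : E r a = c⁻¹ • F := by rw [hc, smul_smul, inv_mul_cancel₀ hc0, one_smul]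
      rw [this]
      exact U.smul_mem _ hF
  rw [hker, finrank_bot, add_zero] at h1
  exact h1

end Count

section Marked

variable {r}

theorem Wsub_inf_span_eq [CharZero k] (hr : Function.Injective r) {N : ℕ}
    (hE : (E r a).natDegree ≤ N) (i : Fin m) (n : ℕ) :
    Wsub r a N ⊓ (Ideal.span {(X - C (r i)) ^ n}).restrictScalars k =
      (degreeLT k (N + 1) ⊓ (Ideal.span {(X - C (r i)) ^ n}).restrictScalars k).map
        (Wmap r a) := by
  ext h
  rw [Submodule.mem_inf, Wsub_eq_map, Submodule.mem_map, Submodule.mem_map,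
    mem_span_restrictScalars]
  constructor
  · rintro ⟨⟨F, hF, rfl⟩, hdvd⟩
    obtain ⟨c, hc⟩ := exists_sub_smul_E_dvd a hr i hdvd
    refine ⟨F - c • E r a, ⟨sub_mem hF (Submodule.smul_mem _ _
      (mem_degreeLT_of_natDegree_lt (Nat.lt_succ_of_le hE))),
      mem_span_restrictScalars.mpr hc⟩, ?_⟩
    rw [map_sub, map_smul, ← (Rel.self r a).eq_Wmap r a, smul_zero, sub_zero]
  · rintro ⟨F, ⟨hF, hdvd⟩, rfl⟩
    have hdvd := mem_span_restrictScalars.mp hdvd
    refine ⟨⟨F, hF, rfl⟩, ?_⟩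
    obtain ⟨G, rfl⟩ := hdvd
    obtain ⟨T, hT⟩ := Wmap_pow_mul r a i n G
    rw [hT]
    exact dvd_mul_right _ _

theorem finrank_Wsub_inf_span [CharZero k] (hr : Function.Injective r) {N : ℕ}
    (hE : (E r a).natDegree ≤ N) (i : Fin m) (n : ℕ) :
    Module.finrank k ↥(Wsub r a N ⊓ (Ideal.span {(X - C (r i)) ^ n}).restrictScalars k) =
      if n ≤ a i then N - n else N + 1 - n := by
  rw [Wsub_inf_span_eq a hr hE i n]
  have h2 : E r a ∈ degreeLT k (N + 1) ⊓ (Ideal.span {(X - C (r i)) ^ n}).restrictScalars k ↔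
      n ≤ a i := by
    rw [Submodule.mem_inf, mem_span_restrictScalars, pow_dvd_E_iff a hr]
    exact and_iff_right (mem_degreeLT_of_natDegree_lt (Nat.lt_succ_of_le hE))
  have h3 : a i ≤ N := by
    refine le_trans ?_ hE
    rw [natDegree_E]
    exact Finset.single_le_sum (f := a) (fun _ _ => Nat.zero_le _) (Finset.mem_univ i)
  split_ifs with hn
  · have h1 := finrank_map_Wmap_of_mem r a hE _ inf_le_left (h2.mpr hn)
    rw [finrank_degreeLT_inf_span] at h1
    omega
  · have h1 := finrank_map_Wmap_of_not_mem r a hE _ inf_le_left (fun h => hn (h2.mp h))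
    rw [finrank_degreeLT_inf_span] at h1
    exact h1

end Marked

section Infinity

lemma coeff_X_mul_derivative (F : k[X]) (n : ℕ) :
    (X * derivative F).coeff n = (n : k) * F.coeff n := by
  rcases n with _ | n
  · simp
  · rw [coeff_X_mul, coeff_derivative]
    push_cast
    ring

lemma natDegree_X_mul_derivative_le (F : k[X]) :
    (X * derivative F).natDegree ≤ F.natDegree := by
  rw [natDegree_le_iff_coeff_eq_zero]
  intro n hn
  rw [coeff_X_mul_derivative, coeff_eq_zero_of_natDegree_lt hn, mul_zero]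

lemma natDegree_Ri (i : Fin m) : (Ri r i).natDegree = m - 1 := by
  unfold Ri
  rw [natDegree_prod_of_monic _ _ fun _ _ => monic_X_sub_C _]
  simp only [natDegree_X_sub_C, Finset.sum_const, _root_.smul_eq_mul, mul_one,
    Finset.card_erase_of_mem (Finset.mem_univ i), Finset.card_univ, Fintype.card_fin]

lemma monic_X_mul_Ri (i : Fin m) : (X * Ri r i).Monic := monic_X.mul (Ri_monic r i)

lemma natDegree_X_mul_Ri (i : Fin m) : (X * Ri r i).natDegree = m := by
  rw [natDegree_X_mul (Ri_monic r i).ne_zero, natDegree_Ri]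
  have := i.pos
  omega

lemma X_mul_Ss : X * Ss r a = ∑ i, (a i : k[X]) * (X * Ri r i) := by
  rw [Ss, Finset.mul_sum]
  exact Finset.sum_congr rfl fun i _ => by ring

lemma natDegree_X_mul_Ss_le : (X * Ss r a).natDegree ≤ m := by
  rw [X_mul_Ss]
  refine natDegree_sum_le_of_forall_le _ _ fun i _ => ?_
  refine natDegree_mul_le.trans ?_
  rw [natDegree_natCast, zero_add, natDegree_X_mul_Ri]

lemma coeff_X_mul_Ss : (X * Ss r a).coeff m = ((∑ j, a j : ℕ) : k) := by
  rw [X_mul_Ss, finsetSum_coeff]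
  push_cast
  refine Finset.sum_congr rfl fun i _ => ?_
  rw [coeff_natCast_mul]
  have := (monic_X_mul_Ri r i).coeff_natDegree
  rw [natDegree_X_mul_Ri] at this
  rw [this, mul_one]

lemma X_mul_Wmap (F : k[X]) :
    X * Wmap r a F = (X * derivative F) * Rr r - F * (X * Ss r a) := by
  rw [Wmap_apply]
  ring

lemma natDegree_X_mul_Wmap_le (F : k[X]) :
    (X * Wmap r a F).natDegree ≤ F.natDegree + m := by
  rw [X_mul_Wmap]
  refine (natDegree_sub_le _ _).trans (max_le ?_ ?_)
  · exact natDegree_mul_le.trans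
      (add_le_add (natDegree_X_mul_derivative_le F) (natDegree_Rr r).le)
  · exact natDegree_mul_le.trans (add_le_add le_rfl (natDegree_X_mul_Ss_le r a))

lemma coeff_X_mul_Wmap (F : k[X]) :
    (X * Wmap r a F).coeff (F.natDegree + m) =
      ((F.natDegree : k) - ((∑ j, a j : ℕ) : k)) * F.leadingCoeff := by
  have h1 : (Rr r).coeff m = 1 := by
    have := (Rr_monic r).coeff_natDegree
    rwa [natDegree_Rr] at this
  rw [X_mul_Wmap, coeff_sub,
    coeff_mul_add_eq_of_natDegree_le (natDegree_X_mul_derivative_le F) (natDegree_Rr r).le,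
    coeff_mul_add_eq_of_natDegree_le le_rfl (natDegree_X_mul_Ss_le r a),
    coeff_X_mul_derivative, coeff_X_mul_Ss, h1, coeff_natDegree]
  ring

theorem Wsub_inf_degreeLT_eq [CharZero k] {N : ℕ} (hE : (E r a).natDegree ≤ N) (n : ℕ) :
    Wsub r a N ⊓ degreeLT k (N + m - n) = (degreeLT k (N + 1 - n)).map (Wmap r a) := by
  ext h
  rw [Submodule.mem_inf, Wsub_eq_map, Submodule.mem_map, Submodule.mem_map]
  constructor
  · rintro ⟨⟨F, hF, rfl⟩, hdeg⟩
    obtain ⟨e, he⟩ : ∃ e, e = ∑ j, a j := ⟨_, rfl⟩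
    have hEe : (E r a).natDegree = e := by rw [natDegree_E, he]
    obtain ⟨F', hF'⟩ : ∃ F', F' = F - F.coeff e • E r a := ⟨_, rfl⟩
    have hW : Wmap r a F' = Wmap r a F := by
      rw [hF', map_sub, map_smul, ← (Rel.self r a).eq_Wmap r a, smul_zero, sub_zero]
    have hce : F'.coeff e = 0 := by
      have h1 : (E r a).coeff e = 1 := by
        have := (E_monic r a).coeff_natDegree
        rwa [hEe] at this
      rw [hF', coeff_sub, coeff_smul, h1, _root_.smul_eq_mul, mul_one, sub_self]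
    refine ⟨F', ?_, hW⟩
    rcases eq_or_ne F' 0 with h0 | h0
    · rw [h0]; exact zero_mem _
    · have hle : F'.natDegree ≠ e := by
        intro hl
        have := leadingCoeff_ne_zero.mpr h0
        rw [leadingCoeff, hl] at this
        exact this hce
      have hc := coeff_X_mul_Wmap r a F'
      rw [hW, ← he] at hc
      have hne : (X * Wmap r a F).coeff (F'.natDegree + m) ≠ 0 := by
        rw [hc]
        refine mul_ne_zero (sub_ne_zero.mpr ?_) (leadingCoeff_ne_zero.mpr h0)
        exact_mod_cast hle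
      have hh0 : Wmap r a F ≠ 0 := by
        intro h0'
        rw [h0', mul_zero, coeff_zero] at hne
        exact hne rfl
      have h2 : F'.natDegree + m ≤ (X * Wmap r a F).natDegree := le_natDegree_of_ne_zero hne
      rw [natDegree_X_mul hh0] at h2
      have h3 : (Wmap r a F).natDegree < N + m - n := by
        rw [mem_degreeLT, degree_eq_natDegree hh0] at hdeg
        exact_mod_cast hdeg
      exact mem_degreeLT_of_natDegree_lt (by omega)
  · rintro ⟨F, hF, rfl⟩
    refine ⟨⟨F, degreeLT_mono (by omega) hF, rfl⟩, ?_⟩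
    rcases eq_or_ne (Wmap r a F) 0 with h0 | h0
    · rw [h0]; exact zero_mem _
    · have hF0 : F ≠ 0 := by
        rintro rfl
        exact h0 (map_zero _)
      have h1 : F.natDegree < N + 1 - n := by
        rw [mem_degreeLT, degree_eq_natDegree hF0] at hF
        exact_mod_cast hF
      have h2 := natDegree_X_mul_Wmap_le r a F
      rw [natDegree_X_mul h0] at h2
      exact mem_degreeLT_of_natDegree_lt (by omega)

theorem finrank_Wsub_inf_degreeLT [CharZero k] {N b : ℕ} (hN : N = (∑ j, a j) + b) (n : ℕ) :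
    Module.finrank k ↥(Wsub r a N ⊓ degreeLT k (N + m - n)) =
      if n ≤ b then N - n else N + 1 - n := by
  have hE : (E r a).natDegree ≤ N := natDegree_E_le hN
  rw [Wsub_inf_degreeLT_eq r a hE n]
  have h2 : E r a ∈ degreeLT k (N + 1 - n) ↔ n ≤ b := by
    rw [mem_degreeLT, degree_eq_natDegree (E_ne_zero r a), natDegree_E, Nat.cast_lt]
    omega
  split_ifs with hn
  · have h1 := finrank_map_Wmap_of_mem r a hE (degreeLT k (N + 1 - n))
      (degreeLT_mono (by omega)) (h2.mpr hn)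
    rw [finrank_degreeLT] at h1
    omega
  · have h1 := finrank_map_Wmap_of_not_mem r a hE (degreeLT k (N + 1 - n))
      (degreeLT_mono (by omega)) (fun h => hn (h2.mp h))
    rw [finrank_degreeLT] at h1
    exact h1

end Infinity

end Groth.Agent.Lib.helper15.Wronsk
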