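import Groth.Agent.Lib.Helper15.Wronsk2

/-!
# Weights of hyperplanes of the polar space `V` at the marked points (helper15)

Continuation of `Wronsk2.lean`.
-/

set_option linter.style.haveILetI false

namespace Groth.Agent.Lib.helper15.Wronsk

open Polynomial

section Abstract

lemma sum_ite_lt (N e : ℕ) :
    ∑ n ∈ Finset.range N, (if n < e then 1 else 0) = min e N := by
  induction N with
  | zero => simp
  | succ N ih =>
    rw [Finset.sum_range_succ, ih]
    split_ifs <;> omega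

lemma sum_sub_range (N : ℕ) : ∑ n ∈ Finset.range N, (N - n) = (N + 1).choose 2 := by
  induction N with
  | zero => simp
  | succ N ih =>
    rw [Finset.sum_range_succ']
    simp only [Nat.add_sub_add_right, ih, Nat.sub_zero]
    have h1 : (N + 1 + 1).choose 2 = (N + 1).choose 1 + (N + 1).choose 2 :=
      Nat.choose_succ_succ' (N + 1) 1
    rw [h1, Nat.choose_one_right]
    omega

lemma choose_succ_two {N : ℕ} (h : 1 ≤ N) : (N + 1).choose 2 = (N - 1).choose 2 + 2 * N - 1 := by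
  obtain ⟨M, rfl⟩ : ∃ M, N = M + 1 := ⟨N - 1, by omega⟩
  have h1 : (M + 1 + 1).choose 2 = (M + 1).choose 1 + (M + 1).choose 2 :=
    Nat.choose_succ_succ' (M + 1) 1
  have h2 : (M + 1).choose 2 = M.choose 1 + M.choose 2 := Nat.choose_succ_succ' M 1
  rw [h1, h2, Nat.choose_one_right, Nat.choose_one_right, Nat.add_sub_cancel]
  omega

lemma weight_count (f : ℕ → ℕ) (N e o : ℕ) (he : e ≤ N) (ho : o ≤ N)
    (hf : ∀ n, f n + (if n < e then 1 else 0) + (if n < o then 1 else 0) = N - n) :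
    (∑ n ∈ Finset.range N, f n) + e + o = (N + 1).choose 2 := by
  rw [← sum_sub_range N, ← Finset.sum_congr rfl (fun n _ => hf n), Finset.sum_add_distrib,
    Finset.sum_add_distrib, sum_ite_lt, sum_ite_lt, min_eq_left he, min_eq_left ho]

lemma sum_range_eq_of_zero (f : ℕ → ℕ) (d N : ℕ) (hd : ∀ n, d ≤ n → f n = 0)
    (hN : ∀ n, N ≤ n → f n = 0) :
    ∑ n ∈ Finset.range d, f n = ∑ n ∈ Finset.range N, f n := by
  rcases le_total d N with h | h
  · exact Finset.sum_subset (Finset.range_subset_range.mpr h)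
      (fun n _ hn => hd n (by simpa using hn))
  · exact (Finset.sum_subset (Finset.range_subset_range.mpr h)
      (fun n _ hn => hN n (by simpa using hn))).symm

variable {K M : Type*} [Field K] [AddCommGroup M] [Module K M]

lemma finrank_inf_of_le (W₁ A : Submodule K M) (h : A ≤ W₁) :
    Module.finrank K ↥(W₁ ⊓ A) = Module.finrank K ↥A := by
  rw [inf_eq_right.mpr h]

lemma finrank_inf_of_not_le (W W₁ A : Submodule K M) [FiniteDimensional K ↥W] (h₁ : W₁ ≤ W)
    (hfin : Module.finrank K ↥W₁ + 1 = Module.finrank K ↥W) (hA : A ≤ W) (h : ¬ A ≤ W₁) :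
    Module.finrank K ↥(W₁ ⊓ A) + 1 = Module.finrank K ↥A := by
  haveI : FiniteDimensional K ↥W₁ := Submodule.finiteDimensional_of_le h₁
  haveI : FiniteDimensional K ↥A := Submodule.finiteDimensional_of_le hA
  have hlt : W₁ < W₁ ⊔ A :=
    lt_of_le_of_ne le_sup_left (fun heq => h (heq ▸ le_sup_right))
  haveI : FiniteDimensional K ↥(W₁ ⊔ A) := Submodule.finiteDimensional_of_le (sup_le h₁ hA)
  have h2 := Submodule.finrank_lt_finrank_of_lt hlt
  have h3 := Submodule.finrank_mono (sup_le h₁ hA)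
  have h4 := Submodule.finrank_sup_add_finrank_inf_eq W₁ A
  omega

theorem exists_eps_sum (W W₁ : Submodule K M) [FiniteDimensional K ↥W]
    (Φ : ℕ → Submodule K M) (N e o₀ d : ℕ) (h₁ : W₁ ≤ W) (hW : Module.finrank K ↥W = N)
    (hfin : Module.finrank K ↥W₁ + 1 = N) (he : e ≤ N) (ho : o₀ + 1 ≤ N)
    (hfV : ∀ n, Module.finrank K ↥(W ⊓ Φ n) + (if n < e then 1 else 0) = N - n)
    (hlow : ∀ n, n < o₀ → ¬ W ⊓ Φ n ≤ W₁) (hhigh : ∀ n, o₀ < n → W ⊓ Φ n ≤ W₁)
    (hd : ∀ n, d ≤ n → Module.finrank K ↥(W₁ ⊓ Φ n) = 0) :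
    ∃ ε : ℕ, ε ≤ 1 ∧
      (∑ n ∈ Finset.range d, Module.finrank K ↥(W₁ ⊓ Φ n)) + e + o₀ + 1 =
        (N + 1).choose 2 + ε := by
  have hinf : ∀ n, W₁ ⊓ Φ n = W₁ ⊓ (W ⊓ Φ n) := fun n => by
    rw [← inf_assoc, inf_eq_left.mpr h₁]
  have hp : ∀ n, W ⊓ Φ n ≤ W₁ →
      Module.finrank K ↥(W₁ ⊓ Φ n) = Module.finrank K ↥(W ⊓ Φ n) := fun n h => by
    rw [hinf, finrank_inf_of_le _ _ h]
  have hnp : ∀ n, ¬ W ⊓ Φ n ≤ W₁ →
      Module.finrank K ↥(W₁ ⊓ Φ n) + 1 = Module.finrank K ↥(W ⊓ Φ n) := fun n h => by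
    rw [hinf]
    exact finrank_inf_of_not_le W W₁ _ h₁ (hfin.trans hW.symm) inf_le_left h
  have hle : ∀ n, Module.finrank K ↥(W₁ ⊓ Φ n) ≤ Module.finrank K ↥(W ⊓ Φ n) := fun n => by
    haveI : FiniteDimensional K ↥(W ⊓ Φ n) := Submodule.finiteDimensional_of_le inf_le_left
    exact Submodule.finrank_mono (inf_le_inf_right _ h₁)
  have hsum := sum_range_eq_of_zero (fun n => Module.finrank K ↥(W₁ ⊓ Φ n)) d N hd
    (fun n hn => by
      have h1 := hle n
      have h2 := hfV n
      have h3 : N - n = 0 := by omega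
      show Module.finrank K ↥(W₁ ⊓ Φ n) = 0
      omega)
  rw [hsum]
  by_cases hp0 : W ⊓ Φ o₀ ≤ W₁
  · refine ⟨1, le_rfl, ?_⟩
    have key := weight_count (fun n => Module.finrank K ↥(W₁ ⊓ Φ n)) N e o₀ he (by omega) ?_
    · omega
    · intro n
      have h2 := hfV n
      rcases lt_trichotomy n o₀ with h | h | h
      · have h3 := hnp n (hlow n h)
        simp only [h, if_true]
        omega
      · subst h
        have h3 := hp n hp0
        simp only [lt_irrefl, if_false]
        omega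
      · have h3 := hp n (hhigh n h)
        simp only [not_lt.mpr h.le, if_false]
        omega
  · refine ⟨0, by omega, ?_⟩
    have key := weight_count (fun n => Module.finrank K ↥(W₁ ⊓ Φ n)) N e (o₀ + 1) he ho ?_
    · omega
    · intro n
      have h2 := hfV n
      rcases lt_trichotomy n o₀ with h | h | h
      · have h3 := hnp n (hlow n h)
        simp only [show n < o₀ + 1 by omega, if_true]
        omega
      · subst h
        have h3 := hnp n hp0
        simp only [show n < n + 1 by omega, if_true]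
        omega
      · have h3 := hp n (hhigh n h)
        simp only [show ¬ n < o₀ + 1 by omega, if_false]
        omega

end Abstract

section Weights

variable {k : Type*} [Field k] [CharZero k] {m : ℕ} {r : Fin m → k} {a : Fin m → ℕ} {N b : ℕ}

/-- Weight of a hyperplane `V₁` of `V` at the marked point `r_i`. -/
theorem exists_eps_marked (hr : Function.Injective r) (hN : N = (∑ j, a j) + b) (hb : 1 ≤ b)
    {V₁ : Submodule k k[X]} (hV₁ : V₁ ≤ Wsub r a N) (hfin : Module.finrank k ↥V₁ + 1 = N)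
    (i : Fin m)
    (H1 : ¬ ((X - C (r i)) ^ (N - 1) ∈ V₁.comap (Wmap r a) ∧
      (X - C (r i)) ^ (N - 1) * X ∈ V₁.comap (Wmap r a)))
    {d : ℕ} (hd : d + 1 = N + m) :
    ∃ ε : ℕ, ε ≤ 1 ∧
      (∑ n ∈ Finset.range d, Module.finrank k
        ↥(V₁ ⊓ (Ideal.span {(X - C (r i)) ^ (n + 1)}).restrictScalars k)) + 1 =
        (N - 1).choose 2 + (N - a i) + ε := by
  have hE : (E r a).natDegree ≤ N := natDegree_E_le hN
  have hai : a i + 1 ≤ N := by
    have : a i ≤ ∑ j, a j :=
      Finset.single_le_sum (f := a) (fun _ _ => Nat.zero_le _) (Finset.mem_univ i)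
    omega
  have hm : 1 ≤ m := i.pos
  have hfV : ∀ n, Module.finrank k
      ↥(Wsub r a N ⊓ (Ideal.span {(X - C (r i)) ^ (n + 1)}).restrictScalars k) +
        (if n < a i then 1 else 0) = N - n := by
    intro n
    rw [finrank_Wsub_inf_span a hr hE i (n + 1)]
    split_ifs <;> omega
  have hbot : ∀ n, N ≤ n →
      Wsub r a N ⊓ (Ideal.span {(X - C (r i)) ^ (n + 1)}).restrictScalars k = ⊥ := by
    intro n hn
    have h0 := hfV n
    have h1 : Module.finrank k
        ↥(Wsub r a N ⊓ (Ideal.span {(X - C (r i)) ^ (n + 1)}).restrictScalars k) = 0 := by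
      split_ifs at h0 <;> omega
    exact Submodule.finrank_eq_zero.mp h1
  have key := exists_eps_sum (Wsub r a N) V₁
    (fun n => (Ideal.span {(X - C (r i)) ^ (n + 1)}).restrictScalars k) N (a i) (N - 1) d hV₁
    (finrank_Wsub r a hE) hfin (by omega) (by omega) hfV ?_ ?_ ?_
  · obtain ⟨ε, hε, h⟩ := key
    refine ⟨ε, hε, ?_⟩
    have := choose_succ_two (show 1 ≤ N by omega)
    omega
  · intro n hn hle
    apply H1
    have hmem : ∀ G : k[X], G ∈ degreeLT k (N + 1) → (X - C (r i)) ^ (N - 1) ∣ G →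
        G ∈ V₁.comap (Wmap r a) := by
      intro G hG hdvd
      apply hle
      rw [Wsub_inf_span_eq a hr hE i (n + 1)]
      exact Submodule.mem_map_of_mem
        ⟨hG, mem_span_restrictScalars.mpr ((pow_dvd_pow _ (by omega)).trans hdvd)⟩
    constructor
    · exact hmem _ (degreeLT_mono (by omega) (pow_mem_degreeLT (r i) (N - 1))) dvd_rfl
    · refine hmem _ ?_ (dvd_mul_right _ _)
      have := pow_mul_X_mem_degreeLT (r i) (N - 1)
      rwa [show N - 1 + 2 = N + 1 by omega] at this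
  · intro n hn
    rw [hbot n (by omega)]
    exact bot_le
  · intro n hn
    have h1 : V₁ ⊓ (Ideal.span {(X - C (r i)) ^ (n + 1)}).restrictScalars k = ⊥ := by
      rw [eq_bot_iff, ← hbot n (by omega)]
      exact inf_le_inf_right _ hV₁
    rw [h1, finrank_bot]

lemma hfV_infty (hN : N = (∑ j, a j) + b) (n : ℕ) :
    Module.finrank k ↥(Wsub r a N ⊓ degreeLT k (N + m - (n + 1))) +
      (if n < b then 1 else 0) = N - n := by
  rw [finrank_Wsub_inf_degreeLT r a hN (n + 1)]
  split_ifs <;> omega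

omit [CharZero k] in
lemma finrank_inf_degreeLT_zero (V₁ : Submodule k k[X]) :
    Module.finrank k ↥(V₁ ⊓ degreeLT k 0) = 0 := by
  have h1 : Module.finrank k ↥(V₁ ⊓ degreeLT k 0) ≤ Module.finrank k ↥(degreeLT k 0) :=
    Submodule.finrank_mono inf_le_right
  rw [finrank_degreeLT] at h1
  omega

/-- Weight at infinity when `V₁` misses the two lowest members `W(1), W(X)`. -/
theorem exists_eps_infty_high (hN : N = (∑ j, a j) + b) (hb : 1 ≤ b)
    {V₁ : Submodule k k[X]} (hV₁ : V₁ ≤ Wsub r a N) (hfin : Module.finrank k ↥V₁ + 1 = N)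
    (H2 : ¬ ((1 : k[X]) ∈ V₁.comap (Wmap r a) ∧ (X : k[X]) ∈ V₁.comap (Wmap r a)))
    {d : ℕ} (hd : d + 1 = N + m) :
    ∃ ε : ℕ, ε ≤ 1 ∧
      (∑ n ∈ Finset.range d, Module.finrank k ↥(V₁ ⊓ degreeLT k (d - n))) + 1 =
        (N - 1).choose 2 + (N - b) + ε := by
  have hE : (E r a).natDegree ≤ N := natDegree_E_le hN
  have hdn : ∀ n, d - n = N + m - (n + 1) := fun n => by omega
  have hfV : ∀ n, Module.finrank k ↥(Wsub r a N ⊓ degreeLT k (d - n)) +
      (if n < b then 1 else 0) = N - n := by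
    intro n
    rw [hdn]
    exact hfV_infty hN n
  have key := exists_eps_sum (Wsub r a N) V₁ (fun n => degreeLT k (d - n)) N b (N - 1) d
    hV₁ (finrank_Wsub r a hE) hfin (by omega) (by omega) hfV ?_ ?_ ?_
  · obtain ⟨ε, hε, h⟩ := key
    refine ⟨ε, hε, ?_⟩
    have := choose_succ_two (show 1 ≤ N by omega)
    omega
  · intro n hn hle
    apply H2
    simp only [hdn] at hle
    rw [Wsub_inf_degreeLT_eq r a hE (n + 1), Submodule.map_le_iff_le_comap] at hle
    constructor
    · exact hle (mem_degreeLT_of_natDegree_lt (by rw [natDegree_one]; omega))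
    · exact hle (mem_degreeLT_of_natDegree_lt (by rw [natDegree_X]; omega))
  · intro n hn
    have h0 := hfV n
    have h1 : Module.finrank k ↥(Wsub r a N ⊓ degreeLT k (d - n)) = 0 := by
      split_ifs at h0 <;> omega
    rw [Submodule.finrank_eq_zero.mp h1]
    exact bot_le
  · intro n hn
    have h0 : d - n = 0 := by omega
    show Module.finrank k ↥(V₁ ⊓ degreeLT k (d - n)) = 0
    rw [h0]
    exact finrank_inf_degreeLT_zero V₁

/-- Weight at infinity when `V₁ ⊇ W(k[X]_{< N-1})`. -/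
theorem exists_eps_infty_low (hN : N = (∑ j, a j) + b) (hb : 1 ≤ b)
    {V₁ : Submodule k k[X]} (hV₁ : V₁ ≤ Wsub r a N) (hfin : Module.finrank k ↥V₁ + 1 = N)
    (H3 : degreeLT k (N - 1) ≤ V₁.comap (Wmap r a)) (hN2 : 2 ≤ N)
    {d : ℕ} (hd : d + 1 = N + m) :
    ∃ ε : ℕ, ε ≤ 1 ∧
      (∑ n ∈ Finset.range d, Module.finrank k ↥(V₁ ⊓ degreeLT k (d - n))) =
        (N - 1).choose 2 + (N - b) + (N - 2) + ε := by
  have hE : (E r a).natDegree ≤ N := natDegree_E_le hN
  have hdn : ∀ n, d - n = N + m - (n + 1) := fun n => by omega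
  have hfV : ∀ n, Module.finrank k ↥(Wsub r a N ⊓ degreeLT k (d - n)) +
      (if n < b then 1 else 0) = N - n := by
    intro n
    rw [hdn]
    exact hfV_infty hN n
  have key := exists_eps_sum (Wsub r a N) V₁ (fun n => degreeLT k (d - n)) N b 0 d
    hV₁ (finrank_Wsub r a hE) hfin (by omega) (by omega) hfV ?_ ?_ ?_
  · obtain ⟨ε, hε, h⟩ := key
    refine ⟨ε, hε, ?_⟩
    have := choose_succ_two (show 1 ≤ N by omega)
    omega
  · intro n hn
    exact absurd hn (Nat.not_lt_zero n)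
  · intro n hn
    simp only [hdn]
    rw [Wsub_inf_degreeLT_eq r a hE (n + 1), Submodule.map_le_iff_le_comap]
    exact (degreeLT_mono (by omega)).trans H3
  · intro n hn
    have h0 : d - n = 0 := by omega
    show Module.finrank k ↥(V₁ ⊓ degreeLT k (d - n)) = 0
    rw [h0]
    exact finrank_inf_degreeLT_zero V₁

/-- For the hyperplanes of S17243/S17244: the two top members cannot both lie in `V₁`. -/
lemma not_top_two_mem_comap (hN : N = (∑ j, a j) + b) (hb : 1 ≤ b) (ha : ∀ j, 1 ≤ a j)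
    (hr : Function.Injective r) {V₁ : Submodule k k[X]} (hV₁ : V₁ ≤ Vsub r a b)
    (hfin : Module.finrank k V₁ + 1 = N) (hU : Vsub r a (b - 2) ≤ V₁) (q : k) :
    ¬ ((X - C q) ^ (N - 1) ∈ V₁.comap (Wmap r a) ∧
      (X - C q) ^ (N - 1) * X ∈ V₁.comap (Wmap r a)) := by
  rintro ⟨h1, h2⟩
  have hN1 : 1 ≤ N := by omega
  refine not_degreeLT_le_comap hN ha hr hV₁ hfin
    (degreeLT_le_of_top_two hN1 _ (Vsub_le_comap hN hb ha hr hU) h1 h2 ?_ ?_ ?_)
  · exact degreeLT_mono (by omega) (pow_mem_degreeLT q (N - 1))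
  · have := pow_mul_X_mem_degreeLT q (N - 1)
    have h3 : N - 1 + 2 = N + 1 := by omega
    rwa [h3] at this
  · have e1 : ((X - C q) ^ (N - 1)).coeff N = 0 := by
      apply coeff_eq_zero_of_natDegree_lt
      rw [(monic_X_sub_C q).natDegree_pow, natDegree_X_sub_C, mul_one]; omega
    have e2 : ((X - C q) ^ (N - 1)).coeff (N - 1) = 1 := by
      have := ((monic_X_sub_C q).pow (N - 1)).coeff_natDegree
      rwa [(monic_X_sub_C q).natDegree_pow, natDegree_X_sub_C, mul_one] at this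
    have e3 : ((X - C q) ^ (N - 1) * X).coeff N = 1 := by
      obtain ⟨n, rfl⟩ : ∃ n, N = n + 1 := ⟨N - 1, by omega⟩
      rw [coeff_mul_X]
      simpa using e2
    rw [e1, e2, e3]; simp

/-- For `V₁ = V(-p)`: `W(u), W(uX)` cannot both vanish at `p` when `u` is prime to `X - p`. -/
lemma not_pair_mem_comap_drop {p : k} (hp : ∀ j, p ≠ r j) {u : k[X]}
    (hu : IsCoprime ((X - C p) ^ 2) u) :
    ¬ (u ∈ (Wsub r a N ⊓ (Ideal.span {X - C p}).restrictScalars k).comap (Wmap r a) ∧
      u * X ∈ (Wsub r a N ⊓ (Ideal.span {X - C p}).restrictScalars k).comap (Wmap r a)) := by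
  rintro ⟨h1, h2⟩
  have hd1 : (X - C p) ∣ Wmap r a u := mem_span_restrictScalars.mp h1.2
  have hd2 : (X - C p) ∣ Wmap r a (u * X) := mem_span_restrictScalars.mp h2.2
  obtain ⟨c₀, hc₀⟩ := (rel_Wmap r a u).exists_sq_dvd hp hd1
  obtain ⟨c₁, hc₁⟩ := (rel_Wmap r a (u * X)).exists_sq_dvd hp hd2
  have h3 : (X - C p) ^ 2 ∣ u * (C c₁ - C c₀ * X) := by
    have := dvd_sub (Dvd.dvd.mul_left hc₀ (C c₁)) (Dvd.dvd.mul_left hc₁ (C c₀))
    convert this using 1
    simp only [smul_eq_C_mul]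
    ring
  have h4 : (X - C p) ^ 2 ∣ C c₁ - C c₀ * X := hu.dvd_of_dvd_mul_left h3
  have h5 : C c₁ - C c₀ * X = 0 := by
    refine eq_zero_of_dvd_of_degree_lt h4 ?_
    rw [degree_pow, degree_X_sub_C, nsmul_one]
    refine lt_of_le_of_lt (degree_sub_le _ _) ?_
    rw [max_lt_iff]
    exact ⟨degree_C_le.trans_lt (by norm_num), (degree_C_mul_X_le c₀).trans_lt (by norm_num)⟩
  have hc0 : c₀ = 0 := by
    have := congrArg (fun f => coeff f 1) h5
    simpa using this
  rw [hc0, zero_smul, sub_zero] at hc₀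
  have hunit : IsUnit ((X - C p) ^ 2) := hu.isUnit_of_dvd' dvd_rfl hc₀
  have := degree_eq_zero_of_isUnit hunit
  rw [degree_pow, degree_X_sub_C] at this
  norm_num at this

end Weights

end Groth.Agent.Lib.helper15.Wronsk
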